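import Cfsg.Agent.Lib.Linear.AutPO.Main
import Cfsg.Agent.Lib.Linear.OrthOdd
import Cfsg.Agent.Lib.Linear.OrthForms

/-!
# The three standard families
-/

set_option autoImplicit false

namespace Cfsg.Lib.Linear.AutPO

open Module
open Cfsg.Lib.Linear.Orth
open scoped Matrix

variable {F : Type*} [Field F]

theorem good_odd [Finite F] {m : ℕ} {B : LinearMap.BilinForm F (Unit ⊕ (Fin m ⊕ Fin m) → F)}
    (C : Space (Cfsg.quadFormOdd m F) B) :
    9 ≤ Fintype.card (Unit ⊕ (Fin m ⊕ Fin m)) ∨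
      ∀ A : Submodule F (Unit ⊕ (Fin m ⊕ Fin m) → F), (∀ v ∈ A, Cfsg.quadFormOdd m F v = 0) →
        finrank F A ≤ 3 := by
  rcases Nat.lt_or_ge m 4 with h | h
  · refine Or.inr fun A hA => ?_
    have := ts_bound C hA
    rw [card_odd_index] at this
    omega
  · exact Or.inl (by rw [card_odd_index]; omega)

/-- The minus-type space of dimension `2m + 2` has no singular subspace of dimension `m + 1`. -/
theorem minus_ts_bound {m : ℕ} {a b : F}
    (hab : ∀ z₁ z₂ : F, z₁ ^ 2 + a * z₁ * z₂ + b * z₂ ^ 2 = 0 → z₁ = 0 ∧ z₂ = 0)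
    {B : LinearMap.BilinForm F ((Fin m ⊕ Fin m) ⊕ Fin 2 → F)} (C : Space (Cfsg.quadFormMinus m F a b) B)
    {A : Submodule F ((Fin m ⊕ Fin m) ⊕ Fin 2 → F)} (hA : ∀ v ∈ A, Cfsg.quadFormMinus m F a b v = 0) :
    finrank F A ≤ m := by
  classical
  let πx : ((Fin m ⊕ Fin m) ⊕ Fin 2 → F) →ₗ[F] Fin m → F :=
    LinearMap.funLeft F F fun i => Sum.inl (Sum.inl i)
  let πy : ((Fin m ⊕ Fin m) ⊕ Fin 2 → F) →ₗ[F] Fin m → F :=
    LinearMap.funLeft F F fun i => Sum.inl (Sum.inr i)
  let f := πx.comp A.subtype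
  let g := (πy.comp A.subtype).comp (LinearMap.ker f).subtype
  have hz : ∀ w ∈ A, πx w = 0 → w (.inr 0) = 0 ∧ w (.inr 1) = 0 := fun w hw hx => hab _ _ (by
    have h := hA w hw
    have hx' : ∀ i, w (.inl (.inl i)) = 0 := fun i => congrFun hx i
    simpa [Cfsg.quadFormMinus, hx'] using h)
  have hg : Function.Injective g := by
    rw [injective_iff_map_eq_zero]
    rintro ⟨⟨w, hw⟩, hwf⟩ hy
    have hx : πx w = 0 := LinearMap.mem_ker.mp hwf
    obtain ⟨h0, h1⟩ := hz w hw hx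
    refine Subtype.ext (Subtype.ext (funext fun j => ?_))
    rcases j with (j | j) | j
    · exact congrFun hx j
    · exact congrFun hy j
    · fin_cases j
      · exact h0
      · exact h1
  let δ : (Fin m → F) →ₗ[F] Module.Dual F (Fin m → F) := (Matrix.toLinearMap₂' F (1 : Matrix (Fin m) (Fin m) F))
  have hδ : ∀ x y, δ x y = ∑ i, x i * y i := fun x y => by
    simp [δ, Matrix.toLinearMap₂'_apply', dotProduct]
  have hδi : Function.Injective δ := by
    rw [injective_iff_map_eq_zero]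
    intro x hx
    funext i
    have := LinearMap.congr_fun hx (Pi.single i 1)
    simpa [hδ, Pi.single_apply] using this
  have hann : (LinearMap.range g).map δ ≤ (LinearMap.range f).dualAnnihilator := by
    rintro _ ⟨_, ⟨w, rfl⟩, rfl⟩
    rw [Submodule.mem_dualAnnihilator]
    rintro _ ⟨u, rfl⟩
    have hx : πx w.1.1 = 0 := LinearMap.mem_ker.mp w.2
    obtain ⟨h0, h1⟩ := hz _ w.1.2 hx
    have hx' : ∀ i, w.1.1 (.inl (.inl i)) = 0 := fun i => congrFun hx i
    have h := hA _ (A.add_mem u.2 w.1.2)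
    have hu := hA _ u.2
    simp only [Cfsg.quadFormMinus, Pi.add_apply, h0, h1, hx', add_zero, mul_add,
      Finset.sum_add_distrib] at h hu
    rw [hδ]
    show ∑ i, w.1.1 (.inl (.inr i)) * u.1 (.inl (.inl i)) = 0
    rw [Finset.sum_congr rfl fun i _ => mul_comm (w.1.1 (.inl (.inr i))) (u.1 (.inl (.inl i)))]
    linear_combination h - hu
  have h1 := Submodule.finrank_mono hann
  rw [(Submodule.equivMapOfInjective δ hδi (LinearMap.range g)).finrank_eq.symm,
    LinearMap.finrank_range_of_inj hg] at h1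
  have h2 := Subspace.finrank_add_finrank_dualAnnihilator_eq (LinearMap.range f)
  have h3 := LinearMap.finrank_range_add_finrank_ker f
  rw [finrank_fintype_fun_eq_card, Fintype.card_fin] at h2
  omega

theorem good_minus [Finite F] {m : ℕ} {a b : F}
    (hab : ∀ z₁ z₂ : F, z₁ ^ 2 + a * z₁ * z₂ + b * z₂ ^ 2 = 0 → z₁ = 0 ∧ z₂ = 0)
    {B : LinearMap.BilinForm F ((Fin m ⊕ Fin m) ⊕ Fin 2 → F)} (C : Space (Cfsg.quadFormMinus m F a b) B) :
    9 ≤ Fintype.card ((Fin m ⊕ Fin m) ⊕ Fin 2) ∨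
      ∀ A : Submodule F ((Fin m ⊕ Fin m) ⊕ Fin 2 → F), (∀ v ∈ A, Cfsg.quadFormMinus m F a b v = 0) →
        finrank F A ≤ 3 := by
  rcases Nat.lt_or_ge m 4 with h | h
  · exact Or.inr fun A hA => (minus_ts_bound hab C hA).trans (by omega)
  · exact Or.inl (by simp; omega)

end Cfsg.Lib.Linear.AutPO
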