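import Cfsg.Agent.Lib.Linear.AutPO.Group
import Cfsg.Agent.Lib.Linear.AutPO.Std
import Cfsg.Agent.Lib.Linear.OrthSpinor

/-!
# The automorphism group of `Ω_{2m+1}(q)`
-/

set_option autoImplicit false

namespace Cfsg.Lib.Linear.AutPO

open Module
open Cfsg.Lib.Linear.Orth
open scoped Matrix

set_option quotPrecheck false

/-- A split extension with normal part of order two is a direct product. -/
theorem out_split {G K : Type*} [Group G] [Group K] [Finite G] (N R : Subgroup G) [N.Normal] [R.Normal]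
    (hNR : N ≤ R) (hcard : Nat.card R = 2 * Nat.card N) (φ : K →* G)
    (hbij : Function.Bijective fun z : R × K => (z.1 : G) * φ z.2) :
    Nonempty ((G ⧸ N) ≃* Multiplicative (ZMod 2) × K) := by
  let D : Subgroup (G ⧸ N) := R.map (QuotientGroup.mk' N)
  have hD : Nat.card D = 2 := by
    have h1 := Subgroup.card_mul_index (N.subgroupOf R)
    rw [Nat.card_congr (Subgroup.subgroupOfEquivOfLe hNR).toEquiv, hcard] at h1
    have h2 : (N.subgroupOf R).index = 2 := Nat.eq_of_mul_eq_mul_left Nat.card_pos (h1.trans (mul_comm _ _))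
    show Nat.card ↥(R.map (QuotientGroup.mk' N)) = 2
    rw [show R.map (QuotientGroup.mk' N) = ((QuotientGroup.mk' N).comp R.subtype).range by
      rw [MonoidHom.range_comp, Subgroup.range_subtype], ← Subgroup.index_ker]
    convert h2 using 2
    ext x
    simp [Subgroup.mem_subgroupOf, MonoidHom.mem_ker]
  haveI hDn : D.Normal := Subgroup.Normal.map inferInstance _ (QuotientGroup.mk'_surjective N)
  have hcent : ∀ d ∈ D, ∀ g, g * d = d * g := by
    intro d hd g
    obtain ⟨x, y, hxy, huniv⟩ := Nat.card_eq_two_iff.mp hD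
    rcases eq_or_ne d 1 with rfl | hd1
    · rw [mul_one, one_mul]
    have hmem : g * d * g⁻¹ ∈ D := hDn.conj_mem d hd g
    have hne : g * d * g⁻¹ ≠ 1 := fun h => hd1 (conj_eq_one_iff.mp h)
    have key : ∀ a b : D, a ≠ 1 → b ≠ 1 → a = b := by
      intro a b ha hb
      have h1 : ∀ c : D, c = x ∨ c = y := fun c => by
        have : c ∈ ({x, y} : Set D) := huniv ▸ Set.mem_univ c
        simpa using this
      rcases h1 a with rfl | rfl <;> rcases h1 b with rfl | rfl <;> rcases h1 1 with h | h <;>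
        first | rfl | exact absurd h.symm ha | exact absurd h.symm hb
    have := congrArg Subtype.val (key ⟨_, hmem⟩ ⟨d, hd⟩ (fun h => hne (congrArg Subtype.val h))
      (fun h => hd1 (congrArg Subtype.val h)))
    exact mul_inv_eq_iff_eq_mul.mp this
  let Θ : D × K →* G ⧸ N := MonoidHom.noncommCoprod D.subtype ((QuotientGroup.mk' N).comp φ)
    fun d k => (hcent d.1 d.2 _).symm
  have hΘ : Function.Bijective Θ := by
    refine ⟨?_, fun z => ?_⟩
    · rw [injective_iff_map_eq_one]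
      rintro ⟨⟨_, a, ha, rfl⟩, k⟩ h
      have h' : a * φ k ∈ N := (QuotientGroup.eq_one_iff _).mp h
      obtain ⟨e1, e2⟩ := Prod.mk.inj (hbij.1 (a₁ := (⟨a, ha⟩, k)) (a₂ := (⟨a * φ k, hNR h'⟩, 1))
        (by simp))
      have e3 : a = a * φ k := congrArg Subtype.val e1
      refine Prod.ext (Subtype.ext ?_) e2
      show QuotientGroup.mk' N a = 1
      rw [e3]
      exact (QuotientGroup.eq_one_iff _).mpr h'
    · obtain ⟨g, rfl⟩ := QuotientGroup.mk_surjective z
      obtain ⟨⟨⟨a, ha⟩, k⟩, rfl⟩ := hbij.2 g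
      exact ⟨(⟨_, a, ha, rfl⟩, k), rfl⟩
  exact ⟨(MulEquiv.ofBijective Θ hΘ).symm.trans
    (MulEquiv.prodCongr (mulEquivOfPrimeCardEq (p := 2) hD (by simp)) (MulEquiv.refl K))⟩

section Similitude

variable {ι : Type} [Fintype ι] [DecidableEq ι] {F : Type*} [Field F]
  {Q : (ι → F) → F} {B : LinearMap.BilinForm F (ι → F)}

/-- The multiplier of a similitude is determined by its determinant. -/
theorem mult_pow_card (C : Space Q B) {g : GL ι F} {c : F} (hg : ∀ v, Q (g.val *ᵥ v) = c * Q v) :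
    c ^ Fintype.card ι = g.val.det ^ 2 := by
  have hB : B.comp (Matrix.toLin' g.val) (Matrix.toLin' g.val) = c • B := LinearMap.ext₂ fun u v => by
    rw [LinearMap.BilinForm.comp_apply, Matrix.toLin'_apply, Matrix.toLin'_apply, LinearMap.smul_apply,
      LinearMap.smul_apply, smul_eq_mul, ← C.polar, ← C.polar, QuadraticMap.polar, QuadraticMap.polar,
      ← Matrix.mulVec_add, hg, hg, hg]
    ring
  have h := congrArg (fun M => (LinearMap.BilinForm.toMatrix' M).det) hB
  simp only [LinearMap.BilinForm.toMatrix'_comp, LinearMap.toMatrix'_toLin', map_smul, Matrix.det_mul,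
    Matrix.det_transpose, Matrix.det_smul] at h
  have hnd : (LinearMap.BilinForm.toMatrix' B).det ≠ 0 := by
    rw [← Matrix.nondegenerate_iff_det_ne_zero, LinearMap.BilinForm.nondegenerate_toMatrix'_iff]
    exact ⟨fun v hv => C.nondeg' hv, fun v hv => C.nondeg v hv⟩
  exact mul_right_cancel₀ hnd (by rw [← h]; ring)

end Similitude

section Odd

variable {F : Type*} [Field F]

local notation "ιo" => (fun m : ℕ => Unit ⊕ (Fin m ⊕ Fin m))

theorem stdForm_odd (m : ℕ) : StdForm (Cfsg.quadFormOdd m F) := fun σ v => by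
  simp [Cfsg.quadFormOdd, map_sum]

variable [Fintype F] {m : ℕ} {B : LinearMap.BilinForm F (Unit ⊕ (Fin m ⊕ Fin m) → F)}
  (C : Space (Cfsg.quadFormOdd m F) B) (h2 : (2 : F) ≠ 0) (hm : 3 ≤ m) (p : ℕ) [Fact p.Prime] [CharP F p]

local notation "Qo" => Cfsg.quadFormOdd m F
local notation "GS" => ↥(Cfsg.Geo.quadSimilarityGroup (F := F) Qo)

include C h2 hm p

theorem card_pomega_odd : Nat.card (Cfsg.POmega F Qo) = Nat.card ↥(Cfsg.Omega F Qo) := by
  have h7 : 7 ≤ Fintype.card (Unit ⊕ (Fin m ⊕ Fin m)) := by rw [card_odd_index]; omega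
  have hbot : Subgroup.center ↥(Cfsg.Omega F Qo) = ⊥ := by
    rw [eq_bot_iff]
    intro z hz
    rw [Subgroup.mem_bot]
    refine om_injective (Units.ext ?_)
    rw [map_one, Units.val_one]
    rcases omega_center_pm C h7 hz with h | h
    · exact h
    · exfalso
      have hdet : (om Qo z).val.det = 1 := by
        have := Abelianization.commutator_subset_ker (detSpin Qo) z.2
        exact congrArg Units.val (congrArg Prod.fst this)
      rw [show (om Qo z).val = -1 from h, Matrix.det_neg, Matrix.det_one, mul_one, card_odd_index,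
        Odd.neg_one_pow ⟨m, rfl⟩] at hdet
      exact h2 (by linear_combination -hdet)
  rw [Subgroup.card_eq_card_quotient_mul_card_subgroup (Subgroup.center ↥(Cfsg.Omega F Qo))]
  conv_rhs => arg 2; rw [hbot]
  rw [Subgroup.card_bot, mul_one]

theorem card_range_innd_odd :
    Nat.card (innd : GS →* MulAut (Cfsg.POmega F Qo)).range = 2 * Nat.card (Cfsg.POmega F Qo) := by
  have h7 : 7 ≤ Fintype.card (Unit ⊕ (Fin m ⊕ Fin m)) := by rw [card_odd_index]; omega
  let S := Cfsg.specialIsometryGroup F Qo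
  let i : ↥S →* GS :=
    MonoidHom.mk' (fun s => ⟨((s : ↥(isometryGroup F Qo)) : GL _ F), 1, fun v => by
      rw [Units.val_one, one_mul]; exact mem_iso.mp (s : ↥(isometryGroup F Qo)).2 v⟩) fun _ _ => rfl
  have hS : Nat.card ↥S = 2 * Nat.card ↥(Cfsg.Omega F Qo) := by
    obtain ⟨-, e1, e2⟩ := omega_odd C h2 (by omega)
    have a1 := Subgroup.card_mul_index (Cfsg.Omega F Qo)
    have a2 := Subgroup.card_mul_index S
    rw [show (Cfsg.Omega F Qo).index = 4 from e1] at a1
    rw [e2] at a2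
    omega
  rw [card_pomega_odd C h2 hm p, ← hS]
  have hdet : ∀ s : ↥S, (i s).1.val.det = 1 := fun s =>
    congrArg Units.val (MonoidHom.mem_ker.mp s.2)
  refine (Nat.card_eq_of_bijective ((innd.comp i).codRestrict (innd : GS →* MulAut (Cfsg.POmega F Qo)).range fun s => ⟨i s, rfl⟩) ⟨?_, ?_⟩).symm
  · rw [injective_iff_map_eq_one]
    intro s hs
    obtain ⟨c, -, hc⟩ := (innd_eq_one_iff C h7 p).1 (congrArg Subtype.val hs)
    have hv : (i s).1.val = c • 1 := mat_ext fun x => by rw [hc, Matrix.smul_mulVec, Matrix.one_mulVec]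
    have hd := hdet s
    have hQ := mem_iso.mp (s : ↥(isometryGroup F Qo)).2 (Pi.single (.inl ()) 1)
    change Qo ((i s).1.val *ᵥ _) = _ at hQ
    rw [hc, C.smul] at hQ
    rw [hv, Matrix.det_smul, Matrix.det_one, mul_one, card_odd_index, pow_succ, pow_mul] at hd
    have h1 : c ^ 2 = 1 := by simpa [Cfsg.quadFormOdd] using hQ
    rw [h1, one_pow, one_mul] at hd
    refine Subtype.ext (Subtype.ext (gl_ext fun x => ?_))
    change (i s).1.val *ᵥ x = _
    rw [hc, hd, one_smul]
    simp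
  · rintro ⟨_, A, rfl⟩
    obtain ⟨c, hc⟩ := A.2
    have h := mult_pow_card C hc
    rw [card_odd_index] at h
    set δ := A.1.val.det with hδ
    have hδ0 : δ ≠ 0 := (Matrix.GeneralLinearGroup.det A.1).ne_zero
    have hc0 : (c : F) ≠ 0 := c.ne_zero
    set d : F := (c : F) ^ m / δ with hd
    have hd0 : d ≠ 0 := div_ne_zero (pow_ne_zero _ hc0) hδ0
    have hcd : (c : F) * d ^ 2 = 1 := by
      rw [hd, div_pow, ← mul_div_assoc, ← pow_mul, mul_comm m 2, ← pow_succ', h, div_self (pow_ne_zero 2 hδ0)]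
    let T : GL (Unit ⊕ (Fin m ⊕ Fin m)) F := toGL (d • A.1.val)
    have hT : T.val = d • A.1.val := toGL_val (M' := d⁻¹ • (A.1⁻¹ : GL _ F).val) (by
      rw [Matrix.smul_mul, Matrix.mul_smul, smul_smul, mul_inv_cancel₀ hd0, one_smul, ← Units.val_mul,
        mul_inv_cancel, Units.val_one])
    have hTiso : T ∈ isometryGroup F Qo := mem_iso.mpr fun v => by
      rw [hT, Matrix.smul_mulVec, C.smul, hc, ← mul_assoc, mul_comm (d ^ 2), hcd, one_mul]
    have hTdet : T.val.det = 1 := by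
      rw [hT, Matrix.det_smul, card_odd_index, ← hδ, pow_succ, pow_mul]
      have h1 : (d ^ 2) ^ m * d * δ = ((c : F) * d ^ 2) ^ m := by
        rw [mul_pow, hd]; field_simp
      rw [h1, hcd, one_pow]
    refine ⟨⟨⟨T, hTiso⟩, MonoidHom.mem_ker.mpr (Units.ext hTdet)⟩, Subtype.ext ?_⟩
    show innd (i _) = innd A
    rw [← mul_inv_eq_one, ← map_inv, ← map_mul, innd_eq_one_iff C h7 p]
    refine ⟨d, hd0, fun x => ?_⟩
    show (T * A.1⁻¹).val *ᵥ x = _
    rw [Units.val_mul, hT, Matrix.smul_mul, ← Units.val_mul, mul_inv_cancel, Units.val_one,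
      Matrix.smul_mulVec, Matrix.one_mulVec]

theorem card_mulAut_odd {f : ℕ} (hf : 1 ≤ f) (hF : Fintype.card F = p ^ f) :
    Nat.card (MulAut (Cfsg.POmega F Qo)) = 2 * f * Nat.card (Cfsg.POmega F Qo) := by
  have h7 : 7 ≤ Fintype.card (Unit ⊕ (Fin m ⊕ Fin m)) := by rw [card_odd_index]; omega
  obtain ⟨E⟩ := AutPSL.exists_galEquiv hf hF
  rw [card_mulAut_std C h7 p (good_odd C) (stdForm_odd m), card_range_innd_odd C h2 hm p,
    Nat.card_congr E.toEquiv, Nat.card_congr Multiplicative.toAdd, Nat.card_zmod]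
  ring

set_option maxHeartbeats 1000000 in
theorem out_odd {f : ℕ} (hf : 1 ≤ f) (hF : Fintype.card F = p ^ f) :
    Nonempty (Cfsg.Out (Cfsg.POmega F Qo) ≃* Multiplicative (ZMod 2 × ZMod f)) := by
  have h7 : 7 ≤ Fintype.card (Unit ⊕ (Fin m ⊕ Fin m)) := by rw [card_odd_index]; omega
  obtain ⟨E⟩ := AutPSL.exists_galEquiv hf hF
  haveI := pomega_simple C h7
  set R := (innd : GS →* MulAut (Cfsg.POmega F Qo)).range with hR
  have hle : Cfsg.Inn (Cfsg.POmega F Qo) ≤ R := by
    rintro _ ⟨x, rfl⟩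
    obtain ⟨s, rfl⟩ := QuotientGroup.mk_surjective x
    obtain ⟨A, -, hA⟩ := conj_mk_eq C h7 p s
    exact ⟨A, hA⟩
  have hinn : Nat.card (Cfsg.Inn (Cfsg.POmega F Qo)) = Nat.card (Cfsg.POmega F Qo) := by
    refine (Nat.card_congr (MonoidHom.ofInjective (f := MulAut.conj) ?_).toEquiv).symm
    rw [injective_iff_map_eq_one]
    intro x hx
    obtain ⟨s, rfl⟩ := QuotientGroup.mk_surjective x
    obtain ⟨A, hAs, hA⟩ := conj_mk_eq C h7 p s
    obtain ⟨c, -, hc⟩ := (innd_eq_one_iff C h7 p).1 (hA.trans hx)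
    refine (QuotientGroup.eq_one_iff s).2 (Subgroup.mem_center_iff.2 fun z => om_injective ?_)
    rw [map_mul, map_mul, ← hAs]
    exact gl_ext fun v => by rw [mul_act, mul_act, hc, hc, Matrix.mulVec_smul]
  haveI : R.Normal := ⟨by
    rintro _ ⟨A, rfl⟩ β
    obtain ⟨A₁, σ, rfl⟩ := exists_decomp_std C h7 p (good_odd C) (stdForm_odd m) β
    obtain ⟨A', -, hA'⟩ := fld_mul_innd (stdForm_odd m) σ A
    refine ⟨A₁ * A' * A₁⁻¹, ?_⟩
    rw [map_mul, map_mul, map_inv, _root_.mul_inv_rev,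
      show innd A₁ * fld (stdForm_odd m) σ * innd A = innd A₁ * (fld (stdForm_odd m) σ * innd A) from
        mul_assoc _ _ _, hA']
    group⟩
  haveI : (Cfsg.Inn (Cfsg.POmega F Qo)).Normal := ⟨fun _ ⟨x, hx⟩ α => ⟨α x, MulEquiv.ext fun y => by
    rw [← hx]; simp [MulAut.mul_apply]⟩⟩
  obtain ⟨e⟩ := out_split (Cfsg.Inn (Cfsg.POmega F Qo)) R hle
    (by rw [hinn, hR, card_range_innd_odd C h2 hm p]) (fld (stdForm_odd m)) ⟨by
      rintro ⟨⟨_, A, rfl⟩, σ⟩ ⟨⟨_, A', rfl⟩, τ⟩ h
      obtain ⟨rfl, h'⟩ := decomp_unique C h7 p (stdForm_odd m) h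
      exact Prod.ext (Subtype.ext h') rfl, fun β => by
      obtain ⟨A, σ, e⟩ := exists_decomp_std C h7 p (good_odd C) (stdForm_odd m) β
      exact ⟨(⟨_, A, rfl⟩, σ), e.symm⟩⟩
  exact ⟨e.trans ((MulEquiv.prodCongr (MulEquiv.refl _) E).trans (MulEquiv.prodMultiplicative _ _).symm)⟩

end Odd

end Cfsg.Lib.Linear.AutPO
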