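import Cfsg.Agent.Lib.Linear.AutPO.Gal
import Cfsg.Agent.Lib.Linear.AutPO.Odd
import Cfsg.Agent.Lib.H3.PGOIndex

/-!
# The similitudes of an even-dimensional form modulo the special orthogonal group, inside `Aut PΩ`
-/

set_option autoImplicit false

namespace Cfsg.Lib.Linear.AutPO

open Module
open Cfsg.Lib.Linear.Orth
open Cfsg.Lib.Linear.Descent (sc sm tw sc_val sc_comm sm_one sm_mul)
open scoped Matrix

set_option quotPrecheck false

variable {ι : Type} [Fintype ι] [DecidableEq ι] {F : Type*} [Field F] [Fintype F]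
  {Q : (ι → F) → F} {B : LinearMap.BilinForm F (ι → F)}

local notation "GS" => ↥(Cfsg.Geo.quadSimilarityGroup (F := F) Q)
local notation "O" => ↥(isometryGroup F Q)
local notation "P" => Cfsg.POmega F Q

/-- An isometry as a similitude. -/
def isoSim : O →* GS :=
  MonoidHom.mk' (fun s => ⟨(s : GL ι F), 1, fun v => by rw [Units.val_one, one_mul]; exact mem_iso.mp s.2 v⟩)
    fun _ _ => rfl

/-- The image of the special orthogonal group in the automorphism group. -/
noncomputable def soImage : Subgroup (MulAut P) :=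
  ((Matrix.GeneralLinearGroup.det.comp (isometryGroup F Q).subtype).ker).map
    ((innd : GS →* MulAut P).comp isoSim)

theorem mem_soImage {β : MulAut P} :
    β ∈ (soImage : Subgroup (MulAut P)) ↔ ∃ s : O, (s : GL ι F).val.det = 1 ∧ innd (isoSim s) = β := by
  constructor
  · rintro ⟨s, hs, rfl⟩
    exact ⟨s, congrArg Units.val (MonoidHom.mem_ker.1 hs), rfl⟩
  · rintro ⟨s, hs, rfl⟩
    exact ⟨s, MonoidHom.mem_ker.2 (Units.ext hs), rfl⟩

variable (C : Space Q B) (h7 : 7 ≤ Fintype.card ι) (p : ℕ) [Fact p.Prime] [CharP F p]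

theorem inn_le_range : Cfsg.Inn P ≤ (innd : GS →* MulAut P).range := by
  rintro _ ⟨x, rfl⟩
  obtain ⟨s, rfl⟩ := QuotientGroup.mk_surjective x
  refine ⟨⟨om Q s, 1, fun v => by rw [Units.val_one, one_mul]; exact mem_iso.mp (om_mem s) v⟩, ?_⟩
  refine MulEquiv.ext fun x => ?_
  obtain ⟨t, rfl⟩ := QuotientGroup.mk_surjective x
  rw [innd_eq, semiAut_mk, MulAut.conj_apply, ← QuotientGroup.mk_inv, ← QuotientGroup.mk_mul, ← QuotientGroup.mk_mul]
  refine congrArg _ (Subtype.ext (Subtype.ext (Units.ext ?_)))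
  rw [semiOmega_coe, semiGL_val]
  simp

theorem soImage_le_range : (soImage : Subgroup (MulAut P)) ≤ (innd : GS →* MulAut P).range := by
  intro β hβ
  obtain ⟨s, -, rfl⟩ := mem_soImage.1 hβ
  exact ⟨_, rfl⟩

theorem range_eq_pgo : (innd : GS →* MulAut P).range = Cfsg.pgoAut F Q := pgoAut_eq_range.symm

theorem soImage_eq_pso : (soImage : Subgroup (MulAut P)) = Cfsg.psoAut F Q := by
  rw [Cfsg.Lib.H3.psoAut_eq]
  refine le_antisymm (fun β hβ => ?_) ?_
  · obtain ⟨s, hs, rfl⟩ := mem_soImage.1 hβ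
    exact ⟨isoSim s, ⟨s.2, MonoidHom.mem_ker.2 (Units.ext hs)⟩,
      (eq_semiAut (isSemi_sim _) ((Cfsg.Lib.H3.induced_iff _ _).2 rfl))⟩
  · rintro _ ⟨g, hg, rfl⟩
    refine mem_soImage.2 ⟨⟨g.1, hg.1⟩, congrArg Units.val (MonoidHom.mem_ker.1 hg.2), ?_⟩
    exact (eq_semiAut (isSemi_sim _) ((Cfsg.Lib.H3.induced_iff g _).2 rfl)).symm

include C

theorem inn_le_soImage : Cfsg.Inn P ≤ (soImage : Subgroup (MulAut P)) := by
  rintro _ ⟨x, rfl⟩
  obtain ⟨s, rfl⟩ := QuotientGroup.mk_surjective x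
  refine mem_soImage.2 ⟨(s : O), ?_, ?_⟩
  · exact congrArg Units.val (congrArg Prod.fst (Abelianization.commutator_subset_ker (detSpin Q) s.2))
  · refine MulEquiv.ext fun x => ?_
    obtain ⟨t, rfl⟩ := QuotientGroup.mk_surjective x
    rw [innd_eq, semiAut_mk, MulAut.conj_apply, ← QuotientGroup.mk_inv, ← QuotientGroup.mk_mul, ← QuotientGroup.mk_mul]
    refine congrArg _ (Subtype.ext (Subtype.ext (Units.ext ?_)))
    rw [semiOmega_coe, semiGL_val]
    simp
    rfl

variable {n : ℕ} (hn : Fintype.card ι = 2 * n)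

omit [Fintype F] in
include hn in
theorem det_eq_or {A : GL ι F} {c : F} (hc : ∀ v, Q (A.val *ᵥ v) = c * Q v) :
    A.val.det = c ^ n ∨ A.val.det = -c ^ n := by
  have h := mult_pow_card C hc
  rw [hn, pow_mul'] at h
  exact mul_self_eq_mul_self_iff.1 (by rw [← sq, ← sq]; exact h.symm)

include h7 p

theorem innd_eq_innd_sc {A A' : GS} : innd A = innd A' ↔ ∃ c : Fˣ, A.1 = sc c * A'.1 := by
  rw [← mul_inv_eq_one, ← map_inv, ← map_mul, innd_eq_sc C h7 p]
  simp only [Subgroup.coe_mul, Subgroup.coe_inv, mul_inv_eq_iff_eq_mul]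

include hn

/-- A similitude with square multiplier `c` and determinant `c ^ n` acts as a rotation. -/
theorem innd_mem_soImage {A : GS} {d : Fˣ} (hc : ∀ v, Q (A.1.val *ᵥ v) = (d : F) ^ 2 * Q v)
    (hdet : A.1.val.det = ((d : F) ^ 2) ^ n) : innd A ∈ (soImage : Subgroup (MulAut P)) := by
  refine mem_soImage.2 ⟨⟨sc d⁻¹ * A.1, mem_iso.2 fun v => ?_⟩, ?_, (innd_eq_innd_sc C h7 p).2 ⟨d⁻¹, rfl⟩⟩
  · rw [mul_act, sc_act, C.smul, hc]
    simp
  · show (sc d⁻¹ * A.1).val.det = 1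
    rw [Units.val_mul, sc_val, Matrix.smul_mul, Matrix.one_mul, Matrix.det_smul, hdet, hn, pow_mul]
    simp [← mul_pow]

theorem sq_mem_soImage (A : GS) : innd A * innd A ∈ (soImage : Subgroup (MulAut P)) := by
  obtain ⟨c, hc⟩ := A.2
  rw [← map_mul]
  refine innd_mem_soImage C h7 p hn (d := c) (fun v => by rw [Subgroup.coe_mul, mul_act, hc, hc]; ring) ?_
  rw [Subgroup.coe_mul, Units.val_mul, Matrix.det_mul]
  rcases det_eq_or C hn hc with h | h <;> rw [h] <;> ring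

theorem comm_mem_soImage (A A' : GS) :
    innd A * innd A' * (innd A)⁻¹ * (innd A')⁻¹ ∈ (soImage : Subgroup (MulAut P)) := by
  rw [← map_inv, ← map_inv, ← map_mul, ← map_mul, ← map_mul]
  obtain ⟨c, hc⟩ := A.2
  obtain ⟨c', hc'⟩ := A'.2
  have hinv : ∀ (X : GS) (e : Fˣ), (∀ v, Q (X.1.val *ᵥ v) = e * Q v) →
      ∀ v, Q (((X⁻¹ : GS) : GL ι F).val *ᵥ v) = ((e⁻¹ : Fˣ) : F) * Q v := fun X e he v => by
    have h := he (((X⁻¹ : GS) : GL ι F).val *ᵥ v)
    rw [← mul_act, Subgroup.coe_inv, mul_inv_cancel, Units.val_one, Matrix.one_mulVec] at h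
    rw [h, Units.inv_mul_cancel_left]; rfl
  refine innd_mem_soImage C h7 p hn (d := 1) (fun v => ?_) ?_
  · simp only [Subgroup.coe_mul, mul_act, hc, hc', hinv A c hc, hinv A' c' hc', Units.val_one, one_pow, one_mul]
    rw [mul_left_comm (c' : F), Units.mul_inv_cancel_left, Units.mul_inv_cancel_left]
  · simp only [Subgroup.coe_mul, Subgroup.coe_inv, Units.val_one, one_pow]
    show ((A.1 * A'.1 * A.1⁻¹ * A'.1⁻¹ : GL ι F)).val.det = 1
    have e : Matrix.GeneralLinearGroup.det (A.1 * A'.1 * A.1⁻¹ * A'.1⁻¹) = 1 := by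
      simp [mul_comm, mul_left_comm]
    exact congrArg Units.val e

/-- A semisimilarity moves a similitude only within its class. -/
theorem semi_comm_mem_soImage {k : ℕ} {g : GL ι F} {σ : F ≃+* F} (h : Cfsg.IsSemisimilarityPair Q g σ)
    (hσ : ∀ x, σ x = x ^ (2 * k + 1)) (A : GS) :
    semiAut h * innd A * (semiAut h)⁻¹ * (innd A)⁻¹ ∈ (soImage : Subgroup (MulAut P)) := by
  obtain ⟨A', hA', e⟩ := semiAut_conj h A
  obtain ⟨c, hc⟩ := A.2
  rw [e, ← map_inv, ← map_mul]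
  refine innd_mem_soImage C h7 p hn (d := c ^ k) (fun v => ?_) ?_
  · obtain ⟨u, hu⟩ : ∃ u, A.1.val *ᵥ u = v := ⟨(A.1⁻¹).val *ᵥ v, act_inv _ _⟩
    obtain ⟨k', hk⟩ := h
    obtain ⟨z, rfl⟩ := semi_surj σ g u
    rw [Subgroup.coe_mul, Subgroup.coe_inv, mul_act, ← hu, inv_act, hA', mul_act, mul_act, inv_act, ← sm_eq, map_act]
    refine (hk _).trans ((congrArg (fun t => (k' : F) * σ t) (hc z)).trans ?_)
    rw [hc]
    refine Eq.trans ?_ (congrArg (fun t => ((c ^ k : Fˣ) : F) ^ 2 * ((c : F) * t)) (hk z)).symm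
    rw [map_mul, hσ (c : F), Units.val_pow_eq_pow_val]
    ring
  · rw [Subgroup.coe_mul, Subgroup.coe_inv, Units.val_mul, Matrix.det_mul, hA']
    have hdg : (g * sm σ A.1 * g⁻¹ : GL ι F).val.det = σ A.1.val.det := by
      have e' : Matrix.GeneralLinearGroup.det (g * sm σ A.1 * g⁻¹) = Matrix.GeneralLinearGroup.det (sm σ A.1) := by
        simp
      refine (congrArg Units.val e').trans ?_
      show (sm σ A.1).val.det = _
      rw [Descent.sm_val]
      exact (RingHom.map_det σ.toRingHom A.1.val).symm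
    rw [hdg]
    have hd0 : A.1.val.det ≠ 0 := (Matrix.GeneralLinearGroup.det A.1).ne_zero
    have hi : ((A.1⁻¹ : GL ι F)).val.det = (A.1.val.det)⁻¹ := eq_inv_of_mul_eq_one_left (by
      rw [← Matrix.det_mul, ← Units.val_mul, inv_mul_cancel, Units.val_one, Matrix.det_one])
    rw [hi]
    field_simp
    rcases det_eq_or C hn hc with h' | h' <;> rw [h', hσ, Units.val_pow_eq_pow_val]
    · ring
    · rw [Odd.neg_pow ⟨k, rfl⟩]; ring

omit hn

/-- A rotation acting as an inner automorphism. -/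
theorem spin_of_inn (h2 : (2 : F) ≠ 0) (hz : ∃ g : O, g ∈ Cfsg.Omega F Q ∧ (g : GL ι F).val = -1) {s : O}
    (hdet : (s : GL ι F).val.det = 1) (h : innd (isoSim s) ∈ Cfsg.Inn P) : spin Q s = 1 := by
  obtain ⟨x, hx⟩ := h
  obtain ⟨t, rfl⟩ := QuotientGroup.mk_surjective x
  obtain ⟨A, hA, hA'⟩ := conj_mk_eq C h7 p t
  obtain ⟨c, hc⟩ := (innd_eq_innd_sc C h7 p).1 (hx.symm.trans hA'.symm)
  change (s : GL ι F) = sc c * A.1 at hc
  rw [hA] at hc
  obtain ⟨v, hv⟩ := Cfsg.Lib.H3.exists_nonsing_vec C (by omega)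
  have hq := mem_iso.1 s.2 v
  rw [hc, mul_act, sc_act, C.smul, mem_iso.1 (om_mem t)] at hq
  have hcc : (c : F) * c = 1 := mul_right_cancel₀ hv (by rw [← sq, hq, one_mul])
  have hker : ∀ u : O, u ∈ Cfsg.Omega F Q → spin Q u = 1 := fun u hu =>
    congrArg Prod.snd (Abelianization.commutator_subset_ker (detSpin Q) hu)
  rcases mul_self_eq_one_iff.1 hcc with h1 | h1
  · rw [show s = (t : O) from Subtype.ext (hc.trans (by rw [show c = 1 from Units.ext h1, map_one, one_mul]; rfl))]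
    exact hker _ t.2
  · obtain ⟨z, hz, hzv⟩ := hz
    rw [show s = z * (t : O) from Subtype.ext (hc.trans (by
      refine congrArg (· * om Q t) (Units.ext ?_)
      rw [sc_val, h1, hzv]; simp)), map_mul, hker z hz, hker _ t.2, one_mul]

end Cfsg.Lib.Linear.AutPO
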