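import Cfsg.Agent.Lib.Linear.AutPO.ParityClass
import Cfsg.Agent.Lib.Linear.AutPO.Even

/-!
# The inner-diagonal automorphisms of `PΩ⁺`
-/

set_option autoImplicit false

namespace Cfsg.Lib.Linear.AutPO

open Module
open Cfsg.Lib.Linear.Orth
open Cfsg.Lib.Linear.Descent (sc sm sc_val sc_comm sm_mul sm_sc)
open scoped Matrix

set_option quotPrecheck false

section Parity

variable {ι : Type} [Fintype ι] [DecidableEq ι] {F : Type*} [Field F] [Fintype F]
  {Q : (ι → F) → F} {B : LinearMap.BilinForm F (ι → F)} (C : Space Q B)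

include C

/-- The isometry group is transitive on the half-dimensional totally singular subspaces. -/
theorem exists_move {D E : Submodule F (ι → F)} (hD : IsHalf Q D) (hE : IsHalf Q E) :
    ∃ g : ↥(isometryGroup F Q), img (g : GL ι F) D = E := by
  generalize hn : finrank F E - finrank F (D ⊓ E : Submodule F (ι → F)) = n
  induction n using Nat.strong_induction_on generalizing D with
  | _ n ih =>
    have hle : finrank F (D ⊓ E : Submodule F (ι → F)) ≤ finrank F E := Submodule.finrank_mono inf_le_right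
    have hdim : finrank F D = finrank F E := by have := hD.2; have := hE.2; omega
    by_cases h0 : finrank F (D ⊓ E : Submodule F (ι → F)) = finrank F E
    · refine ⟨1, ?_⟩
      rw [OneMemClass.coe_one, img_one]
      have h1 := Submodule.eq_of_le_of_finrank_eq (inf_le_right : D ⊓ E ≤ E) h0
      exact (Submodule.eq_of_le_of_finrank_eq (inf_eq_right.1 h1) hdim.symm).symm
    obtain ⟨y, hyE, x, hxD, hxy⟩ : ∃ y ∈ E, ∃ x ∈ D, B x y ≠ 0 := by
      by_contra hcon
      push Not at hcon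
      refine h0 (le_antisymm hle ?_)
      refine Submodule.finrank_mono (le_inf (fun e he => ?_) le_rfl)
      exact hD.perp_mem C fun a ha => hcon e he a ha
    have hx0 : Q x = 0 := hD.1 x hxD
    have hy0 : Q y = 0 := hE.1 y hyE
    have hv : Q (x - y) = -B x y := by
      rw [sub_eq_add_neg, C.add, C.neg, hx0, hy0, map_neg]
      ring
    have hv0 : Q (x - y) ≠ 0 := by rw [hv]; exact neg_ne_zero.2 hxy
    set R := rI C (x - y) hv0 with hR
    have hRfix : ∀ w, w ∈ D → w ∈ E → (R : GL ι F).val *ᵥ w = w := fun w hwD hwE => by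
      rw [hR, rI_val, rGL_act C hv0, map_sub, LinearMap.sub_apply, ts_orth C hD.1 hxD hwD, ts_orth C hE.1 hyE hwE,
        sub_zero, mul_zero, zero_smul, sub_zero]
    have hRx : (R : GL ι F).val *ᵥ x = y := by
      rw [hR, rI_val, rGL_act C hv0, map_sub, LinearMap.sub_apply, C.self_zero hx0, C.symm y x, hv, zero_sub,
        inv_mul_cancel₀ (neg_ne_zero.2 hxy), one_smul, sub_sub_cancel]
    have hlt : finrank F (D ⊓ E : Submodule F (ι → F)) <
        finrank F (img (R : GL ι F) D ⊓ E : Submodule F (ι → F)) := by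
      refine Submodule.finrank_lt_finrank_of_lt (lt_of_le_of_ne (fun w hw => ⟨⟨w, hw.1, hRfix w hw.1 hw.2⟩, hw.2⟩) ?_)
      intro he
      have hy : y ∈ D ⊓ E := by
        rw [he]; exact ⟨⟨x, hxD, hRx⟩, hyE⟩
      exact hxy (ts_orth C hD.1 hxD hy.1)
    obtain ⟨g, hg⟩ := ih _ (by omega) (hD.img R.2) rfl
    exact ⟨g * R, by rw [Subgroup.coe_mul, img_mul, hg]⟩

/-- Whether a similitude preserves the two families is read on one subspace. -/
theorem preserves_sim_iff (hne : Fintype.card F ≠ 2 ∨ Fintype.card ι ≠ 4) (χ : ↥(isometryGroup F Q) →* ℤˣ)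
    (hχ : ∀ v (hv : Q v ≠ 0), χ (rI C v hv) = -1) {A T : GL ι F} {c : F} (hc : c ≠ 0) (hA : ∀ v, Q (A.val *ᵥ v) = c * Q v)
    {g : ↥(isometryGroup F Q)} (hAT : A = (g : GL ι F) * T) {U₀ : Submodule F (ι → F)} (hU₀ : IsHalf Q U₀)
    (hTU : img T U₀ = U₀) : Cfsg.PreservesSingularClasses Q A.val ↔ χ g = 1 := by
  let Φ := Cfsg.Lib.H3.simIso (⟨A, Units.mk0 c hc, fun v => by rw [Units.val_mk0]; exact hA v⟩ :
    ↥(Cfsg.Geo.quadSimilarityGroup (F := F) Q))
  have hΦ : ∀ h, χ (Φ h) = χ h := refl_induction C hne _ (by simp) fun v hv h ih => by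
    have hv' : Q (A.val *ᵥ v) ≠ 0 := by rw [hA]; exact mul_ne_zero hc hv
    have hB : ∀ x y, B (A.val *ᵥ x) (A.val *ᵥ y) = c * B x y := fun x y => by
      rw [← C.polar, ← C.polar, QuadraticMap.polar, QuadraticMap.polar, ← Matrix.mulVec_add, hA, hA, hA]; ring
    have e : Φ (rI C v hv) = rI C (A.val *ᵥ v) hv' := by
      refine Subtype.ext (gl_ext fun x => ?_)
      show (A * rGL Q v * A⁻¹).val *ᵥ x = (rGL Q (A.val *ᵥ v)).val *ᵥ x
      obtain ⟨y, rfl⟩ : ∃ y, A.val *ᵥ y = x := ⟨(A⁻¹).val *ᵥ x, act_inv _ _⟩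
      rw [mul_act, mul_act, inv_act, rGL_act C hv, rGL_act C hv', hB, hA, Matrix.mulVec_sub, Matrix.mulVec_smul]
      congr 2
      field_simp
    rw [map_mul Φ, map_mul χ, map_mul χ, ih, e, hχ, hχ]
  have himg : ∀ (G : GL ι F) (U : Submodule F (ι → F)), Cfsg.imageSubmodule G.val U = img G U := fun G U => by
    show U.map (Matrix.toLin' _) = U.map (Matrix.mulVecLin _)
    rw [Matrix.toLin'_apply']
  have hinf : ∀ (G : GL ι F) (D E : Submodule F (ι → F)),
      finrank F (img G D ⊓ img G E : Submodule F (ι → F)) = finrank F (D ⊓ E : Submodule F (ι → F)) := fun G D E => by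
    rw [show img G D ⊓ img G E = img G (D ⊓ E) from (Submodule.map_inf _ (act_injective G)).symm, finrank_img]
  have sign := fun g D E hD hE => parity_sign C hne χ hχ g D E hD hE
  have hdim : ∀ U, IsHalf Q U → finrank F U = finrank F U₀ := fun U hU => by
    have := hU.2; have := hU₀.2; omega
  have hAU : img A U₀ = img (g : GL ι F) U₀ := by rw [hAT, img_mul, hTU]
  have key : ∀ U, IsHalf Q U → (-1 : ℤˣ) ^ finrank F (U ⊓ img A U : Submodule F (ι → F)) =
      χ g * (-1 : ℤˣ) ^ finrank F U₀ := by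
    intro U hU
    obtain ⟨h, rfl⟩ := exists_move C hU₀ hU
    have e : img A (img (h : GL ι F) U₀) = img ((Φ h * g : ↥(isometryGroup F Q)) : GL ι F) U₀ := by
      rw [Subgroup.coe_mul, img_mul, ← hAU, ← img_mul, ← img_mul]
      congr 1
      exact (inv_mul_cancel_right _ _).symm
    rw [e, show img ((Φ h * g : ↥(isometryGroup F Q)) : GL ι F) U₀ =
        img (h : GL ι F) (img ((h⁻¹ * (Φ h * g) : ↥(isometryGroup F Q)) : GL ι F) U₀) by
      rw [← img_mul, ← Subgroup.coe_mul, mul_inv_cancel_left], hinf, sign _ _ _ hU₀ hU₀, map_mul, map_mul, map_inv,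
      hΦ, inv_mul_cancel_left, inf_idem]
  have hiff : ∀ U, IsHalf Q U → (Cfsg.SameParityClass U (Cfsg.imageSubmodule A.val U) ↔ χ g = 1) := by
    intro U hU
    rw [himg, Cfsg.SameParityClass, Nat.even_sub (Submodule.finrank_mono inf_le_left), hdim U hU]
    have h1 := key U hU
    set x := finrank F U₀
    set y := finrank F (U ⊓ img A U : Submodule F (ι → F))
    rcases Int.units_eq_one_or (χ g) with e | e <;> rcases Nat.even_or_odd x with hx | hx <;>
      rcases Nat.even_or_odd y with hy | hy <;>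
      rw [e, hx.neg_one_pow, hy.neg_one_pow] at h1 <;>
      first
        | exact absurd h1 (by decide)
        | exact iff_of_true (iff_of_true hy hx) e
        | exact iff_of_true (iff_of_false (Nat.not_even_iff_odd.2 hy) (Nat.not_even_iff_odd.2 hx)) e
        | exact iff_of_true (iff_of_true hx hy) e
        | exact iff_of_true (iff_of_false (Nat.not_even_iff_odd.2 hx) (Nat.not_even_iff_odd.2 hy)) e
        | exact iff_of_false (fun h => Nat.not_even_iff_odd.2 hy (h.1 hx)) (by rw [e]; decide)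
        | exact iff_of_false (fun h => Nat.not_even_iff_odd.2 hy (h.2 hx)) (by rw [e]; decide)
        | exact iff_of_false (fun h => Nat.not_even_iff_odd.2 hx (h.1 hy)) (by rw [e]; decide)
        | exact iff_of_false (fun h => Nat.not_even_iff_odd.2 hx (h.2 hy)) (by rw [e]; decide)
  exact ⟨fun h => (hiff U₀ hU₀).1 (h U₀ (max_of_isHalf C hU₀)),
    fun h U hU => (hiff U (isHalf_of_max C hU ⟨U₀, hU₀⟩)).2 h⟩

end Parity

section Plus

variable {m : ℕ} {F : Type*} [Field F]

local notation "ιp" => (Fin m ⊕ Fin m)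
local notation "Qp" => Cfsg.quadFormPlus m F
local notation "GS" => ↥(Cfsg.Geo.quadSimilarityGroup (F := F) Qp)
local notation "P" => Cfsg.POmega F Qp
local notation "D" => Cfsg.inndiagPOmegaPlus m F

theorem plus_map {K : Type*} [Field K] (j : F →+* K) (v : ιp → F) :
    Cfsg.quadFormPlus m K (j ∘ v) = j (Qp v) := by
  simp [Cfsg.quadFormPlus, map_sum]

theorem stdForm_plus : StdForm (Cfsg.quadFormPlus m F) := fun σ v => plus_map σ.toRingHom v

theorem plus_half : ∃ A : Submodule F (ιp → F), IsHalf Qp A := by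
  classical
  let L : (Fin m → F) →ₗ[F] (ιp → F) :=
    { toFun := fun z => Sum.elim z 0
      map_add' := fun z w => by funext j; rcases j with j | j <;> simp
      map_smul' := fun c z => by funext j; rcases j with j | j <;> simp }
  refine ⟨LinearMap.range L, fun x hx => ?_, ?_⟩
  · obtain ⟨z, rfl⟩ := hx
    simp [L, Cfsg.quadFormPlus]
  · rw [LinearMap.finrank_range_of_inj fun z w e => funext fun i => by simpa [L] using congrFun e (.inl i),
      Module.finrank_fintype_fun_eq_card, Fintype.card_fin]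
    simp only [Fintype.card_sum, Fintype.card_fin]
    omega

theorem plus_good [Finite F] (hm : 5 ≤ m) : 9 ≤ Fintype.card ιp ∨
    ∀ A : Submodule F (ιp → F), (∀ v ∈ A, Qp v = 0) → finrank F A ≤ 3 := by
  left
  simp only [Fintype.card_sum, Fintype.card_fin]
  omega

variable [Fintype F] (hm : 4 ≤ m) (p : ℕ) [Fact p.Prime] [CharP F p]
  {B : LinearMap.BilinForm F (Fin m ⊕ Fin m → F)} (C : Space (Cfsg.quadFormPlus m F) B)

omit [Fintype F] in
theorem plus_card : Fintype.card ιp = 2 * m := by simp only [Fintype.card_sum, Fintype.card_fin]; omega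

/-- The diagonal similitude with multiplier `c`. -/
theorem exists_split_sim {c : F} (hc : c ≠ 0) :
    ∃ T : GL ιp F, (∀ v, Qp (T.val *ᵥ v) = c * Qp v) ∧ T.val.det = c ^ m ∧
      ∃ U₀ : Submodule F (ιp → F), IsHalf Qp U₀ ∧ img T U₀ = U₀ := by
  classical
  let u : ιp → F := Sum.elim (fun _ => c) 1
  have hu : IsUnit (Matrix.diagonal u).det := by
    rw [Matrix.det_diagonal, isUnit_iff_ne_zero, Finset.prod_ne_zero_iff]
    rintro (i | i) - <;> simp [u, hc]
  set T : GL ιp F := Matrix.GeneralLinearGroup.mk'' _ hu with hT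
  have hTval : T.val = Matrix.diagonal u := rfl
  let L : (Fin m → F) →ₗ[F] (ιp → F) :=
    { toFun := fun z => Sum.elim z 0
      map_add' := fun z w => by funext j; rcases j with j | j <;> simp
      map_smul' := fun c z => by funext j; rcases j with j | j <;> simp }
  refine ⟨T, fun v => ?_, ?_, LinearMap.range L, ⟨fun x hx => ?_, ?_⟩, ?_⟩
  · simp only [hTval, Cfsg.quadFormPlus, Matrix.mulVec_diagonal, u, Sum.elim_inl, Sum.elim_inr, Pi.one_apply,
      Finset.mul_sum, one_mul, mul_assoc]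
  · rw [hTval, Matrix.det_diagonal, Fintype.prod_sum_type]
    simp [u]
  · obtain ⟨z, rfl⟩ := hx
    simp [L, Cfsg.quadFormPlus]
  · rw [LinearMap.finrank_range_of_inj fun z w e => funext fun i => by simpa [L] using congrFun e (.inl i),
      Module.finrank_fintype_fun_eq_card, Fintype.card_fin, plus_card]
  · refine Submodule.eq_of_le_of_finrank_eq ?_ (finrank_img _ _)
    rintro _ ⟨_, ⟨z, rfl⟩, rfl⟩
    refine ⟨c • z, funext fun j => ?_⟩
    rcases j with j | j <;> simp [L, hTval, Matrix.mulVec_diagonal, u]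

include hm C

/-- In odd characteristic a similitude preserves the two families iff `det = c ^ m`. -/
theorem plus_preserves_odd (h2 : (2 : F) ≠ 0) (A : GS) {c : F} (hc : ∀ v, Qp (A.1.val *ᵥ v) = c * Qp v) :
    Cfsg.PreservesSingularClasses Qp A.1.val ↔ A.1.val.det = c ^ m := by
  obtain ⟨v, hv⟩ := Cfsg.Lib.H3.exists_nonsing_vec C (by simp only [Fintype.card_sum, Fintype.card_fin]; omega)
  have hc0 : c ≠ 0 := fun h => by
    obtain ⟨w, rfl⟩ : ∃ w, A.1.val *ᵥ w = v := ⟨(A.1⁻¹).val *ᵥ v, act_inv _ _⟩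
    exact hv (by rw [hc, h, zero_mul])
  obtain ⟨T, hT, hTd, U₀, hU₀, hTU⟩ := exists_split_sim (m := m) hc0
  have hTi : ∀ v, Qp ((T⁻¹).val *ᵥ v) = c⁻¹ * Qp v := fun v => by
    conv_rhs => rw [← act_inv T v, hT, inv_mul_cancel_left₀ hc0]
  let g : ↥(isometryGroup F Qp) := ⟨A.1 * T⁻¹, mem_iso.2 fun v => by rw [mul_act, hc, hTi, mul_inv_cancel_left₀ hc0]⟩
  obtain ⟨χ, hχ, hχd⟩ := exists_det_sign C h2
  rw [preserves_sim_iff C (Or.inl (card_ne_two h2)) χ hχ hc0 hc (g := g) (inv_mul_cancel_right _ _).symm hU₀ hTU, hχd]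
  have hdet : A.1.val.det = (g : GL ιp F).val.det * c ^ m := by
    rw [show A.1 = (g : GL ιp F) * T from (inv_mul_cancel_right _ _).symm, Units.val_mul, Matrix.det_mul, hTd]
  rw [hdet, mul_eq_right₀ (pow_ne_zero _ hc0)]

/-- In characteristic two: the Dickson invariant. -/
theorem plus_preserves_two (h2 : (2 : F) = 0) {s : ↥(isometryGroup F Qp)} {d : Fˣ} {A : GL ιp F}
    (hA : A = sc d * (s : GL ιp F)) : Cfsg.PreservesSingularClasses Qp A.val ↔ s ∈ Cfsg.Omega F Qp := by
  have hne : Fintype.card F ≠ 2 ∨ Fintype.card ιp ≠ 4 := Or.inr (by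
    simp only [Fintype.card_sum, Fintype.card_fin]; omega)
  obtain ⟨δ, hδ, hδΩ⟩ := Cfsg.Lib.H3.omega_char_two C h2 (by simp only [Fintype.card_sum, Fintype.card_fin]; omega) hne
  obtain ⟨-, -, -, U₀, hU₀, -⟩ := exists_split_sim (m := m) (one_ne_zero (α := F))
  rw [preserves_iff C hne δ hδ ⟨U₀, hU₀⟩ d.ne_zero (g := s) fun x => by rw [hA, mul_act, sc_act]]
  exact (hδΩ s).symm

include p

set_option maxHeartbeats 800000 in
/-- **The inner-diagonal group.** -/
theorem mem_inndiag_plus {β : MulAut P} :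
    β ∈ D ↔ ∃ A : GS, Cfsg.PreservesSingularClasses Qp A.1.val ∧ innd A = β := by
  have hcard : 7 ≤ Fintype.card ιp := by simp only [Fintype.card_sum, Fintype.card_fin]; omega
  have mul : ∀ A A' : GS, Cfsg.PreservesSingularClasses Qp A.1.val → Cfsg.PreservesSingularClasses Qp A'.1.val →
      Cfsg.PreservesSingularClasses Qp (A * A').1.val := by
    intro A A' h h'
    by_cases h2 : (2 : F) = 0
    · have sq : ∀ A : GS, ∃ (d : Fˣ) (s : ↥(isometryGroup F Qp)), A.1 = sc d * (s : GL ιp F) := fun A => by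
        obtain ⟨c, hc⟩ := A.2
        obtain ⟨d, hd⟩ : IsSquare (c : F) := FiniteField.isSquare_of_char_two
          (ringChar.eq_iff.2 (CharTwo.of_one_ne_zero_of_two_eq_zero one_ne_zero h2)) _
        have hd0 : d ≠ 0 := fun e => c.ne_zero (by rw [hd, e, mul_zero])
        refine ⟨Units.mk0 d hd0, ⟨sc (Units.mk0 d hd0)⁻¹ * A.1, mem_iso.2 fun x => by
          rw [mul_act, sc_act, C.smul, hc, Units.val_inv_eq_inv_val, Units.val_mk0, hd]
          field_simp⟩, ?_⟩
        show _ = sc _ * (sc _⁻¹ * A.1)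
        rw [← mul_assoc, ← map_mul, mul_inv_cancel, map_one, one_mul]
      obtain ⟨d, s, hs⟩ := sq A
      obtain ⟨d', s', hs'⟩ := sq A'
      refine (plus_preserves_two hm C h2 (d := d * d') (s := s * s') ?_).2
        (mul_mem ((plus_preserves_two hm C h2 hs).1 h) ((plus_preserves_two hm C h2 hs').1 h'))
      rw [Subgroup.coe_mul, Subgroup.coe_mul, hs, hs', map_mul, mul_assoc, ← mul_assoc (s : GL ιp F),
        ← sc_comm d' (s : GL ιp F)]
      simp only [mul_assoc]
    · obtain ⟨c, hc⟩ := A.2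
      obtain ⟨c', hc'⟩ := A'.2
      refine (plus_preserves_odd hm C h2 _ (c := (c : F) * c') fun v => by
        rw [Subgroup.coe_mul, mul_act, hc, hc', mul_assoc]).2 ?_
      rw [Subgroup.coe_mul, Units.val_mul, Matrix.det_mul, (plus_preserves_odd hm C h2 A hc).1 h,
        (plus_preserves_odd hm C h2 A' hc').1 h', mul_pow]
  have hone : Cfsg.PreservesSingularClasses Qp (1 : GS).1.val := by
    by_cases h2 : (2 : F) = 0
    · exact (plus_preserves_two hm C h2 (d := 1) (s := 1) (by rw [map_one, one_mul]; rfl)).2 (one_mem _)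
    · exact (plus_preserves_odd hm C h2 1 (c := 1) fun v => by simp).2 (by simp)
  haveI : Finite (MulAut P) := Finite.of_injective (fun σ => (σ : P → P)) fun a b h => MulEquiv.ext (congrFun h)
  let H : Submonoid GS :=
    { carrier := {A | Cfsg.PreservesSingularClasses Qp A.1.val}
      one_mem' := hone
      mul_mem' := fun {A A'} h h' => mul A A' h h' }
  haveI : Finite GS := inferInstance
  let H' : Subgroup GS :=
    { H with
      inv_mem' := fun {A} (hA : A ∈ H) => by
        show A⁻¹ ∈ H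
        rw [show A⁻¹ = A ^ (orderOf A - 1) from inv_eq_of_mul_eq_one_right (by
          rw [← pow_succ', Nat.sub_add_cancel (orderOf_pos A), pow_orderOf_eq_one])]
        exact pow_mem hA _ }
  have heq : D = H'.map (innd : GS →* MulAut P) := by
    refine le_antisymm ((Subgroup.closure_le _).2 ?_) ?_
    · rintro β ⟨g, hg, hpres, hβ⟩
      exact ⟨⟨g, hg⟩, hpres, (eq_semiAut (isSemi_sim ⟨g, hg⟩) hβ).symm⟩
    · rintro _ ⟨A, hA, rfl⟩
      exact Subgroup.subset_closure ⟨A.1, A.2, hA, isInduced_innd A⟩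
  rw [heq]
  exact ⟨fun ⟨A, hA, e⟩ => ⟨A, hA, e⟩, fun ⟨A, hA, e⟩ => ⟨A, hA, e⟩⟩

theorem inndiag_plus_le_range : D ≤ (innd : GS →* MulAut P).range := fun β hβ => by
  obtain ⟨A, -, rfl⟩ := (mem_inndiag_plus hm p C).1 hβ
  exact ⟨A, rfl⟩

/-- The criterion in odd characteristic. -/
theorem plus_diag_iff_det (h2 : (2 : F) ≠ 0) {A : GS} {c : F} (hc : ∀ v, Qp (A.1.val *ᵥ v) = c * Qp v) :
    innd A ∈ D ↔ A.1.val.det = c ^ m := by
  have h7 : 7 ≤ Fintype.card ιp := by simp only [Fintype.card_sum, Fintype.card_fin]; omega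
  refine ⟨fun h => ?_, fun h => (mem_inndiag_plus hm p C).2 ⟨A, (plus_preserves_odd hm C h2 A hc).2 h, rfl⟩⟩
  obtain ⟨A', hA', e⟩ := (mem_inndiag_plus hm p C).1 h
  obtain ⟨c', hc'⟩ := A'.2
  have hd' := (plus_preserves_odd hm C h2 A' hc').1 hA'
  obtain ⟨d, hd⟩ := (innd_eq_innd_sc C h7 p).1 e.symm
  obtain ⟨v, hv⟩ := Cfsg.Lib.H3.exists_nonsing_vec C (by simp only [Fintype.card_sum, Fintype.card_fin]; omega)
  have h1 := hc v
  rw [hd, mul_act, sc_act, C.smul, hc', ← mul_assoc] at h1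
  rw [← mul_right_cancel₀ hv h1, hd, Units.val_mul, sc_val, Matrix.smul_mul, Matrix.one_mul, Matrix.det_smul, hd',
    plus_card, pow_mul, mul_pow]

/-- The criterion in characteristic two. -/
theorem plus_diag_iff_omega (h2 : (2 : F) = 0) {A : GS} {s : ↥(isometryGroup F Qp)} {d : Fˣ}
    (hA : A.1 = sc d * (s : GL ιp F)) : innd A ∈ D ↔ s ∈ Cfsg.Omega F Qp := by
  have h7 : 7 ≤ Fintype.card ιp := by simp only [Fintype.card_sum, Fintype.card_fin]; omega
  refine ⟨fun h => ?_, fun h => (mem_inndiag_plus hm p C).2 ⟨A, (plus_preserves_two hm C h2 hA).2 h, rfl⟩⟩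
  obtain ⟨A', hA', e⟩ := (mem_inndiag_plus hm p C).1 h
  obtain ⟨d', hd'⟩ := (innd_eq_innd_sc C h7 p).1 e
  exact (plus_preserves_two hm C h2 (d := d' * d) (s := s) (by rw [hd', hA, ← mul_assoc, ← map_mul])).1 hA'

end Plus

end Cfsg.Lib.Linear.AutPO
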