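import Cfsg.Agent.Lib.Linear.AutPO.D4Diag
import Cfsg.Agent.Lib.Chev.OrderD4

/-!
# The outer automorphism group of `D₄(q)`: `S₄ × C_f` or `S₃ × C_f`
-/

set_option autoImplicit false
set_option linter.unusedSectionVars false
set_option maxRecDepth 10000
set_option synthInstance.maxHeartbeats 400000
set_option maxHeartbeats 1600000

namespace Cfsg.Lib.Linear.AutPO

open Cfsg.Lie
open Cfsg.Lib.Chev hiding isFieldAut_iff

universe u

set_option quotPrecheck false

/-- The permutations of the end nodes inside the permutations of the nodes. -/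
def endPerm : Equiv.Perm (Fin 3) →* Equiv.Perm (Fin 4) :=
  Equiv.Perm.extendDomainHom (finSuccAboveEquiv (1 : Fin 4))

theorem endPerm_sym : ∀ π : Equiv.Perm (Fin 3), ∃ S ∈ [symD4_0, symD4_1, symD4_2, symD4_3, symD4_4, symD4_5],
    ∀ i : Fin 4, (endPerm π i : ℕ) = S.node i := by
  decide +kernel

theorem endPerm_onto : ∀ π : Equiv.Perm (Fin 4), permList π ∈ symExt tblD4 4 → ∃ τ : Equiv.Perm (Fin 3), endPerm τ = π := by
  rw [symExtD4]
  decide +kernel

theorem endPerm_moves : ∀ π : Equiv.Perm (Fin 3), π ≠ 1 →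
    ∃ a b : Fin 4, a ≠ 1 ∧ b ≠ 1 ∧ a ≠ b ∧ endPerm π a ≠ a ∧ endPerm π a ≠ b := by
  decide +kernel

theorem cartan_ends : ∀ a b j : Fin 4, a ≠ 1 → b ≠ 1 →
    2 ∣ tblD4.cartan j (tblD4.simp' a) + tblD4.cartan j (tblD4.simp' b) := by
  decide +kernel

theorem cartan_half : ∃ M : Matrix (Fin 4) (Fin 4) ℤ,
    (Matrix.of fun k j : Fin 4 => tblD4.cartan j (tblD4.simp' k)) * M = Matrix.diagonal fun _ => ((2 : ℕ) : ℤ) :=
  ⟨!![2, 2, 1, 1; 2, 4, 2, 2; 1, 2, 2, 1; 1, 2, 1, 2], by decide +kernel⟩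

variable {F : Type u} [Field F] [Fintype F]

local notation "CD" => (fullCertD4.comm.cert)
local notation "GD" => ↥(chevD4.group F)
local notation "qD" => (QuotientGroup.mk' (Cfsg.Inn GD) : MulAut GD →* Cfsg.Out GD)
local notation "RD" => (powHom (cartanMat chevD4 tblD4) : (Fin chevD4.rank → Fˣ) →* (Fin chevD4.rank → Fˣ)).range

/-- The squares lie among the inner diagonal parameters. -/
theorem d4_sq_mem (w : Fin chevD4.rank → Fˣ) : w * w ∈ RD := by
  obtain ⟨M, hM⟩ := cartan_half
  refine ⟨powHom M w, ?_⟩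
  have h := DFunLike.congr_fun (powHom_mul (G := Fˣ) (Matrix.of fun k j : Fin 4 => tblD4.cartan j (tblD4.simp' k)) M) w
  rw [hM] at h
  refine h.symm.trans (funext fun k => (powHom_diagonal (G := Fˣ) (fun _ : Fin 4 => 2) w k).trans ?_)
  exact sq (w k)

/-- Inner diagonal parameters have square products over the end nodes. -/
theorem d4_range_ends {v : Fin 4 → Fˣ} (hv : v ∈ RD) {a b : Fin 4} (ha : a ≠ 1) (hb : b ≠ 1) :
    IsSquare (v a * v b) := by
  obtain ⟨c, rfl⟩ := hv
  show IsSquare ((∏ j : Fin 4, c j ^ tblD4.cartan j (tblD4.simp' a)) * ∏ j : Fin 4, c j ^ tblD4.cartan j (tblD4.simp' b))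
  rw [← Finset.prod_mul_distrib]
  refine Finset.isSquare_prod _ fun j _ => ?_
  obtain ⟨k, hk⟩ := cartan_ends a b j ha hb
  rw [← zpow_add, hk, two_mul, zpow_add]
  exact ⟨c j ^ k, rfl⟩

/-- The torus induces the diagonal parameters in the range. -/
theorem d4_diag_inner {v : Fin chevD4.rank → Fˣ} (hv : v ∈ RD) : d4DiagOut v = 1 := by
  obtain ⟨c, rfl⟩ := hv
  refine (QuotientGroup.eq_one_iff _).2 ?_
  let x : GD := ⟨torusHom chevD4 tblD4 F c, diag_le_group CD (by rw [← torusHom_range CD]; exact ⟨c, rfl⟩)⟩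
  have hchr : ∀ k : Fin chevD4.rank, chr tblD4 chevD4 (extend' c) (tblD4.simp' k) =
      ((powHom (cartanMat chevD4 tblD4) c k : Fˣ) : F) := fun k => by
    show _ = ((∏ j, c j ^ cartanMat chevD4 tblD4 k j : Fˣ) : F)
    rw [Units.coe_prod, chr, ← Fin.prod_univ_eq_prod_range (fun j => extend' c j ^ tblD4.cartan j (tblD4.simp' k)) chevD4.rank]
    exact Finset.prod_congr rfl fun j _ => by simp [extend', cartanMat, Units.val_zpow_eq_zpow_val]
  have hconj : ∀ r < chevD4.nroots, ∀ t : F,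
      MulAut.conj x (autEl CD r t) = autEl CD r (chr tblD4 chevD4 (extend' c) r * t) := by
    intro r hr t
    refine Subtype.ext ?_
    show torusHom chevD4 tblD4 F c * xg CD r t * (torusHom chevD4 tblD4 F c)⁻¹ = _
    rw [mul_inv_eq_iff_eq_mul]
    refine Units.ext ?_
    show _ = ((xg CD r _ * torusHom chevD4 tblD4 F c : Matrix.GeneralLinearGroup chevD4.Idx F) : Matrix chevD4.Idx chevD4.Idx F)
    rw [Units.val_mul, Units.val_mul, coe_torusHom, coe_xg, coe_xg,
      scal_mul_x (Cert.spec CD) (extend' c) (fun j _ => extend'_ne c j) hr]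
  refine ⟨x, RootAct.unique CD ⟨fun i t => ?_, fun i t => ?_⟩ (diagOf_act CD autDataD4 _)⟩
  · rw [hconj _ ((Cert.spec CD).simp_lt i i.2), hchr]; rfl
  · rw [hconj _ ((Cert.spec CD).neg_lt _ ((Cert.spec CD).simp_lt i i.2)),
      chr_neg (Cert.spec CD) _ ((Cert.spec CD).simp_lt i i.2), hchr, Units.val_inv_eq_inv_val]
    rfl

/-- The normalised graph automorphism of a permutation of the end nodes. -/
theorem exists_endGraph (π : Equiv.Perm (Fin 3)) : ∃ α : MulAut GD,
    RootAct CD α (endPerm π) (fun _ t => t) (fun _ t => t) ∧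
      AutKeeps α ((chevD4.posUnipotent F).subgroupOf (chevD4.group F)) ∧
      AutKeeps α ((chevD4.negUnipotent F).subgroupOf (chevD4.group F)) := by
  obtain ⟨S, hS, hnode⟩ := endPerm_sym π
  have hchk : chkSym tblD4 S = true ∧ chkSymPos tblD4 chevD4 S.root = true := by
    revert hS
    revert S
    intro S _ hS
    simp only [List.mem_cons, List.not_mem_nil, or_false] at hS
    rcases hS with rfl | rfl | rfl | rfl | rfl | rfl <;> decide +kernel
  have hOK := symOK_of_chk (Cert.spec CD).shape hchk.1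
  obtain ⟨α, hα⟩ := hOK.exists_groupAut CD (F := F)
  have hall : ∀ r < chevD4.nroots, ∀ t : F, α (autEl CD r t) = autEl CD (S.root r) ((S.eps r : ℤ) * t) := fun r hr t =>
    Subtype.ext ((hα _).trans (hOK.glHom_xg CD hr t))
  have hpos := hchk.2
  simp only [chkSymPos, Bool.and_eq_true, allBelow_iff, (Cert.spec CD).shape.rank_eq, (Cert.spec CD).shape.nroots_eq,
    Bool.not_eq_true', beq_iff_eq] at hpos
  refine ⟨α, ⟨fun i t => ?_, fun i t => ?_⟩, ?_⟩
  · rw [hall _ ((Cert.spec CD).simp_lt i i.2), hOK.simple i i.2, hOK.eps_simple i i.2, hnode i]; simp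
  · rw [hall _ ((Cert.spec CD).neg_lt _ ((Cert.spec CD).simp_lt i i.2)),
      hOK.root_neg _ ((Cert.spec CD).simp_lt i i.2), hOK.simple i i.2,
      hOK.eps_neg _ ((Cert.spec CD).simp_lt i i.2), hOK.eps_simple i i.2, hnode i]
    simp
  refine autKeeps_of_rootwise CD (θ := α) S.root (fun r hr => ⟨hOK.root_lt r hr, fun h => ?_, fun h => ?_⟩)
    fun r hr t => ⟨_, hall r hr t⟩
  · have := hpos.1 r hr; rw [Bool.eq_iff_iff, Nat.ble_eq, Nat.ble_eq] at this; exact this.1 h
  · have := hpos.1 r hr; rw [Bool.eq_iff_iff, Nat.ble_eq, Nat.ble_eq] at this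
    by_contra hc
    have := this.2 (by omega)
    omega

/-- The graph automorphisms as a homomorphism. -/
noncomputable def endGraph : Equiv.Perm (Fin 3) →* MulAut GD where
  toFun π := (exists_endGraph π).choose
  map_one' := (exists_endGraph 1).choose_spec.1.unique CD
    ⟨fun i t => by rw [map_one]; rfl, fun i t => by rw [map_one]; rfl⟩
  map_mul' a b := (exists_endGraph (a * b)).choose_spec.1.unique CD
    (((exists_endGraph a).choose_spec.1.comp CD (exists_endGraph b).choose_spec.1).congr CD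
      (fun i => by rw [map_mul]; rfl) (fun i t => rfl) fun i t => rfl)

theorem endGraph_act (π : Equiv.Perm (Fin 3)) :
    RootAct CD (endGraph (F := F) π) (endPerm π) (fun _ t => (RingEquiv.refl F) t) (fun _ t => (RingEquiv.refl F) t) :=
  (exists_endGraph π).choose_spec.1

theorem endGraph_keeps (π : Equiv.Perm (Fin 3)) :
    AutKeeps (endGraph (F := F) π) ((chevD4.posUnipotent F).subgroupOf (chevD4.group F)) ∧
      AutKeeps (endGraph (F := F) π) ((chevD4.negUnipotent F).subgroupOf (chevD4.group F)) :=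
  (exists_endGraph π).choose_spec.2

/-- The graph classes. -/
noncomputable def graphOut : Equiv.Perm (Fin 3) →* Cfsg.Out GD := MonoidHom.comp qD endGraph

/-- The field classes. -/
noncomputable def fieldOut : (F ≃+* F) →* Cfsg.Out GD := MonoidHom.comp qD (fieldOf CD)

/-- Conjugating by a twisted element. -/
theorem twist_eq {V G : Type*} [Group V] [Group G] (D : V →* G) {v w : V} {g g' : G} (hpass : g * D v = D w * g)
    (hg' : g' = D v * g * (D v)⁻¹) : D (v * w⁻¹) * g = g' := by
  rw [map_mul, map_inv, hg', mul_assoc (D v) g, mul_assoc (D v)]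
  congr 1
  rw [inv_mul_eq_iff_eq_mul, ← mul_assoc, eq_mul_inv_iff_mul_eq, hpass]

theorem d4_surj (o : Cfsg.Out GD) : ∃ v π σ, o = d4DiagOut v * graphOut π * fieldOut σ := by
  obtain ⟨v, γ, π, ε, σ, hγ, rfl⟩ := out_decomp CD autDataD4 (graphData_of_all graphOK_D4) o
  obtain ⟨τ, hτ⟩ := endPerm_onto π (permList_mem_symExt CD (isDiagramSymmetry_of_rootAct CD autDataD4 hγ.act))
  subst hτ
  have h := endGraph_act (F := F) τ
  let ρ : Fin chevD4.rank → F ≃+* F := fun i => ε i
  have hρ : RootAct CD ((endGraph τ)⁻¹ * γ) id (fun i t => ρ i t) (fun i t => ρ i t) := by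
    refine ⟨fun i t => ?_, fun i t => ?_⟩ <;> rw [MulAut.mul_apply, MulAut.inv_apply, MulEquiv.symm_apply_eq]
    · rw [hγ.act.pos, id_eq, h.pos]; rfl
    · rw [hγ.act.neg, id_eq, h.neg]; rfl
  let σ₁ := ρ ⟨0, autDataD4.rank_pos⟩
  have hfix : (endGraph τ)⁻¹ * γ = fieldOf CD σ₁ := hρ.unique CD ((fieldOf_act CD autDataD4 σ₁).congr CD (fun _ => rfl)
    (fun i t => by rw [sigma_eq_of_id CD autDataD4 hρ i ⟨0, autDataD4.rank_pos⟩])
    fun i t => by rw [sigma_eq_of_id CD autDataD4 hρ i ⟨0, autDataD4.rank_pos⟩])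
  refine ⟨v, τ, σ₁ * σ, ?_⟩
  show qD (diagOf CD autDataD4 v * γ * fieldOf CD σ) =
    qD (diagOf CD autDataD4 v) * qD (endGraph τ) * qD (fieldOf CD (σ₁ * σ))
  rw [← map_mul, ← map_mul, map_mul (fieldOf CD), ← hfix]
  exact congrArg qD (by group)

theorem d4_eq_one {v : Fin chevD4.rank → Fˣ} {π : Equiv.Perm (Fin 3)} {σ : F ≃+* F}
    (h : d4DiagOut v * graphOut π * fieldOut σ = 1) : v ∈ RD ∧ π = 1 ∧ σ = 1 := by
  have h' : qD (diagOf CD autDataD4 v * endGraph π * fieldOf CD σ) =
      qD (diagOf CD autDataD4 1 * endGraph 1 * fieldOf CD 1) := by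
    rw [map_mul, map_mul, map_one (diagOf CD autDataD4), map_one endGraph, map_one (fieldOf CD), one_mul, one_mul,
      map_one]
    exact h
  obtain ⟨h1, h2, h3⟩ := out_eq_cases CD autDataD4 (endGraph_act π) (endGraph_keeps π) (endGraph_act 1)
    (endGraph_keeps 1) v 1 σ 1 h'
  refine ⟨by rw [mul_one] at h2; exact inv_mem_iff.1 h2, ?_, h3 rfl⟩
  exact (Equiv.Perm.extendDomainHom_injective _).eq_iff.1 h1

theorem field_central (σ : F ≃+* F) (o : Cfsg.Out GD) : fieldOut σ * o = o * fieldOut σ := by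
  classical
  have hd : ∀ v, Commute (fieldOut σ) (d4DiagOut (F := F) v) := fun v => by
    have hsq : ∀ x : Fˣ, ∃ w : Fˣ, Units.map σ.toMonoidHom x = x * (w * w) := fun x => by
      have h1 : IsSquare ((x : F) * σ x) := by
        by_cases hx : IsSquare (x : F)
        · exact hx.mul (hx.map σ.toRingHom)
        · have hσx : ¬ IsSquare (σ x) := fun h => hx (by simpa using h.map σ.symm.toRingHom)
          by_cases hc : ringChar F = 2
          · exact FiniteField.isSquare_of_char_two hc _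
          rw [← quadraticChar_one_iff_isSquare (mul_ne_zero x.ne_zero (by simp)), map_mul,
            quadraticChar_neg_one_iff_not_isSquare.mpr hx, quadraticChar_neg_one_iff_not_isSquare.mpr hσx]
          norm_num
      obtain ⟨e, he⟩ := h1
      have he0 : e ≠ 0 := fun h => by simp [h] at he
      refine ⟨Units.mk0 e he0 * x⁻¹, Units.ext ?_⟩
      show σ x = _
      simp only [Units.val_mul, Units.val_mk0, Units.val_inv_eq_inv_val]
      field_simp
      linear_combination he
    choose w hw using fun k => hsq (v k)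
    show qD _ * qD _ = qD _ * qD _
    rw [← map_mul, field_diag_pass CD autDataD4, show (fun k => Units.map σ.toMonoidHom (v k)) = v * (w * w) from
      funext hw, map_mul, map_mul (diagOf CD autDataD4), map_mul qD]
    show d4DiagOut v * d4DiagOut (w * w) * _ = _
    rw [d4_diag_inner (d4_sq_mem w), mul_one]
    rfl
  have hg : ∀ π, Commute (fieldOut σ) (graphOut (F := F) π) := fun π =>
    ((field_pass CD autDataD4 (endGraph_act π) σ).symm.map qD)
  have hf : ∀ τ, Commute (fieldOut σ) (fieldOut (F := F) τ) := fun τ => by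
    obtain ⟨g, hg'⟩ := (isCyclic_ringAut_field F).exists_generator
    obtain ⟨i, rfl⟩ := hg' σ
    obtain ⟨j, rfl⟩ := hg' τ
    exact (Commute.zpow_zpow (Commute.refl g) i j).map fieldOut
  obtain ⟨v, π, τ, rfl⟩ := d4_surj o
  exact ((hd v).mul_right (hg π)).mul_right (hf τ)

/-- The order of the diagonal classes. -/
theorem card_d4DiagOut : Nat.card (d4DiagOut (F := F)).range = ((Nat.card F - 1).gcd 2) ^ 2 := by
  have hker : (d4DiagOut (F := F)).ker = RD := le_antisymm (fun v hv => by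
    have := d4_eq_one (v := v) (π := 1) (σ := 1) (by rw [MonoidHom.mem_ker.1 hv, map_one, map_one, one_mul, one_mul])
    exact this.1) fun v hv => MonoidHom.mem_ker.2 (d4_diag_inner hv)
  rw [← Subgroup.index_ker, hker]
  have h1 := Subgroup.card_mul_index (powHom (cartanMat chevD4 tblD4) : (Fin chevD4.rank → Fˣ) →* _).ker
  rw [Subgroup.index_ker, mul_comm] at h1
  have h2 := Subgroup.card_mul_index RD
  have h3 : Subgroup.index RD = Nat.card ↥(powHom (cartanMat chevD4 tblD4) : (Fin chevD4.rank → Fˣ) →* _).ker :=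
    Nat.eq_of_mul_eq_mul_left Nat.card_pos (h2.trans h1.symm)
  rw [h3, card_ker_cartan torusCertD4]
  show ∏ k : Fin 4, _ = _
  simp [Fin.prod_univ_four, sq]

variable {p f : ℕ} [Fact p.Prime] [CharP F p] (hf : 1 ≤ f) (hF : Fintype.card F = p ^ f)

include hf hF

theorem d4_card_out : Nat.card (Cfsg.Out GD) = (if p = 2 then 1 else 4) * 6 * f := by
  have hN : Nat.card F = p ^ f := by rw [Nat.card_eq_fintype_card]; exact hF
  rw [Cfsg.Lib.Chev.card_out CD autDataD4 (graphData_of_all graphOK_D4), card_ker_cartan torusCertD4,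
    graphPerm_of_all autDataD4 graphOK_D4 symExtD4 (by decide), (card_ringAut_field p f hN).2, hN]
  congr 2
  show ∏ k : Fin 4, _ = _
  simp only [Fin.prod_univ_four]
  simp only [Matrix.cons_val_zero, Matrix.cons_val_one, Matrix.cons_val, Nat.gcd_one_right, one_mul]
  split_ifs with h2
  · subst h2
    obtain ⟨k, hk⟩ := Nat.exists_eq_succ_of_ne_zero (show f ≠ 0 by omega)
    have h1 : (2 ^ f - 1) % 2 = 1 := by
      rw [hk, Nat.pow_succ]; have := Nat.two_pow_pos k; omega
    rw [Nat.gcd_comm, Nat.gcd_rec, h1]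
    rfl
  · obtain ⟨j, hj⟩ := ((Fact.out : p.Prime).odd_of_ne_two h2).pow (n := f)
    rw [hj, Nat.add_sub_cancel, Nat.gcd_comm, Nat.gcd_eq_left (dvd_mul_right 2 j)]
    rfl

theorem ringAut_equiv : Nonempty ((F ≃+* F) ≃* Multiplicative (ZMod f)) := AutPSL.exists_galEquiv hf hF

/-- In characteristic two. -/
theorem d4_out_two (h2 : p = 2) : Nonempty (Cfsg.Out GD ≃* Equiv.Perm (Fin 3) × Multiplicative (ZMod f)) := by
  obtain ⟨E⟩ := ringAut_equiv hf hF
  haveI : Finite (F ≃+* F) := Finite.of_injective (fun σ => (σ : F → F)) DFunLike.coe_injective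
  let Θ : Equiv.Perm (Fin 3) × (F ≃+* F) →* Cfsg.Out GD :=
    MonoidHom.noncommCoprod graphOut fieldOut fun π σ => (field_central σ (graphOut π)).symm
  have hinj : Function.Injective Θ := by
    rw [injective_iff_map_eq_one]
    rintro ⟨π, σ⟩ h
    obtain ⟨-, hπ, hσ⟩ := d4_eq_one (v := 1) (π := π) (σ := σ) (by rw [map_one, one_mul]; exact h)
    rw [hπ, hσ]; rfl
  have hbij : Function.Bijective Θ := (Nat.bijective_iff_injective_and_card Θ).2 ⟨hinj, by
    rw [Nat.card_prod, Nat.card_congr E.toEquiv, Nat.card_congr Multiplicative.toAdd, Nat.card_zmod, d4_card_out hf hF,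
      if_pos h2, Nat.card_perm, Nat.card_fin]
    rfl⟩
  exact ⟨(MulEquiv.ofBijective Θ hbij).symm.trans (MulEquiv.prodCongr (MulEquiv.refl _) E)⟩

/-- In odd characteristic. -/
theorem d4_out_odd (hp : p ≠ 2) : Nonempty (Cfsg.Out GD ≃* Equiv.Perm (Fin 4) × Multiplicative (ZMod f)) := by
  classical
  obtain ⟨E⟩ := ringAut_equiv hf hF
  haveI : Finite (F ≃+* F) := Finite.of_injective (fun σ => (σ : F → F)) DFunLike.coe_injective
  have h2 : (2 : F) ≠ 0 := fun h => hp (((Nat.prime_dvd_prime_iff_eq (Fact.out : p.Prime) Nat.prime_two).1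
    ((CharP.cast_eq_zero_iff F p 2).1 (by exact_mod_cast h))))
  haveI : (d4DiagOut (F := F)).range.Normal := d4_diag_normal
  let K : Subgroup (Cfsg.Out GD) := (d4DiagOut (F := F)).range ⊔ (graphOut (F := F)).range
  have hKmem : ∀ x ∈ K, ∃ v π, x = d4DiagOut v * graphOut π := fun x hx => by
    have hx' : x ∈ ((d4DiagOut (F := F)).range ⊔ (graphOut (F := F)).range : Subgroup (Cfsg.Out GD)) := hx
    rw [← SetLike.mem_coe, Subgroup.normal_mul] at hx'
    obtain ⟨_, ⟨v, rfl⟩, _, ⟨π, rfl⟩, rfl⟩ := hx'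
    exact ⟨v, π, rfl⟩
  let Θ : ↥K × (F ≃+* F) →* Cfsg.Out GD :=
    MonoidHom.noncommCoprod K.subtype fieldOut fun k σ => (field_central σ k.1).symm
  have hbij : Function.Bijective Θ := by
    refine ⟨?_, fun o => ?_⟩
    · rw [injective_iff_map_eq_one]
      rintro ⟨⟨k, hk⟩, σ⟩ h
      obtain ⟨v, π, rfl⟩ := hKmem k hk
      obtain ⟨hv, hπ, hσ⟩ := d4_eq_one (v := v) (π := π) (σ := σ) h
      refine Prod.ext (Subtype.ext ?_) hσ
      show d4DiagOut v * graphOut π = 1
      rw [d4_diag_inner hv, hπ, map_one, one_mul]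
    · obtain ⟨v, π, σ, rfl⟩ := d4_surj o
      exact ⟨(⟨d4DiagOut v * graphOut π, mul_mem (Subgroup.mem_sup_left ⟨v, rfl⟩) (Subgroup.mem_sup_right ⟨π, rfl⟩)⟩, σ), rfl⟩
  have hK : Nat.card K = 24 := by
    have h := Nat.card_eq_of_bijective Θ hbij
    rw [Nat.card_prod, Nat.card_congr E.toEquiv, Nat.card_congr Multiplicative.toAdd, Nat.card_zmod,
      d4_card_out hf hF, if_neg hp] at h
    exact Nat.eq_of_mul_eq_mul_right (by omega) (h.trans (by ring))
  let H : Subgroup ↥K := ((graphOut (F := F)).range).subgroupOf K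
  have hH : Nat.card H = 6 := by
    rw [Nat.card_congr (Subgroup.subgroupOfEquivOfLe (show (graphOut (F := F)).range ≤ K from le_sup_right)).toEquiv]
    have hinj : Function.Injective (graphOut (F := F)) := by
      rw [injective_iff_map_eq_one]
      intro π h
      exact (d4_eq_one (F := F) (v := 1) (π := π) (σ := 1) (by rw [map_one, map_one, one_mul, mul_one]; exact h)).2.1
    rw [← Nat.card_congr (MonoidHom.ofInjective hinj).toEquiv, Nat.card_perm, Nat.card_fin]
    rfl
  have hquot : Nat.card (↥K ⧸ H) = 4 := by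
    have h := Subgroup.card_eq_card_quotient_mul_card_subgroup H
    rw [hK, hH] at h
    omega
  obtain ⟨c, hc⟩ := FiniteField.exists_nonsquare (F := F) (fun hc => h2 (by
    haveI := ringChar.of_eq hc; exact CharTwo.two_eq_zero))
  have hc0 : c ≠ 0 := fun h => hc (h ▸ ⟨0, (mul_zero 0).symm⟩)
  have hcore : H.normalCore = ⊥ := by
    rw [eq_bot_iff]
    intro x hx
    obtain ⟨π, hπ⟩ := Subgroup.mem_subgroupOf.1 (Subgroup.normalCore_le H hx)
    rw [Subgroup.mem_bot]
    refine Subtype.ext ?_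
    rw [← hπ]
    suffices hπ1 : π = 1 by rw [hπ1, map_one]; rfl
    by_contra hne
    obtain ⟨a, b, ha, hb, hab, hma, hmb⟩ := endPerm_moves π hne
    let v : Fin 4 → Fˣ := Pi.mulSingle a (Units.mk0 c hc0)
    have hvK : d4DiagOut (F := F) v ∈ K := Subgroup.mem_sup_left ⟨v, rfl⟩
    obtain ⟨π', hπ'⟩ := Subgroup.mem_subgroupOf.1 (hx ⟨d4DiagOut (F := F) v, hvK⟩)
    have hpass : graphOut π * d4DiagOut (F := F) v =
        d4DiagOut (fun k => Units.map (RingEquiv.refl F).toMonoidHom (v ((endPerm π).symm k))) * graphOut π := by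
      show qD _ * qD _ = qD _ * qD _
      rw [← map_mul, ← map_mul, diag_pass CD autDataD4 (endGraph_act π) v]
      rfl
    have e : d4DiagOut (F := F) (v * (fun k => Units.map (RingEquiv.refl F).toMonoidHom (v ((endPerm π).symm k)))⁻¹) *
        graphOut π = graphOut π' := by
      refine twist_eq d4DiagOut hpass ?_
      rw [hπ', hπ]
      rfl
    have h1 := (d4_eq_one (F := F) (π := π * π'⁻¹) (σ := 1)
      (v := v * (fun k => Units.map (RingEquiv.refl F).toMonoidHom (v ((endPerm π).symm k)))⁻¹) (by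
        rw [map_mul (graphOut (F := F)), map_inv (graphOut (F := F)), map_one (fieldOut (F := F)), mul_one, ← mul_assoc, e, mul_inv_cancel])).1
    have hsq := (d4_range_ends h1 ha hb).map (Units.coeHom F)
    have hsa : (endPerm π).symm a ≠ a := fun h => hma ((Equiv.symm_apply_eq _).1 h).symm
    have hsb : (endPerm π).symm b ≠ a := fun h => hmb ((Equiv.symm_apply_eq _).1 h).symm
    refine hc ?_
    simpa [v, Pi.mulSingle_apply, hab.symm, hsa, hsb] using hsq
  let ρ : ↥K →* Equiv.Perm (↥K ⧸ H) := MulAction.toPermHom ↥K (↥K ⧸ H)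
  have hρinj : Function.Injective ρ := by
    rw [← MonoidHom.ker_eq_bot_iff, ← hcore, Subgroup.normalCore_eq_ker]
  have hρ : Function.Bijective ρ := (Nat.bijective_iff_injective_and_card ρ).2 ⟨hρinj, by
    rw [hK, Nat.card_perm, hquot]; rfl⟩
  have e4 : (↥K ⧸ H) ≃ Fin 4 := Finite.equivFinOfCardEq hquot
  exact ⟨(MulEquiv.ofBijective Θ hbij).symm.trans
    (MulEquiv.prodCongr ((MulEquiv.ofBijective ρ hρ).trans e4.permCongrHom) E)⟩

end Cfsg.Lib.Linear.AutPO
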