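import Cfsg.Agent.Lib.Linear.AutPO.PlusOut
import Cfsg.Agent.Lib.Linear.AutPO.D4Out

/-!
# The shapes of the outer automorphism groups of `PΩ⁺_{2m}(q)`
-/

set_option autoImplicit false
set_option synthInstance.maxHeartbeats 400000
set_option maxHeartbeats 1600000

namespace Cfsg.Lib.Linear.AutPO

open Cfsg.Lib.Linear.Orth
open scoped Matrix

set_option quotPrecheck false

universe u

/-- The parity of `m(q-1)/2`. -/
theorem plus_parity {q m : ℕ} (hq : Odd q) : Even (m * (q - 1) / 2) ↔ ¬ (q % 4 = 3 ∧ Odd m) := by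
  obtain ⟨j, rfl⟩ := hq
  rw [Nat.add_sub_cancel, ← mul_assoc, mul_comm m 2, mul_assoc, Nat.mul_div_cancel_left _ two_pos, Nat.even_mul,
    not_and_or, Nat.not_odd_iff_even, Nat.even_iff (n := j), or_comm]
  exact or_congr_left (by omega)

variable {F : Type u} [Field F] [Fintype F] (p : ℕ) [Fact p.Prime] [CharP F p] {f : ℕ} (hf : 1 ≤ f)
  (hF : Fintype.card F = p ^ f)

include hf hF

/-- The outer automorphism group of `PΩ₈⁺`. -/
theorem d4_out_pomega : (p = 2 → Nonempty (Cfsg.Out (Cfsg.POmega F (Cfsg.quadFormPlus 4 F)) ≃*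
      Equiv.Perm (Fin 3) × Multiplicative (ZMod f))) ∧
    (p ≠ 2 → Nonempty (Cfsg.Out (Cfsg.POmega F (Cfsg.quadFormPlus 4 F)) ≃*
      Equiv.Perm (Fin 4) × Multiplicative (ZMod f))) ∧
    Nat.card (MulAut (Cfsg.POmega F (Cfsg.quadFormPlus 4 F))) =
      (if p = 2 then 1 else 4) * 6 * f * Nat.card (Cfsg.POmega F (Cfsg.quadFormPlus 4 F)) := by
  obtain ⟨e, -⟩ := exists_rootEquiv (F := F)
  obtain ⟨B, C⟩ := exists_space_plus (F := F) 4
  have h7 : 7 ≤ Fintype.card (Fin 4 ⊕ Fin 4) := by simp only [Fintype.card_sum, Fintype.card_fin]; omega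
  let E := (QuotientGroup.congr (Cfsg.Inn ↥(Cfsg.Lie.chevD4.group F))
    (Cfsg.Inn (Cfsg.POmega F (Cfsg.quadFormPlus 4 F))) (trf e) (trf_inn e)).symm
  refine ⟨fun h2 => ?_, fun hp => ?_, ?_⟩
  · obtain ⟨W⟩ := d4_out_two hf hF h2
    exact ⟨E.trans W⟩
  · obtain ⟨W⟩ := d4_out_odd hf hF hp
    exact ⟨E.trans W⟩
  · rw [Subgroup.card_eq_card_quotient_mul_card_subgroup (Cfsg.Inn (Cfsg.POmega F (Cfsg.quadFormPlus 4 F))),
      card_inn C h7 p, Nat.card_congr E.toEquiv, d4_card_out hf hF]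

variable {n : ℕ} (hn : 4 ≤ n)

local notation "P" => Cfsg.POmega F (Cfsg.quadFormPlus (n + 1) F)

include hn

/-- Characteristic two. -/
theorem plus_out_two (hp : p = 2) : Nonempty (Cfsg.Out P ≃* Multiplicative (ZMod 2 × ZMod f)) := by
  obtain ⟨E⟩ := plus_out_prod hn p hf hF
  have h := plus_relIndex_range hn p hf hF
  rw [if_pos hp] at h
  haveI : Fact (Nat.Prime 2) := ⟨Nat.prime_two⟩
  haveI := isCyclic_of_prime_card (p := 2) h
  exact ⟨E.trans ((MulEquiv.prodCongr (mulEquivOfCyclicCardEq (G' := Multiplicative (ZMod 2))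
    (h.trans (by rw [Nat.card_congr Multiplicative.toAdd, Nat.card_zmod]))) (MulEquiv.refl _)).trans
      (MulEquiv.prodMultiplicative (ZMod 2) (ZMod f)).symm)⟩

/-- Odd characteristic. -/
theorem plus_out_odd (hp : p ≠ 2) :
    (p ^ f % 4 = 3 ∧ Odd (n + 1) → Nonempty (Cfsg.Out P ≃* Multiplicative (ZMod 2 × ZMod 2 × ZMod f))) ∧
    (¬ (p ^ f % 4 = 3 ∧ Odd (n + 1)) → Nonempty (Cfsg.Out P ≃* DihedralGroup 4 × Multiplicative (ZMod f))) := by
  obtain ⟨E⟩ := plus_out_prod hn p hf hF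
  obtain ⟨B, C⟩ := exists_space_plus (F := F) (n + 1)
  have hcard : Fintype.card (Fin (n + 1) ⊕ Fin (n + 1)) = 2 * (n + 1) := plus_card
  have h7 : 7 ≤ Fintype.card (Fin (n + 1) ⊕ Fin (n + 1)) := by omega
  have h2 : (2 : F) ≠ 0 := fun h => hp (((Nat.prime_dvd_prime_iff_eq (Fact.out : p.Prime) Nat.prime_two).1
    ((CharP.cast_eq_zero_iff F p 2).1 (by exact_mod_cast h))))
  have hodd : Odd (p ^ f) := ((Fact.out : p.Prime).odd_of_ne_two hp).pow
  have hsim := fun c (hc : c ≠ 0) => Cfsg.Lib.H3.InndiagMod.exists_sim_plus (F := F) (m := n + 1) (by omega) hc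
  have hi := Cfsg.Agent.S0790.result hF hodd (n + 1) (by omega)
  rw [(Cfsg.Agent.S0790.sign_pow (p ^ f) (n + 1) hodd).1] at hi
  have hR : ∀ {T : Type} [Group T] (φ : ↥(Cfsg.pgoAut F (Cfsg.quadFormPlus (n + 1) F)) →* T), Function.Surjective φ →
      φ.ker = (Cfsg.Inn P).subgroupOf (Cfsg.pgoAut F (Cfsg.quadFormPlus (n + 1) F)) →
      Nonempty (Cfsg.Out P ≃* T × Multiplicative (ZMod f)) := by
    intro T _ φ hφ hk
    let e1 := MulEquiv.subgroupCongr (range_eq_pgo (Q := Cfsg.quadFormPlus (n + 1) F))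
    have hk' : (φ.comp e1.toMonoidHom).ker = (Cfsg.Inn P).subgroupOf
        (innd : ↥(Cfsg.Geo.quadSimilarityGroup (F := F) (Cfsg.quadFormPlus (n + 1) F)) →* MulAut P).range := by
      ext x
      rw [MonoidHom.mem_ker, MonoidHom.comp_apply]
      exact (MonoidHom.mem_ker.symm.trans (hk ▸ Iff.rfl)).trans Iff.rfl
    exact ⟨E.trans (MulEquiv.prodCongr ((QuotientGroup.quotientMulEquivOfEq hk'.symm).trans
      (QuotientGroup.quotientKerEquivOfSurjective (φ.comp e1.toMonoidHom) (hφ.comp e1.surjective)))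
      (MulEquiv.refl _))⟩
  refine ⟨fun hc => ?_, fun hc => ?_⟩
  · obtain ⟨φ, hφ, hk⟩ := Cfsg.Lib.H3.InndiagMod.pgo_klein C h7 p hcard h2 hsim (fun hg => hi.1 hg hc)
    obtain ⟨W⟩ := hR φ hφ hk
    exact ⟨W.trans (((MulEquiv.prodCongr (MulEquiv.prodMultiplicative (ZMod 2) (ZMod 2)) (MulEquiv.refl _)).trans
      MulEquiv.prodAssoc).trans (((MulEquiv.prodCongr (MulEquiv.refl _)
        (MulEquiv.prodMultiplicative (ZMod 2) (ZMod f)).symm)).trans
        (MulEquiv.prodMultiplicative (ZMod 2) (ZMod 2 × ZMod f)).symm))⟩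
  · obtain ⟨φ, hφ, hk⟩ := Cfsg.Lib.H3.InndiagMod.pgo_dihedral C h7 p hcard h2 hsim (hi.2 hc)
    exact hR φ hφ hk

end Cfsg.Lib.Linear.AutPO
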