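import Cfsg.Agent.Lib.Linear.AutPO.Gal
import Cfsg.Agent.Lib.Linear.AutPO.Std
import Cfsg.Agent.Lib.Linear.OrthForms
import Cfsg.Agent.Lib.Linear.AutPSL.Out

/-!
# Semisimilarities of the minus-type form over the Frobenius automorphism
-/

set_option autoImplicit false

namespace Cfsg.Lib.Linear.AutPO

open Module
open Cfsg.Lib.Linear.Orth
open Cfsg.Lib.Linear.Descent (sc sm tw sc_val sm_one sm_mul)
open scoped Matrix

set_option quotPrecheck false

section Frob

variable {F : Type*} [Field F] [Fintype F] (p : ℕ) [Fact p.Prime] [CharP F p]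

/-- The Frobenius automorphism. -/
noncomputable def frobF : F ≃+* F := frobeniusEquiv F p

theorem frobF_apply (x : F) : frobF p x = x ^ p := frobeniusEquiv_apply F p x

theorem frobF_pow_apply (k : ℕ) (x : F) : (frobF p ^ k : F ≃+* F) x = x ^ p ^ k := by
  induction k generalizing x with
  | zero => simp
  | succ k ih =>
    rw [pow_succ, RingAut.mul_apply, ih, frobF_apply, ← pow_mul, ← pow_succ']

theorem orderOf_frobF {f : ℕ} (hf : 1 ≤ f) (hF : Fintype.card F = p ^ f) : orderOf (frobF (F := F) p) = f := by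
  rw [orderOf_eq_iff hf]
  refine ⟨RingEquiv.ext fun x => by rw [frobF_pow_apply, ← hF, FiniteField.pow_card]; rfl, fun k hk hk0 h => ?_⟩
  obtain ⟨g, hg⟩ := IsCyclic.exists_ofOrder_eq_natCard (α := Fˣ)
  have h1 : (g : F) ^ p ^ k = g := by rw [← frobF_pow_apply, h]; rfl
  have hp := (Fact.out : p.Prime)
  have h2 : g ^ (p ^ k - 1) = 1 := Units.ext (by
    rw [Units.val_pow_eq_pow_val, Units.val_one]
    refine mul_right_cancel₀ g.ne_zero ?_
    rw [← pow_succ, one_mul, Nat.sub_add_cancel (Nat.one_le_pow _ _ hp.pos), h1])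
  have h3 := Nat.le_of_dvd (by
    have := Nat.one_lt_pow hk0.ne' hp.one_lt
    omega) (orderOf_dvd_of_pow_eq_one h2)
  rw [hg, Nat.card_units, Nat.card_eq_fintype_card, hF] at h3
  have := Nat.pow_lt_pow_right hp.one_lt hk
  have := Nat.one_le_pow k p hp.pos
  omega

theorem mem_zpowers_frobF {f : ℕ} (hf : 1 ≤ f) (hF : Fintype.card F = p ^ f) (σ : F ≃+* F) :
    σ ∈ Subgroup.zpowers (frobF (F := F) p) := by
  obtain ⟨E⟩ := AutPSL.exists_galEquiv hf hF
  haveI : Finite (F ≃+* F) := Finite.of_injective (fun σ => (σ : F → F)) fun a b h => RingEquiv.ext (congrFun h)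
  rw [(Subgroup.card_eq_iff_eq_top (Subgroup.zpowers (frobF (F := F) p))).1 (by
    rw [Nat.card_zpowers, orderOf_frobF p hf hF, Nat.card_congr E.toEquiv, Nat.card_congr Multiplicative.toAdd,
      Nat.card_zmod])]
  exact Subgroup.mem_top _

theorem card_gal {f : ℕ} (hf : 1 ≤ f) (hF : Fintype.card F = p ^ f) : Nat.card (F ≃+* F) = f := by
  obtain ⟨E⟩ := AutPSL.exists_galEquiv hf hF
  rw [Nat.card_congr E.toEquiv, Nat.card_congr Multiplicative.toAdd, Nat.card_zmod]

end Frob

variable {m : ℕ} {F : Type*} [Field F]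

local notation "ιm" => ((Fin m ⊕ Fin m) ⊕ Fin 2)

/-- The identity on the hyperbolic part and `(x, y) ↦ (x + u y, w y)` on the plane. -/
def planeMat (u w : F) : Matrix ιm ιm F :=
  Matrix.fromBlocks (1 : Matrix (Fin m ⊕ Fin m) (Fin m ⊕ Fin m) F) 0 0 !![1, u; 0, w]

theorem det_planeMat (u w : F) : (planeMat u w : Matrix ιm ιm F).det = w := by
  rw [planeMat, Matrix.det_fromBlocks_zero₂₁, Matrix.det_one, one_mul, Matrix.det_fin_two]
  simp

/-- The element of `GL` of a plane matrix. -/
noncomputable def planeGL (u : F) (w : Fˣ) : GL ιm F :=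
  Matrix.GeneralLinearGroup.mk'' (planeMat u (w : F)) (by rw [det_planeMat]; exact w.isUnit)

theorem planeMat_mul (u w u' w' : F) :
    (planeMat u w : Matrix ιm ιm F) * planeMat u' w' = planeMat (u' + u * w') (w * w') := by
  rw [planeMat, planeMat, planeMat, Matrix.fromBlocks_multiply]
  simp [Matrix.mul_fin_two]

theorem quad_planeMat (a b : F) (u w : F) (v : ιm → F) :
    Cfsg.quadFormMinus m F a b ((planeMat u w : Matrix ιm ιm F) *ᵥ v) =
      (∑ i, v (.inl (.inl i)) * v (.inl (.inr i))) +
        ((v (.inr 0) + u * v (.inr 1)) ^ 2 + a * (v (.inr 0) + u * v (.inr 1)) * (w * v (.inr 1)) +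
          b * (w * v (.inr 1)) ^ 2) := by
  rw [planeMat, Matrix.fromBlocks_mulVec]
  simp [Cfsg.quadFormMinus, Matrix.mulVec, Matrix.one_apply, dotProduct, Fin.sum_univ_two]

theorem planeMat_map (σ : F ≃+* F) (u w : F) :
    (planeMat u w : Matrix ιm ιm F).map σ = planeMat (σ u) (σ w) := by
  rw [planeMat, planeMat, Matrix.fromBlocks_map]
  congr 1
  · simp
  · simp
  · simp
  · ext i j; fin_cases i <;> fin_cases j <;> simp

variable {a b : F}

theorem disc_ne_zero (hab : ∀ z₁ z₂ : F, z₁ ^ 2 + a * z₁ * z₂ + b * z₂ ^ 2 = 0 → z₁ = 0 ∧ z₂ = 0)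
    (h2 : (2 : F) ≠ 0) : a ^ 2 - 4 * b ≠ 0 ∧ ¬ IsSquare (a ^ 2 - 4 * b) := by
  have hns : ¬ IsSquare (a ^ 2 - 4 * b) := by
    rintro ⟨s, hs⟩
    exact one_ne_zero (hab ((s - a) / 2) 1 (by field_simp; linear_combination (-1 : F) * hs)).2
  exact ⟨fun h => hns (h ▸ ⟨0, (mul_zero 0).symm⟩), hns⟩

variable [Fintype F] (p : ℕ) [Fact p.Prime] [CharP F p]

/-- The parameters of the semisimilarity over the Frobenius automorphism. -/
noncomputable def planePar (a b : F) : F × F :=
  if p = 2 then (b, a) else
    ((a ^ p - a * (a ^ 2 - 4 * b) ^ ((p - 1) / 2)) / 2, (a ^ 2 - 4 * b) ^ ((p - 1) / 2))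

/-- **A semisimilarity over the Frobenius automorphism**; the determinant of its `f`-th twisted power is `-1` for odd `p`,
and for `p = 2` this power is the transvection `(x, y) ↦ (x + a y, y)`. -/
theorem exists_frob_semi {f : ℕ} (hf : 1 ≤ f) (hF : Fintype.card F = p ^ f)
    (hab : ∀ z₁ z₂ : F, z₁ ^ 2 + a * z₁ * z₂ + b * z₂ ^ 2 = 0 → z₁ = 0 ∧ z₂ = 0) :
    ∃ g : GL ιm F, (∀ v, Cfsg.quadFormMinus m F a b (g.val *ᵥ (frobF p ∘ v)) =
      frobF p (Cfsg.quadFormMinus m F a b v)) ∧
      (∀ v, Cfsg.quadFormMinus m F a b ((tw (frobF p) g f).val *ᵥ v) = Cfsg.quadFormMinus m F a b v) ∧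
      ((2 : F) ≠ 0 → (tw (frobF p) g f).val.det = -1) ∧
      ((2 : F) = 0 → (tw (frobF p) g f).val = planeMat a 1) := by
  classical
  have hp := (Fact.out : p.Prime)
  obtain ⟨u, w, hw, h1, h2, hlast⟩ : ∃ (u : F) (w : Fˣ), planePar p a b = (u, (w : F)) ∧
      2 * u + a * w = frobF p a ∧ u ^ 2 + a * u * w + b * (w : F) ^ 2 = frobF p b ∧
      ((2 : F) = 0 ↔ p = 2) := by
    by_cases hp2 : p = 2
    · subst hp2
      have h20 : (2 : F) = 0 := CharTwo.two_eq_zero
      have ha : a ≠ 0 := fun ha => by
        obtain ⟨s, hs : frobenius F 2 s = b⟩ := (PerfectRing.bijective_frobenius (R := F) (p := 2)).surjective b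
        rw [frobenius_def] at hs
        exact one_ne_zero (hab s 1 (by rw [ha, ← hs]; linear_combination (s ^ 2) * h20)).2
      refine ⟨b, Units.mk0 a ha, by simp [planePar], ?_, ?_, iff_of_true h20 rfl⟩
      · rw [frobF_apply, Units.val_mk0]
        linear_combination b * h20
      · rw [frobF_apply, Units.val_mk0]
        linear_combination (a ^ 2 * b) * h20
    · have h20 : (2 : F) ≠ 0 := fun h => hp2 (((Nat.prime_dvd_prime_iff_eq hp Nat.prime_two).1
        ((CharP.cast_eq_zero_iff F p 2).1 (by exact_mod_cast h))))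
      obtain ⟨hd0, -⟩ := disc_ne_zero hab h20
      set d := a ^ 2 - 4 * b with hd
      obtain ⟨k, hk⟩ := hp.odd_of_ne_two hp2
      have hk' : (p - 1) / 2 = k := by omega
      refine ⟨(a ^ p - a * d ^ k) / 2, Units.mk0 (d ^ k) (pow_ne_zero _ hd0), by simp [planePar, hp2, hd, hk'],
        ?_, ?_, iff_of_false h20 hp2⟩
      · rw [frobF_apply, Units.val_mk0]
        field_simp
        ring
      · rw [frobF_apply, Units.val_mk0]
        have e : d * (d ^ k) ^ 2 = (a ^ p) ^ 2 - 4 * b ^ p := by
          have : d ^ p = (a ^ p) ^ 2 - 4 * b ^ p := by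
            have e := map_sub (frobenius F p) (a ^ 2) (4 * b)
            rw [map_pow, map_mul, map_ofNat] at e
            exact e
          rw [← this, hk]
          ring
        have h40 : (4 : F) ≠ 0 := by
          rw [show (4 : F) = 2 * 2 by norm_num]; exact mul_ne_zero h20 h20
        refine mul_left_cancel₀ h40 ?_
        field_simp
        linear_combination (-1 : F) * e + (d ^ k) ^ 2 * hd
  refine ⟨planeGL u w, ?_, ?_⟩
  · intro v
    show Cfsg.quadFormMinus m F a b ((planeMat u (w : F)) *ᵥ _) = _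
    rw [quad_planeMat]
    simp only [Cfsg.quadFormMinus, map_add, map_sum, map_mul, map_pow, Function.comp_apply]
    rw [← h1, ← h2]
    ring
  -- the twisted powers
  have key : ∀ k : ℕ, ∃ U W : F, (tw (frobF p) (planeGL u w : GL ιm F) k).val = planeMat U W ∧
      ((2 : F) ≠ 0 → W = (a ^ 2 - 4 * b) ^ ((p ^ k - 1) / 2)) ∧
      ((2 : F) = 0 → a * W = a ^ 2 ^ k ∧ U = a ^ 2 ^ k * ∑ i ∈ Finset.range k, (b / a ^ 2) ^ 2 ^ i) ∧
      (∀ v, Cfsg.quadFormMinus m F a b ((planeMat U W : Matrix ιm ιm F) *ᵥ ((frobF p ^ k : F ≃+* F) ∘ v)) =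
        (frobF p ^ k : F ≃+* F) (Cfsg.quadFormMinus m F a b v)) := by
    intro k
    induction k with
    | zero =>
      refine ⟨0, 1, ?_, by simp, by simp, fun v => ?_⟩
      · show (1 : Matrix ιm ιm F) = _
        ext i j
        rcases i with i | i <;> rcases j with j | j
        · simp [planeMat, Matrix.one_apply, Matrix.fromBlocks]
        · simp [planeMat, Matrix.one_apply, Matrix.fromBlocks]
        · simp [planeMat, Matrix.one_apply, Matrix.fromBlocks]
        · fin_cases i <;> fin_cases j <;> simp [planeMat, Matrix.one_apply, Matrix.fromBlocks]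
      · rw [quad_planeMat]
        simp [Cfsg.quadFormMinus]
    | succ k ih =>
      obtain ⟨U, W, hT, hodd, hev, hq⟩ := ih
      refine ⟨frobF p U + u * frobF p W, (w : F) * frobF p W, ?_, fun h20 => ?_, fun h20 => ?_, fun v => ?_⟩
      · rw [tw, Units.val_mul, Descent.sm_val, hT, planeMat_map]
        exact planeMat_mul _ _ _ _
      · have hp2 : p ≠ 2 := fun h => h20 (hlast.2 h)
        simp only [planePar, hp2, if_false, Prod.mk.injEq] at hw
        rw [← hw.2, hodd h20, frobF_apply, ← pow_mul, ← pow_add]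
        congr 1
        obtain ⟨j, hj⟩ := hp.odd_of_ne_two hp2
        obtain ⟨i, hi⟩ := (hp.odd_of_ne_two hp2).pow (n := k)
        rw [pow_succ, hi, hj]
        have e1 : (2 * i + 1) * (2 * j + 1) - 1 = 2 * (i * (2 * j + 1) + j) := by
          have : (2 * i + 1) * (2 * j + 1) = 2 * (i * (2 * j + 1) + j) + 1 := by ring
          omega
        rw [e1, show 2 * i + 1 - 1 = 2 * i by omega, show 2 * j + 1 - 1 = 2 * j by omega]
        simp only [Nat.mul_div_cancel_left _ (show 0 < 2 by norm_num)]
        ring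
      · have hp2 := hlast.1 h20
        subst hp2
        obtain ⟨hW, hU⟩ := hev h20
        simp only [planePar, if_true, Prod.mk.injEq] at hw
        obtain ⟨rfl, hwa⟩ := hw
        have ha : a ≠ 0 := fun h => w.ne_zero (hwa.symm.trans h)
        have hW2 : a ^ 2 * W ^ 2 = a ^ 2 ^ (k + 1) := by rw [← mul_pow, hW, ← pow_mul, ← pow_succ]
        rw [frobF_apply, frobF_apply, ← hwa]
        refine ⟨by rw [← hW2]; ring, ?_⟩
        rw [Finset.sum_range_succ', hU, mul_pow, ← pow_mul, ← pow_succ]
        haveI : CharP F 2 := inferInstance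
        rw [CharTwo.sum_sq]
        simp only [pow_zero, pow_one, ← pow_mul, ← pow_succ]
        rw [mul_add, ← hW2]
        field_simp
      · have hfr : ∀ z : F, (frobF p ^ (k + 1) : F ≃+* F) z = frobF p ((frobF p ^ k : F ≃+* F) z) := fun z => by
          rw [pow_succ']; rfl
        rw [← planeMat_mul, ← Matrix.mulVec_mulVec, ← planeMat_map,
          show ((frobF p ^ (k + 1) : F ≃+* F) ∘ v) = frobF p ∘ ((frobF p ^ k : F ≃+* F) ∘ v) from funext fun i => hfr _,
          hfr]
        rw [show (planeMat U W : Matrix ιm ιm F).map (frobF p) *ᵥ (frobF p ∘ ((frobF p ^ k : F ≃+* F) ∘ v)) =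
          frobF p ∘ ((planeMat U W : Matrix ιm ιm F) *ᵥ ((frobF p ^ k : F ≃+* F) ∘ v)) from funext fun i => by
            simp [Matrix.mulVec, dotProduct, map_sum]]
        rw [quad_planeMat, ← hq]
        simp only [Cfsg.quadFormMinus, map_add, map_sum, map_mul, map_pow, Function.comp_apply]
        rw [← h1, ← h2]
        ring
  obtain ⟨U, W, hT, hodd, hev, hq⟩ := key f
  have hone : (frobF p ^ f : F ≃+* F) = 1 := by rw [← orderOf_frobF p hf hF, pow_orderOf_eq_one]
  have hq' : ∀ v, Cfsg.quadFormMinus m F a b ((planeMat U W : Matrix ιm ιm F) *ᵥ v) = Cfsg.quadFormMinus m F a b v := by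
    intro v
    have := hq v
    rw [hone] at this
    exact this
  refine ⟨fun v => by rw [hT]; exact hq' v, fun h20 => ?_, fun h20 => ?_⟩
  · rw [hT, det_planeMat, hodd h20, ← hF]
    obtain ⟨hd0, hns⟩ := disc_ne_zero hab h20
    have hc : ringChar F ≠ 2 := fun hc => h20 (by haveI := ringChar.of_eq hc; exact CharTwo.two_eq_zero)
    have hodd' := FiniteField.odd_card_of_char_ne_two hc
    rw [show (Fintype.card F - 1) / 2 = Fintype.card F / 2 by omega]
    rcases FiniteField.pow_dichotomy hc hd0 with h | h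
    · exact absurd ((FiniteField.isSquare_iff hc hd0).2 h) hns
    · exact h
  · obtain rfl := hlast.1 h20
    obtain ⟨hW, hU⟩ := hev h20
    simp only [planePar, if_true, Prod.mk.injEq] at hw
    have ha : a ≠ 0 := fun h => w.ne_zero (hw.2.symm.trans h)
    rw [show a ^ 2 ^ f = a by rw [← hF, FiniteField.pow_card]] at hW hU
    have hW1 : W = 1 := mul_left_cancel₀ ha (hW.trans (mul_one a).symm)
    rw [hT, hW1]
    congr 1
    set T := ∑ i ∈ Finset.range f, (b / a ^ 2) ^ 2 ^ i with hTd
    have hT2 : T * T = T := by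
      haveI : CharP F 2 := inferInstance
      have e : T ^ 2 = T := by
        rw [hTd, CharTwo.sum_sq]
        simp only [← pow_mul, ← pow_succ]
        have e1 := Finset.sum_range_succ' (fun i => (b / a ^ 2) ^ 2 ^ i) f
        rw [Finset.sum_range_succ, ← hF, FiniteField.pow_card, pow_zero, pow_one] at e1
        exact (add_right_cancel e1).symm
      rw [← sq, e]
    rcases mul_eq_zero.1 (show T * (T - 1) = 0 by linear_combination hT2) with h | h
    · exfalso
      -- the trace of `b / a²` is not zero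
      let AS : F →+ F := AddMonoidHom.mk' (fun y => y ^ 2 + y) fun x y => by linear_combination (x * y) * h20
      let Tr : F →+ F := AddMonoidHom.mk' (fun y => ∑ i ∈ Finset.range f, y ^ 2 ^ i) fun x y => by
        simp only [← Finset.sum_add_distrib, add_pow_char_pow]
      have hle : (AS.range : Set F) ⊆ {y | Tr y = 0} := by
        rintro _ ⟨y, rfl⟩
        show Tr (y ^ 2 + y) = 0
        rw [map_add]
        show ∑ i ∈ Finset.range f, (y ^ 2) ^ 2 ^ i + ∑ i ∈ Finset.range f, y ^ 2 ^ i = 0
        have e1 := Finset.sum_range_succ' (fun i => y ^ 2 ^ i) f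
        rw [Finset.sum_range_succ, ← hF, FiniteField.pow_card, pow_zero, pow_one] at e1
        simp only [← pow_mul, ← pow_succ']
        linear_combination (-1 : F) * add_right_cancel e1 + (∑ i ∈ Finset.range f, y ^ 2 ^ i) * h20
      have hAS : Nat.card AS.range * 2 = 2 ^ f := by
        have e1 := AddSubgroup.card_eq_card_quotient_mul_card_addSubgroup AS.ker
        rw [Nat.card_congr (QuotientAddGroup.quotientKerEquivRange AS).toEquiv, Nat.card_eq_fintype_card (α := F), hF] at e1
        have hk : Nat.card AS.ker = 2 := by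
          rw [← SetLike.coe_sort_coe, Nat.card_coe_set_eq, show (AS.ker : Set F) = {0, 1} from ?_, Set.ncard_pair zero_ne_one]
          ext y
          simp only [SetLike.mem_coe, AddMonoidHom.mem_ker, Set.mem_insert_iff, Set.mem_singleton_iff]
          show y ^ 2 + y = 0 ↔ _
          constructor
          · intro hy
            rcases mul_eq_zero.1 (show y * (y - 1) = 0 by linear_combination hy - y * h20) with h | h
            · exact Or.inl h
            · exact Or.inr (sub_eq_zero.1 h)
          · rintro (rfl | rfl)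
            · ring
            · linear_combination h20
        rw [hk] at e1
        exact e1.symm
      classical
      let poly : Polynomial F := ∑ i ∈ Finset.range f, Polynomial.X ^ 2 ^ i
      have hdeg : poly.natDegree ≤ 2 ^ (f - 1) := by
        refine (Polynomial.natDegree_sum_le_of_forall_le _ _ fun i hi => ?_)
        rw [Polynomial.natDegree_X_pow]
        exact Nat.pow_le_pow_right (by norm_num) (by have := Finset.mem_range.1 hi; omega)
      have hne : poly ≠ 0 := fun h0 => by
        have := congrArg (fun q => Polynomial.coeff q 1) h0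
        simp only [poly, Polynomial.finsetSum_coeff, Polynomial.coeff_X_pow, Polynomial.coeff_zero] at this
        rw [Finset.sum_eq_single 0 (fun i _ hi => if_neg (by
          have := Nat.one_lt_pow hi (show 1 < 2 by norm_num); omega)) (fun h => absurd (Finset.mem_range.2 hf) h)] at this
        simp at this
      have hroots : {y | Tr y = 0} ⊆ (poly.roots.toFinset : Set F) := fun y hy => by
        rw [Finset.mem_coe, Multiset.mem_toFinset, Polynomial.mem_roots hne, Polynomial.IsRoot, Polynomial.eval_finsetSum]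
        simpa [Tr] using hy
      have hc : Nat.card AS.range = 2 ^ (f - 1) := by
        obtain ⟨j, rfl⟩ : ∃ j, f = j + 1 := ⟨f - 1, by omega⟩
        rw [pow_succ] at hAS
        simpa using Nat.eq_of_mul_eq_mul_right two_pos hAS
      have hcard : ({y | Tr y = 0} : Set F).ncard ≤ (AS.range : Set F).ncard := by
        refine (Set.ncard_le_ncard hroots (Finset.finite_toSet _)).trans ?_
        rw [Set.ncard_coe_finset, show (AS.range : Set F).ncard = 2 ^ (f - 1) by
          rw [← Nat.card_coe_set_eq]; exact hc]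
        exact (Multiset.toFinset_card_le _).trans ((Polynomial.card_roots' _).trans hdeg)
      have hmem : b / a ^ 2 ∈ (AS.range : Set F) := by
        rw [Set.eq_of_subset_of_ncard_le hle hcard (Set.toFinite _)]
        exact h
      obtain ⟨y, hy⟩ := hmem
      change y ^ 2 + y = b / a ^ 2 at hy
      refine one_ne_zero (hab (a * y) 1 ?_).2
      rw [eq_div_iff (pow_ne_zero 2 ha)] at hy
      linear_combination hy + b * h20
    · rw [hU, sub_eq_zero.1 h, mul_one]

end Cfsg.Lib.Linear.AutPO
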