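import Cfsg.Agent.Lib.Linear.AutPO.PlusSplit
import Cfsg.Agent.Lib.Chev.D4Equiv
import Cfsg.Agent.Lib.Chev.AutTypes

/-!
# The automorphisms of `PΩ₈⁺` seen on the Chevalley group of type `D₄`
-/

set_option autoImplicit false
set_option linter.unusedSectionVars false
set_option maxRecDepth 100000

namespace Cfsg.Lib.Linear.AutPO

open Cfsg.Lie Cfsg.Lib.Linear.Orth
open Cfsg.Lib.Chev hiding isFieldAut_iff
open Cfsg.Lib.Chev.D4Orth (I8 cd ent d4L mM)
open scoped Matrix

set_option quotPrecheck false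

/-- Transport of automorphisms along an isomorphism. -/
def trf {G H : Type*} [Group G] [Group H] (e : G ≃* H) : MulAut G ≃* MulAut H where
  toFun θ := e.symm.trans (θ.trans e)
  invFun φ := e.trans (φ.trans e.symm)
  left_inv θ := MulEquiv.ext fun x => by simp
  right_inv φ := MulEquiv.ext fun x => by simp
  map_mul' θ θ' := MulEquiv.ext fun x => by simp

theorem trf_conj {G H : Type*} [Group G] [Group H] (e : G ≃* H) (x : G) : trf e (MulAut.conj x) = MulAut.conj (e x) :=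
  MulEquiv.ext fun y => by simp [trf]

theorem trf_inn {G H : Type*} [Group G] [Group H] (e : G ≃* H) :
    (Cfsg.Inn G).map (trf e).toMonoidHom = Cfsg.Inn H := by
  ext φ
  constructor
  · rintro ⟨_, ⟨x, rfl⟩, rfl⟩
    exact ⟨e x, (trf_conj e x).symm⟩
  · rintro ⟨y, rfl⟩
    exact ⟨_, ⟨e.symm y, rfl⟩, (trf_conj e _).trans (by rw [e.apply_symm_apply])⟩

variable {F : Type*} [Field F] [Fintype F]

local notation "Q₈" => Cfsg.quadFormPlus 4 F
local notation "GS" => ↥(Cfsg.Geo.quadSimilarityGroup (F := F) Q₈)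
local notation "P" => Cfsg.POmega F Q₈
local notation "CD" => (fullCertD4.comm.cert)

/-- The image of a root element. -/
def RootEquiv (e : ↥(chevD4.group F) ≃* Cfsg.POmega F (Cfsg.quadFormPlus 4 F)) : Prop :=
  ∀ (r : Fin 24) (t : F), ∃ s : ↥(Cfsg.Omega F Q₈), (((s : ↥(isometryGroup F Q₈)) : GL I8 F) : Matrix I8 I8 F) =
    1 + t • mM F (d4L r) ∧ e (autEl CD r t) = QuotientGroup.mk s

omit [Fintype F] in
/-- The isomorphism sends root elements to the matrices of the representation. -/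
theorem exists_rootEquiv : ∃ e : ↥(chevD4.group F) ≃* Cfsg.POmega F (Cfsg.quadFormPlus 4 F), RootEquiv e := by
  let C := fullCertD4.comm.cert
  let π := (stHom C fullCertD4.comm (F := F))
  have hπ : ∀ r < chevD4.nroots, ∀ t, π (chevD4.stGen F r t) = xg C r t := fun r hr t =>
    stHom_gen C fullCertD4.comm hr t
  let π' : chevD4.SteinbergGroup F →* ↥(chevD4.group F) :=
    π.codRestrict _ fun g => (stHom_range C fullCertD4 π hπ).le ⟨g, rfl⟩
  have hsurj : Function.Surjective π' := fun y => by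
    obtain ⟨g, hg⟩ := (stHom_range C fullCertD4 π hπ).ge y.2
    exact ⟨g, Subtype.ext hg⟩
  let ρ : chevD4.SteinbergGroup F →* ↥(isometryGroup F Q₈) :=
    (MatRep.repHom D4Orth.repOK_D4).codRestrict _ fun g => D4Orth.rootGrp_le ⟨g, rfl⟩
  let σ : chevD4.SteinbergGroup F →* ↥(Cfsg.Omega F Q₈) := ρ.codRestrict _ fun g => by
    rw [D4Orth.omega_eq]; exact ⟨g, rfl⟩
  have hσ : Function.Surjective σ := fun y => by
    have hy : ((y : ↥(isometryGroup F Q₈)) : GL I8 F) ∈ D4Orth.rootGrp F := by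
      have h := y.2
      simp only [D4Orth.omega_eq] at h
      exact h
    obtain ⟨g, hg⟩ := hy
    exact ⟨g, Subtype.ext (Subtype.ext hg)⟩
  let ψ := (QuotientGroup.mk' (Subgroup.center ↥(Cfsg.Omega F Q₈))).comp σ
  have hψ : Function.Surjective ψ := (QuotientGroup.mk'_surjective _).comp hσ
  have hker : π'.ker ≤ ψ.ker := fun g hg => by
    have hg' : π g = 1 := congrArg Subtype.val hg
    exact (QuotientGroup.eq_one_iff _).2
      (D4Orth.map_center_le' _ hσ (st_ker_le C fullCertD4 (by decide +kernel) π hπ hg').2)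
  let f := π'.liftOfSurjective hsurj ⟨ψ, hker⟩
  have hf : Function.Surjective f := fun y => by
    obtain ⟨g, rfl⟩ := hψ y
    exact ⟨π' g, MonoidHom.liftOfRightInverse_comp_apply _ _ _ _ g⟩
  have hsimple := (Cfsg.Agent.S1054.result (F := F) chevD4 (by simp)).1
  have hinj : Function.Injective f := by
    rcases (hsimple.eq_bot_or_eq_top_of_normal f.ker inferInstance) with hb | ht
    · exact (MonoidHom.ker_eq_bot_iff f).1 hb
    · exfalso
      obtain ⟨e₀⟩ := D4Orth.nonempty_equiv (F := F)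
      have hall : ∀ y : Cfsg.POmega F Q₈, y = 1 := fun y => by
        obtain ⟨x, rfl⟩ := hf y
        exact MonoidHom.mem_ker.1 (by rw [ht]; exact Subgroup.mem_top x)
      obtain ⟨x, hx⟩ := exists_ne (1 : ↥(chevD4.group F))
      exact hx (e₀.injective ((hall _).trans (hall _).symm))
  refine ⟨MulEquiv.ofBijective f ⟨hinj, hf⟩, fun r t => ⟨σ (chevD4.stGen F r t), D4Orth.coe_gen r t, ?_⟩⟩
  have : π' (chevD4.stGen F r t) = autEl C r t := Subtype.ext (hπ r r.2 t)
  show f (autEl C r t) = _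
  rw [← this, MonoidHom.liftOfRightInverse_comp_apply]
  rfl

omit [Fintype F] in
theorem d4_simp : ∀ i : Fin 4, (tblD4.simp' i = ![18, 14, 13, 12] i) ∧ (tblD4.neg (tblD4.simp' i) = ![5, 9, 10, 11] i) := by
  decide +kernel

variable {e : ↥(chevD4.group F) ≃* Cfsg.POmega F (Cfsg.quadFormPlus 4 F)} (he : RootEquiv e)

include he

/-- A semisimilarity acting on the fundamental root elements transports to the matching automorphism. -/
theorem trf_eq {θ : MulAut ↥(chevD4.group F)} {w w' : Fin 4 → F → F}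
    (hθ : RootAct CD θ id w w') {g : GL I8 F} {τ : F ≃+* F}
    (h : Cfsg.IsSemisimilarityPair Q₈ g τ)
    (hw : ∀ (i : Fin 4) (t : F), g.val * (1 + τ t • mM F (d4L (![18, 14, 13, 12] i))) =
      (1 + w i t • mM F (d4L (![18, 14, 13, 12] i))) * g.val)
    (hw' : ∀ (i : Fin 4) (t : F), g.val * (1 + τ t • mM F (d4L (![5, 9, 10, 11] i))) =
      (1 + w' i t • mM F (d4L (![5, 9, 10, 11] i))) * g.val) :
    trf e θ = semiAut h := by
  have key : ∀ (r : Fin 24) (t u : F), g.val * (1 + τ t • mM F (d4L r)) = (1 + u • mM F (d4L r)) * g.val →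
      (trf e).symm (semiAut h) (autEl CD r t) = autEl CD r u := by
    intro r t u hu
    obtain ⟨s, hs, hse⟩ := he r t
    obtain ⟨s', hs', hse'⟩ := he r u
    show e.symm (semiAut h (e (autEl CD r t))) = _
    rw [hse, semiAut_mk, MulEquiv.symm_apply_eq, hse']
    refine congrArg _ (Subtype.ext (Subtype.ext (Units.ext ?_)))
    rw [semiOmega_coe h s, semiGL_val, hs, hs']
    have hmap : (1 + t • mM F (d4L r)).map τ = 1 + τ t • mM F (d4L r) := by
      ext x y
      simp only [Matrix.map_apply, Matrix.add_apply, Matrix.smul_apply, smul_eq_mul, map_add, map_mul,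
        Matrix.one_apply, apply_ite τ, map_one, map_zero]
      congr 2
      exact map_intCast τ _
    rw [hmap, hu, mul_assoc, Units.mul_inv, mul_one]
  rw [← (trf e).apply_symm_apply (semiAut h)]
  refine congrArg _ (hθ.unique CD ⟨fun i t => ?_, fun i t => ?_⟩)
  · rw [id_eq, (d4_simp i).1]
    fin_cases i
    · exact key 18 t _ (hw 0 t)
    · exact key 14 t _ (hw 1 t)
    · exact key 13 t _ (hw 2 t)
    · exact key 12 t _ (hw 3 t)
  · rw [id_eq, (d4_simp i).2]
    fin_cases i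
    · exact key 5 t _ (hw' 0 t)
    · exact key 9 t _ (hw' 1 t)
    · exact key 10 t _ (hw' 2 t)
    · exact key 11 t _ (hw' 3 t)

local notation "hQ" => (stdForm_plus : StdForm (Cfsg.quadFormPlus 4 F))

/-- The field automorphisms correspond. -/
theorem trf_fieldOf (τ : F ≃+* F) : trf e (fieldOf CD τ) = fld hQ τ := by
  rw [fld_eq]
  refine trf_eq he (fieldOf_act CD autDataD4 τ) (isSemi_fld hQ τ) (fun i t => ?_) fun i t => ?_ <;>
    rw [Units.val_one, one_mul, mul_one]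

omit he

/-- Conjugating a root element by a diagonal matrix. -/
theorem diag_root {g : GL I8 F} {d : I8 → F} (hg : g.val = Matrix.diagonal d) {l : List (ℕ × ℕ × ℤ)} {t u : F}
    (hl : ∀ x y : I8, ent l (cd x) (cd y) ≠ 0 → d x * t = u * d y) :
    g.val * (1 + t • mM F l) = (1 + u • mM F l) * g.val := by
  rw [hg, mul_add, add_mul, mul_one, one_mul]
  refine congrArg _ ?_
  ext x y
  simp only [Matrix.diagonal_mul, Matrix.mul_diagonal, Matrix.smul_apply, smul_eq_mul]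
  show d x * (t * ((ent l (cd x) (cd y) : ℤ) : F)) = u * ((ent l (cd x) (cd y) : ℤ) : F) * d y
  by_cases h0 : ent l (cd x) (cd y) = 0
  · simp [h0]
  · rw [← mul_assoc, hl x y h0]; ring

set_option synthInstance.maxSize 2048 in
set_option synthInstance.maxHeartbeats 400000 in
theorem d4_supp : ∀ x y : I8,
    (ent (d4L 18) (cd x) (cd y) ≠ 0 → (x = .inl 0 ∧ y = .inl 1) ∨ (x = .inr 1 ∧ y = .inr 0)) ∧
    (ent (d4L 14) (cd x) (cd y) ≠ 0 → (x = .inl 1 ∧ y = .inl 2) ∨ (x = .inr 2 ∧ y = .inr 1)) ∧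
    (ent (d4L 13) (cd x) (cd y) ≠ 0 → (x = .inl 2 ∧ y = .inl 3) ∨ (x = .inr 3 ∧ y = .inr 2)) ∧
    (ent (d4L 12) (cd x) (cd y) ≠ 0 → (x = .inl 2 ∧ y = .inr 3) ∨ (x = .inl 3 ∧ y = .inr 2)) ∧
    (ent (d4L 5) (cd x) (cd y) ≠ 0 → (x = .inl 1 ∧ y = .inl 0) ∨ (x = .inr 0 ∧ y = .inr 1)) ∧
    (ent (d4L 9) (cd x) (cd y) ≠ 0 → (x = .inl 2 ∧ y = .inl 1) ∨ (x = .inr 1 ∧ y = .inr 2)) ∧
    (ent (d4L 10) (cd x) (cd y) ≠ 0 → (x = .inl 3 ∧ y = .inl 2) ∨ (x = .inr 2 ∧ y = .inr 3)) ∧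
    (ent (d4L 11) (cd x) (cd y) ≠ 0 → (x = .inr 3 ∧ y = .inl 2) ∨ (x = .inr 2 ∧ y = .inl 3)) := by
  decide +kernel

/-- The diagonal similitude with coordinates `t`, multiplier `c`. -/
theorem exists_diagSim (t : Fin 4 → Fˣ) (c : Fˣ) :
    ∃ A : GS, A.1.val = Matrix.diagonal (Sum.elim (fun k => (t k : F)) fun k => (c : F) * ((t k)⁻¹ : Fˣ)) ∧
      (∀ v, Q₈ (A.1.val *ᵥ v) = c * Q₈ v) ∧ A.1.val.det = (c : F) ^ 4 := by
  let f : I8 → Fˣ := Sum.elim t fun k => c * (t k)⁻¹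
  let g : GL I8 F :=
    { val := Matrix.diagonal fun x => (f x : F)
      inv := Matrix.diagonal fun x => ((f x)⁻¹ : Fˣ)
      val_inv := by simp
      inv_val := by simp }
  have hval : g.val = Matrix.diagonal (Sum.elim (fun k => (t k : F)) fun k => (c : F) * ((t k)⁻¹ : Fˣ)) := by
    show Matrix.diagonal (fun x => (f x : F)) = _
    congr 1
    funext x
    rcases x with k | k <;> simp [f]
  have hm : ∀ v, Q₈ (g.val *ᵥ v) = c * Q₈ v := fun v => by
    rw [hval, Cfsg.quadFormPlus, Cfsg.quadFormPlus, Finset.mul_sum]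
    refine Finset.sum_congr rfl fun k _ => ?_
    rw [Matrix.mulVec_diagonal, Matrix.mulVec_diagonal, Sum.elim_inl, Sum.elim_inr, Units.val_inv_eq_inv_val]
    field_simp
  refine ⟨⟨g, c, hm⟩, hval, hm, ?_⟩
  rw [hval, Matrix.det_diagonal, Fintype.prod_sum_type]
  simp only [Sum.elim_inl, Sum.elim_inr, Units.val_inv_eq_inv_val]
  rw [← Finset.prod_mul_distrib, Finset.prod_congr rfl (fun k _ => show (t k : F) * (c * (t k : F)⁻¹) = c by
    field_simp), Finset.prod_const]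
  rfl

include he

/-- The automorphism of a diagonal similitude. -/
theorem trf_diagOf (t : Fin 4 → Fˣ) (c : Fˣ) {A : GS}
    (hA : A.1.val = Matrix.diagonal (Sum.elim (fun k => (t k : F)) fun k => (c : F) * ((t k)⁻¹ : Fˣ))) :
    trf e (diagOf CD autDataD4 ![t 0 / t 1, t 1 / t 2, t 2 / t 3, t 2 * t 3 / c]) = innd A := by
  rw [innd_eq]
  refine trf_eq he (diagOf_act CD autDataD4 _) (isSemi_sim A) (fun i s => diag_root hA fun x y h => ?_)
    fun i s => diag_root hA fun x y h => ?_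
  all_goals
    obtain ⟨h1, h2, h3, h4, h5, h6, h7, h8⟩ := d4_supp x y
    fin_cases i <;> simp only [RingEquiv.refl_apply]
  · rcases h1 h with ⟨rfl, rfl⟩ | ⟨rfl, rfl⟩ <;> simp <;> field_simp
  · rcases h2 h with ⟨rfl, rfl⟩ | ⟨rfl, rfl⟩ <;> simp <;> field_simp
  · rcases h3 h with ⟨rfl, rfl⟩ | ⟨rfl, rfl⟩ <;> simp <;> field_simp
  · rcases h4 h with ⟨rfl, rfl⟩ | ⟨rfl, rfl⟩ <;> simp <;> field_simp
  · rcases h5 h with ⟨rfl, rfl⟩ | ⟨rfl, rfl⟩ <;> simp <;> field_simp
  · rcases h6 h with ⟨rfl, rfl⟩ | ⟨rfl, rfl⟩ <;> simp <;> field_simp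
  · rcases h7 h with ⟨rfl, rfl⟩ | ⟨rfl, rfl⟩ <;> simp <;> field_simp
  · rcases h8 h with ⟨rfl, rfl⟩ | ⟨rfl, rfl⟩ <;> simp <;> field_simp

/-- Every diagonal automorphism comes from a diagonal similitude. -/
theorem exists_diagOf (v : Fin 4 → Fˣ) : ∃ (t : Fin 4 → Fˣ) (c : Fˣ) (A : GS),
    A.1.val = Matrix.diagonal (Sum.elim (fun k => (t k : F)) fun k => (c : F) * ((t k)⁻¹ : Fˣ)) ∧
      (∀ x, Q₈ (A.1.val *ᵥ x) = c * Q₈ x) ∧ A.1.val.det = (c : F) ^ 4 ∧ trf e (diagOf CD autDataD4 v) = innd A := by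
  obtain ⟨A, hA, hAm, hAd⟩ := exists_diagSim (F := F) ![v 0 * v 1 * v 2, v 1 * v 2, v 2, 1] (v 2 / v 3)
  refine ⟨_, _, A, hA, hAm, hAd, ?_⟩
  rw [← trf_diagOf he _ _ hA]
  congr 2
  funext i
  fin_cases i <;> simp [div_eq_mul_inv, mul_comm, mul_left_comm, mul_assoc]

end Cfsg.Lib.Linear.AutPO
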