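import Cfsg.Agent.Lib.Linear.OrthBasic
import Cfsg.Agent.Lib.Linear.AutPSL.Basic

/-!
# The automorphism of `PΩ(Q)` induced by a semisimilarity
-/

set_option autoImplicit false

namespace Cfsg.Lib.Linear.AutPO

open Cfsg.Lib.Linear.Orth
open scoped Matrix

variable {ι : Type} [Fintype ι] [DecidableEq ι] {F : Type*} [Field F] {Q : (ι → F) → F}

/-- `x ↦ g σ(x) g⁻¹`. -/
def semiGL (g : GL ι F) (σ : F ≃+* F) : MulAut (GL ι F) :=
  (Units.mapEquiv σ.mapMatrix.toMulEquiv).trans (MulAut.conj g)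

theorem semiGL_val (g : GL ι F) (σ : F ≃+* F) (x : GL ι F) :
    (semiGL g σ x).val = g.val * x.val.map σ * (g⁻¹ : GL ι F).val := rfl

theorem semiGL_act (g : GL ι F) (σ : F ≃+* F) (x : GL ι F) (v : ι → F) :
    (semiGL g σ x).val *ᵥ (g.val *ᵥ (σ ∘ v)) = g.val *ᵥ (σ ∘ (x.val *ᵥ v)) := by
  rw [semiGL_val, ← Matrix.mulVec_mulVec, ← Matrix.mulVec_mulVec, inv_act]
  congr 1
  funext i
  simp [Matrix.mulVec, dotProduct, map_sum]

theorem semiGL_one : semiGL (1 : GL ι F) (RingEquiv.refl F) = 1 := by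
  refine MulEquiv.ext fun x => Units.ext (mat_ext fun v => ?_)
  have h := semiGL_act (1 : GL ι F) (RingEquiv.refl F) x v
  simpa using h

theorem semi_surj (σ : F ≃+* F) (g : GL ι F) (w : ι → F) : ∃ v, w = g.val *ᵥ (σ ∘ v) :=
  ⟨σ.symm ∘ ((g⁻¹ : GL ι F).val *ᵥ w), by
    rw [show σ ∘ σ.symm ∘ ((g⁻¹ : GL ι F).val *ᵥ w) = (g⁻¹ : GL ι F).val *ᵥ w from
      funext fun i => σ.apply_symm_apply _, act_inv]⟩

theorem map_act (σ : F ≃+* F) (h : GL ι F) (v : ι → F) :
    (Units.mapEquiv σ.mapMatrix.toMulEquiv h).val *ᵥ (σ ∘ v) = σ ∘ (h.val *ᵥ v) := by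
  funext i
  simp [Matrix.mulVec, dotProduct, map_sum]

theorem semiGL_mul (g h : GL ι F) (σ τ : F ≃+* F) :
    semiGL g σ * semiGL h τ = semiGL (g * Units.mapEquiv σ.mapMatrix.toMulEquiv h) (τ.trans σ) := by
  refine MulEquiv.ext fun x => gl_ext fun w => ?_
  obtain ⟨v, rfl⟩ := semi_surj (τ.trans σ) (g * Units.mapEquiv σ.mapMatrix.toMulEquiv h) w
  have hv : ∀ u : ι → F, (g * Units.mapEquiv σ.mapMatrix.toMulEquiv h).val *ᵥ ((τ.trans σ) ∘ u) =
      g.val *ᵥ (σ ∘ (h.val *ᵥ (τ ∘ u))) := fun u => by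
    rw [mul_act, show ((τ.trans σ) ∘ u : ι → F) = σ ∘ (τ ∘ u) from rfl, map_act]
  rw [MulAut.mul_apply, semiGL_act, hv, hv, semiGL_act, semiGL_act]

theorem semiGL_mem {g : GL ι F} {σ : F ≃+* F} (h : Cfsg.IsSemisimilarityPair Q g σ) {x : GL ι F}
    (hx : x ∈ isometryGroup F Q) : semiGL g σ x ∈ isometryGroup F Q := by
  obtain ⟨c, hc⟩ := h
  refine mem_iso.mpr fun w => ?_
  obtain ⟨v, rfl⟩ := semi_surj σ g w
  rw [semiGL_act]
  exact (hc _).trans ((congrArg (fun a => (c : F) * σ a) (mem_iso.mp hx v)).trans (hc v).symm)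

variable [Finite F]

/-- On the isometry group, as a homomorphism. -/
def semiIsoHom {g : GL ι F} {σ : F ≃+* F} (h : Cfsg.IsSemisimilarityPair Q g σ) :
    ↥(isometryGroup F Q) →* ↥(isometryGroup F Q) where
  toFun x := ⟨semiGL g σ (x : GL ι F), semiGL_mem h x.property⟩
  map_one' := Subtype.ext (map_one (semiGL g σ))
  map_mul' x y := Subtype.ext (map_mul (semiGL g σ) (x : GL ι F) (y : GL ι F))

omit [Finite F] in
theorem semiIsoHom_injective {g : GL ι F} {σ : F ≃+* F} (h : Cfsg.IsSemisimilarityPair Q g σ) :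
    Function.Injective (semiIsoHom h) := fun x y e => by
  have e' : semiGL g σ (x : GL ι F) = semiGL g σ (y : GL ι F) := congrArg Subtype.val e
  exact Subtype.ext ((semiGL g σ).injective e')

/-- On the isometry group. -/
noncomputable def semiIso {g : GL ι F} {σ : F ≃+* F} (h : Cfsg.IsSemisimilarityPair Q g σ) :
    MulAut ↥(isometryGroup F Q) :=
  MulEquiv.ofBijective (semiIsoHom h) (Finite.injective_iff_bijective.1 (semiIsoHom_injective h))

theorem semiIso_coe {g : GL ι F} {σ : F ≃+* F} (h : Cfsg.IsSemisimilarityPair Q g σ)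
    (x : ↥(isometryGroup F Q)) : (semiIso h x : GL ι F) = semiGL g σ x := rfl

theorem semiIso_mem_omega {g : GL ι F} {σ : F ≃+* F} (h : Cfsg.IsSemisimilarityPair Q g σ)
    {x : ↥(isometryGroup F Q)} (hx : x ∈ Cfsg.Omega F Q) : semiIso h x ∈ Cfsg.Omega F Q := by
  have := Subgroup.mem_map_of_mem (semiIso h).toMonoidHom hx
  unfold Cfsg.Omega at this ⊢
  rw [commutator_def, Subgroup.map_commutator,
    Subgroup.map_top_of_surjective (semiIso h).toMonoidHom (semiIso h).surjective] at this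
  exact this

/-- On `Ω`, as a homomorphism. -/
noncomputable def semiOmegaHom {g : GL ι F} {σ : F ≃+* F} (h : Cfsg.IsSemisimilarityPair Q g σ) :
    ↥(Cfsg.Omega F Q) →* ↥(Cfsg.Omega F Q) where
  toFun x := ⟨semiIso h (x : ↥(isometryGroup F Q)), semiIso_mem_omega h x.property⟩
  map_one' := Subtype.ext (map_one (semiIso h))
  map_mul' x y := Subtype.ext (map_mul (semiIso h) (x : ↥(isometryGroup F Q)) (y : ↥(isometryGroup F Q)))

theorem semiOmegaHom_injective {g : GL ι F} {σ : F ≃+* F} (h : Cfsg.IsSemisimilarityPair Q g σ) :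
    Function.Injective (semiOmegaHom h) := fun x y e => by
  have e' : semiIso h (x : ↥(isometryGroup F Q)) = semiIso h (y : ↥(isometryGroup F Q)) := congrArg Subtype.val e
  exact Subtype.ext ((semiIso h).injective e')

/-- On `Ω`. -/
noncomputable def semiOmega {g : GL ι F} {σ : F ≃+* F} (h : Cfsg.IsSemisimilarityPair Q g σ) :
    MulAut ↥(Cfsg.Omega F Q) :=
  MulEquiv.ofBijective (semiOmegaHom h) (Finite.injective_iff_bijective.1 (semiOmegaHom_injective h))

theorem semiOmega_coe {g : GL ι F} {σ : F ≃+* F} (h : Cfsg.IsSemisimilarityPair Q g σ)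
    (x : ↥(Cfsg.Omega F Q)) :
    ((semiOmega h x : ↥(isometryGroup F Q)) : GL ι F) = semiGL g σ (x : ↥(isometryGroup F Q)) := rfl

/-- On `PΩ`. -/
noncomputable def semiAut {g : GL ι F} {σ : F ≃+* F} (h : Cfsg.IsSemisimilarityPair Q g σ) :
    MulAut (Cfsg.POmega F Q) :=
  QuotientGroup.congr _ _ (semiOmega h) (Cfsg.Lib.Linear.AutPSL.map_center _)

theorem semiAut_mk {g : GL ι F} {σ : F ≃+* F} (h : Cfsg.IsSemisimilarityPair Q g σ)
    (x : ↥(Cfsg.Omega F Q)) : semiAut h (QuotientGroup.mk x) = QuotientGroup.mk (semiOmega h x) := rfl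

theorem semiAut_isInduced {g : GL ι F} {σ : F ≃+* F} (h : Cfsg.IsSemisimilarityPair Q g σ) :
    Cfsg.IsInducedBySemilinearPOmega Q g σ (semiAut h) := fun s s' e => by
  rw [semiAut_mk]
  exact congrArg _ (Subtype.ext (Subtype.ext (Units.ext e.symm)))

/-- An induced automorphism is `semiAut`. -/
theorem eq_semiAut {g : GL ι F} {σ : F ≃+* F} (h : Cfsg.IsSemisimilarityPair Q g σ)
    {β : MulAut (Cfsg.POmega F Q)} (hβ : Cfsg.IsInducedBySemilinearPOmega Q g σ β) : β = semiAut h := by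
  refine MulEquiv.ext fun x => ?_
  obtain ⟨s, rfl⟩ := QuotientGroup.mk_surjective x
  rw [semiAut_mk]
  exact hβ s _ rfl

end Cfsg.Lib.Linear.AutPO
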