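import Cfsg.Agent.Lib.Linear.AutPO.Classes
import Cfsg.Agent.Lib.Linear.AutPO.Semi

/-!
# Every automorphism of `PΩ(Q)` is induced by a semisimilarity

The dimension is at least seven, and at least nine unless there is no singular subspace of dimension four.
-/

set_option autoImplicit false

namespace Cfsg.Lib.Linear.AutPO

open Module
open Cfsg.Lib.Linear.Orth
open scoped Matrix

variable {ι : Type} [Fintype ι] [DecidableEq ι] {F : Type*} [Field F] [Finite F]
  {Q : (ι → F) → F} {B : LinearMap.BilinForm F (ι → F)}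

local notation "SL" => {L : Submodule F (ι → F) // IsSLine Q L}

section

variable (C : Space Q B) (h7 : 7 ≤ Fintype.card ι) (p : ℕ) [Fact p.Prime] [CharP F p]

include C h7 p

/-- A root element on a line. -/
theorem exists_om_root (L : SL) : ∃ x : ↥(Cfsg.Omega F Q), IsRootEl Q B (om Q x) ∧ rl (om Q x) = L.1 := by
  obtain ⟨g, hg, hl⟩ := exists_root C L.2
  obtain ⟨x, rfl⟩ := exists_om C h7 (hg.mem C)
  exact ⟨x, hg, hl⟩

theorem root_pow {x : ↥(Cfsg.Omega F Q)} (hx : IsRootEl Q B (om Q x)) : x ^ p = 1 :=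
  om_injective (by rw [map_pow, hx.pow_char C p, map_one])

theorem image_unique {a : Cfsg.POmega F Q} {y y' : ↥(Cfsg.Omega F Q)} (hy : IsRootEl Q B (om Q y))
    (hy' : IsRootEl Q B (om Q y')) (h : a = QuotientGroup.mk y) (h' : a = QuotientGroup.mk y') : y = y' :=
  mk_inj_of_pow C h7 p (root_pow C h7 p hy) (root_pow C h7 p hy') (h.symm.trans h')

/-- An automorphism respects the equality of lines. -/
theorem line_map (γ : MulAut (Cfsg.POmega F Q)) {x x' y y' : ↥(Cfsg.Omega F Q)}
    (hx : IsRootEl Q B (om Q x)) (hx' : IsRootEl Q B (om Q x'))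
    (hy : IsRootEl Q B (om Q y)) (hy' : IsRootEl Q B (om Q y'))
    (e : γ (QuotientGroup.mk x) = QuotientGroup.mk y) (e' : γ (QuotientGroup.mk x') = QuotientGroup.mk y')
    (h : rl (om Q x) = rl (om Q x')) : rl (om Q y) = rl (om Q y') := by
  rw [rl_eq_iff C h7 hy hy']
  intro z hz
  obtain ⟨z, rfl⟩ := exists_om C h7 (hz.mem C)
  obtain ⟨u, hu, hue⟩ := exists_image C h7 p γ⁻¹ hz
  have hue' : (QuotientGroup.mk z : Cfsg.POmega F Q) = γ (QuotientGroup.mk u) := by
    rw [← hue, MulAut.inv_def, MulEquiv.apply_symm_apply]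
  have key : ∀ w w', IsRootEl Q B (om Q w) → IsRootEl Q B (om Q w') →
      γ (QuotientGroup.mk w) = QuotientGroup.mk w' →
      (Commute (om Q z) (om Q w') ↔ Commute (om Q u) (om Q w)) := by
    intro w w' hw hw' hww
    rw [← commute_mk_iff C h7 p hz hw', ← commute_mk_iff C h7 p hu hw, hue', ← hww]
    exact ⟨fun h => by simpa using h.map γ.symm, fun h => h.map γ⟩
  rw [key x y hx hy e, key x' y' hx' hy' e']
  exact (rl_eq_iff C h7 hx hx').1 h (om Q u) hu

variable (β : MulAut (Cfsg.POmega F Q))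

/-- The image of a line. -/
noncomputable def lineMap (L : SL) : SL :=
  ⟨rl (om Q (Classical.choose (exists_image C h7 p β (Classical.choose_spec (exists_om_root C h7 p L)).1))),
    ((Classical.choose_spec
      (exists_image C h7 p β (Classical.choose_spec (exists_om_root C h7 p L)).1)).1).isSLine C⟩

theorem lineMap_spec {x y : ↥(Cfsg.Omega F Q)} (hx : IsRootEl Q B (om Q x)) (hy : IsRootEl Q B (om Q y))
    (e : β (QuotientGroup.mk x) = QuotientGroup.mk y) :
    (lineMap C h7 p β ⟨rl (om Q x), hx.isSLine C⟩).1 = rl (om Q y) := by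
  obtain ⟨hx', hl⟩ := Classical.choose_spec (exists_om_root C h7 p ⟨rl (om Q x), hx.isSLine C⟩)
  obtain ⟨hy', he⟩ := Classical.choose_spec (exists_image C h7 p β hx')
  exact line_map C h7 p β hx' hx hy' hy he e hl

theorem lineMap_inv (L : SL) : lineMap C h7 p β⁻¹ (lineMap C h7 p β L) = L := by
  obtain ⟨x, hx, hl⟩ := exists_om_root C h7 p L
  obtain ⟨y, hy, e⟩ := exists_image C h7 p β hx
  obtain rfl : L = ⟨rl (om Q x), hx.isSLine C⟩ := Subtype.ext hl.symm
  have h1 : lineMap C h7 p β ⟨rl (om Q x), hx.isSLine C⟩ = ⟨rl (om Q y), hy.isSLine C⟩ :=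
    Subtype.ext (lineMap_spec C h7 p β hx hy e)
  rw [h1]
  exact Subtype.ext (lineMap_spec C h7 p β⁻¹ hy hx (by rw [← e, MulAut.inv_def, MulEquiv.symm_apply_apply]))

/-- The permutation of the lines. -/
noncomputable def linePerm : SL ≃ SL :=
  ⟨lineMap C h7 p β, lineMap C h7 p β⁻¹, lineMap_inv C h7 p β, fun L => by
    have := lineMap_inv C h7 p β⁻¹ L
    rwa [inv_inv] at this⟩

theorem linePerm_linePerm : LinePerm Q B (linePerm C h7 p β) := by
  have hstep : ∀ (L M : SL), ∃ x y x' y', IsRootEl Q B (om Q x) ∧ IsRootEl Q B (om Q y) ∧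
      IsRootEl Q B (om Q x') ∧ IsRootEl Q B (om Q y') ∧ rl (om Q x) = L.1 ∧ rl (om Q y) = M.1 ∧
      β (QuotientGroup.mk x) = QuotientGroup.mk x' ∧ β (QuotientGroup.mk y) = QuotientGroup.mk y' ∧
      rl (om Q x') = (linePerm C h7 p β L).1 ∧ rl (om Q y') = (linePerm C h7 p β M).1 := by
    intro L M
    obtain ⟨x, hx, hl⟩ := exists_om_root C h7 p L
    obtain ⟨y, hy, hm⟩ := exists_om_root C h7 p M
    obtain ⟨x', hx', e⟩ := exists_image C h7 p β hx
    obtain ⟨y', hy', e'⟩ := exists_image C h7 p β hy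
    obtain rfl : L = ⟨rl (om Q x), hx.isSLine C⟩ := Subtype.ext hl.symm
    obtain rfl : M = ⟨rl (om Q y), hy.isSLine C⟩ := Subtype.ext hm.symm
    exact ⟨x, y, x', y', hx, hy, hx', hy', rfl, rfl, e, e', (lineMap_spec C h7 p β hx hx' e).symm,
      (lineMap_spec C h7 p β hy hy' e').symm⟩
  have hcomm : ∀ {x y x' y' : ↥(Cfsg.Omega F Q)}, IsRootEl Q B (om Q x) → IsRootEl Q B (om Q y) →
      IsRootEl Q B (om Q x') → IsRootEl Q B (om Q y') →
      β (QuotientGroup.mk x) = QuotientGroup.mk x' → β (QuotientGroup.mk y) = QuotientGroup.mk y' →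
      (Commute (om Q x') (om Q y') ↔ Commute (om Q x) (om Q y)) := by
    intro x y x' y' hx hy hx' hy' e e'
    rw [← commute_mk_iff C h7 p hx' hy', ← commute_mk_iff C h7 p hx hy, ← e, ← e']
    exact ⟨fun h => by simpa using h.map β.symm, fun h => h.map β⟩
  refine ⟨fun L M => ?_, fun L M => ?_⟩
  · obtain ⟨x, y, x', y', hx, hy, hx', hy', hl, hm, e, e', hl', hm'⟩ := hstep L M
    rw [← hl', ← hm', ← hl, ← hm, ← commute_iff C hx' hy', ← commute_iff C hx hy]
    exact hcomm hx hy hx' hy' e e'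
  · by_cases hne : L = M
    · subst hne
      exact iff_of_false (fun h => h.1 rfl) (fun h => h.1 rfl)
    obtain ⟨x, y, x', y', hx, hy, hx', hy', hl, hm, e, e', hl', hm'⟩ := hstep L M
    have hne1 : rl (om Q x) ≠ rl (om Q y) := by rw [hl, hm]; exact fun h => hne (Subtype.ext h)
    have hne2 : rl (om Q x') ≠ rl (om Q y') := by
      rw [hl', hm']; exact fun h => hne ((linePerm C h7 p β).injective (Subtype.ext h))
    rw [← hl', ← hm', ← hl, ← hm]
    have hc := hcomm hx hy hx' hy' e e'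
    constructor
    · intro hA
      have hcm' : Commute (om Q x') (om Q y') := commute_of_com C hx' hy' (Or.inl hA.2.1)
      have hr := (mul_isRoot_iff C hx' hy' hcm' hne2).2 hA
      rw [← map_mul] at hr
      obtain ⟨z, hz, hze⟩ := exists_image C h7 p β⁻¹ hr
      have hxy : (x * y) ^ p = 1 := by
        have h : Commute x y := om_injective (by rw [map_mul, map_mul]; exact (hc.1 hcm').eq)
        rw [h.mul_pow, root_pow C h7 p hx, root_pow C h7 p hy, one_mul]
      have hzxy : z = x * y := mk_inj_of_pow C h7 p (root_pow C h7 p hz) hxy (by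
        rw [← hze, MulAut.inv_def, MulEquiv.symm_apply_eq, QuotientGroup.mk_mul, QuotientGroup.mk_mul,
          map_mul, e, e'])
      rw [hzxy, map_mul] at hz
      exact (mul_isRoot_iff C hx hy (hc.1 hcm') hne1).1 hz
    · intro hA
      have hcm : Commute (om Q x) (om Q y) := commute_of_com C hx hy (Or.inl hA.2.1)
      have hr := (mul_isRoot_iff C hx hy hcm hne1).2 hA
      rw [← map_mul] at hr
      obtain ⟨z, hz, hze⟩ := exists_image C h7 p β hr
      have hxy : (x' * y') ^ p = 1 := by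
        have h : Commute x' y' := om_injective (by rw [map_mul, map_mul]; exact (hc.2 hcm).eq)
        rw [h.mul_pow, root_pow C h7 p hx', root_pow C h7 p hy', one_mul]
      have hzxy : z = x' * y' := mk_inj_of_pow C h7 p (root_pow C h7 p hz) hxy (by
        rw [← hze, QuotientGroup.mk_mul, QuotientGroup.mk_mul, map_mul, e, e'])
      rw [hzxy, map_mul] at hz
      exact (mul_isRoot_iff C hx' hy' (hc.2 hcm) hne2).1 hz

/-- An automorphism fixing every line is trivial. -/
theorem eq_one_of_fixes (δ : MulAut (Cfsg.POmega F Q))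
    (h : ∀ x y : ↥(Cfsg.Omega F Q), IsRootEl Q B (om Q x) → IsRootEl Q B (om Q y) →
      δ (QuotientGroup.mk x) = QuotientGroup.mk y → rl (om Q y) = rl (om Q x)) : δ = 1 := by
  refine MulEquiv.ext fun a => ?_
  obtain ⟨s, rfl⟩ := QuotientGroup.mk_surjective a
  obtain ⟨s', hs'⟩ := QuotientGroup.mk_surjective (δ (QuotientGroup.mk s))
  rw [MulAut.one_apply, ← hs', QuotientGroup.eq]
  set g := om Q (s'⁻¹ * s) with hg
  have hline : ∀ L : Submodule F (ι → F), IsSLine Q L → ∀ v ∈ L, g.val *ᵥ v ∈ L := by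
    intro L hL
    obtain ⟨x, hx, hl⟩ := exists_om_root C h7 p ⟨L, hL⟩
    obtain ⟨t, ht, et⟩ := exists_image C h7 p δ hx
    have h1 := h x t hx ht et
    have hxs : IsRootEl Q B (om Q (s * x * s⁻¹)) := by
      rw [map_mul, map_mul, map_inv]; exact hx.conj C (om_mem s)
    have hts : IsRootEl Q B (om Q (s' * t * s'⁻¹)) := by
      rw [map_mul, map_mul, map_inv]; exact ht.conj C (om_mem s')
    have h2 := h _ _ hxs hts (by
      rw [QuotientGroup.mk_mul, QuotientGroup.mk_mul, QuotientGroup.mk_inv, map_mul, map_mul, map_inv,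
        ← hs', et, ← QuotientGroup.mk_inv, ← QuotientGroup.mk_mul, ← QuotientGroup.mk_mul])
    simp only [map_mul, map_inv, rl_conj, h1] at h2
    intro v hv
    dsimp only at hl
    rw [← hl] at hv
    have hmem : (om Q s).val *ᵥ v ∈ (rl (om Q x)).map (Matrix.mulVecLin (om Q s').val) := by
      rw [h2]; exact Submodule.mem_map_of_mem (f := Matrix.mulVecLin (om Q s).val) hv
    obtain ⟨w, hw, hwv⟩ := Submodule.mem_map.mp hmem
    rw [Matrix.mulVecLin_apply] at hwv
    rw [← hl, hg, map_mul, map_inv, mul_act, ← hwv, inv_act]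
    exact hw
  have hpts : ∀ e, Q e = 0 → g.val *ᵥ e ∈ Submodule.span F {e} := by
    intro e he
    rcases eq_or_ne e 0 with rfl | he0
    · simp
    obtain ⟨f, H⟩ := exists_hyp C C.ndeg_top (U := ⊤) trivial he0 he
    obtain ⟨a, b, G⟩ := exists_hyp' C (H.ndeg C C.ndeg_top) (by
      have := H.le_finrank C; rw [finrank_top, finrank_fintype_fun_eq_card] at this; omega)
    obtain ⟨-, hea, -⟩ := mem_perp2.mp G.memE
    obtain ⟨-, heb, -⟩ := mem_perp2.mp G.memF
    obtain ⟨N₁, hN₁, h1, ha⟩ := exists_common_line C h7 he0 he G.singE hea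
    obtain ⟨N₂, hN₂, h2, hb⟩ := exists_common_line C h7 he0 he G.singF heb
    have hne : N₁ ≠ N₂ := fun hN => by
      have := hN₁.perp_self C a ha b (hN ▸ hb)
      rw [G.pair] at this
      exact one_ne_zero this
    exact meet_unique hN₁ hN₂ hne he0 h1 h2 (hline _ hN₁ e h1) (hline _ hN₂ e h2)
  obtain ⟨c, hc⟩ := scalar_of_lines C h7 hpts
  refine Subgroup.mem_center_iff.2 fun z => om_injective ?_
  rw [map_mul (om Q) z, map_mul (om Q) _ z, ← hg]
  exact gl_ext fun v => by rw [mul_act, mul_act, hc, hc, Matrix.mulVec_smul]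

variable (hgood : 9 ≤ Fintype.card ι ∨ ∀ A : Submodule F (ι → F), (∀ v ∈ A, Q v = 0) → finrank F A ≤ 3)

include hgood

/-- **Every automorphism is induced by a semisimilarity.** -/
theorem exists_decomp : ∃ (g : GL ι F) (σ : F ≃+* F) (h : Cfsg.IsSemisimilarityPair Q g σ), β = semiAut h := by
  obtain ⟨φ, P, hφ⟩ := (linePerm_linePerm C h7 p β).exists_polarMap C h7 hgood
  obtain ⟨g, σ, k, hk, hQ, hgσ⟩ := exists_semisimilarity C h7 P
  have h : Cfsg.IsSemisimilarityPair Q g σ := ⟨Units.mk0 k hk, fun v => hQ v⟩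
  refine ⟨g, σ, h, ?_⟩
  have h1 : (semiAut h)⁻¹ * β = 1 := by
    refine eq_one_of_fixes C h7 p _ fun x t hx ht et => ?_
    obtain ⟨y, hy, ey⟩ := exists_image C h7 p β hx
    rw [MulAut.mul_apply, ey, MulAut.inv_def, MulEquiv.symm_apply_eq, semiAut_mk] at et
    have hyt : y = semiOmega h t := mk_inj_of_pow C h7 p (root_pow C h7 p hy)
      (by rw [← map_pow, root_pow C h7 p ht, map_one]) et
    have hL : (linePerm C h7 p β ⟨rl (om Q x), hx.isSLine C⟩).1 = rl (om Q y) := lineMap_spec C h7 p β hx hy ey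
    refine (Submodule.eq_of_le_of_finrank_le (fun v hv => ?_)
      (by rw [(hx.isSLine C).1, (ht.isSLine C).1])).symm
    rcases eq_or_ne v 0 with rfl | hv0
    · exact Submodule.zero_mem _
    have hQv := (hx.isSLine C).2 v hv
    have hm := (hφ v ⟨rl (om Q x), hx.isSLine C⟩ hv0 hQv).1 hv
    obtain ⟨c, hc, hcv⟩ := hgσ v hv0 hQv
    rw [hcv, Submodule.smul_mem_iff _ hc, hL, hyt] at hm
    obtain ⟨z, hz⟩ := mem_rl.mp hm
    obtain ⟨w, rfl⟩ := semi_surj σ g z
    change (semiGL g σ (om Q t)).val *ᵥ (g.val *ᵥ (σ ∘ w)) - _ = _ at hz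
    rw [semiGL_act, ← Matrix.mulVec_sub] at hz
    have hz' := act_injective g hz
    refine mem_rl.mpr ⟨w, funext fun i => σ.injective ?_⟩
    simpa using congrFun hz' i
  exact (inv_mul_eq_one.1 h1).symm

end

/-- The semisimilarities induce the whole automorphism group. -/
theorem gammaPOmega_eq_top (C : Space Q B) (h7 : 7 ≤ Fintype.card ι)
    (hgood : 9 ≤ Fintype.card ι ∨ ∀ A : Submodule F (ι → F), (∀ v ∈ A, Q v = 0) → finrank F A ≤ 3) :
    Cfsg.gammaPOmega F Q = ⊤ := by
  obtain ⟨p, hp⟩ := CharP.exists F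
  haveI : Fact p.Prime := ⟨(CharP.char_is_prime_or_zero F p).resolve_right (CharP.char_ne_zero_of_finite F p)⟩
  refine eq_top_iff.mpr fun β _ => Subgroup.subset_closure ?_
  obtain ⟨g, σ, h, rfl⟩ := exists_decomp C h7 p β hgood
  exact ⟨g, σ, h, semiAut_isInduced h⟩

end Cfsg.Lib.Linear.AutPO
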