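import Mathlib

/-!
# The shapes of the outer automorphism groups: `2 × 2f` and `D₈ × f`
-/

set_option autoImplicit false

namespace Cfsg.Lib.Linear.AutPO

/-- A group of order eight with a non-central involution is dihedral. -/
theorem iso_dihedral {D : Type*} [Group D] [Finite D] (hD : Nat.card D = 8) {s d : D} (hs2 : s * s = 1)
    (hsd : s * d ≠ d * s) : Nonempty (D ≃* DihedralGroup 4) := by
  classical
  obtain ⟨a, ha⟩ : ∃ a : D, orderOf a = 4 := by
    by_contra hno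
    push Not at hno
    have hsq : ∀ x : D, x * x = 1 := by
      intro x
      have h8 : orderOf x ∣ 2 ^ 3 := by rw [show (2 : ℕ) ^ 3 = 8 by norm_num, ← hD]; exact orderOf_dvd_natCard x
      obtain ⟨k, hk, e⟩ := (Nat.dvd_prime_pow Nat.prime_two).1 h8
      interval_cases k
      · rw [pow_zero, orderOf_eq_one_iff] at e; rw [e, one_mul]
      · rw [pow_one] at e; rw [← sq, ← e, pow_orderOf_eq_one]
      · exact absurd e (hno x)
      · exfalso
        haveI : IsCyclic D := isCyclic_of_orderOf_eq_card x (by rw [e, hD]; norm_num)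
        obtain ⟨g, hg⟩ := IsCyclic.exists_generator (α := D)
        obtain ⟨i, rfl⟩ := hg s
        obtain ⟨j, rfl⟩ := hg d
        exact hsd (by show g ^ i * g ^ j = g ^ j * g ^ i; rw [← zpow_add, ← zpow_add, add_comm])
    refine hsd ?_
    have hinv : ∀ x : D, x⁻¹ = x := fun x => inv_eq_of_mul_eq_one_right (hsq x)
    calc s * d = (s * d)⁻¹ := (hinv _).symm
      _ = d * s := by rw [mul_inv_rev, hinv, hinv]
  set H := Subgroup.zpowers a with hH
  have hidx : H.index = 2 := by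
    have h := H.card_mul_index
    rw [show Nat.card H = 4 by rw [hH, Nat.card_zpowers, ha], hD] at h
    omega
  haveI : H.Normal := Subgroup.normal_of_index_eq_two hidx
  have hpow : ∀ x ∈ H, ∃ k < 4, a ^ k = x := fun x hx => by
    obtain ⟨k, hk, e⟩ := (isOfFinOrder_of_finite a).mem_zpowers_iff_mem_range_orderOf.1 hx |> Finset.mem_image.1
    exact ⟨k, by simpa [ha] using hk, e⟩
  have hcases : ∀ g, g ∈ H ∨ s * g ∈ H ∨ s ∈ H := fun g => by
    by_cases hg : g ∈ H
    · exact Or.inl hg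
    by_cases hs : s ∈ H
    · exact Or.inr (Or.inr hs)
    exact Or.inr (Or.inl ((Subgroup.mul_mem_iff_of_index_two hidx).2 ⟨fun h => absurd h hs, fun h => absurd h hg⟩))
  have ha4 : a ^ 4 = 1 := ha ▸ pow_orderOf_eq_one a
  have hsH : s ∉ H := by
    intro hs
    obtain ⟨k, hk, e⟩ := hpow s hs
    have h2 : a ^ (2 * k) = 1 := by rw [mul_comm, pow_mul, e, sq, hs2]
    have hdvd := orderOf_dvd_of_pow_eq_one h2
    rw [ha] at hdvd
    have hdH : d * s * d⁻¹ ∈ H := Subgroup.Normal.conj_mem ‹_› s hs d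
    obtain ⟨j, hj, e'⟩ := hpow _ hdH
    have h2' : a ^ (2 * j) = 1 := by
      rw [mul_comm, pow_mul, e', sq, show d * s * d⁻¹ * (d * s * d⁻¹) = d * (s * s) * d⁻¹ by group, hs2]
      group
    have hdvd' := orderOf_dvd_of_pow_eq_one h2'
    rw [ha] at hdvd'
    rcases (show k = 0 ∨ k = 2 by omega) with rfl | rfl
    · rw [pow_zero] at e
      exact hsd (by rw [← e, one_mul, mul_one])
    rcases (show j = 0 ∨ j = 2 by omega) with rfl | rfl
    · rw [pow_zero, eq_comm, conj_eq_one_iff] at e'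
      exact hsd (by rw [e', one_mul, mul_one])
    · rw [e, eq_comm, mul_inv_eq_iff_eq_mul] at e'
      exact hsd e'.symm
  have hconj : s * a * s⁻¹ = a⁻¹ := by
    obtain ⟨k, hk, e⟩ := hpow _ (Subgroup.Normal.conj_mem ‹H.Normal› a (Subgroup.mem_zpowers a) s)
    have hord : orderOf (a ^ k) = 4 := by
      rw [e, ← MulAut.conj_apply, MulEquiv.orderOf_eq, ha]
    rcases (show k = 0 ∨ k = 1 ∨ k = 2 ∨ k = 3 by omega) with rfl | rfl | rfl | rfl
    · rw [pow_zero, orderOf_one] at hord; omega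
    · exfalso
      rw [pow_one, eq_comm, mul_inv_eq_iff_eq_mul] at e
      have hc : ∀ x ∈ H, s * x = x * s := fun x hx => by
        obtain ⟨i, -, rfl⟩ := hpow x hx
        exact (Commute.pow_right (e : Commute s a) i).eq
      rcases hcases d with h | h | h
      · exact hsd (hc d h)
      · have h1 := hc _ h
        rw [← mul_assoc, hs2, one_mul] at h1
        exact hsd (by nth_rewrite 2 [h1]; rw [mul_assoc, mul_assoc, hs2, mul_one])
      · exact hsH h
    · have h2 : orderOf (a ^ 2) ∣ 2 := orderOf_dvd_of_pow_eq_one (by rw [← pow_mul, ha4])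
      rw [hord] at h2
      omega
    · rw [← e, eq_inv_iff_mul_eq_one, ← pow_succ, ha4]
  have hadd : ∀ i j : ZMod 4, a ^ (i + j).val = a ^ i.val * a ^ j.val := fun i j => by
    rw [← pow_add, ZMod.val_add, pow_eq_pow_mod (i.val + j.val) ha4]
  have hsub : ∀ i j : ZMod 4, a ^ (j - i).val = (a ^ i.val)⁻¹ * a ^ j.val := fun i j => by
    rw [eq_inv_mul_iff_mul_eq, ← hadd, add_sub_cancel]
  have hsa : ∀ i : ℕ, a ^ i * s = s * (a ^ i)⁻¹ := fun i => by
    have h := congrArg (· ^ i) hconj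
    simp only [conj_pow, inv_pow] at h
    rw [← h, inv_eq_of_mul_eq_one_right hs2]
    rw [← mul_assoc, ← mul_assoc, hs2, one_mul]
  let fD : DihedralGroup 4 → D := fun x => match x with
    | .r i => a ^ i.val
    | .sr i => s * a ^ i.val
  let φ : DihedralGroup 4 →* D := MonoidHom.mk' fD (by
    rintro (i | i) (j | j)
    · exact hadd i j
    · show s * a ^ (j - i).val = a ^ i.val * (s * a ^ j.val)
      rw [hsub, ← mul_assoc, ← mul_assoc, hsa]
    · show s * a ^ (i + j).val = s * a ^ i.val * a ^ j.val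
      rw [hadd, mul_assoc]
    · show a ^ (j - i).val = s * a ^ i.val * (s * a ^ j.val)
      rw [hsub, mul_assoc s, ← mul_assoc (a ^ i.val), hsa, ← mul_assoc, ← mul_assoc, hs2, one_mul])
  refine ⟨(MulEquiv.ofBijective φ ((Nat.bijective_iff_surjective_and_card φ).2 ⟨fun g => ?_, by
    rw [hD, DihedralGroup.nat_card]⟩)).symm⟩
  rcases hcases g with h | h | h
  · obtain ⟨k, hk, e⟩ := hpow g h
    exact ⟨.r (k : ZMod 4), by show a ^ (k : ZMod 4).val = g; rw [ZMod.val_natCast, Nat.mod_eq_of_lt hk, e]⟩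
  · obtain ⟨k, hk, e⟩ := hpow _ h
    refine ⟨.sr (k : ZMod 4), ?_⟩
    show s * a ^ (k : ZMod 4).val = g
    rw [ZMod.val_natCast, Nat.mod_eq_of_lt hk, e, ← mul_assoc, hs2, one_mul]
  · exact absurd h hsH

variable {G K : Type*} [Group G] [Group K] [Finite G] (π : G →* K) {f : ℕ}

open scoped Classical in
/-- The shape `2 × 2f`. -/
theorem iso_two_prod (hf : 1 ≤ f) {ψ δ : G} (hψ : orderOf (π ψ) = f) (hcard : Nat.card G = 4 * f) (hδπ : π δ = 1)
    (hδ2 : δ * δ = 1) (hcomm : δ * ψ = ψ * δ) (hψf : ψ ^ f ≠ 1) (hψ2f : ψ ^ (2 * f) = 1) (hδ1 : δ ≠ 1)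
    (hδψ : δ ≠ ψ ^ f) : Nonempty (G ≃* Multiplicative (ZMod 2 × ZMod (2 * f))) := by
  have hdvd : ∀ k : ℕ, π (ψ ^ k) = 1 → f ∣ k := fun k hk => by
    rw [map_pow] at hk; rw [← hψ]; exact orderOf_dvd_of_pow_eq_one hk
  have hord : orderOf ψ = 2 * f := by
    rw [orderOf_eq_iff (by omega)]
    refine ⟨hψ2f, fun k hk hk0 h => ?_⟩
    obtain ⟨j, rfl⟩ := hdvd k (by rw [h, map_one])
    rcases (show j = 1 by nlinarith) with rfl
    exact hψf (by simpa using h)
  have hordδ : orderOf δ = 2 := orderOf_eq_prime (by rw [sq, hδ2]) hδ1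
  let X := Subgroup.zpowers δ
  let Y := Subgroup.zpowers ψ
  let Θ : X × Y →* G := MonoidHom.noncommCoprod X.subtype Y.subtype fun x y => by
    obtain ⟨i, hi⟩ := x.2
    obtain ⟨j, hj⟩ := y.2
    show Commute (x : G) (y : G)
    rw [← hi, ← hj]
    exact (Commute.zpow_zpow (hcomm : Commute δ ψ) i j)
  have hinj : Function.Injective Θ := by
    rw [injective_iff_map_eq_one]
    rintro ⟨⟨x, hx⟩, ⟨y, hy⟩⟩ h
    change x * y = 1 at h
    obtain ⟨k, -, rfl⟩ := (isOfFinOrder_of_finite ψ).mem_zpowers_iff_mem_range_orderOf.1 hy |> Finset.mem_image.1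
    obtain ⟨i, hi, rfl⟩ := (isOfFinOrder_of_finite δ).mem_zpowers_iff_mem_range_orderOf.1 hx |> Finset.mem_image.1
    have hπ := congrArg π h
    rw [map_mul, map_pow π δ, hδπ, one_pow, one_mul, map_one] at hπ
    obtain ⟨j, rfl⟩ := hdvd k hπ
    have hψj : ψ ^ (f * j) = 1 ∨ ψ ^ (f * j) = ψ ^ f := by
      rcases Nat.even_or_odd' j with ⟨l, rfl | rfl⟩
      · left; rw [show f * (2 * l) = 2 * f * l by ring, pow_mul, hψ2f, one_pow]
      · right; rw [show f * (2 * l + 1) = 2 * f * l + f by ring, pow_add, pow_mul, hψ2f, one_pow, one_mul]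
    rw [hordδ, Finset.mem_range] at hi
    rcases (show i = 0 ∨ i = 1 by omega) with rfl | rfl
    · rw [pow_zero, one_mul] at h
      exact Prod.ext (Subtype.ext (pow_zero δ)) (Subtype.ext h)
    · exfalso
      rw [pow_one] at h
      rcases hψj with e | e
      · rw [e, mul_one] at h; exact hδ1 h
      · rw [e] at h
        refine hδψ (mul_right_cancel (b := ψ ^ f) ?_)
        rw [h, ← pow_add, ← two_mul, hψ2f]
  have hbij : Function.Bijective Θ := (Nat.bijective_iff_injective_and_card Θ).2 ⟨hinj, by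
    rw [Nat.card_prod, Nat.card_zpowers, Nat.card_zpowers, hordδ, hord, hcard]; ring⟩
  exact ⟨(MulEquiv.ofBijective Θ hbij).symm.trans ((MulEquiv.prodCongr
    (mulEquivOfCyclicCardEq (by rw [Nat.card_zpowers, hordδ, Nat.card_congr Multiplicative.toAdd, Nat.card_zmod]))
    (mulEquivOfCyclicCardEq (by rw [Nat.card_zpowers, hord, Nat.card_congr Multiplicative.toAdd, Nat.card_zmod]))).trans
      (MulEquiv.prodMultiplicative (ZMod 2) (ZMod (2 * f))).symm)⟩

open scoped Classical in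
/-- The shape `D₈ × f`. -/
theorem iso_dihedral_prod (hf : Odd f) {ψ δ : G} (hψ : orderOf (π ψ) = f) (hcard : Nat.card G = 8 * f)
    (hker : Nat.card π.ker = 8) (Z : Subgroup G) [Z.Normal] (hZ : Nat.card Z = 2)
    (hψd : ∀ d ∈ π.ker, ψ * d * ψ⁻¹ * d⁻¹ ∈ Z) (hψ2f : ψ ^ f * ψ ^ f = 1) (hδπ : π δ = 1)
    (hne : ψ ^ f * δ ≠ δ * ψ ^ f) :
    Nonempty (G ≃* DihedralGroup 4 × Multiplicative (ZMod f)) := by
  obtain ⟨x, y, hxy, huniv⟩ := Nat.card_eq_two_iff.1 hZ
  have hunique : ∀ a b : Z, a ≠ 1 → b ≠ 1 → a = b := by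
    intro a b ha hb
    have h1 : ∀ c : Z, c = x ∨ c = y := fun c => by
      have : c ∈ ({x, y} : Set Z) := huniv ▸ Set.mem_univ c
      simpa using this
    rcases h1 a with rfl | rfl <;> rcases h1 b with rfl | rfl <;> rcases h1 1 with h | h <;>
      first | rfl | exact absurd h.symm ha | exact absurd h.symm hb
  have hcent : ∀ z ∈ Z, ∀ g : G, g * z = z * g := by
    intro z hz g
    rcases eq_or_ne z 1 with rfl | h1
    · rw [mul_one, one_mul]
    have := congrArg Subtype.val (hunique ⟨_, Subgroup.Normal.conj_mem ‹_› z hz g⟩ ⟨z, hz⟩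
      (fun h => h1 (conj_eq_one_iff.1 (congrArg Subtype.val h))) (fun h => h1 (congrArg Subtype.val h)))
    exact mul_inv_eq_iff_eq_mul.1 this
  have hz2 : ∀ z ∈ Z, z * z = 1 := fun z hz => by
    have h1 := congrArg Subtype.val (pow_card_eq_one' (x := (⟨z, hz⟩ : Z)))
    rw [hZ, sq] at h1
    exact h1
  set κ := ψ * ψ with hκ
  have hκd : ∀ d ∈ π.ker, Commute d κ := by
    intro d hd
    obtain ⟨ζ, hζ, e⟩ : ∃ ζ ∈ Z, ψ * d * ψ⁻¹ = ζ * d := ⟨_, hψd d hd, (inv_mul_cancel_right _ _).symm⟩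
    have hd2 : κ * d * κ⁻¹ = d :=
      calc κ * d * κ⁻¹ = ψ * (ψ * d * ψ⁻¹) * ψ⁻¹ := by rw [hκ]; group
        _ = ψ * ζ * d * ψ⁻¹ := by rw [e, mul_assoc ψ ζ d]
        _ = ζ * (ψ * d * ψ⁻¹) := by rw [hcent ζ hζ ψ]; simp only [mul_assoc]
        _ = d := by rw [e, ← mul_assoc, hz2 ζ hζ, one_mul]
    exact (mul_inv_eq_iff_eq_mul.1 hd2).symm
  have hκord : orderOf κ = f := by
    rw [orderOf_eq_iff hf.pos]
    refine ⟨by rw [hκ, ← pow_two, ← pow_mul, two_mul, pow_add, hψ2f], fun k hk hk0 h => ?_⟩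
    have h1 := congrArg π h
    rw [hκ, ← pow_two, ← pow_mul, map_pow, map_one] at h1
    have h2 := orderOf_dvd_of_pow_eq_one h1
    rw [hψ] at h2
    have := Nat.le_of_dvd hk0 ((Nat.coprime_two_right.2 hf).dvd_of_dvd_mul_left h2)
    omega
  let Y := Subgroup.zpowers κ
  let Θ : π.ker × Y →* G := MonoidHom.noncommCoprod π.ker.subtype Y.subtype fun d y => by
    obtain ⟨j, hj⟩ := y.2
    show Commute (d : G) (y : G)
    rw [← hj]
    exact (hκd d d.2).zpow_right j
  have hinj : Function.Injective Θ := by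
    rw [injective_iff_map_eq_one]
    rintro ⟨⟨d, hd⟩, ⟨y, hy⟩⟩ h
    change d * y = 1 at h
    obtain ⟨k, hk, rfl⟩ := (isOfFinOrder_of_finite κ).mem_zpowers_iff_mem_range_orderOf.1 hy |> Finset.mem_image.1
    have hπ := congrArg π h
    rw [map_mul, MonoidHom.mem_ker.1 hd, one_mul, map_one, hκ, ← pow_two, ← pow_mul, map_pow] at hπ
    have h2 := orderOf_dvd_of_pow_eq_one hπ
    rw [hψ] at h2
    have h3 := (Nat.coprime_two_right.2 hf).dvd_of_dvd_mul_left h2
    rw [hκord, Finset.mem_range] at hk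
    obtain rfl : k = 0 := Nat.eq_zero_of_dvd_of_lt h3 hk
    rw [pow_zero, mul_one] at h
    exact Prod.ext (Subtype.ext h) (Subtype.ext (pow_zero κ))
  have hbij : Function.Bijective Θ := (Nat.bijective_iff_injective_and_card Θ).2 ⟨hinj, by
    rw [Nat.card_prod, Nat.card_zpowers, hker, hκord, hcard]⟩
  have hs : ψ ^ f ∈ π.ker := by
    rw [MonoidHom.mem_ker, map_pow, ← hψ, pow_orderOf_eq_one]
  obtain ⟨e⟩ := iso_dihedral hker (s := ⟨ψ ^ f, hs⟩) (d := ⟨δ, MonoidHom.mem_ker.2 hδπ⟩) (Subtype.ext hψ2f)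
    (fun h => hne (congrArg Subtype.val h))
  exact ⟨(MulEquiv.ofBijective Θ hbij).symm.trans (MulEquiv.prodCongr e
    (mulEquivOfCyclicCardEq (by rw [Nat.card_zpowers, hκord, Nat.card_congr Multiplicative.toAdd, Nat.card_zmod])))⟩

end Cfsg.Lib.Linear.AutPO
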