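import Cfsg.Agent.Lib.Linear.AutPO.Minus
import Cfsg.Agent.Lib.Linear.AutPO.Even
import Cfsg.Agent.Lib.Linear.AutPO.OutShape
import Cfsg.Agent.Lib.Linear.OrthStdBasis
import Cfsg.Agent.S0791

/-!
# The automorphism group and the outer automorphism group of `PΩ⁻_{2m+2}(q)`
-/

set_option autoImplicit false

namespace Cfsg.Lib.Linear.AutPO

open Module
open Cfsg.Lib.Linear.Orth
open Cfsg.Lib.Linear.Descent (sc sm tw sc_val sc_comm sm_one sm_mul)
open scoped Matrix

set_option quotPrecheck false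

section General

variable {ι : Type} [Fintype ι] [DecidableEq ι] {F : Type*} [Field F] [Fintype F]
  {Q : (ι → F) → F} {B : LinearMap.BilinForm F (ι → F)}
  (C : Space Q B) (h7 : 7 ≤ Fintype.card ι) (p : ℕ) [Fact p.Prime] [CharP F p]

local notation "GS" => ↥(Cfsg.Geo.quadSimilarityGroup (F := F) Q)
local notation "O" => ↥(isometryGroup F Q)
local notation "P" => Cfsg.POmega F Q

include C h7 p

theorem conj_injective' : Function.Injective (MulAut.conj : P →* MulAut P) := by
  rw [injective_iff_map_eq_one]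
  intro x hx
  obtain ⟨s, rfl⟩ := QuotientGroup.mk_surjective x
  obtain ⟨A, hAs, hA⟩ := conj_mk_eq C h7 p s
  obtain ⟨c, hc⟩ := (innd_eq_sc C h7 p).1 (hA.trans hx)
  refine (QuotientGroup.eq_one_iff s).2 (Subgroup.mem_center_iff.2 fun z => om_injective ?_)
  rw [map_mul, map_mul, ← hAs, hc, sc_comm]

theorem card_inn : Nat.card (Cfsg.Inn P) = Nat.card P :=
  (Nat.card_congr (MonoidHom.ofInjective (conj_injective' C h7 p)).toEquiv).symm

/-- In characteristic two the similitudes act as isometries. -/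
theorem card_range_two (h2 : (2 : F) = 0) :
    Nat.card (innd : GS →* MulAut P).range = 2 * Nat.card P ∧
      ∀ v : ι → F, (hv : Q v ≠ 0) → innd (isoSim (rI C v hv)) ∉ Cfsg.Inn P := by
  classical
  have hne : Fintype.card F ≠ 2 ∨ Fintype.card ι ≠ 4 := Or.inr (by omega)
  have hneg : (-1 : Matrix ι ι F) = 1 := by
    ext i j
    rw [Matrix.neg_apply]
    linear_combination (-(1 : Matrix ι ι F) i j) * h2
  have hscal : ∀ (s : O) (c : Fˣ), (s : GL ι F) = sc c → s = 1 := by
    intro s c hs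
    obtain ⟨v, hv⟩ := Cfsg.Lib.H3.exists_nonsing_vec C (by omega)
    have hq := mem_iso.1 s.2 v
    rw [hs, sc_act, C.smul] at hq
    have hc : ((c : F) - 1) * (c - 1) = 0 := by
      have : (c : F) ^ 2 = 1 := mul_right_cancel₀ hv (by rw [hq, one_mul])
      linear_combination this - ((c : F) - 1) * h2
    exact Subtype.ext (hs.trans (by
      rw [show c = 1 from Units.ext (sub_eq_zero.1 (mul_self_eq_zero.1 hc)), map_one]; rfl))
  have hinjO : Function.Injective ((innd : GS →* MulAut P).comp isoSim) := by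
    rw [injective_iff_map_eq_one]
    intro s hs
    obtain ⟨c, hc⟩ := (innd_eq_sc C h7 p).1 hs
    exact hscal s c hc
  have hΩ : Nat.card ↥(Cfsg.Omega F Q) = Nat.card P := by
    have hbot : Subgroup.center ↥(Cfsg.Omega F Q) = ⊥ := by
      rw [eq_bot_iff]
      intro z hz
      rw [Subgroup.mem_bot]
      refine om_injective (Units.ext ?_)
      rw [map_one, Units.val_one]
      rcases omega_center_pm C h7 hz with h | h
      · exact h
      · exact h.trans hneg
    rw [Subgroup.card_eq_card_quotient_mul_card_subgroup (Subgroup.center ↥(Cfsg.Omega F Q))]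
    conv_lhs => arg 2; rw [hbot]
    rw [Subgroup.card_bot, mul_one]
  obtain ⟨δ, hδ, hδΩ⟩ := Cfsg.Lib.H3.omega_char_two C h2 (by omega) hne
  constructor
  · have hO : Nat.card O = 2 * Nat.card P := by
      have a1 := Subgroup.card_mul_index (Cfsg.Omega F Q)
      rw [show (Cfsg.Omega F Q).index = 2 from (omega_two C h2 (by omega) hne).1, hΩ] at a1
      rw [← a1, mul_comm]
    rw [← hO]
    refine (Nat.card_eq_of_bijective (((innd : GS →* MulAut P).comp isoSim).codRestrict
      (innd : GS →* MulAut P).range fun s => ⟨_, rfl⟩) ⟨fun a b h => hinjO (congrArg Subtype.val h), ?_⟩).symm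
    rintro ⟨_, A, rfl⟩
    obtain ⟨c, hc⟩ := A.2
    have hiff := fun A' : GS => innd_eq_innd_sc C h7 p (A := A') (A' := A)
    haveI : CharP F 2 := CharTwo.of_one_ne_zero_of_two_eq_zero one_ne_zero h2
    obtain ⟨d, hd : frobenius F 2 d = ((c⁻¹ : Fˣ) : F)⟩ :=
      (PerfectRing.bijective_frobenius (R := F) (p := 2)).surjective ((c⁻¹ : Fˣ) : F)
    rw [frobenius_def] at hd
    have hd0 : d ≠ 0 := fun h => (c⁻¹).ne_zero (by rw [← hd, h, zero_pow two_ne_zero])
    refine ⟨⟨sc (Units.mk0 d hd0) * A.1, mem_iso.2 fun v => ?_⟩,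
      Subtype.ext ((hiff _).2 ⟨Units.mk0 d hd0, rfl⟩)⟩
    rw [mul_act, sc_act, C.smul, hc, Units.val_mk0, hd, ← mul_assoc, Units.inv_mul, one_mul]
  · intro v hv hmem
    obtain ⟨x, hx⟩ := hmem
    obtain ⟨t, rfl⟩ := QuotientGroup.mk_surjective x
    obtain ⟨A, hA, hA'⟩ := conj_mk_eq C h7 p t
    have e : rI C v hv = (t : O) := hinjO (hx.symm.trans (hA'.symm.trans (congrArg innd (Subtype.ext hA))))
    have h1 := (hδΩ _).1 t.2
    rw [← e, hδ v hv] at h1
    exact absurd h1 (by decide)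

theorem spin_conj (h2 : (2 : F) ≠ 0) {D : GL ι F} {c : F} (hc0 : ¬ IsSquare c)
    (hD : ∀ v, Q (D.val *ᵥ v) = c * Q v) (u : O) :
    ∃ u' : O, (u' : GL ι F) = D * u * D⁻¹ ∧
      Units.map (Int.castRingHom F : ℤ →* F) (spin Q u' * spin Q u) = Matrix.GeneralLinearGroup.det (u : GL ι F) := by
  classical
  have hc : c ≠ 0 := fun h => hc0 (h ▸ ⟨0, (mul_zero 0).symm⟩)
  let Φ := Cfsg.Lib.H3.simIso (⟨D, Units.mk0 c hc, fun v => by rw [Units.val_mk0]; exact hD v⟩ : GS)
  refine ⟨Φ u, rfl, ?_⟩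
  refine refl_induction C (Or.inl (card_ne_two h2)) (fun u => Units.map (Int.castRingHom F : ℤ →* F)
    (spin Q (Φ u) * spin Q u) = Matrix.GeneralLinearGroup.det (u : GL ι F)) (by simp) (fun v hv g hg => ?_) u
  have hv' : Q (D.val *ᵥ v) ≠ 0 := by rw [hD]; exact mul_ne_zero hc hv
  have hB : ∀ x y, B (D.val *ᵥ x) (D.val *ᵥ y) = c * B x y := fun x y => by
    rw [← C.polar, ← C.polar, QuadraticMap.polar, QuadraticMap.polar, ← Matrix.mulVec_add, hD, hD, hD]; ring
  have hΦ : Φ (rI C v hv) = rI C (D.val *ᵥ v) hv' := by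
    refine Subtype.ext (gl_ext fun x => ?_)
    show (D * rGL Q v * D⁻¹).val *ᵥ x = (rGL Q (D.val *ᵥ v)).val *ᵥ x
    obtain ⟨y, rfl⟩ : ∃ y, D.val *ᵥ y = x := ⟨(D⁻¹).val *ᵥ x, act_inv _ _⟩
    rw [mul_act, mul_act, inv_act, rGL_act C hv, rGL_act C hv', hB, hD, Matrix.mulVec_sub, Matrix.mulVec_smul]
    congr 2
    field_simp
  rw [map_mul Φ, map_mul (spin Q), map_mul (spin Q), hΦ, mul_mul_mul_comm, map_mul, hg, Subgroup.coe_mul,
    map_mul Matrix.GeneralLinearGroup.det]
  refine congrArg (· * _) ?_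
  rw [det_rI C hv, spin_rI C h2 hv', spin_rI C h2 hv, hD]
  have hχ : IsSquare (c * Q v) ↔ ¬ IsSquare (Q v) := by
    rw [← quadraticChar_one_iff_isSquare (mul_ne_zero hc hv), map_mul, quadraticChar_neg_one_iff_not_isSquare.mpr hc0]
    by_cases hs : IsSquare (Q v)
    · rw [(quadraticChar_one_iff_isSquare hv).2 hs]; simp [hs]
    · rw [quadraticChar_neg_one_iff_not_isSquare.mpr hs]; simp [hs]
  by_cases hs : IsSquare (Q v)
  · rw [if_neg (fun h => (hχ.1 h) hs), if_pos hs]
    exact Units.ext (by simp)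
  · rw [if_pos (hχ.2 hs), if_neg hs]
    exact Units.ext (by simp)

end General

section Minus

variable {m : ℕ} {F : Type*} [Field F] [Fintype F] {a b : F}
  (hab : ∀ z₁ z₂ : F, z₁ ^ 2 + a * z₁ * z₂ + b * z₂ ^ 2 = 0 → z₁ = 0 ∧ z₂ = 0)
  (hm : 3 ≤ m) (p : ℕ) [Fact p.Prime] [CharP F p] {f : ℕ} (hf : 1 ≤ f) (hF : Fintype.card F = p ^ f)

local notation "ιm" => ((Fin m ⊕ Fin m) ⊕ Fin 2)
local notation "Qm" => Cfsg.quadFormMinus m F a b
local notation "GS" => ↥(Cfsg.Geo.quadSimilarityGroup (F := F) Qm)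
local notation "P" => Cfsg.POmega F Qm
local notation "R" => (innd : GS →* MulAut P).range

include hab hm

omit hm in
theorem exists_sim (hm1 : 1 ≤ m + 1) {c : F} (hc : c ≠ 0) :
    ∃ g : GL ιm F, ∀ v, Qm (g.val *ᵥ v) = c * Qm v := by
  obtain ⟨B, C⟩ := exists_space_minus (F := F) m a b hab
  let q : QuadraticForm F (ιm → F) := QuadraticMap.ofPolar Qm
    (fun a v => by rw [C.smul, smul_eq_mul, sq])
    (fun u u' v => by simp only [C.polar, map_add, LinearMap.add_apply])
    (fun a u v => by simp only [C.polar, map_smul, LinearMap.smul_apply])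
  have hq : (QuadraticMap.polarBilin q).Nondegenerate := by
    constructor
    · intro u hu
      refine C.nondeg' fun y => ?_
      rw [← C.polar]
      exact hu y
    · intro y hy
      refine C.nondeg y fun u => ?_
      rw [← C.polar]
      exact hy u
  have hcard : Fintype.card ιm = 2 * (m + 1) := by simp only [Fintype.card_sum, Fintype.card_fin]; omega
  obtain ⟨t, ht⟩ := Cfsg.Lib.Linear.Orth.exists_similarity hm1
    (by rw [Module.finrank_fintype_fun_eq_card]; exact hcard) q hq c hc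
  have hinv : LinearMap.toMatrix' t.toLinearMap * LinearMap.toMatrix' t.symm.toLinearMap = 1 := by
    rw [← LinearMap.toMatrix'_comp, LinearEquiv.comp_symm, LinearMap.toMatrix'_id]
  refine ⟨toGL (LinearMap.toMatrix' t.toLinearMap), fun v => ?_⟩
  rw [toGL_val hinv, LinearMap.toMatrix'_mulVec]
  exact ht v

include p hf hF

/-- The indices. -/
theorem relIndex_range :
    (Cfsg.Inn P).relIndex R =
      if p = 2 then 2 else if Even m ∧ p ^ f % 4 = 3 then 8 else 4 := by
  obtain ⟨B, C⟩ := exists_space_minus (F := F) m a b hab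
  have hcard : Fintype.card ιm = 2 * (m + 1) := by simp only [Fintype.card_sum, Fintype.card_fin]; omega
  have h7 : 7 ≤ Fintype.card ιm := by omega
  have hpos : 0 < Nat.card (Cfsg.Inn P) := Nat.card_pos
  by_cases hp : p = 2
  · rw [if_pos hp]
    subst hp
    have h := Subgroup.card_mul_index ((Cfsg.Inn P).subgroupOf R)
    rw [Nat.card_congr (Subgroup.subgroupOfEquivOfLe (inn_le_range (Q := Qm))).toEquiv,
      (card_range_two C h7 2 CharTwo.two_eq_zero).1, ← card_inn C h7 2, mul_comm 2] at h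
    exact Nat.eq_of_mul_eq_mul_left hpos h
  rw [if_neg hp]
  have h2 : (2 : F) ≠ 0 := fun h => hp (((Nat.prime_dvd_prime_iff_eq (Fact.out : p.Prime) Nat.prime_two).1
    ((CharP.cast_eq_zero_iff F p 2).1 (by exact_mod_cast h))))
  have hodd : Odd (Fintype.card F) := hF ▸ ((Fact.out : p.Prime).odd_of_ne_two hp).pow
  rw [range_eq_pgo]
  obtain ⟨φ, hφ, hker⟩ := Cfsg.Lib.H3.pgo_mod_pso C h2 hcard h7 fun c hc => exists_sim hab (by omega) hc
  have h4 : (Cfsg.psoAut F Qm).relIndex (Cfsg.pgoAut F Qm) = 4 := by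
    rw [Subgroup.relIndex, ← hker, Subgroup.index_ker, MonoidHom.range_eq_top.2 hφ, Subgroup.card_top,
      Nat.card_congr Multiplicative.toAdd, Nat.card_prod, Nat.card_zmod]
  rw [← Subgroup.relIndex_mul_relIndex _ _ _ ((inn_le_soImage C).trans_eq soImage_eq_pso)
    (by rw [← soImage_eq_pso, ← range_eq_pgo]; exact soImage_le_range), h4]
  obtain ⟨hA, hB⟩ := Cfsg.Lib.H3.inn_relIndex_pso C h2 ⟨m + 1, by omega⟩ h7
  have hi := Cfsg.Agent.S0791.result hF (hF ▸ hodd) (m + 1) (by omega) a b hab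
  have hp' := (Cfsg.Agent.S0791.sign_pow (p ^ f) (m + 1) (hF ▸ hodd)).2
  have hmo : Odd (m + 1) ↔ Even m := Nat.odd_add_one.trans Nat.not_odd_iff_even
  by_cases hc : Even m ∧ p ^ f % 4 = 3
  · rw [if_pos hc, hA (hi.2 (hp'.2 ⟨hc.2, hmo.2 hc.1⟩))]
  · rw [if_neg hc, hB fun hg => hc ⟨hmo.1 (hp'.1 (hi.1 hg)).2, (hp'.1 (hi.1 hg)).1⟩]

/-- **The field part**: surjective, with the similitudes as kernel, and lifts of the Frobenius. -/
theorem exists_field_part :
    ∃ π : MulAut P →* (F ≃+* F), Function.Surjective π ∧ π.ker = R ∧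
      ∃ (g : GL ιm F) (hg : Cfsg.IsSemisimilarityPair Qm g (frobF p)) (T : ↥(isometryGroup F Qm)),
        π (semiAut hg) = frobF p ∧ semiAut hg ^ f = innd (isoSim T) ∧
        ((2 : F) ≠ 0 → (T : GL ιm F).val.det = -1) ∧
        ((2 : F) = 0 → (T : GL ιm F).val = planeMat a 1) := by
  obtain ⟨B, C⟩ := exists_space_minus (F := F) m a b hab
  have h7 : 7 ≤ Fintype.card ιm := by simp only [Fintype.card_sum, Fintype.card_fin]; omega
  obtain ⟨π, hπ, hker⟩ := exists_galOf C h7 p (good_minus hab C)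
  obtain ⟨g, hg1, hg2, hg3, hg4⟩ := exists_frob_semi (m := m) p hf hF hab
  have hg : Cfsg.IsSemisimilarityPair Qm g (frobF p) :=
    ⟨1, fun v => (hg1 v).trans (by rw [Units.val_one, one_mul])⟩
  obtain ⟨hk, e⟩ := semiAut_pow hg f
  refine ⟨π, fun σ => ?_, hker, g, hg, ⟨_, mem_iso.2 hg2⟩, hπ hg, ?_, hg3, hg4⟩
  · obtain ⟨k, rfl⟩ := mem_zpowers_frobF p hf hF σ
    exact ⟨semiAut hg ^ k, by rw [map_zpow, hπ hg]⟩
  · rw [e, innd_eq]
    refine semiAut_congr _ _ ?_
    rw [show (frobF p ^ f : F ≃+* F) = 1 by rw [← orderOf_frobF (F := F) p hf hF, pow_orderOf_eq_one]]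
    rfl

theorem card_mulAut :
    Nat.card (MulAut P) =
      (if p = 2 then 2 else if Even m ∧ p ^ f % 4 = 3 then 8 else 4) * f * Nat.card P := by
  obtain ⟨B, C⟩ := exists_space_minus (F := F) m a b hab
  have h7 : 7 ≤ Fintype.card ιm := by simp only [Fintype.card_sum, Fintype.card_fin]; omega
  obtain ⟨π, hsurj, hker, -⟩ := exists_field_part hab hm p hf hF
  have h := Subgroup.card_mul_index π.ker
  rw [Subgroup.index_ker, MonoidHom.range_eq_top.2 hsurj, Subgroup.card_top, card_gal p hf hF, hker] at h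
  have h' := Subgroup.card_mul_index ((Cfsg.Inn P).subgroupOf R)
  rw [Nat.card_congr (Subgroup.subgroupOfEquivOfLe (inn_le_range (Q := Qm))).toEquiv, card_inn C h7 p,
    show ((Cfsg.Inn P).subgroupOf R).index = _ from relIndex_range hab hm p hf hF] at h'
  rw [← h, ← h']
  ring

theorem card_out :
    Nat.card (Cfsg.Out P) = (if p = 2 then 2 else if Even m ∧ p ^ f % 4 = 3 then 8 else 4) * f := by
  obtain ⟨B, C⟩ := exists_space_minus (F := F) m a b hab
  have h7 : 7 ≤ Fintype.card ιm := by simp only [Fintype.card_sum, Fintype.card_fin]; omega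
  have h := Subgroup.card_eq_card_quotient_mul_card_subgroup (Cfsg.Inn P)
  rw [card_inn C h7 p, card_mulAut hab hm p hf hF] at h
  exact (Nat.eq_of_mul_eq_mul_right Nat.card_pos h).symm

set_option maxHeartbeats 2000000 in
/-- **Characteristic two**: the outer automorphism group is cyclic. -/
theorem out_two (hp : p = 2) : IsCyclic (Cfsg.Out P) ∧ Nat.card (Cfsg.Out P) = 2 * f := by
  have hc : Nat.card (Cfsg.Out P) = 2 * f := by rw [card_out hab hm p hf hF, if_pos hp]
  refine ⟨?_, hc⟩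
  subst hp
  obtain ⟨B, C⟩ := exists_space_minus (F := F) m a b hab
  have h7 : 7 ≤ Fintype.card ιm := by simp only [Fintype.card_sum, Fintype.card_fin]; omega
  obtain ⟨π, -, hker, g, hg, T, hπ, hpow, -, hT⟩ := exists_field_part hab hm 2 hf hF
  have h20 : (2 : F) = 0 := CharTwo.two_eq_zero
  -- the power is a reflection
  have he : Qm (Pi.single (.inr 0) 1) ≠ 0 := by simp [Cfsg.quadFormMinus, Pi.single_apply]
  have hTr : T = rI C (Pi.single (.inr 0) 1) he := by
    refine Subtype.ext (gl_ext fun x => ?_)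
    have hB : ∀ x, B (Pi.single (.inr 0) 1) x = a * x (.inr 1) := fun x => by
      rw [← C.polar, QuadraticMap.polar]
      simp [Cfsg.quadFormMinus, Pi.single_apply, add_mul, mul_add]
      linear_combination (x (.inr 0)) * h20
    rw [hT h20, rI_val, rGL_act C he, hB]
    have hQ1 : Qm (Pi.single (.inr 0) 1) = 1 := by simp [Cfsg.quadFormMinus, Pi.single_apply]
    rw [hQ1, inv_one, one_mul, planeMat, Matrix.fromBlocks_mulVec]
    funext i
    rcases i with i | i
    · simp [Matrix.one_mulVec, Matrix.mulVec, Matrix.one_apply, dotProduct, Pi.single_apply]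
    · fin_cases i
      · simp [Matrix.mulVec, dotProduct, Fin.sum_univ_two, Pi.single_apply]
        linear_combination (a * x (.inr 1)) * h20
      · simp [Matrix.mulVec, dotProduct, Fin.sum_univ_two, Pi.single_apply]
  have hord : orderOf (QuotientGroup.mk (semiAut hg) : Cfsg.Out P) = Nat.card (Cfsg.Out P) := by
    rw [hc, orderOf_eq_iff (by omega)]
    refine ⟨?_, fun k hk hk0 hk1 => ?_⟩
    · rw [mul_comm, pow_mul, ← QuotientGroup.mk_pow, ← QuotientGroup.mk_pow, hpow, ← map_pow, ← map_pow, hTr, sq, rI_sq,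
        map_one, map_one, QuotientGroup.mk_one]
    · rw [← QuotientGroup.mk_pow, QuotientGroup.eq_one_iff] at hk1
      have h1 : π (semiAut hg ^ k) = 1 := MonoidHom.mem_ker.1 (hker ▸ inn_le_range (Q := Qm) hk1)
      rw [map_pow, hπ] at h1
      have h2 := orderOf_dvd_of_pow_eq_one h1
      rw [orderOf_frobF (F := F) 2 hf hF] at h2
      obtain ⟨j, rfl⟩ := h2
      rcases (show j = 1 by nlinarith) with rfl
      rw [mul_one, hpow, hTr] at hk1
      exact (card_range_two C h7 2 h20).2 _ he hk1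
  exact isCyclic_of_orderOf_eq_card _ hord

set_option maxHeartbeats 3000000 in
/-- **Odd characteristic**. -/
theorem out_odd_minus (hp : p ≠ 2) :
    if Even m ∧ p ^ f % 4 = 3 then Nonempty (Cfsg.Out P ≃* DihedralGroup 4 × Multiplicative (ZMod f))
    else Nonempty (Cfsg.Out P ≃* Multiplicative (ZMod 2 × ZMod (2 * f))) := by
  classical
  obtain ⟨B, C⟩ := exists_space_minus (F := F) m a b hab
  have hcard : Fintype.card ιm = 2 * (m + 1) := by simp only [Fintype.card_sum, Fintype.card_fin]; omega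
  have h7 : 7 ≤ Fintype.card ιm := by omega
  have h2 : (2 : F) ≠ 0 := fun h => hp (((Nat.prime_dvd_prime_iff_eq (Fact.out : p.Prime) Nat.prime_two).1
    ((CharP.cast_eq_zero_iff F p 2).1 (by exact_mod_cast h))))
  have hodd : Odd (p ^ f) := ((Fact.out : p.Prime).odd_of_ne_two hp).pow
  obtain ⟨π, -, hker, g, hg, T, hπ, hpow, hT, -⟩ := exists_field_part hab hm p hf hF
  have hle : Cfsg.Inn P ≤ π.ker := hker ▸ inn_le_range
  let πb : Cfsg.Out P →* (F ≃+* F) := QuotientGroup.lift (Cfsg.Inn P) π hle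
  set ψ : Cfsg.Out P := QuotientGroup.mk (semiAut hg) with hψ
  have hψo : orderOf (πb ψ) = f := by
    show orderOf (π (semiAut hg)) = f
    rw [hπ, orderOf_frobF p hf hF]
  obtain ⟨k, hk⟩ := (Fact.out : p.Prime).odd_of_ne_two hp
  have hsq : ∀ x, frobF (F := F) p x = x ^ (2 * k + 1) := fun x => by rw [frobF_apply, hk]
  have hψf : ψ ^ f = QuotientGroup.mk (innd (isoSim T)) := by rw [hψ, ← QuotientGroup.mk_pow, hpow]
  have hT2 : innd (isoSim T) * innd (isoSim T) ∈ Cfsg.Inn P := by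
    rw [← map_mul, ← map_mul]
    obtain ⟨A, hA, hA'⟩ := conj_mk_eq C h7 p (⟨T * T, by
      show T * T ∈ commutator _
      rw [(omega_odd C h2 (by omega)).1, MonoidHom.mem_ker, map_mul]
      refine Prod.ext (Units.ext ?_) (Int.units_mul_self _)
      show (T : GL ιm F).val.det * (T : GL ιm F).val.det = 1
      rw [hT h2]; norm_num⟩ : ↥(Cfsg.Omega F Qm))
    exact ⟨_, hA'.symm.trans (congrArg innd (Subtype.ext hA))⟩
  obtain ⟨α, hα⟩ := FiniteField.exists_nonsquare (F := F) (fun hc => h2 (by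
    haveI := ringChar.of_eq hc; exact CharTwo.two_eq_zero))
  have hα0 : α ≠ 0 := fun h => hα (h ▸ ⟨0, (mul_zero 0).symm⟩)
  obtain ⟨d, hd⟩ := exists_sim hab (m := m) (by omega) hα0
  let δ₀ : GS := ⟨d, Units.mk0 α hα0, hd⟩
  set δ : Cfsg.Out P := QuotientGroup.mk (innd δ₀) with hδ
  have hδπ : πb δ = 1 := MonoidHom.mem_ker.1 (hker ▸ (⟨δ₀, rfl⟩ : innd δ₀ ∈ R) : innd δ₀ ∈ π.ker)
  have hgal := card_out hab hm p hf hF
  rw [if_neg hp] at hgal
  split_ifs with hc
  · -- the dihedral case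
    rw [if_pos hc] at hgal
    have hfodd : Odd f := by
      rw [← Nat.not_even_iff_odd]
      rintro ⟨l, rfl⟩
      obtain ⟨j, hj⟩ := ((Fact.out : p.Prime).odd_of_ne_two hp).pow (n := l)
      rw [pow_add, hj] at hc
      have := hc.2
      rw [show (2 * j + 1) * (2 * j + 1) = 4 * (j * j + j) + 1 by ring] at this
      omega
    have hz : ∃ z : ↥(isometryGroup F Qm), z ∈ Cfsg.Omega F Qm ∧ (z : GL ιm F).val = -1 :=
      (Cfsg.Agent.S0791.result hF hodd (m + 1) (by omega) a b hab).2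
        ((Cfsg.Agent.S0791.sign_pow (p ^ f) (m + 1) hodd).2.2 ⟨hc.2, by rw [Nat.odd_add_one, Nat.not_odd_iff_even]; exact hc.1⟩)
    let Z : Subgroup (Cfsg.Out P) := (soImage (Q := Qm)).map (QuotientGroup.mk' (Cfsg.Inn P))
    haveI hso : (soImage (Q := Qm)).Normal := ⟨fun β hβ γ => by
      obtain ⟨s, hs, rfl⟩ := mem_soImage.1 hβ
      obtain ⟨g₁, τ, h₁, rfl⟩ := exists_decomp C h7 p γ (good_minus hab C)
      obtain ⟨A', hA', e⟩ := semiAut_conj h₁ (isoSim s)
      rw [e]
      obtain ⟨k', hk'⟩ := h₁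
      refine innd_mem_soImage C h7 p hcard (d := 1) (fun v => ?_) ?_
      · obtain ⟨u, rfl⟩ := semi_surj τ g₁ v
        rw [hA', mul_act, mul_act, inv_act, ← sm_eq, map_act, Units.val_one, one_pow, one_mul]
        exact (hk' _).trans ((congrArg (fun t => (k' : F) * τ t) (mem_iso.1 s.2 u)).trans (hk' u).symm)
      · rw [hA', Units.val_one, one_pow, one_pow]
        have e' : Matrix.GeneralLinearGroup.det (g₁ * sm τ (isoSim s).1 * g₁⁻¹) =
            Matrix.GeneralLinearGroup.det (sm τ (isoSim s).1) := by simp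
        refine (congrArg Units.val e').trans ?_
        show (sm τ (s : GL ιm F)).val.det = 1
        rw [Descent.sm_val]
        exact ((RingHom.map_det τ.toRingHom _).symm.trans (by rw [hs, map_one]))⟩
    haveI : Z.Normal := Subgroup.Normal.map inferInstance _ (QuotientGroup.mk'_surjective _)
    have hZ : Nat.card Z = 2 := by
      show Nat.card ↥((soImage (Q := Qm)).map (QuotientGroup.mk' (Cfsg.Inn P))) = 2
      rw [show (soImage (Q := Qm)).map (QuotientGroup.mk' (Cfsg.Inn P)) =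
        ((QuotientGroup.mk' (Cfsg.Inn P)).comp (soImage (Q := Qm)).subtype).range by
          rw [MonoidHom.range_comp, Subgroup.range_subtype], ← Subgroup.index_ker]
      have hrel := (Cfsg.Lib.H3.inn_relIndex_pso C h2 ⟨m + 1, by omega⟩ h7).1 hz
      rw [← soImage_eq_pso] at hrel
      refine Eq.trans ?_ hrel
      rw [Subgroup.relIndex]
      congr 1
      ext x
      simp [Subgroup.mem_subgroupOf, MonoidHom.mem_ker]
    refine iso_dihedral_prod πb hfodd hψo (by rw [hgal]) ?_ Z hZ ?_ ?_ hδπ ?_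
    · have h := Subgroup.card_mul_index πb.ker
      rw [Subgroup.index_ker, MonoidHom.range_eq_top.2 (fun σ => by
        obtain ⟨j, rfl⟩ := mem_zpowers_frobF p hf hF σ
        exact ⟨ψ ^ j, by rw [map_zpow]; exact congrArg (· ^ j) hπ⟩), Subgroup.card_top, card_gal p hf hF, hgal] at h
      exact Nat.eq_of_mul_eq_mul_right hf h
    · intro x hx
      obtain ⟨β, rfl⟩ := QuotientGroup.mk_surjective x
      have hβ : β ∈ π.ker := hx
      rw [hker] at hβ
      obtain ⟨A, rfl⟩ := hβ
      exact ⟨_, semi_comm_mem_soImage C h7 p hcard hg hsq A, rfl⟩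
    · rw [hψf, ← QuotientGroup.mk_mul, (QuotientGroup.eq_one_iff _).2 hT2]
    · intro h
      rw [hψf, hδ, ← QuotientGroup.mk_mul, ← QuotientGroup.mk_mul, eq_comm, QuotientGroup.eq] at h
      rw [← map_mul, ← map_mul, ← map_inv, ← map_mul] at h
      obtain ⟨u', hu', hspin⟩ := spin_conj C h7 p h2 hα hd T
      have hTd : (T : GL ιm F).val.det = -1 := hT h2
      obtain ⟨v, hvs⟩ : ∃ v : ↥(isometryGroup F Qm), v = u'⁻¹ * T := ⟨_, rfl⟩
      have hu'det : (u' : GL ιm F).val.det = -1 := by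
        rw [hu']
        have e' : Matrix.GeneralLinearGroup.det (d * (T : GL ιm F) * d⁻¹) = Matrix.GeneralLinearGroup.det (T : GL ιm F) := by
          simp
        exact (congrArg Units.val e').trans hTd
      have hvdet : (v : GL ιm F).val.det = 1 := by
        rw [hvs]
        have e' : Matrix.GeneralLinearGroup.det (((u'⁻¹ * T : ↥(isometryGroup F Qm))) : GL ιm F) =
            (Matrix.GeneralLinearGroup.det (u' : GL ιm F))⁻¹ * Matrix.GeneralLinearGroup.det (T : GL ιm F) := by simp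
        refine (congrArg Units.val e').trans ?_
        rw [Units.val_mul, Units.val_inv_eq_inv_val]
        show (u' : GL ιm F).val.det⁻¹ * (T : GL ιm F).val.det = 1
        rw [hu'det, hTd]; norm_num
      have hmem : innd (isoSim v) ∈ Cfsg.Inn P := by
        have e : innd ((δ₀ * isoSim T)⁻¹ * (isoSim T * δ₀)) =
            (innd δ₀)⁻¹ * innd (isoSim v) * innd δ₀ := by
          rw [← map_inv, ← map_mul, ← map_mul]
          refine congrArg innd (Subtype.ext ?_)
          simp only [Subgroup.coe_mul, Subgroup.coe_inv]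
          show (d * (T : GL ιm F))⁻¹ * ((T : GL ιm F) * d) = d⁻¹ * (v : GL ιm F) * d
          rw [hvs, Subgroup.coe_mul, Subgroup.coe_inv, hu']
          group
        rw [e] at h
        have := (inferInstance : (Cfsg.Inn P).Normal).conj_mem _ h (innd δ₀)
        rwa [mul_assoc, mul_assoc, mul_assoc, mul_inv_cancel, mul_one, ← mul_assoc, mul_inv_cancel, one_mul] at this
      have hs1 := spin_of_inn C h7 p h2 hz hvdet hmem
      rw [hvs, map_mul, map_inv, inv_mul_eq_one] at hs1
      rw [← hs1, Int.units_mul_self, map_one] at hspin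
      have h1 := congrArg Units.val hspin
      change (1 : F) = (T : GL ιm F).val.det at h1
      rw [hTd] at h1
      exact h2 (by linear_combination h1)
  · -- the abelian case
    rw [if_neg hc] at hgal
    have hso : ∀ β ∈ soImage (Q := Qm), β ∈ Cfsg.Inn P := by
      have hno : ¬ ∃ z : ↥(isometryGroup F Qm), z ∈ Cfsg.Omega F Qm ∧ (z : GL ιm F).val = -1 := fun hz => by
        have h := (Cfsg.Agent.S0791.sign_pow (p ^ f) (m + 1) hodd).2.1
          ((Cfsg.Agent.S0791.result hF hodd (m + 1) (by omega) a b hab).1 hz)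
        exact hc ⟨Nat.not_odd_iff_even.1 (Nat.odd_add_one.1 h.2), h.1⟩
      have hrel := (Cfsg.Lib.H3.inn_relIndex_pso C h2 ⟨m + 1, by omega⟩ h7).2 hno
      rw [← soImage_eq_pso, Subgroup.relIndex_eq_one] at hrel
      exact hrel
    have hnotso : ∀ (A : GS) (c : F), (∀ v, Qm (A.1.val *ᵥ v) = c * Qm v) →
        innd A ∈ Cfsg.Inn P → IsSquare c ∧ A.1.val.det = c ^ (m + 1) := by
      intro A c hAc hmem
      obtain ⟨s, hs, e⟩ := mem_soImage.1 (inn_le_soImage C hmem)
      obtain ⟨e', he'⟩ := (innd_eq_innd_sc C h7 p).1 e.symm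
      change A.1 = sc e' * (s : GL ιm F) at he'
      obtain ⟨v, hv⟩ := Cfsg.Lib.H3.exists_nonsing_vec C (by omega)
      have h := hAc v
      rw [he', mul_act, sc_act, C.smul, mem_iso.1 s.2] at h
      have hc' : (e' : F) ^ 2 = c := mul_right_cancel₀ hv h
      refine ⟨⟨e', by rw [← hc', sq]⟩, ?_⟩
      rw [he', Units.val_mul, sc_val, Matrix.smul_mul, Matrix.one_mul, Matrix.det_smul, hs, hcard, mul_one, ← hc', pow_mul]
    refine iso_two_prod πb hf hψo hgal hδπ ?_ ?_ ?_ ?_ ?_ ?_
    · rw [hδ, ← QuotientGroup.mk_mul, QuotientGroup.eq_one_iff]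
      exact hso _ (sq_mem_soImage C h7 p hcard δ₀)
    · rw [hδ, hψ, ← QuotientGroup.mk_mul, ← QuotientGroup.mk_mul, eq_comm, QuotientGroup.eq]
      have := hso _ (semi_comm_mem_soImage C h7 p hcard hg hsq δ₀)
      have h' := (inferInstance : (Cfsg.Inn P).Normal).conj_mem _ (inv_mem this) (semiAut hg * innd δ₀)⁻¹
      convert h' using 1
      group
    · rw [hψf, Ne, QuotientGroup.eq_one_iff]
      intro h
      obtain ⟨-, hd1⟩ := hnotso (isoSim T) 1 (fun v => by rw [one_mul]; exact mem_iso.1 T.2 v) h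
      rw [one_pow] at hd1
      have hTd : (isoSim T).1.val.det = -1 := hT h2
      rw [hd1] at hTd
      exact h2 (by linear_combination hTd)
    · rw [mul_comm, pow_mul, hψf, ← QuotientGroup.mk_pow, sq, QuotientGroup.eq_one_iff]
      exact hT2
    · rw [hδ, Ne, QuotientGroup.eq_one_iff]
      exact fun h => hα (hnotso δ₀ α hd h).1
    · rw [hψf, hδ, Ne, QuotientGroup.eq, ← map_inv, ← map_mul]
      intro h
      have hmu : ∀ v, Qm ((d⁻¹ * (T : GL ιm F)).val *ᵥ v) = α⁻¹ * Qm v := fun v => by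
        obtain ⟨u, hu⟩ : ∃ u, d.val *ᵥ u = (T : GL ιm F).val *ᵥ v := ⟨(d⁻¹).val *ᵥ _, act_inv _ _⟩
        rw [mul_act, ← hu, inv_act, ← mem_iso.1 T.2 v, ← hu, hd, ← mul_assoc, inv_mul_cancel₀ hα0, one_mul]
      have hA : ((δ₀⁻¹ * isoSim T : GS) : GL ιm F) = d⁻¹ * (T : GL ιm F) := rfl
      obtain ⟨hs1, -⟩ := hnotso (δ₀⁻¹ * isoSim T) α⁻¹ (fun v => by rw [hA]; exact hmu v) h
      exact hα (isSquare_inv.1 hs1)
end Minus

end Cfsg.Lib.Linear.AutPO
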