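import Cfsg.Agent.Lib.Linear.AutPO.BalanceInvGen

/-!
# Balance for similitudes with non-square scalar square

A similitude `g` with multiplier `d` and square the non-square scalar `d` makes the space a space over `F(√d)` with a
symmetric form, whose isometries are the elements of the isometry group centralising `g`.
-/

set_option autoImplicit false

namespace Cfsg.Lib.Linear.AutPO

open Module
open Cfsg.Lib.Linear.Orth
open Cfsg.Lib.Linear.Descent (sc sm tw sc_val sc_comm sm_one)
open Cfsg.Lib.Linear.Balance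
open scoped Matrix

set_option quotPrecheck false

variable {ι : Type} [Fintype ι] [DecidableEq ι] {F : Type*} [Field F] {Q : (ι → F) → F}
  {B : LinearMap.BilinForm F (ι → F)} (C : Space Q B) (h2 : (2 : F) ≠ 0)
  {g : GL ι F} {d : F} (hd : ¬ IsSquare d) (hgg : ∀ v, g.val *ᵥ (g.val *ᵥ v) = d • v)
  (hgm : ∀ v, Q (g.val *ᵥ v) = d * Q v)
  {K : Type*} [Field K] [Algebra F K] {s : K} (hs : s * s = algebraMap F K d)
  (hdec : ∀ κ : K, ∃ a b : F, κ = algebraMap F K a + algebraMap F K b * s)
  [Module K (ι → F)] [IsScalarTower F K (ι → F)] (hact : ∀ v : ι → F, s • v = g.val *ᵥ v)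

include hd hs in
theorem quad_indep {a b : F} (h : algebraMap F K a + algebraMap F K b * s = 0) : a = 0 ∧ b = 0 := by
  by_cases hb : b = 0
  · subst hb
    exact ⟨(algebraMap F K).injective (by simpa using h), rfl⟩
  · refine absurd ⟨-a / b, (algebraMap F K).injective ?_⟩ hd
    have hb' : algebraMap F K b ≠ 0 := fun h0 => hb ((map_eq_zero _).1 h0)
    rw [map_mul, map_div₀, map_neg, ← hs, show s = -algebraMap F K a / algebraMap F K b by
      rw [eq_div_iff hb']; linear_combination h]

include hact in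
theorem quad_smul (a b : F) (v : ι → F) :
    (algebraMap F K a + algebraMap F K b * s) • v = a • v + b • (g.val *ᵥ v) := by
  rw [add_smul, mul_smul, hact, algebraMap_smul, algebraMap_smul]

/-- A commuting matrix as a map over the quadratic extension. -/
theorem quad_linear {z : GL ι F} (hz : z * g = g * z) (hdec : ∀ κ : K, ∃ a b : F, κ = algebraMap F K a + algebraMap F K b * s)
    (hact : ∀ v : ι → F, s • v = g.val *ᵥ v) (κ : K) (v : ι → F) : z.val *ᵥ (κ • v) = κ • (z.val *ᵥ v) := by
  obtain ⟨a, b, rfl⟩ := hdec κ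
  rw [quad_smul hact, quad_smul hact, Matrix.mulVec_add, Matrix.mulVec_smul, Matrix.mulVec_smul, ← mul_act, hz, mul_act]

omit [IsScalarTower F K (ι → F)] [Module K (ι → F)] in
include C hd hgg hgm in
theorem quad_symm (u v : ι → F) : B (g.val *ᵥ u) v = B u (g.val *ᵥ v) ∧ B (g.val *ᵥ u) (g.val *ᵥ v) = d * B u v := by
  have hB : ∀ x y, B (g.val *ᵥ x) (g.val *ᵥ y) = d * B x y := fun x y => by
    rw [← C.polar, ← C.polar, QuadraticMap.polar, QuadraticMap.polar, ← Matrix.mulVec_add, hgm, hgm, hgm]; ring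
  refine ⟨?_, hB u v⟩
  have h1 := hB u (g.val *ᵥ v)
  rw [hgg, map_smul, smul_eq_mul] at h1
  by_cases hd0 : d = 0
  · exfalso
    subst hd0
    have h3 : ∀ x : ι → F, g.val *ᵥ (g.val *ᵥ x) = g.val *ᵥ (g.val *ᵥ 0) := fun x => by simp [hgg]
    have h4 : ∀ x : ι → F, x = 0 := fun x => act_injective g (act_injective g (h3 x))
    exact hd ⟨0, (mul_zero 0).symm⟩
  exact mul_left_cancel₀ hd0 h1

include C h2 hd hgg hgm hs hdec hact

/-- The symmetric form over the quadratic extension. -/
noncomputable def rformK : RForm (1 : K ≃+* K) (ι → F) where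
  B u v := algebraMap F K (B u v) + algebraMap F K (B (g.val *ᵥ u) v / d) * s
  add_left u v w := by
    simp only [Matrix.mulVec_add, map_add, LinearMap.add_apply, add_div]
    ring
  smul_left κ u w := by
    obtain ⟨a, b, rfl⟩ := hdec κ
    have hd0 : d ≠ 0 := fun h => hd (h ▸ ⟨0, (mul_zero 0).symm⟩)
    simp only [quad_smul hact, Matrix.mulVec_add, Matrix.mulVec_smul, hgg, map_add, map_smul, LinearMap.add_apply,
      LinearMap.smul_apply, smul_eq_mul]
    set x := B u w
    set y := B (g.val *ᵥ u) w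
    rw [show (a * y + b * (d * x)) / d = a * (y / d) + b * x by field_simp]
    conv_rhs => rw [show (algebraMap F K a + algebraMap F K b * s) * (algebraMap F K x + algebraMap F K (y / d) * s) =
      algebraMap F K a * algebraMap F K x + algebraMap F K b * algebraMap F K (y / d) * (s * s) +
        (algebraMap F K a * algebraMap F K (y / d) + algebraMap F K b * algebraMap F K x) * s by ring, hs]
    simp only [map_add, map_mul]
    rw [show algebraMap F K y = algebraMap F K (y / d) * algebraMap F K d by rw [← map_mul, div_mul_cancel₀ _ hd0]]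
    ring
  symm u v := by
    show _ = algebraMap F K (B u v) + algebraMap F K (B (g.val *ᵥ u) v / d) * s
    rw [C.symm v u, C.symm (g.val *ᵥ v) u, (quad_symm C hd hgg hgm u v).1]
  ndeg u h := C.nondeg' fun v => (quad_indep hd hs (h v)).1
  invol x := rfl

omit h2 in
theorem rformK_B (u v : ι → F) : (rformK C hd hgg hgm hs hdec hact).B u v =
    algebraMap F K (B u v) + algebraMap F K (B (g.val *ᵥ u) v / d) * s := rfl

variable [Fintype F] (hcard : 7 ≤ Fintype.card ι)

include hcard

omit C h2 hgg hgm hs hd in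
theorem quad_finrank : FiniteDimensional K (ι → F) ∧ Finite K ∧ 3 ≤ finrank K (ι → F) := by
  classical
  have hle : (⊤ : Submodule F K) ≤ Submodule.span F (({1, s} : Finset K) : Set K) := fun κ _ => by
    obtain ⟨a, b, rfl⟩ := hdec κ
    refine Submodule.add_mem _ ?_ ?_
    · rw [Algebra.algebraMap_eq_smul_one]
      exact Submodule.smul_mem _ _ (Submodule.subset_span (by simp))
    · rw [← Algebra.smul_def]
      exact Submodule.smul_mem _ _ (Submodule.subset_span (by simp))
  haveI : Module.Finite F K := ⟨⟨{1, s}, eq_top_iff.2 hle⟩⟩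
  have h1 : finrank F K ≤ 2 := by
    have h1 := Submodule.finrank_mono hle
    rw [finrank_top] at h1
    exact h1.trans ((finrank_span_finset_le_card _).trans (Finset.card_le_two))
  haveI : Module.Finite K (ι → F) := Module.Finite.of_restrictScalars_finite F K _
  refine ⟨inferInstance, Module.finite_of_finite F, ?_⟩
  have h := Module.finrank_mul_finrank F K (ι → F)
  rw [finrank_fintype_fun_eq_card] at h
  have := Nat.mul_le_mul_right (finrank K (ι → F)) h1
  omega

set_option maxHeartbeats 1600000 in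
/-- Odd normal subgroups are scalar. -/
theorem scal_quad (M : Subgroup (GL ι F))
    (hM : ∀ u ∈ M, u ∈ isometryGroup F Q ∧ u * g = g * u)
    (hn : ∀ v ∈ isometryGroup F Q, v * g = g * v → ∀ u ∈ M, v * u * v⁻¹ ∈ M)
    (ho : ∀ u ∈ M, ∃ k, Odd k ∧ ∃ c : Fˣ, u ^ k = sc c) {u : GL ι F} (hu : u ∈ M) : ∃ c : Fˣ, u = sc c := by
  classical
  obtain ⟨hfd, hfin, hdim⟩ := quad_finrank hdec hact hcard
  haveI := hfd
  haveI := hfin
  haveI : Nonempty ι := Fintype.card_pos_iff.1 (by omega)
  let φ := rformK C hd hgg hgm hs hdec hact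
  have h2K : (2 : K) ≠ 0 := fun h => h2 ((algebraMap F K).injective (by rw [map_ofNat, map_zero, h]))
  have hinv : ∀ z : GL ι F, z * g = g * z → z⁻¹ * g = g * z⁻¹ := fun z hz => by
    rw [eq_mul_inv_iff_mul_eq, mul_assoc, ← hz, inv_mul_cancel_left]
  let resH : ↥(Subgroup.centralizer ({g} : Set (GL ι F))) →* ((ι → F) ≃ₗ[K] (ι → F)) :=
    MonoidHom.mk' (fun z =>
      { toFun := fun v => z.1.val *ᵥ v
        map_add' := fun x y => Matrix.mulVec_add _ _ _
        map_smul' := quad_linear (Subgroup.mem_centralizer_singleton_iff.1 z.2) hdec hact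
        invFun := fun v => (z.1⁻¹).val *ᵥ v
        left_inv := fun v => inv_act _ _
        right_inv := fun v => act_inv _ _ }) fun x y => LinearEquiv.ext fun v => mul_act x.1 y.1 v
  have hiso : ∀ z : GL ι F, z ∈ isometryGroup F Q → z * g = g * z → ∀ x y : ι → F,
      φ.B (z.val *ᵥ x) (z.val *ᵥ y) = φ.B x y := fun z hz hzg x y => by
    show algebraMap F K _ + algebraMap F K _ * s = algebraMap F K _ + algebraMap F K _ * s
    rw [C.B_act hz, ← mul_act g z, ← hzg, mul_act, C.B_act hz]
  suffices hall : ∀ y ∈ (M.subgroupOf _).map resH, y ∈ RForm.scal K (ι → F) by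
    obtain ⟨κ, hκ⟩ := hall (resH ⟨u, Subgroup.mem_centralizer_singleton_iff.2 (hM u hu).2⟩) ⟨_, hu, rfl⟩
    change ∀ v : ι → F, u.val *ᵥ v = κ • v at hκ
    haveI : Nontrivial (ι → F) := Function.nontrivial
    obtain ⟨w, hw⟩ := φ.exists_aniso h2K (exists_ne 0)
    have h1 := hiso u (hM u hu).1 (hM u hu).2 w w
    rw [hκ, φ.smul_left, φ.smul_right1, ← mul_assoc] at h1
    rcases mul_self_eq_one_iff.1 (mul_eq_right₀ hw |>.1 h1) with rfl | rfl
    · exact eq_sc_of_smul fun x => (hκ x).trans ((one_smul K x).trans (one_smul F x).symm)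
    · exact eq_sc_of_smul (c := -1) fun x => (hκ x).trans (by rw [neg_one_smul, neg_one_smul])
  refine fun y hy => φ.mem_scal_of_normal h2K hdim ((M.subgroupOf _).map resH) ?_ ?_ ?_ hy
  · rintro _ ⟨z, hz, rfl⟩ x y
    exact hiso z.1 (hM _ hz).1 (hM _ hz).2 x y
  · rintro h hh _ ⟨z, hz, rfl⟩
    obtain ⟨z', hz'⟩ := glE_surjective (h.restrictScalars F)
    have hzv : ∀ x, z'.val *ᵥ x = h x := fun x => by rw [← glE_apply, hz']; rfl
    have hz'g : z' * g = g * z' := gl_ext fun x => by
      rw [mul_act, mul_act, hzv, hzv, ← hact, ← hact, map_smul]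
    have hz'i : z' ∈ isometryGroup F Q := mem_iso.2 fun x => by
      have h1 : φ.B (h x) (h x) = φ.B x x := hh x x
      rw [rformK_B, rformK_B] at h1
      have h3 := (quad_indep hd hs (a := B (h x) (h x) - B x x)
        (b := B (g.val *ᵥ h x) (h x) / d - B (g.val *ᵥ x) x / d)
        (by rw [map_sub, map_sub]; linear_combination h1)).1
      rw [C.self, C.self, ← mul_sub, mul_eq_zero, or_iff_right h2, sub_eq_zero] at h3
      rw [hzv, h3]
    have e : resH ⟨z', Subgroup.mem_centralizer_singleton_iff.2 hz'g⟩ = h := LinearEquiv.ext hzv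
    refine ⟨⟨z', Subgroup.mem_centralizer_singleton_iff.2 hz'g⟩ * z *
      ⟨z', Subgroup.mem_centralizer_singleton_iff.2 hz'g⟩⁻¹, hn _ hz'i hz'g _ hz, ?_⟩
    rw [map_mul, map_mul, map_inv, e]
  · rintro _ ⟨z, hz, rfl⟩
    obtain ⟨k, hk, c, hc⟩ := ho _ hz
    refine ⟨k, hk, algebraMap F K c, fun x => ?_⟩
    rw [← map_pow]
    show (z ^ k).1.val *ᵥ x = algebraMap F K (c : F) • x
    rw [SubmonoidClass.coe_pow, show z.1 ^ k = sc c from hc, sc_act, algebraMap_smul]

variable (p : ℕ) [Fact p.Prime] [CharP F p]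

set_option maxHeartbeats 3200000 in
/-- A semisimilarity fixing the unipotent elements of the centraliser of `g` is a scalar multiple of `1` or `g`. -/
theorem lin_quad {h : GL ι F} {τ : F ≃+* F} (hh : Cfsg.IsSemisimilarityPair Q h τ) {c : F} (hc : c ≠ 0)
    (hTg : ∀ v, h.val *ᵥ (τ ∘ (g.val *ᵥ v)) = c • (g.val *ᵥ (h.val *ᵥ (τ ∘ v))))
    (τ' : K →+* K) (hτa : ∀ a, τ' (algebraMap F K a) = algebraMap F K (τ a)) (hτs : τ' s = algebraMap F K c * s)
    (hfix : ∀ U ∈ isometryGroup F Q, U * g = g * U → U ^ p = 1 → semiGL h τ U = U) :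
    τ = 1 ∧ ((∃ u : Fˣ, h = sc u) ∨ ∃ u : Fˣ, h = sc u * g) := by
  classical
  obtain ⟨hfd, hfin, hdim⟩ := quad_finrank hdec hact hcard
  haveI := hfd
  haveI := hfin
  haveI : Nonempty ι := Fintype.card_pos_iff.1 (by omega)
  haveI : CharP K p := charP_of_injective_ringHom (algebraMap F K).injective p
  have hd0 : d ≠ 0 := fun h => hd (h ▸ ⟨0, (mul_zero 0).symm⟩)
  have h2K : (2 : K) ≠ 0 := fun h => h2 ((algebraMap F K).injective (by rw [map_ofNat, map_zero, h]))
  let φ := rformK C hd hgg hgm hs hdec hact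
  obtain ⟨μ, hμ⟩ := id hh
  have hμ' : ∀ v, Q (h.val *ᵥ (τ ∘ v)) = μ * τ (Q v) := hμ
  have hadd : ∀ x y : ι → F, τ ∘ (x + y) = τ ∘ x + τ ∘ y := fun x y => funext fun i => map_add τ _ _
  let T : (ι → F) →+ (ι → F) := AddMonoidHom.mk' (fun v => h.val *ᵥ (τ ∘ v)) fun x y => by
    rw [hadd, Matrix.mulVec_add]
  have hTv : ∀ v, T v = h.val *ᵥ (τ ∘ v) := fun v => rfl
  have hTF : ∀ (a : F) v, T (a • v) = τ a • T v := fun a v => by
    rw [hTv, hTv, show τ ∘ (a • v) = τ a • (τ ∘ v) from funext fun i => map_mul τ _ _, Matrix.mulVec_smul]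
  have hT : ∀ (κ : K) v, T (κ • v) = τ' κ • T v := fun κ v => by
    obtain ⟨a, b, rfl⟩ := hdec κ
    rw [quad_smul hact, map_add, hTF, hTF, map_add τ', map_mul τ', hτa, hτa, hτs, ← mul_assoc, ← map_mul,
      quad_smul hact, hTv (g.val *ᵥ v), hTg, smul_smul, ← hTv v]
  have hBT : ∀ x y, B (T x) (T y) = μ * τ (B x y) := fun x y => by
    rw [← C.polar, ← C.polar, QuadraticMap.polar, QuadraticMap.polar, ← map_add, hTv, hTv, hTv, hμ', hμ', hμ',
      map_sub, map_sub]
    ring
  have hline : ∀ e : ι → F, φ.B e e = 0 → ∃ α : K, T e = α • e := by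
    intro e he
    by_cases he0 : e = 0
    · exact ⟨0, by rw [he0, map_zero, zero_smul]⟩
    obtain ⟨f, a, P⟩ := φ.exists_frame' h2K hdim he0 he
    obtain ⟨U, hU⟩ := glE_surjective ((RForm.sieg (φ := φ) h2K he P.we).restrictScalars F)
    have hUv : ∀ x, U.val *ᵥ x = RForm.sieg (φ := φ) h2K he P.we x := fun x => by rw [← glE_apply, hU]; rfl
    have hUi : U ∈ isometryGroup F Q := mem_iso.2 fun x => by
      have h1 := RForm.sieg_iso (φ := φ) h2K he P.we x x
      rw [← hUv, rformK_B, rformK_B] at h1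
      have h3 := (quad_indep hd hs (a := B (U.val *ᵥ x) (U.val *ᵥ x) - B x x)
        (b := B (g.val *ᵥ (U.val *ᵥ x)) (U.val *ᵥ x) / d - B (g.val *ᵥ x) x / d)
        (by rw [map_sub, map_sub]; linear_combination h1)).1
      rw [C.self, C.self, ← mul_sub, mul_eq_zero, or_iff_right h2, sub_eq_zero] at h3
      exact h3
    have hUg : U * g = g * U := gl_ext fun x => by
      rw [mul_act, mul_act, hUv, hUv, ← hact, ← hact, map_smul]
    have hUp : U ^ p = 1 := glE_injective (by
      rw [map_pow, map_one, hU]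
      refine LinearEquiv.ext fun x => ?_
      have : ∀ k : ℕ, (((RForm.sieg (φ := φ) h2K he P.we).restrictScalars F) ^ k) x =
          ((RForm.sieg (φ := φ) h2K he P.we) ^ k) x := fun k => by
        induction k generalizing x with
        | zero => rfl
        | succ k ih => exact ih _
      rw [this]
      exact RForm.sieg_pow h2K he P.we p x)
    refine RForm.line_of_commute (φ := φ) h2K he P.we P.ww τ' T hT ?_ ?_
    · obtain ⟨h1, h3⟩ := quad_indep hd hs ((rformK_B C hd hgg hgm hs hdec hact e e).symm.trans he)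
      rw [div_eq_zero_iff, or_iff_left hd0] at h3
      rw [rformK_B, hBT, h1, show g.val *ᵥ T e = c⁻¹ • T (g.val *ᵥ e) by
        rw [hTv, hTv, hTg, inv_smul_smul₀ hc], map_smul, LinearMap.smul_apply, hBT, h3]
      simp
    · have h1 := semiGL_act h τ U a
      rw [hfix U hUi hUg hUp, hUv, hUv] at h1
      exact h1.symm
  have hTinj : ∀ v, T v = 0 → v = 0 := fun v hv => by
    have h1 := act_injective h (a₁ := τ ∘ v) (a₂ := 0) (hv.trans (Matrix.mulVec_zero _).symm)
    exact funext fun i => τ.injective ((congrFun h1 i).trans (map_zero τ).symm)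
  obtain ⟨hτ', α, hα⟩ := φ.scalar_of_iso_lines h2K hdim (LinearMap.id : (ι → F) →ₗ[K] (ι → F))
    Function.injective_id τ' T hT hTinj hline
  have hτ : τ = 1 := RingEquiv.ext fun a => (algebraMap F K).injective (by rw [← hτa, hτ']; rfl)
  refine ⟨hτ, ?_⟩
  have hc1 : c = 1 := by
    have h1 := hτ' s
    rw [hτs] at h1
    have hs0 : s ≠ 0 := fun h0 => hd0 ((algebraMap F K).injective (by rw [← hs, h0, mul_zero, map_zero]))
    exact (algebraMap F K).injective (by rw [map_one]; exact mul_right_cancel₀ hs0 (h1.trans (one_mul s).symm))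
  obtain ⟨u, v, rfl⟩ := hdec α
  subst hτ
  have hh' : ∀ x : ι → F, h.val *ᵥ x = u • x + v • (g.val *ᵥ x) := fun x =>
    (hα x).trans (quad_smul hact u v x)
  haveI : Nontrivial (ι → F) := Function.nontrivial
  obtain ⟨w, hw⟩ := φ.exists_aniso h2K (exists_ne 0)
  have e : φ.B (T w) (T w) = algebraMap F K μ * φ.B w w := by
    rw [rformK_B, rformK_B, hBT, show g.val *ᵥ T w = T (g.val *ᵥ w) by rw [hTv, hTv, hTg, hc1, one_smul], hBT]
    simp only [RingAut.one_apply, map_mul, mul_div_assoc]
    ring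
  rw [hα, LinearMap.id_apply, φ.smul_left, φ.smul_right1, ← mul_assoc] at e
  have e2 := mul_right_cancel₀ hw e
  have e3 := (quad_indep hd hs (a := u * u + v * v * d - μ) (b := 2 * u * v) (by
    simp only [map_sub, map_add, map_mul, map_ofNat]
    rw [← hs]
    linear_combination e2)).2
  rcases mul_eq_zero.1 e3 with h0 | h0
  · rw [mul_eq_zero, or_iff_right h2] at h0
    have hv0 : v ≠ 0 := fun hv0 => by
      obtain ⟨i⟩ := ‹Nonempty ι›
      exact Pi.single_ne_zero_iff.2 one_ne_zero (act_injective h (a₁ := Pi.single i 1) (a₂ := 0) (by simp [hh', h0, hv0]))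
    exact Or.inr ⟨Units.mk0 v hv0, gl_ext fun x => by rw [hh', h0, zero_smul, zero_add, mul_act, sc_act]; rfl⟩
  · obtain ⟨u', hu'⟩ := eq_sc_of_smul (u := h) (c := u) fun x => by rw [hh', h0, zero_smul, add_zero]
    exact Or.inl ⟨u', hu'⟩

end Cfsg.Lib.Linear.AutPO
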