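import Cfsg.Agent.Lib.Linear.AutPO.Roots

/-!
# The class of a long root element of `PΩ` is characterised by its size modulo the characteristic
-/

set_option autoImplicit false

namespace Cfsg.Lib.Linear.AutPO

open Module
open Cfsg.Lib.Linear.Orth
open scoped Matrix

variable {ι : Type} [Fintype ι] [DecidableEq ι] {F : Type*} [Field F]
  {Q : (ι → F) → F} {B : LinearMap.BilinForm F (ι → F)}

/-- An element of `Ω` as a matrix. -/
abbrev om (Q : (ι → F) → F) : ↥(Cfsg.Omega F Q) →* GL ι F :=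
  (isometryGroup F Q).subtype.comp (Cfsg.Omega F Q).subtype

theorem om_injective : Function.Injective (om Q) :=
  fun _ _ e => Subtype.ext (Subtype.ext e)

theorem om_mem (s : ↥(Cfsg.Omega F Q)) : om Q s ∈ isometryGroup F Q :=
  (s : ↥(isometryGroup F Q)).2

/-- The conjugates of an element. -/
def cls {G : Type*} [Group G] (x : G) : Set G := Set.range fun g => g * x * g⁻¹

theorem cls_eq_orbit {G : Type*} [Group G] (x : G) : MulAction.orbit (ConjAct G) x = cls x := by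
  ext y
  constructor
  · rintro ⟨g, rfl⟩
    exact ⟨ConjAct.ofConjAct g, (ConjAct.smul_def g x).symm⟩
  · rintro ⟨g, rfl⟩
    exact ⟨ConjAct.toConjAct g, ConjAct.smul_def _ x⟩

theorem cls_eq_of_mem {G : Type*} [Group G] {x y : G} (h : y ∈ cls x) : cls y = cls x := by
  rw [← cls_eq_orbit, ← cls_eq_orbit]
  exact MulAction.orbit_eq_iff.mpr (by rwa [cls_eq_orbit])

theorem card_cls_map {G : Type*} [Group G] (γ : MulAut G) (a : G) :
    Nat.card (cls (γ a)) = Nat.card (cls a) := by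
  have e : cls (γ a) = γ '' cls a := by
    ext b
    constructor
    · rintro ⟨g, rfl⟩
      exact ⟨_, ⟨γ.symm g, rfl⟩, by simp⟩
    · rintro ⟨_, ⟨g, rfl⟩, rfl⟩
      exact ⟨γ g, by simp⟩
  rw [e, Nat.card_image_of_injective γ.injective]

theorem not_dvd_card_cls_of_central {G : Type*} [Group G] [Finite G] {p : ℕ} [Fact p.Prime]
    (S : Sylow p G) {z : G} (hz : ∀ s ∈ S, Commute s z) : ¬ p ∣ Nat.card (cls z) := by
  intro h
  refine Sylow.not_dvd_index S (h.trans ?_)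
  rw [← cls_eq_orbit, Nat.card_congr (MulAction.orbitEquivQuotientStabilizer (ConjAct G) z),
    ← Subgroup.index_eq_card]
  have hle : (S : Subgroup G).map (ConjAct.toConjAct (G := G)).toMonoidHom ≤
      MulAction.stabilizer (ConjAct G) z := by
    rintro _ ⟨s, hs, rfl⟩
    exact MulAction.mem_stabilizer_iff.mpr
      ((ConjAct.smul_def _ z).trans (mul_inv_eq_iff_eq_mul.mpr (hz s hs).eq))
  refine (Subgroup.index_dvd_of_le hle).trans ?_
  rw [Subgroup.index_map_of_bijective (f := (ConjAct.toConjAct (G := G)).toMonoidHom)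
    (ConjAct.toConjAct (G := G)).bijective]

section

variable [Finite F] (C : Space Q B) (h7 : 7 ≤ Fintype.card ι)
  (p : ℕ) [hp : Fact p.Prime] [CharP F p]

include C h7 p hp

omit hp p [CharP F p] in
theorem exists_om {g : GL ι F} (hg : g ∈ Root Q B ⊤) : ∃ s, om Q s = g := by
  rw [← omegaGL_eq C (by omega), Cfsg.Geo.omegaGL] at hg
  obtain ⟨y, hy, rfl⟩ := hg
  exact ⟨⟨y, hy⟩, rfl⟩

omit hp p [CharP F p] in
theorem mem_root_om (s : ↥(Cfsg.Omega F Q)) : om Q s ∈ Root Q B ⊤ := by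
  rw [← omegaGL_eq C (by omega)]
  exact ⟨s.1, s.2, rfl⟩

/-- Two root elements of the standard frame and their `p`-group. -/
theorem exists_frame_group :
    ∃ (e1 f1 e2 f2 : ι → F) (U : Subgroup ↥(Cfsg.Omega F Q)), Hyp Q B ⊤ e1 f1 ∧
      Hyp Q B (perp2 B ⊤ e1 f1) e2 f2 ∧ IsPGroup p U ∧
      (∀ a, B e1 a = 0 → ∃ u ∈ U, om Q u = sGL Q B e1 a) ∧
      ∀ b, B e1 b = 0 → B e2 b = 0 → ∃ u ∈ U, om Q u = sGL Q B e2 b := by
  obtain ⟨e1, f1, H1⟩ := exists_hyp' C C.ndeg_top (by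
    rw [finrank_top, finrank_fintype_fun_eq_card]; omega)
  obtain ⟨e2, f2, H2⟩ := exists_hyp' C (H1.ndeg C C.ndeg_top) (by
    have := H1.le_finrank C; rw [finrank_top, finrank_fintype_fun_eq_card] at this; omega)
  obtain ⟨U, hUR, hUp, hU1, hU2⟩ := exists_two_root_group C (p := p) H1 H2
  refine ⟨e1, f1, e2, f2, U.comap (om Q), H1, H2, hUp.comap_of_injective _ om_injective,
    fun a ha => ?_, fun b h1 h2 => ?_⟩
  · obtain ⟨u, hu⟩ := exists_om C h7 (hUR (hU1 a ha))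
    exact ⟨u, by rw [Subgroup.mem_comap, hu]; exact hU1 a ha, hu⟩
  · obtain ⟨u, hu⟩ := exists_om C h7 (hUR (hU2 b h1 h2))
    exact ⟨u, by rw [Subgroup.mem_comap, hu]; exact hU2 b h1 h2, hu⟩

omit hp p [CharP F p] in
theorem root_of_frame {e1 f1 e2 f2 : ι → F} (H1 : Hyp Q B ⊤ e1 f1)
    (H2 : Hyp Q B (perp2 B ⊤ e1 f1) e2 f2) {c : F} (hc : c ≠ 0) :
    IsRootEl Q B (sGL Q B e1 (c • e2)) := by
  obtain ⟨-, h12, hf12⟩ := mem_perp2.mp H2.memE
  refine ⟨e1, c • e2, fun h => by simpa [h] using H1.pair, H1.singE,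
    by rw [C.smul, H2.singE, mul_zero], by rw [map_smul, h12, smul_zero], fun hm => ?_, rfl⟩
  obtain ⟨k, hk⟩ := Submodule.mem_span_singleton.mp hm
  have h1 := congrArg (B f1) hk
  simp [H1.pair' C, hf12] at h1
  have h2 := congrArg (B f2) hk
  simp [h1, H2.pair' C] at h2
  exact hc h2.symm

theorem eq_root_of_frame {e1 f1 e2 f2 : ι → F} (H1 : Hyp Q B ⊤ e1 f1)
    (H2 : Hyp Q B (perp2 B ⊤ e1 f1) e2 f2) {U : Subgroup ↥(Cfsg.Omega F Q)}
    (h1 : ∀ a, B e1 a = 0 → ∃ u ∈ U, om Q u = sGL Q B e1 a)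
    (h2 : ∀ b, B e1 b = 0 → B e2 b = 0 → ∃ u ∈ U, om Q u = sGL Q B e2 b)
    {y : ↥(Cfsg.Omega F Q)} (hy : ∀ u ∈ U, Commute u y) (hyp : y ^ p = 1) (hy1 : y ≠ 1) :
    IsRootEl Q B (om Q y) := by
  obtain ⟨c, hc⟩ := eq_root_of_commute' C h7 (p := p) (g := om Q y) (om_mem y)
    (by rw [← map_pow, hyp, map_one]) H1 H2
    (fun a ha => by obtain ⟨u, hu, e⟩ := h1 a ha; rw [← e]; exact ((hy u hu).map (om Q)).symm)
    (fun b hb hb' => by
      obtain ⟨u, hu, e⟩ := h2 b hb hb'; rw [← e]; exact ((hy u hu).map (om Q)).symm)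
  have hc0 : c ≠ 0 := fun h => hy1 (om_injective (by
    rw [hc, h, zero_smul, map_one]
    exact gl_ext fun z => by rw [sGL_act C H1.singE (map_zero _), C.zero]; simp))
  rw [hc]
  exact root_of_frame C h7 H1 H2 hc0

/-- An element of order `p` with a class of size prime to `p` is a root element. -/
theorem isRootEl_of_small {x : ↥(Cfsg.Omega F Q)} (hx : x ≠ 1) (hxp : x ^ p = 1)
    (hnd : ¬ p ∣ Nat.card (cls x)) : IsRootEl Q B (om Q x) := by
  obtain ⟨e1, f1, e2, f2, U, H1, H2, hU, h1, h2⟩ := exists_frame_group C h7 p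
  have hQ : IsPGroup p (U.map (ConjAct.toConjAct (G := ↥(Cfsg.Omega F Q))).toMonoidHom) := hU.map _
  obtain ⟨⟨y, hy⟩, hfix⟩ := hQ.nonempty_fixed_point_of_prime_not_dvd_card
    (MulAction.orbit (ConjAct ↥(Cfsg.Omega F Q)) x) (by rw [cls_eq_orbit]; exact hnd)
  rw [cls_eq_orbit] at hy
  obtain ⟨g, rfl⟩ := hy
  have hcomm : ∀ u ∈ U, Commute u (g * x * g⁻¹) := fun u hu => by
    have e1 := congrArg Subtype.val (hfix ⟨ConjAct.toConjAct u, u, hu, rfl⟩)
    have e2 : u * (g * x * g⁻¹) * u⁻¹ = g * x * g⁻¹ := (ConjAct.smul_def (ConjAct.toConjAct u) _).symm.trans e1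
    exact mul_inv_eq_iff_eq_mul.1 e2
  have hr := eq_root_of_frame C h7 p H1 H2 h1 h2 hcomm
    (by rw [conj_pow, hxp, mul_one, mul_inv_cancel]) (fun h => hx (conj_eq_one_iff.1 h))
  have h3 := hr.conj C (inv_mem (om_mem g))
  rw [map_mul, map_mul, map_inv] at h3
  simpa [mul_assoc] using h3

/-- The class of a root element has size prime to `p`. -/
theorem not_dvd_card_cls_root {x : ↥(Cfsg.Omega F Q)} (hx : IsRootEl Q B (om Q x)) :
    ¬ p ∣ Nat.card (cls x) := by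
  obtain ⟨e1, f1, e2, f2, U, H1, H2, hU, h1, h2⟩ := exists_frame_group C h7 p
  obtain ⟨S, hS⟩ := hU.exists_le_sylow
  have hne : Nontrivial ↥(S : Subgroup ↥(Cfsg.Omega F Q)) := by
    obtain ⟨-, h12, -⟩ := mem_perp2.mp H2.memE
    obtain ⟨u, hu, e⟩ := h1 e2 h12
    refine ⟨⟨⟨u, hS hu⟩, 1, fun h => ?_⟩⟩
    have h0 := (root_of_frame C h7 H1 H2 (one_ne_zero (α := F))).ne_one C
    rw [one_smul, ← e, show u = 1 from congrArg Subtype.val h, map_one] at h0
    exact h0 rfl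
  haveI := (S.isPGroup').center_nontrivial
  have hZ : IsPGroup p ↥(Subgroup.center ↥(S : Subgroup ↥(Cfsg.Omega F Q))) := S.isPGroup'.to_subgroup _
  obtain ⟨n, hn0, hn⟩ := (IsPGroup.nontrivial_iff_card hZ).mp inferInstance
  obtain ⟨z, hz⟩ := exists_prime_orderOf_dvd_card' p (G := ↥(Subgroup.center ↥(S : Subgroup ↥(Cfsg.Omega F Q))))
    (hn ▸ dvd_pow_self p hn0.ne')
  set y : ↥(Cfsg.Omega F Q) := ((z : ↥(S : Subgroup ↥(Cfsg.Omega F Q))) : ↥(Cfsg.Omega F Q)) with hy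
  have hyo : orderOf y = p := by rw [hy, Subgroup.orderOf_coe, Subgroup.orderOf_coe, hz]
  have hcent : ∀ s ∈ S, Commute s y := fun s hs =>
    congrArg Subtype.val (Subgroup.mem_center_iff.mp z.2 ⟨s, hs⟩)
  have hr := eq_root_of_frame C h7 p H1 H2 h1 h2 (fun u hu => hcent u (hS hu))
    (hyo ▸ pow_orderOf_eq_one y) (fun h => by rw [h, orderOf_one] at hyo; exact hp.out.one_lt.ne hyo)
  obtain ⟨e, w, he0, he, hw, hew, hind, hxe⟩ := hx
  obtain ⟨e', w', he0', he', hw', hew', hind', hye⟩ := hr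
  obtain ⟨g, hg, hgy⟩ := line_trans C h7 he0' he' hw' hew' hind' he0 he hw hew hind
  obtain ⟨k, rfl⟩ := exists_om C h7 hg
  have hmem : x ∈ cls y := ⟨k, om_injective (by rw [map_mul, map_mul, map_inv, hye, hxe]; exact hgy)⟩
  rw [cls_eq_of_mem hmem]
  exact not_dvd_card_cls_of_central S hcent

/-! ## Modulo the centre -/

omit h7 in
theorem center_eq_one_of_pow (h7 : 7 ≤ Fintype.card ι) {z : ↥(Cfsg.Omega F Q)}
    (hz : z ∈ Subgroup.center ↥(Cfsg.Omega F Q)) (h : z ^ p = 1) : z = 1 := by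
  refine om_injective (Units.ext ?_)
  rw [map_one, Units.val_one]
  rcases omega_center_pm C h7 hz with h1 | h1
  · exact h1
  have h2 : ((om Q z).val) ^ p = 1 := by rw [← Units.val_pow_eq_pow_val, ← map_pow, h, map_one, Units.val_one]
  have h3 : (om Q z).val = -1 := h1
  rw [h3] at h2 ⊢
  haveI : Nonempty ι := Fintype.card_pos_iff.mp (by omega)
  haveI : CharP (Matrix ι ι F) p := inferInstance
  rwa [neg_one_pow_char (Matrix ι ι F) p] at h2

omit hp p [CharP F p] in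
theorem center_sq {z : ↥(Cfsg.Omega F Q)} (hz : z ∈ Subgroup.center ↥(Cfsg.Omega F Q)) : z * z = 1 := by
  refine om_injective (Units.ext ?_)
  rw [map_mul, map_one, Units.val_mul, Units.val_one]
  rcases omega_center_pm C h7 hz with h1 | h1
  · rw [show (om Q z).val = 1 from h1, one_mul]
  · rw [show (om Q z).val = -1 from h1, neg_mul_neg, one_mul]

theorem mk_inj_of_pow {x y : ↥(Cfsg.Omega F Q)} (hx : x ^ p = 1) (hy : y ^ p = 1)
    (h : (QuotientGroup.mk x : Cfsg.POmega F Q) = QuotientGroup.mk y) : x = y := by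
  have hz : x⁻¹ * y ∈ Subgroup.center _ := QuotientGroup.eq.1 h
  have hcomm : Commute x (x⁻¹ * y) := Subgroup.mem_center_iff.1 hz x
  have h1 : (x⁻¹ * y) ^ p = 1 := by
    have h2 := hcomm.mul_pow p
    rw [mul_inv_cancel_left, hy, hx, one_mul] at h2
    exact h2.symm
  exact inv_mul_eq_one.1 (center_eq_one_of_pow C p h7 hz h1)

theorem exists_lift_pow {a : Cfsg.POmega F Q} (ha : a ^ p = 1) :
    ∃ y : ↥(Cfsg.Omega F Q), y ^ p = 1 ∧ QuotientGroup.mk y = a := by
  obtain ⟨y, rfl⟩ := QuotientGroup.mk_surjective a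
  rw [← QuotientGroup.mk_pow, QuotientGroup.eq_one_iff] at ha
  rcases hp.out.eq_two_or_odd' with h2 | hodd
  · refine ⟨y, center_eq_one_of_pow C p h7 ha ?_, rfl⟩
    subst h2
    rw [sq, center_sq C h7 ha]
  · refine ⟨y ^ p * y, ?_, ?_⟩
    · obtain ⟨k, hk⟩ := hodd
      have hc : Commute (y ^ p) y := (Commute.refl y).pow_left p
      rw [hc.mul_pow]
      conv_lhs => arg 1; rw [hk, pow_succ, pow_mul, sq, ← hk, center_sq C h7 ha, one_pow, one_mul]
      exact center_sq C h7 ha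
    · rw [QuotientGroup.mk_mul, (QuotientGroup.eq_one_iff _).2 ha, one_mul]

theorem card_cls_mk {x : ↥(Cfsg.Omega F Q)} (hx : x ^ p = 1) :
    Nat.card (cls (QuotientGroup.mk x : Cfsg.POmega F Q)) = Nat.card (cls x) := by
  have e : cls (QuotientGroup.mk x : Cfsg.POmega F Q) =
      (fun y : ↥(Cfsg.Omega F Q) => (QuotientGroup.mk y : Cfsg.POmega F Q)) '' cls x := by
    ext a
    constructor
    · rintro ⟨g, rfl⟩
      obtain ⟨g, rfl⟩ := QuotientGroup.mk_surjective g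
      exact ⟨_, ⟨g, rfl⟩, rfl⟩
    · rintro ⟨_, ⟨g, rfl⟩, rfl⟩
      exact ⟨QuotientGroup.mk g, rfl⟩
  rw [e]
  refine Nat.card_image_of_injOn ?_
  rintro _ ⟨g, rfl⟩ _ ⟨k, rfl⟩ h
  exact mk_inj_of_pow C h7 p (by rw [conj_pow, hx, mul_one, mul_inv_cancel])
    (by rw [conj_pow, hx, mul_one, mul_inv_cancel]) h

/-- An automorphism carries root elements to root elements. -/
theorem exists_image (γ : MulAut (Cfsg.POmega F Q)) {x : ↥(Cfsg.Omega F Q)} (hx : IsRootEl Q B (om Q x)) :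
    ∃ y : ↥(Cfsg.Omega F Q), IsRootEl Q B (om Q y) ∧
      γ (QuotientGroup.mk x) = QuotientGroup.mk y := by
  have hxp : x ^ p = 1 := om_injective (by rw [map_pow, hx.pow_char C p, map_one])
  obtain ⟨y, hy, hyx⟩ := exists_lift_pow C h7 p (a := γ (QuotientGroup.mk x))
    (by rw [← map_pow, ← QuotientGroup.mk_pow, hxp, QuotientGroup.mk_one, map_one])
  refine ⟨y, isRootEl_of_small C h7 p (fun h => hx.ne_one C ?_) hy ?_, hyx.symm⟩
  · rw [h, QuotientGroup.mk_one] at hyx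
    have := mk_inj_of_pow C h7 p hxp (one_pow p)
      (γ.injective (by rw [← hyx, QuotientGroup.mk_one, map_one]))
    rw [this, map_one]
  · rw [← card_cls_mk C h7 p hy, hyx, card_cls_map, card_cls_mk C h7 p hxp]
    exact not_dvd_card_cls_root C h7 p hx

theorem commute_mk_iff {x y : ↥(Cfsg.Omega F Q)} (hx : IsRootEl Q B (om Q x)) (hy : IsRootEl Q B (om Q y)) :
    Commute (QuotientGroup.mk x : Cfsg.POmega F Q) (QuotientGroup.mk y) ↔ Commute (om Q x) (om Q y) := by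
  have hp' : ∀ {z}, IsRootEl Q B (om Q z) → z ^ p = 1 := fun hz =>
    om_injective (by rw [map_pow, hz.pow_char C p, map_one])
  constructor
  · intro h
    have h1 : (QuotientGroup.mk (x * y * x⁻¹) : Cfsg.POmega F Q) = QuotientGroup.mk y := by
      rw [QuotientGroup.mk_mul, QuotientGroup.mk_mul, QuotientGroup.mk_inv, h.eq, mul_inv_cancel_right]
    have h2 := mk_inj_of_pow C h7 p (by rw [conj_pow, hp' hy, mul_one, mul_inv_cancel]) (hp' hy) h1
    exact Commute.map (mul_inv_eq_iff_eq_mul.1 h2) (om Q)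
  · intro h
    have h' : Commute x y := om_injective (by rw [map_mul, map_mul]; exact h.eq)
    exact h'.map (QuotientGroup.mk' _)

end

end Cfsg.Lib.Linear.AutPO
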