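import Cfsg.Agent.Lib.Linear.AutPO.PlusBalance
import Cfsg.Agent.Lib.Linear.AutPO.D4Out

/-!
# The graph component of an automorphism of `PΩ₈⁺`

Every automorphism has a graph component among the permutations of the three end nodes; it fixes the node of the natural
module exactly when the automorphism is induced by a semisimilarity.
-/

set_option autoImplicit false
set_option linter.unusedSectionVars false
set_option maxRecDepth 10000
set_option synthInstance.maxHeartbeats 400000
set_option maxHeartbeats 3200000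

namespace Cfsg.Lib.Linear.AutPO

open Cfsg.Lie Cfsg.Lib.Linear.Orth
open Cfsg.Lib.Chev hiding isFieldAut_iff
open Cfsg.Lib.Linear.Descent (sc sm tw sc_val sc_comm sm_sc sm_one sm_mul)
open Cfsg.Lib.Chev.D4Orth (I8 cd ent d4L mM lA lP mM_pair eqL toM_of_eqL)
open scoped Matrix

set_option quotPrecheck false

universe u

variable {F : Type u} [Field F] [Fintype F]

local notation "Q₈" => Cfsg.quadFormPlus 4 F
local notation "GS" => ↥(Cfsg.Geo.quadSimilarityGroup (F := F) Q₈)
local notation "P" => Cfsg.POmega F Q₈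
local notation "D" => Cfsg.inndiagPOmegaPlus 4 F
local notation "hQ" => (stdForm_plus : StdForm (Cfsg.quadFormPlus 4 F))
local notation "CD" => (fullCertD4.comm.cert)
local notation "GD" => ↥(chevD4.group F)
local notation "qD" => (QuotientGroup.mk' (Cfsg.Inn GD) : MulAut GD →* Cfsg.Out GD)

/-- The graph component in the outer automorphism group is unique. -/
theorem out_perm_unique {v v' : Fin chevD4.rank → Fˣ} {π π' : Equiv.Perm (Fin 3)} {σ σ' : F ≃+* F}
    (h : d4DiagOut v * graphOut π * fieldOut σ = d4DiagOut v' * graphOut π' * fieldOut σ') : π = π' := by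
  obtain ⟨w, hw⟩ : (graphOut (F := F) π')⁻¹ * d4DiagOut (v'⁻¹ * v) * ((graphOut (F := F) π')⁻¹)⁻¹ ∈
      (d4DiagOut (F := F)).range := d4_diag_normal.conj_mem _ ⟨_, rfl⟩ _
  have h1 : d4DiagOut w * graphOut (π'⁻¹ * π) * fieldOut (σ * σ'⁻¹) = 1 := by
    rw [hw, map_mul d4DiagOut, map_mul graphOut, map_mul fieldOut, map_inv, map_inv, map_inv]
    calc _ = (graphOut π')⁻¹ * (d4DiagOut v')⁻¹ * (d4DiagOut v * graphOut π * fieldOut σ) * (fieldOut σ')⁻¹ := by
          group
      _ = 1 := by rw [h]; group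
  have := (d4_eq_one h1).2.1
  rw [inv_mul_eq_one] at this
  exact this.symm

/-- The graph component. -/
noncomputable def outPerm : Cfsg.Out GD →* Equiv.Perm (Fin 3) :=
  MonoidHom.mk' (fun o => (d4_surj o).choose_spec.choose) fun a b => by
    obtain ⟨σ, hσ⟩ := (d4_surj a).choose_spec.choose_spec
    obtain ⟨τ, hτ⟩ := (d4_surj b).choose_spec.choose_spec
    obtain ⟨ρ, hρ⟩ := (d4_surj (a * b)).choose_spec.choose_spec
    set π₁ := (d4_surj a).choose_spec.choose
    set π₂ := (d4_surj b).choose_spec.choose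
    obtain ⟨w, hw⟩ : graphOut (F := F) π₁ * d4DiagOut (d4_surj b).choose * (graphOut (F := F) π₁)⁻¹ ∈
        (d4DiagOut (F := F)).range := d4_diag_normal.conj_mem _ ⟨_, rfl⟩ _
    refine out_perm_unique (v := (d4_surj (a * b)).choose) (v' := (d4_surj a).choose * w) (σ := ρ) (σ' := σ * τ) ?_
    rw [← hρ, map_mul d4DiagOut, map_mul graphOut, map_mul fieldOut, hw]
    conv_lhs => rw [hσ, hτ]
    calc _ = d4DiagOut (d4_surj a).choose * graphOut π₁ *
          (fieldOut σ * (d4DiagOut (d4_surj b).choose * graphOut π₂)) * fieldOut τ := by group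
      _ = _ := by rw [field_central σ]; group

theorem outPerm_eq {o : Cfsg.Out GD} {v : Fin chevD4.rank → Fˣ} {π : Equiv.Perm (Fin 3)} {σ : F ≃+* F}
    (h : o = d4DiagOut v * graphOut π * fieldOut σ) : outPerm o = π := by
  obtain ⟨τ, hτ⟩ := (d4_surj o).choose_spec.choose_spec
  exact out_perm_unique (hτ.symm.trans h)

variable {e : ↥(chevD4.group F) ≃* Cfsg.POmega F (Cfsg.quadFormPlus 4 F)} (he : RootEquiv e)
  (p : ℕ) [Fact p.Prime] [CharP F p]

/-- The graph component of an automorphism. -/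
noncomputable def autPerm (e : ↥(chevD4.group F) ≃* Cfsg.POmega F (Cfsg.quadFormPlus 4 F)) :
    MulAut P →* Equiv.Perm (Fin 3) :=
  (outPerm.comp qD).comp (trf e).symm.toMonoidHom

theorem autPerm_trf (θ : MulAut GD) : autPerm e (trf e θ) = outPerm (qD θ) := by
  show outPerm (qD ((trf e).symm (trf e θ))) = _
  rw [MulEquiv.symm_apply_apply]

theorem autPerm_graph (π : Equiv.Perm (Fin 3)) : autPerm e (trf e (endGraph π)) = π := by
  rw [autPerm_trf]
  exact outPerm_eq (v := 1) (σ := 1) (by rw [map_one, map_one, one_mul, mul_one]; rfl)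

include he

theorem autPerm_fld (σ : F ≃+* F) : autPerm e (fld hQ σ) = 1 := by
  rw [← trf_fieldOf he, autPerm_trf]
  exact outPerm_eq (v := 1) (σ := σ) (by rw [map_one, map_one, one_mul, one_mul]; rfl)

include p

theorem autPerm_diag {β : MulAut P} (h : β ∈ D) : autPerm e β = 1 := by
  rw [d4_diag_eq he p] at h
  obtain ⟨θ, hθ, rfl⟩ := h
  obtain ⟨v, hv⟩ := Subgroup.mem_comap.1 hθ
  show autPerm e (trf e θ) = 1
  rw [autPerm_trf, ← hv]
  exact outPerm_eq (v := v) (σ := 1) (by rw [map_one, map_one, mul_one, mul_one])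

/-- An automorphism as a product of an inner-diagonal, a field and a graph automorphism. -/
theorem exists_perm_decomp (b : MulAut P) : ∃ (A : GS) (σ : F ≃+* F), innd A ∈ D ∧
    b = innd A * fld hQ σ * trf e (endGraph (autPerm e b)) := by
  set θ := (trf e).symm b with hθ
  obtain ⟨v, π, σ, ho⟩ := d4_surj (qD θ)
  have hπ : autPerm e b = π := outPerm_eq ho
  obtain ⟨k, hk⟩ : θ * (diagOf CD autDataD4 v * endGraph π * fieldOf CD σ)⁻¹ ∈ Cfsg.Inn GD := by
    rw [← QuotientGroup.eq_one_iff]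
    show qD (θ * (diagOf CD autDataD4 v * endGraph π * fieldOf CD σ)⁻¹) = 1
    rw [map_mul, map_inv, mul_inv_eq_one, map_mul, map_mul]
    exact ho
  have hθ' : θ = MulAut.conj k * diagOf CD autDataD4 v * fieldOf CD σ * endGraph π := by
    rw [eq_mul_inv_iff_mul_eq] at hk
    rw [← hk, mul_assoc (MulAut.conj k * diagOf CD autDataD4 v), (field_pass CD autDataD4 (endGraph_act π) σ).symm]
    group
  obtain ⟨B, C⟩ := exists_space_plus (F := F) 4
  obtain ⟨t, ht⟩ := QuotientGroup.mk_surjective (e k)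
  obtain ⟨A₁, -, hA₁⟩ := conj_mk_eq C (by simp) p t
  obtain ⟨t', c, A₂, hA₂, hA₂m, hA₂d, hA₂e⟩ := exists_diagOf he v
  refine ⟨A₁ * A₂, σ, ?_, ?_⟩
  · rw [map_mul]
    refine mul_mem (plus_inn_le le_rfl p C ⟨e k, ?_⟩) (diagSim_mem he p hA₂ hA₂m hA₂d)
    rw [hA₁, ht]
  · rw [hπ, map_mul, ← hA₂e, hA₁, ht, ← trf_conj, ← trf_fieldOf he, ← map_mul, ← map_mul, ← map_mul, ← hθ',
      hθ, MulEquiv.apply_symm_apply]

omit he p

/-- The invariant separating the node of the natural module. -/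
theorem mM_eq {l l' : List (ℕ × ℕ × ℤ)} (h : eqL l l' = true) : mM F l = mM F l' := by
  rw [mM, mM, toM_of_eqL h]

theorem node_pairs : ∀ π : Equiv.Perm (Fin 3), π 0 ≠ 0 →
    ((![18, 14, 13, 12] : Fin 4 → Fin 24) (endPerm π 2) = 18 ∧
      ((![18, 14, 13, 12] : Fin 4 → Fin 24) (endPerm π 3) = 13 ∨ (![18, 14, 13, 12] : Fin 4 → Fin 24) (endPerm π 3) = 12)) ∨
    ((![18, 14, 13, 12] : Fin 4 → Fin 24) (endPerm π 3) = 18 ∧
      ((![18, 14, 13, 12] : Fin 4 → Fin 24) (endPerm π 2) = 13 ∨ (![18, 14, 13, 12] : Fin 4 → Fin 24) (endPerm π 2) = 12)) := by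
  decide +kernel

theorem d4_simpF : ∀ i : Fin 4, tblD4.simp' i = (((![18, 14, 13, 12] : Fin 4 → Fin 24) i : Fin 24) : ℕ) := by
  decide +kernel

theorem root_act (r : Fin 24) {a b a' b' : I8} (h : eqL (d4L r) [(cd a, cd b, 1), (cd a', cd b', -1)] = true)
    {U : Matrix I8 I8 F} (hU : U = 1 + (1 : F) • mM F (d4L r)) (v : I8 → F) :
    U *ᵥ v = v + (Pi.single a (v b) + Pi.single a' (-(v b'))) := by
  rw [hU, one_smul, Matrix.add_mulVec, Matrix.one_mulVec, mM_eq h, mM_pair]
  simp

/-- The moved pairs of end nodes move into totally singular subspaces. -/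
theorem pair_singular {U V : Matrix I8 I8 F} {r r' : Fin 24} (hU : U = 1 + (1 : F) • mM F (d4L r))
    (hV : V = 1 + (1 : F) • mM F (d4L r'))
    (h : (r = 18 ∧ (r' = 13 ∨ r' = 12)) ∨ (r' = 18 ∧ (r = 13 ∨ r = 12))) (v : I8 → F) :
    Q₈ ((U * V) *ᵥ v - v) = 0 := by
  have h18 : eqL (d4L 18) (lA 0 1) = true := by decide +kernel
  have h13 : eqL (d4L 13) (lA 2 3) = true := by decide +kernel
  have h12 : eqL (d4L 12) (lP 2 3) = true := by decide +kernel
  rw [← Matrix.mulVec_mulVec]
  rcases h with ⟨rfl, rfl | rfl⟩ | ⟨rfl, rfl | rfl⟩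
  · rw [root_act 18 h18 hU, root_act 13 h13 hV]
    simp [Cfsg.quadFormPlus, Fin.sum_univ_four, Pi.single_apply]
  · rw [root_act 18 h18 hU, root_act 12 h12 hV]
    simp [Cfsg.quadFormPlus, Fin.sum_univ_four, Pi.single_apply]
  · rw [root_act 13 h13 hU, root_act 18 h18 hV]
    simp [Cfsg.quadFormPlus, Fin.sum_univ_four, Pi.single_apply]
  · rw [root_act 12 h12 hU, root_act 18 h18 hV]
    simp [Cfsg.quadFormPlus, Fin.sum_univ_four, Pi.single_apply]

include he p

set_option maxHeartbeats 6400000 in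
/-- A semisimilarity times a graph automorphism fixing the standard element fixes the node of the natural module. -/
theorem graph_fix_node {g : GL I8 F} {τ : F ≃+* F} (hs : Cfsg.IsSemisimilarityPair Q₈ g τ) (π : Equiv.Perm (Fin 3))
    (h : semiAut hs (trf e (endGraph π) (e (autEl CD (13 : Fin 24) 1 * autEl CD (12 : Fin 24) 1))) =
      e (autEl CD (13 : Fin 24) 1 * autEl CD (12 : Fin 24) 1)) : π 0 = 0 := by
  classical
  by_contra hπ
  obtain ⟨B, C⟩ := exists_space_plus (F := F) 4
  have hact : ∀ i : Fin 4, ∀ t : F, endGraph (F := F) π (autEl CD ((![18, 14, 13, 12] : Fin 4 → Fin 24) i : ℕ) t) =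
      autEl CD ((![18, 14, 13, 12] : Fin 4 → Fin 24) (endPerm π i) : ℕ) t := fun i t => by
    rw [← d4_simpF i, ← d4_simpF (endPerm π i)]
    exact (endGraph_act π).pos i t
  obtain ⟨s13, h13, e13⟩ := he 13 1
  obtain ⟨s12, h12, e12⟩ := he 12 1
  obtain ⟨sa, ha, ea⟩ := he ((![18, 14, 13, 12] : Fin 4 → Fin 24) (endPerm π 2)) 1
  obtain ⟨sb, hb, eb⟩ := he ((![18, 14, 13, 12] : Fin 4 → Fin 24) (endPerm π 3)) 1
  have hmap : trf e (endGraph π) (e (autEl CD (13 : Fin 24) 1 * autEl CD (12 : Fin 24) 1)) =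
      QuotientGroup.mk (sa * sb) := by
    show e (endGraph π (e.symm (e _))) = _
    rw [MulEquiv.symm_apply_apply, map_mul, QuotientGroup.mk_mul, ← ea, ← eb, ← map_mul e]
    exact congrArg e (congrArg₂ (· * ·) (hact 2 1) (hact 3 1))
  rw [hmap, map_mul e, e13, e12, ← QuotientGroup.mk_mul, semiAut_mk, QuotientGroup.eq] at h
  set z := (semiOmega hs (sa * sb))⁻¹ * (s13 * s12) with hz
  obtain ⟨η, hη, hzv⟩ : ∃ η : F, (η = 1 ∨ η = -1) ∧ ∀ v, (om Q₈ z).val *ᵥ v = η • v := by
    rcases omega_center_pm C (by simp) h with e' | e'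
    · exact ⟨1, Or.inl rfl, fun v => by rw [show (om Q₈ z).val = 1 from e', Matrix.one_mulVec, one_smul]⟩
    · exact ⟨-1, Or.inr rfl, fun v => by
        rw [show (om Q₈ z).val = -1 from e', Matrix.neg_mulVec, Matrix.one_mulVec, neg_one_smul]⟩
  have hsing : ∀ v, Q₈ ((om Q₈ (sa * sb)).val *ᵥ v - v) = 0 := fun v => by
    rw [map_mul, Units.val_mul]
    exact pair_singular ha hb (node_pairs π hπ) v
  obtain ⟨μ, hμ⟩ := id hs
  -- the image has the same property, up to sign
  have himg : ∀ w, Q₈ ((om Q₈ (s13 * s12)).val *ᵥ w - η • w) = 0 := fun w => by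
    obtain ⟨v, rfl⟩ := semi_surj τ g w
    rw [show s13 * s12 = semiOmega hs (sa * sb) * z by rw [hz]; group, map_mul, mul_act, hzv, Matrix.mulVec_smul,
      show om Q₈ (semiOmega hs (sa * sb)) = semiGL g τ (om Q₈ (sa * sb)) from semiOmega_coe hs _, semiGL_act,
      ← smul_sub, C.smul, ← Matrix.mulVec_sub, show τ ∘ ((om Q₈ (sa * sb)).val *ᵥ v) - τ ∘ v =
        τ ∘ ((om Q₈ (sa * sb)).val *ᵥ v - v) from funext fun i => (map_sub τ _ _).symm]
    refine mul_eq_zero_of_right _ ((hμ _).trans ?_)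
    rw [hsing, map_zero, mul_zero]
  have hval : ∀ w : I8 → F, (om Q₈ (s13 * s12)).val *ᵥ w =
      w + (Pi.single (.inl 2) (w (.inr 3)) + Pi.single (.inl 3) (-(w (.inr 2)))) +
        (Pi.single (.inl 2) (w (.inl 3) - w (.inr 2)) + Pi.single (.inr 3) (-(w (.inr 2)))) := fun w => by
    rw [map_mul, mul_act, root_act 12 (show eqL (d4L 12) (lP 2 3) = true by decide +kernel) (U := (om Q₈ s12).val) h12,
      root_act 13 (show eqL (d4L 13) (lA 2 3) = true by decide +kernel) (U := (om Q₈ s13).val) h13]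
    congr 2
    · congr 1
      simp [Pi.single_apply]
      ring
    · simp [Pi.single_apply]
  have h2 := himg (Pi.single (.inr 2) 1)
  have h3 := himg (Pi.single (.inl 0) 1 + Pi.single (.inr 0) 1)
  rw [hval] at h2 h3
  rcases hη with rfl | rfl
  · simp [Cfsg.quadFormPlus, Fin.sum_univ_four, Pi.single_apply] at h2
  · simp [Cfsg.quadFormPlus, Fin.sum_univ_four, Pi.single_apply] at h2 h3

section Semi

omit he p

theorem IsSemiAut.mul {b b' : MulAut P} (h : IsSemiAut Q₈ b) (h' : IsSemiAut Q₈ b') : IsSemiAut Q₈ (b * b') := by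
  obtain ⟨g, σ, hs, rfl⟩ := h
  obtain ⟨g', σ', hs', rfl⟩ := h'
  exact ⟨_, _, isSemi_mul hs hs', semiAut_mul hs hs'⟩

theorem isSemiAut_innd (A : GS) : IsSemiAut Q₈ (innd A) := ⟨_, _, isSemi_sim A, rfl⟩

theorem isSemiAut_fld (σ : F ≃+* F) : IsSemiAut Q₈ (fld hQ σ) := ⟨_, _, isSemi_fld hQ σ, rfl⟩

theorem IsSemiAut.inv {b : MulAut P} (h : IsSemiAut Q₈ b) : IsSemiAut Q₈ b⁻¹ := by
  obtain ⟨g, σ, hs, rfl⟩ := h
  rw [semiAut_eq_mul hQ hs, _root_.mul_inv_rev, ← map_inv, ← map_inv]
  exact (isSemiAut_fld _).mul (isSemiAut_innd _)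

variable {B : LinearMap.BilinForm F (Fin 4 ⊕ Fin 4 → F)} (C : Space (Cfsg.quadFormPlus 4 F) B)

include he p C

/-- The reflection interchanging a hyperbolic pair has the transposition fixing the first node as component. -/
theorem autPerm_swap :
    autPerm e (innd (swapS (n := 3) C)) = Equiv.swap 1 2 := by
  obtain ⟨A, σ, hA, hb⟩ := exists_perm_decomp he p (innd (swapS (n := 3) C))
  set π := autPerm e (innd (swapS (n := 3) C)) with hπ
  have hne : π ≠ 1 := fun h1 => by
    rw [h1, map_one, map_one, mul_one] at hb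
    have h2 := decomp_unique C (by simp) p hQ (A := swapS (n := 3) C) (A' := A) (σ := 1) (τ := σ)
      (by rw [map_one, mul_one]; exact hb)
    exact plus_refl_not_diag (m := 4) le_rfl p C (swapV_ne (n := 3)) (h2.2.symm ▸ hA)
  have hsemi : IsSemiAut Q₈ (trf e (endGraph π)) := by
    rw [show trf e (endGraph π) = (innd A * fld hQ σ)⁻¹ * innd (swapS (n := 3) C) by rw [hb]; group]
    exact ((isSemiAut_innd A).mul (isSemiAut_fld σ)).inv.mul (isSemiAut_innd _)
  have h0 : π 0 = 0 := by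
    obtain ⟨g, τ, hs, e'⟩ := hsemi.inv
    refine graph_fix_node he p hs π ?_
    rw [← e', ← MulAut.mul_apply, inv_mul_cancel, MulAut.one_apply]
  revert hne h0
  generalize π = π'
  revert π'
  decide +kernel

/-- An automorphism fixing the node of the natural module is induced by a semisimilarity. -/
theorem isSemi_of_perm {b : MulAut P} (h : autPerm e b 0 = 0) : IsSemiAut Q₈ b := by
  obtain ⟨A, σ, -, hb⟩ := exists_perm_decomp he p b
  obtain ⟨A', σ', -, hs⟩ := exists_perm_decomp he p (innd (swapS (n := 3) C))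
  rw [autPerm_swap he p C] at hs
  have key : ∀ π : Equiv.Perm (Fin 3), π 0 = 0 → π = 1 ∨ π = Equiv.swap 1 2 := by decide +kernel
  rw [hb]
  refine ((isSemiAut_innd A).mul (isSemiAut_fld σ)).mul ?_
  rcases key _ h with h1 | h1 <;> rw [h1]
  · rw [map_one, map_one, ← map_one (innd : GS →* _)]
    exact isSemiAut_innd 1
  · rw [show trf e (endGraph (Equiv.swap 1 2)) = (innd A' * fld hQ σ')⁻¹ * innd (swapS (n := 3) C) by rw [hs]; group]
    exact ((isSemiAut_innd A').mul (isSemiAut_fld σ')).inv.mul (isSemiAut_innd _)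

/-- The component of a similitude outside the inner-diagonal group. -/
theorem autPerm_not_diag (X : GS) (hX : innd X ∉ D) : autPerm e (innd X) = Equiv.swap 1 2 := by
  have h := (plus_diag_or_refl (m := 4) le_rfl p C X (swapV_ne (n := 3))).resolve_left hX
  have h1 : autPerm e (innd (X * swapS (n := 3) C)) = 1 := autPerm_diag he p h
  rw [map_mul, map_mul, autPerm_swap he p C, mul_eq_one_iff_eq_inv, Equiv.swap_inv] at h1
  exact h1

end Semi

include he p in
/-- The automorphisms centralising an element outside the inner-diagonal group are semisimilarities. -/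
theorem twistDec_three : TwistDec 3 F := by
  obtain ⟨B, C⟩ := exists_space_plus (F := F) 4
  intro σ X hX b hb
  refine isSemi_of_perm he p C ?_
  have h1 := congrArg (autPerm e) hb
  simp only [map_mul, autPerm_fld he, mul_one, autPerm_not_diag he p C X hX] at h1
  revert h1
  generalize autPerm e b = π
  revert π
  decide +kernel

include he p in
/-- The automorphisms centralising the rational root elements are semisimilarities. -/
theorem ratDec_three : RatDec 3 F := by
  classical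
  obtain ⟨B, C⟩ := exists_space_plus (F := F) 4
  intro σ ψ hψ b hb
  refine isSemi_of_perm he p C ?_
  letI : Fintype (AutPSL.fixedF σ) := Fintype.ofFinite _
  obtain ⟨A, τ, -, hdec⟩ := exists_perm_decomp he p b
  obtain ⟨e₀, he₀⟩ := exists_rootEquiv (F := AutPSL.fixedF σ)
  obtain ⟨u13, hu13, -⟩ := he₀ 13 1
  obtain ⟨u12, hu12, -⟩ := he₀ 12 1
  obtain ⟨t, ht, htv⟩ := hψ (u13 * u12)
  obtain ⟨s13, h13, e13⟩ := he 13 1
  obtain ⟨s12, h12, e12⟩ := he 12 1
  have hu : ψ (u13 * u12) = e (autEl CD (13 : Fin 24) 1 * autEl CD (12 : Fin 24) 1) := by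
    rw [map_mul e, e13, e12, ← QuotientGroup.mk_mul, ht]
    refine congrArg _ (om_injective (Units.ext ?_))
    rw [htv, map_mul, map_mul, map_mul, Units.val_mul, Units.val_mul]
    have hmap : ∀ (l : List (ℕ × ℕ × ℤ)) (U : GL I8 (AutPSL.fixedF σ)) (V : GL I8 F),
        U.val = 1 + (1 : AutPSL.fixedF σ) • mM (AutPSL.fixedF σ) l → V.val = 1 + (1 : F) • mM F l →
        (Matrix.GeneralLinearGroup.map (AutPSL.fixedF σ).subtype U).val = V.val := fun l U V hU hV => by
      show U.val.map (AutPSL.fixedF σ).subtype = _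
      rw [hU, hV, one_smul, one_smul]
      ext i j
      simp [mM, Matrix.map_apply, Matrix.one_apply]
      split_ifs <;> simp
    exact congrArg₂ (· * ·) (hmap _ _ _ hu13 h13) (hmap _ _ _ hu12 h12)
  obtain ⟨g, τ', hs, hg⟩ : IsSemiAut Q₈ (innd A * fld hQ τ) := (isSemiAut_innd A).mul (isSemiAut_fld τ)
  refine graph_fix_node he p hs (autPerm e b) ?_
  rw [← hg, ← MulAut.mul_apply, ← hdec, ← hu]
  exact hb _

end Cfsg.Lib.Linear.AutPO
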