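import Cfsg.Agent.Lib.Linear.AutPO.PlusSplit

/-!
# Rational torus elements of nonsquare multiplier for `PΩ⁺`
-/

set_option autoImplicit false

namespace Cfsg.Lib.Linear.AutPO

open Module
open Cfsg.Lib.Linear.Orth
open Cfsg.Lib.Linear.Descent (sc sm tw sc_val sc_comm sm_sc sm_one sm_mul)
open scoped Matrix

set_option quotPrecheck false

variable {m : ℕ} {F : Type*} [Field F] [Fintype F]

local notation "ιp" => (Fin m ⊕ Fin m)
local notation "Qp" => Cfsg.quadFormPlus m F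
local notation "GS" => ↥(Cfsg.Geo.quadSimilarityGroup (F := F) Qp)
local notation "P" => Cfsg.POmega F Qp
local notation "D" => Cfsg.inndiagPOmegaPlus m F

omit [Fintype F] in
/-- A diagonal Levi element acts coordinatewise. -/
theorem lev_dUnit_act (u : Fin m → Fˣ) (v : ιp → F) (k : Fin m) :
    ((lev m (dUnit u) : GL ιp F).val *ᵥ v) (.inl k) = (u k : F) * v (.inl k) ∧
      ((lev m (dUnit u) : GL ιp F).val *ᵥ v) (.inr k) = ((u k)⁻¹ : Fˣ) * v (.inr k) := by
  rw [lev_val, Matrix.fromBlocks_mulVec]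
  constructor <;> simp [dUnit, Matrix.mulVec_diagonal, Matrix.diagonal_transpose]

variable (hm : 4 ≤ m) (p : ℕ) [Fact p.Prime] [CharP F p] {B : LinearMap.BilinForm F (Fin m ⊕ Fin m → F)}
  (C : Space (Cfsg.quadFormPlus m F) B) (h2 : (2 : F) ≠ 0)

include hm p C h2

set_option maxHeartbeats 1600000 in
/-- A scaled diagonal element of determinant one. -/
theorem exists_torus (hneg : IsSquare (-1 : F)) (d : Fˣ) (u : Fin m → Fˣ) :
    ∃ T : GS, T.1 = sc d * (lev m (dUnit u) : GL ιp F) ∧ (∀ v, Qp (T.1.val *ᵥ v) = (d : F) ^ 2 * Qp v) ∧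
      innd T ∈ D ∧ (innd T ∈ Cfsg.Inn P ↔ IsSquare (∏ k, (u k : F))) := by
  have h7 : 7 ≤ Fintype.card ιp := by simp only [Fintype.card_sum, Fintype.card_fin]; omega
  set L := lev m (dUnit u) with hL
  have hTm : ∀ v, Qp ((sc d * (L : GL ιp F)).val *ᵥ v) = (d : F) ^ 2 * Qp v := fun v => by
    rw [mul_act, sc_act, C.smul, mem_iso.1 L.2]
  let T : GS := ⟨sc d * (L : GL ιp F), d ^ 2, fun v => by rw [Units.val_pow_eq_pow_val]; exact hTm v⟩
  have hdet : (L : GL ιp F).val.det = 1 :=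
    congrArg Units.val (congrArg Prod.fst (detSpin_lev_diag h2 u))
  have hspin : spin Qp L = sqSign (∏ k, (u k : F)) := congrArg Prod.snd (detSpin_lev_diag h2 u)
  have heq : innd T = innd (isoSim L) := (innd_eq_innd_sc C h7 p).2 ⟨d, rfl⟩
  refine ⟨T, rfl, hTm, (plus_diag_iff_det hm p C h2 hTm).2 ?_, ?_⟩
  · show (sc d * (L : GL ιp F)).val.det = _
    rw [Units.val_mul, sc_val, Matrix.smul_mul, Matrix.one_mul, Matrix.det_smul, hdet, mul_one, plus_card, pow_mul]
  rw [heq]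
  constructor
  · rintro ⟨x, hx⟩
    obtain ⟨t, rfl⟩ := QuotientGroup.mk_surjective x
    obtain ⟨A, hA, hA'⟩ := conj_mk_eq C h7 p t
    obtain ⟨c, hc⟩ := (innd_eq_innd_sc C h7 p).1 (hx.symm.trans hA'.symm)
    change (L : GL ιp F) = sc c * A.1 at hc
    obtain ⟨w, hw⟩ := Cfsg.Lib.H3.exists_nonsing_vec C (by omega)
    have hc2 : (c : F) ^ 2 = 1 := by
      have h1 := mem_iso.1 L.2 w
      rw [hc, hA, mul_act, sc_act, C.smul, mem_iso.1 (om_mem t)] at h1
      exact mul_right_cancel₀ hw (h1.trans (one_mul _).symm)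
    have ht : spin Qp (t : ↥(isometryGroup F Qp)) = 1 :=
      congrArg Prod.snd (Abelianization.commutator_subset_ker (detSpin Qp) t.2)
    have hneg1 : ∀ k : Fin m, IsSquare (((c : Fˣ) : F)) := fun _ => by
      rcases sq_eq_one_iff.1 hc2 with h | h <;> rw [h]
      · exact IsSquare.one
      · exact hneg
    have hLc : L = lev m (dUnit fun _ => c) * (t : ↥(isometryGroup F Qp)) := by
      refine Subtype.ext (gl_ext fun v => ?_)
      rw [hc, hA, Subgroup.coe_mul, mul_act, mul_act, sc_act]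
      funext k
      rcases k with k | k
      · rw [(lev_dUnit_act _ _ k).1]; rfl
      · rw [(lev_dUnit_act _ _ k).2, show c⁻¹ = c from inv_eq_of_mul_eq_one_right (Units.ext (by
          rw [Units.val_mul, ← sq, hc2, Units.val_one]))]
        rfl
    rw [← sqSign_eq_one, ← hspin, hLc, map_mul, ht, mul_one,
      show spin Qp (lev m (dUnit fun _ => c)) = _ from congrArg Prod.snd (detSpin_lev_diag h2 fun _ => c),
      sqSign_eq_one, Finset.prod_const]
    obtain ⟨e, he⟩ := hneg1 ⟨0, by omega⟩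
    exact ⟨e ^ Finset.univ.card, by rw [he, mul_pow]⟩
  · intro hsq
    exact Cfsg.Lib.H3.InndiagMod.inner_of_omega C h7 p h2 hdet (by rw [hspin, sqSign_eq_one]; exact hsq)

omit hm p C [Fact p.Prime] [CharP F p] in
theorem isSquare_pow_iff {d : F} (hd : d ≠ 0) (k : ℕ) : IsSquare (d ^ k) ↔ Even k ∨ IsSquare d := by
  constructor
  · intro h
    rcases Nat.even_or_odd k with hk | hk
    · exact Or.inl hk
    · obtain ⟨j, rfl⟩ := hk
      obtain ⟨e, he⟩ := h
      refine Or.inr ⟨e / d ^ j, ?_⟩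
      rw [div_mul_div_comm, ← he, eq_div_iff (mul_ne_zero (pow_ne_zero _ hd) (pow_ne_zero _ hd))]
      ring
  · rintro (⟨j, rfl⟩ | h)
    · exact ⟨d ^ j, pow_add d j j⟩
    · obtain ⟨e, rfl⟩ := h
      exact ⟨e ^ k, mul_pow e e k⟩

omit hm p C [Fact p.Prime] [CharP F p] in
/-- A square root of a nonsquare of the fixed field. -/
theorem exists_root_nonsquare {σ : F ≃+* F} {F₀ : Type*} [Field F₀] [Fintype F₀] (i : F₀ →+* F)
    (hi : ∀ x, σ x = x ↔ ∃ y, i y = x) (hσ : orderOf σ = 2) :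
    ∃ (α : F₀) (d : Fˣ), ¬ IsSquare α ∧ (d : F) ^ 2 = i α ∧ (IsSquare (d : F) ↔ Fintype.card F₀ % 4 = 3) := by
  have h20 : (2 : F₀) ≠ 0 := fun h => h2 (by rw [← map_ofNat i 2, h, map_zero])
  have hch0 : ringChar F₀ ≠ 2 := fun hc => h20 (by haveI := ringChar.of_eq hc; exact CharTwo.two_eq_zero)
  have hch : ringChar F ≠ 2 := fun hc => h2 (by haveI := ringChar.of_eq hc; exact CharTwo.two_eq_zero)
  obtain ⟨α, hα⟩ := FiniteField.exists_nonsquare hch0
  have hα0 : α ≠ 0 := fun h => hα (h ▸ ⟨0, (mul_zero 0).symm⟩)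
  obtain ⟨d, hd⟩ := isSquare_rat i hi hσ α
  have hd0 : d ≠ 0 := fun h => hα0 (i.injective (by rw [hd, h, mul_zero, map_zero]))
  refine ⟨α, Units.mk0 d hd0, hα, by rw [Units.val_mk0, sq, hd], ?_⟩
  obtain ⟨s, hs⟩ : ∃ s, Fintype.card F₀ = 2 * s + 1 :=
    ⟨Fintype.card F₀ / 2, by have := FiniteField.odd_card_of_char_ne_two hch0; omega⟩
  have hαs : α ^ s = -1 := by
    have h := FiniteField.pow_dichotomy hch0 hα0
    rw [show Fintype.card F₀ / 2 = s by omega] at h
    refine h.resolve_left fun h1 => hα ((FiniteField.isSquare_iff hch0 hα0).2 ?_)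
    rwa [show Fintype.card F₀ / 2 = s by omega]
  have e : Fintype.card F / 2 = 2 * (s * (s + 1)) := by
    rw [card_of_invol i hi hσ, hs, show (2 * s + 1) ^ 2 = 1 + 2 * (2 * (s * (s + 1))) by ring,
      Nat.add_mul_div_left _ _ two_pos]
    omega
  rw [Units.val_mk0, FiniteField.isSquare_iff hch hd0, e, pow_mul, sq, ← hd, ← map_pow, pow_mul, hαs, map_pow,
    map_neg, map_one, neg_one_pow_eq_one_iff_even (fun h => h2 (by linear_combination -h)), Nat.even_iff, hs]
  omega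

end Cfsg.Lib.Linear.AutPO
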