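import Cfsg.Agent.Lib.Linear.AutPO.D4Transfer
import Cfsg.Agent.Lib.Linear.AutPO.PlusTorus

/-!
# The inner-diagonal group of `PΩ₈⁺` is normal in the automorphism group
-/

set_option autoImplicit false
set_option linter.unusedSectionVars false
set_option maxRecDepth 10000

namespace Cfsg.Lib.Linear.AutPO

open Cfsg.Lie Cfsg.Lib.Linear.Orth
open Cfsg.Lib.Chev hiding isFieldAut_iff
open Cfsg.Lib.Linear.Descent (sc sm tw sc_val sc_comm sm_sc sm_one sm_mul)
open Cfsg.Lib.Chev.D4Orth (I8)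
open scoped Matrix

set_option quotPrecheck false

variable {F : Type*} [Field F] [Fintype F]

local notation "Q₈" => Cfsg.quadFormPlus 4 F
local notation "GS" => ↥(Cfsg.Geo.quadSimilarityGroup (F := F) Q₈)
local notation "P" => Cfsg.POmega F Q₈
local notation "D" => Cfsg.inndiagPOmegaPlus 4 F
local notation "CD" => (fullCertD4.comm.cert)
local notation "GD" => ↥(chevD4.group F)

omit [Fintype F] in
/-- A diagonal Levi element has determinant one. -/
theorem lev_dUnit_det [Fintype F] {m : ℕ} (h2 : (2 : F) ≠ 0) (u : Fin m → Fˣ) :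
    ((lev m (dUnit u) : ↥(isometryGroup F (Cfsg.quadFormPlus m F))) : GL (Fin m ⊕ Fin m) F).val.det = 1 :=
  congrArg Units.val (congrArg Prod.fst (detSpin_lev_diag h2 u))

/-- The diagonal automorphisms in the outer automorphism group. -/
noncomputable def d4DiagOut : (Fin chevD4.rank → Fˣ) →* Cfsg.Out GD :=
  (QuotientGroup.mk' (Cfsg.Inn GD)).comp (diagOf CD autDataD4 (F := F))

theorem d4_diag_normal : (d4DiagOut (F := F)).range.Normal := by
  refine ⟨?_⟩
  rintro _ ⟨u, rfl⟩ o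
  obtain ⟨v, γ, π, ε, σ, hγ, rfl⟩ := out_decomp CD autDataD4 (graphData_of_all graphOK_D4) o
  refine ⟨v * (fun k => Units.map (ε (π.symm k)).toMonoidHom (Units.map σ.toMonoidHom (u (π.symm k)))) * v⁻¹, ?_⟩
  show QuotientGroup.mk _ = QuotientGroup.mk _
  refine congrArg _ ?_
  dsimp only
  rw [map_mul, map_mul, map_inv, eq_mul_inv_iff_mul_eq, mul_assoc _ (fieldOf CD σ) (diagOf CD autDataD4 u),
    field_diag_pass CD autDataD4 σ u, mul_assoc (diagOf CD autDataD4 v) γ (_ * _), ← mul_assoc γ (diagOf CD autDataD4 _),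
    diag_pass CD autDataD4 hγ.act]
  simp only [← mul_assoc, inv_mul_cancel_right]

variable {e : ↥(chevD4.group F) ≃* Cfsg.POmega F (Cfsg.quadFormPlus 4 F)} (he : RootEquiv e)
  (p : ℕ) [Fact p.Prime] [CharP F p]

include he p

/-- A diagonal similitude is inner-diagonal. -/
theorem diagSim_mem {t : Fin 4 → Fˣ} {c : Fˣ} {A : GS}
    (hA : A.1.val = Matrix.diagonal (Sum.elim (fun k => (t k : F)) fun k => (c : F) * ((t k)⁻¹ : Fˣ)))
    (hAm : ∀ v, Q₈ (A.1.val *ᵥ v) = c * Q₈ v) (hAd : A.1.val.det = (c : F) ^ 4) : innd A ∈ D := by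
  obtain ⟨B, C⟩ := exists_space_plus (F := F) 4
  by_cases h2 : (2 : F) = 0
  · obtain ⟨d, hd⟩ : IsSquare (c : F) := FiniteField.isSquare_of_char_two
      (ringChar.eq_iff.2 (CharTwo.of_one_ne_zero_of_two_eq_zero one_ne_zero h2)) _
    have hd0 : d ≠ 0 := fun h => c.ne_zero (by rw [hd, h, mul_zero])
    refine (plus_diag_iff_omega le_rfl p C h2 (d := Units.mk0 d hd0)
      (s := lev 4 (dUnit fun k => t k * (Units.mk0 d hd0)⁻¹)) (gl_ext fun v => ?_)).2
      ((lev_mem_omega_iff (by norm_num) (Or.inr (by norm_num)) _).2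
        (FiniteField.isSquare_of_char_two (ringChar.eq_iff.2 (CharTwo.of_one_ne_zero_of_two_eq_zero one_ne_zero h2)) _))
    rw [mul_act, sc_act, hA]
    funext x
    rw [Pi.smul_apply, Matrix.mulVec_diagonal, smul_eq_mul]
    rcases x with k | k
    · rw [(lev_dUnit_act _ v k).1, Sum.elim_inl]
      simp only [Units.val_mul, Units.val_inv_eq_inv_val, Units.val_mk0]
      field_simp
    · rw [(lev_dUnit_act _ v k).2, Sum.elim_inr, hd]
      simp only [Units.val_mul, Units.val_inv_eq_inv_val, Units.val_mk0, _root_.mul_inv_rev, inv_inv]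
      field_simp
  · exact (plus_diag_iff_det le_rfl p C h2 hAm).2 hAd

set_option maxHeartbeats 1600000 in
/-- The inner-diagonal group corresponds to the inner and diagonal automorphisms. -/
theorem d4_diag_eq :
    D = (((d4DiagOut (F := F)).range).comap (QuotientGroup.mk' (Cfsg.Inn GD))).map (trf e).toMonoidHom := by
  classical
  obtain ⟨B, C⟩ := exists_space_plus (F := F) 4
  have hinn : Cfsg.Inn P ≤ (((d4DiagOut (F := F)).range).comap (QuotientGroup.mk' (Cfsg.Inn GD))).map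
      (trf e).toMonoidHom := by
    rw [← trf_inn e]
    exact Subgroup.map_mono fun x hx => Subgroup.mem_comap.2
      (by rw [QuotientGroup.mk'_apply, (QuotientGroup.eq_one_iff x).2 hx]; exact one_mem _)
  have hdiag : ∀ v, trf e (diagOf CD autDataD4 v) ∈ (((d4DiagOut (F := F)).range).comap
      (QuotientGroup.mk' (Cfsg.Inn GD))).map (trf e).toMonoidHom := fun v =>
    ⟨_, Subgroup.mem_comap.2 ⟨v, rfl⟩, rfl⟩
  refine le_antisymm (fun β hβ => ?_) ?_
  · by_cases h2 : (2 : F) = 0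
    · exact hinn (plus_diag_two le_rfl p C h2 hβ)
    obtain ⟨α, hα⟩ := FiniteField.exists_nonsquare (F := F) (fun hc => h2 (by
      haveI := ringChar.of_eq hc; exact CharTwo.two_eq_zero))
    have hα0 : α ≠ 0 := fun h => hα (h ▸ ⟨0, (mul_zero 0).symm⟩)
    obtain ⟨T1, hT1, hT1m, hT1d⟩ := exists_diagSim (F := F) ![Units.mk0 α hα0, 1, 1, 1] 1
    obtain ⟨T2, hT2, hT2m, hT2d⟩ := exists_diagSim (F := F) 1 (Units.mk0 α hα0)
    have m1 := hdiag ![(![Units.mk0 α hα0, 1, 1, 1] : Fin 4 → Fˣ) 0 / (![Units.mk0 α hα0, 1, 1, 1] : Fin 4 → Fˣ) 1,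
      (![Units.mk0 α hα0, 1, 1, 1] : Fin 4 → Fˣ) 1 / (![Units.mk0 α hα0, 1, 1, 1] : Fin 4 → Fˣ) 2,
      (![Units.mk0 α hα0, 1, 1, 1] : Fin 4 → Fˣ) 2 / (![Units.mk0 α hα0, 1, 1, 1] : Fin 4 → Fˣ) 3,
      (![Units.mk0 α hα0, 1, 1, 1] : Fin 4 → Fˣ) 2 * (![Units.mk0 α hα0, 1, 1, 1] : Fin 4 → Fˣ) 3 / 1]
    rw [trf_diagOf he _ _ hT1] at m1
    have m2 := hdiag ![(1 : Fin 4 → Fˣ) 0 / (1 : Fin 4 → Fˣ) 1, (1 : Fin 4 → Fˣ) 1 / (1 : Fin 4 → Fˣ) 2,
      (1 : Fin 4 → Fˣ) 2 / (1 : Fin 4 → Fˣ) 3, (1 : Fin 4 → Fˣ) 2 * (1 : Fin 4 → Fˣ) 3 / Units.mk0 α hα0]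
    rw [trf_diagOf he _ _ hT2] at m2
    set u := lev 4 (dUnit ![Units.mk0 α hα0, 1, 1, 1]) with hu
    have huT : innd T1 = innd (isoSim u) := congrArg innd (Subtype.ext (gl_ext fun v => by
      show T1.1.val *ᵥ v = (u : GL I8 F).val *ᵥ v
      rw [hT1]
      funext x
      rw [Matrix.mulVec_diagonal]
      rcases x with k | k
      · rw [(lev_dUnit_act _ v k).1, Sum.elim_inl]
      · rw [(lev_dUnit_act _ v k).2, Sum.elim_inr, Units.val_one, one_mul]))
    have huspin : spin Q₈ u = -1 := by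
      refine (congrArg Prod.snd (detSpin_lev_diag h2 _)).trans ?_
      rw [sqSign, if_neg]
      simpa [Fin.prod_univ_four] using hα
    have hudet : (u : GL I8 F).val.det = 1 := by
      exact lev_dUnit_det h2 _
    have sq_case : ∀ (X : GS) (c : F), (∀ v, Q₈ (X.1.val *ᵥ v) = c * Q₈ v) → innd X ∈ D → IsSquare c →
        innd X ∈ (((d4DiagOut (F := F)).range).comap (QuotientGroup.mk' (Cfsg.Inn GD))).map (trf e).toMonoidHom := by
      intro X c hc hX hcs
      rcases plus_soImage_cases le_rfl p C h2 (u := u) hudet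
        huspin (plus_sq_soImage le_rfl p C h2 hc hX hcs) with h | h
      · exact hinn h
      · rw [← huT] at h
        exact (Subgroup.mul_mem_cancel_right _ m1).1 (hinn h)
    obtain ⟨A, rfl⟩ := inndiag_plus_le_range le_rfl p C hβ
    obtain ⟨c, hc⟩ := A.2
    by_cases hcs : IsSquare (c : F)
    · exact sq_case A c hc hβ hcs
    have h := sq_case (A * T2) ((c : F) * α)
      (fun v => by rw [Subgroup.coe_mul, mul_act, hc, hT2m, Units.val_mk0, mul_assoc])
      (by rw [map_mul]; exact mul_mem hβ (diagSim_mem he p hT2 hT2m hT2d))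
      (by
        rw [← quadraticChar_one_iff_isSquare (mul_ne_zero c.ne_zero hα0), map_mul,
          quadraticChar_neg_one_iff_not_isSquare.mpr hcs, quadraticChar_neg_one_iff_not_isSquare.mpr hα]
        norm_num)
    rw [map_mul] at h
    exact (Subgroup.mul_mem_cancel_right _ m2).1 h
  · rintro _ ⟨θ, hθ, rfl⟩
    obtain ⟨v, hv⟩ := Subgroup.mem_comap.1 hθ
    obtain ⟨x, hx⟩ : (diagOf CD autDataD4 v)⁻¹ * θ ∈ Cfsg.Inn GD := QuotientGroup.eq.1 hv
    have hθ' : θ = diagOf CD autDataD4 v * MulAut.conj x := by rw [hx, mul_inv_cancel_left]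
    show trf e θ ∈ D
    rw [hθ', map_mul, trf_conj]
    refine mul_mem ?_ (plus_inn_le le_rfl p C ⟨_, rfl⟩)
    obtain ⟨t, c, A, hA, hAm, hAd, hAe⟩ := exists_diagOf he v
    rw [hAe]
    exact diagSim_mem he p hA hAm hAd

omit he in
/-- The inner-diagonal group of `PΩ⁺` is normal in every dimension. -/
theorem plus_normal_all {m : ℕ} (hm : 4 ≤ m) : (Cfsg.inndiagPOmegaPlus m F).Normal := by
  obtain ⟨B, C⟩ := exists_space_plus (F := F) m
  rcases eq_or_lt_of_le hm with rfl | h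
  · obtain ⟨e, he⟩ := exists_rootEquiv (F := F)
    rw [d4_diag_eq he p]
    exact (Subgroup.Normal.comap d4_diag_normal _).map _ (trf e).surjective
  · exact plus_normal hm p C (plus_good h)

end Cfsg.Lib.Linear.AutPO
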