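import Cfsg.Agent.Lib.Linear.AutPO.MinusBalanceField

/-!
# Balance for a field automorphism relative to a rational structure

`M` carries a form `Q'` with coefficients fixed by `σ` to the form `Q`; `x` is induced by `M (σ M)⁻¹ σ`. The image of `Ω` of
the rational form in the centraliser of `x` has only the powers of `x` in its centraliser, so a normal subgroup of order
prime to `ℓ` of the centraliser of `x` is trivial when this image contains an element of order `ℓ`.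
-/

set_option autoImplicit false

namespace Cfsg.Lib.Linear.AutPO

open Module
open Cfsg.Lib.Linear.Orth
open Cfsg.Lib.Linear.Descent (sc sm tw sc_val sc_comm sm_one sm_mul)
open scoped Matrix

set_option quotPrecheck false

variable {ι : Type} [Fintype ι] [DecidableEq ι] {F : Type*} [Field F] [Fintype F]
  {Q Q' : (ι → F) → F} {B B' : LinearMap.BilinForm F (ι → F)} (C : Space Q B) (C' : Space Q' B')
  {σ : F ≃+* F} [Fintype (AutPSL.fixedF σ)]
  {Q₀ : (ι → AutPSL.fixedF σ) → AutPSL.fixedF σ} {B₀ : LinearMap.BilinForm (AutPSL.fixedF σ) (ι → AutPSL.fixedF σ)}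
  (C₀ : Space Q₀ B₀)
  (hQ : ∀ v : ι → AutPSL.fixedF σ, Q' ((AutPSL.fixedF σ).subtype ∘ v) = (AutPSL.fixedF σ).subtype (Q₀ v))
  {M : GL ι F} (hM : ∀ v, Q (M.val *ᵥ v) = Q' v) {g : GL ι F} (hg : g = M * (sm σ M)⁻¹)
  (hx : Cfsg.IsSemisimilarityPair Q g σ) (h7 : 7 ≤ Fintype.card ι) (p : ℕ) [Fact p.Prime] [CharP F p]

local notation "Kσ" => AutPSL.fixedF σ
local notation "ι₀" => Subfield.subtype (AutPSL.fixedF σ)
local notation "P" => Cfsg.POmega F Q

omit [Fintype F] [Fintype (AutPSL.fixedF σ)] [Fact p.Prime] [CharP F p] in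
/-- The matrices of the rational isometries. -/
theorem frame_rat_mem (C₀ : Space Q₀ B₀) (C' : Space Q' B') (hQ : ∀ v : ι → Kσ, Q' (ι₀ ∘ v) = ι₀ (Q₀ v))
    (hM : ∀ v, Q (M.val *ᵥ v) = Q' v) (u : ↥(isometryGroup Kσ Q₀)) :
    M * Matrix.GeneralLinearGroup.map ι₀ (u : GL ι Kσ) * M⁻¹ ∈ isometryGroup F Q := mem_iso.2 fun v => by
  rw [mul_act, mul_act, hM, sim_ext ι₀ C₀ C' hQ (c := 1) (fun v => by rw [one_mul]; exact mem_iso.1 u.2 v),
    map_one, one_mul, ← hM, act_inv]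

include C C' C₀ hQ hM hg h7 p

set_option maxHeartbeats 1600000 in
/-- A semisimilarity fixing the rational unipotent elements is a power of the field automorphism. -/
theorem frameGen_fix_pow {h : GL ι F} {τ : F ≃+* F} (hs : Cfsg.IsSemisimilarityPair Q h τ)
    (hfix : ∀ u ∈ isometryGroup Kσ Q₀, u ^ p = 1 → (∃ s : ↥(Cfsg.Omega Kσ Q₀), om Q₀ s = u) →
      semiGL h τ (M * Matrix.GeneralLinearGroup.map ι₀ u * M⁻¹) = M * Matrix.GeneralLinearGroup.map ι₀ u * M⁻¹) :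
    ∃ k : ℕ, semiAut hs = semiAut hx ^ k := by
  classical
  haveI : CharP Kσ p := RingHom.charP ι₀ (ι₀).injective p
  haveI : Nonempty ι := Fintype.card_pos_iff.1 (by omega)
  set h' := M⁻¹ * h * sm τ M with hh'
  let T : (ι → F) → (ι → F) := fun v => h'.val *ᵥ (τ ∘ v)
  have hTdef : ∀ v, T v = h'.val *ᵥ (τ ∘ v) := fun v => rfl
  have hTadd : ∀ u v, T (u + v) = T u + T v := fun u v => by
    rw [hTdef, hTdef, hTdef, show τ ∘ (u + v) = τ ∘ u + τ ∘ v from funext fun i => map_add τ _ _, Matrix.mulVec_add]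
  have hTsmul : ∀ (c : F) v, T (c • v) = τ c • T v := fun c v => by
    rw [hTdef, hTdef, show τ ∘ (c • v) = τ c • (τ ∘ v) from funext fun i => map_mul τ _ _, Matrix.mulVec_smul]
  have hTsub : ∀ u v, T (u - v) = T u - T v := fun u v => eq_sub_of_add_eq (by rw [← hTadd, sub_add_cancel])
  have hTinj : ∀ v, T v = 0 → v = 0 := fun v e => by
    have h1 := act_injective h' (a₁ := τ ∘ v) (a₂ := 0) (e.trans (Matrix.mulVec_zero _).symm)
    exact funext fun i => τ.injective ((congrFun h1 i).trans (map_zero τ).symm)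
  have hB : ∀ u v : ι → Kσ, B' (ι₀ ∘ u) (ι₀ ∘ v) = ι₀ (B₀ u v) := fun u v => polar_ext ι₀ C₀ C' hQ u v
  have hpt : ∀ e : ι → Kσ, Q₀ e = 0 → e ≠ 0 → ∃ α : F, T (ι₀ ∘ e) = α • (ι₀ ∘ e) := by
    intro e he he0
    obtain ⟨f, H⟩ := exists_hyp C₀ C₀.ndeg_top (U := ⊤) trivial he0 he
    obtain ⟨a₁, b₁, G⟩ := exists_hyp' C₀ (H.ndeg C₀ C₀.ndeg_top) (by
      have := H.le_finrank C₀; rw [finrank_top, finrank_fintype_fun_eq_card] at this; omega)
    have hea : B₀ e (a₁ + b₁) = 0 := by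
      rw [map_add, (mem_perp2.mp G.memE).2.1, (mem_perp2.mp G.memF).2.1, add_zero]
    have haz : B₀ (a₁ + b₁) a₁ = 1 := by
      rw [map_add, LinearMap.add_apply, C₀.self_zero G.singE, G.pair' C₀, zero_add]
    have hqa : Q₀ (a₁ + b₁) = 1 := by rw [C₀.add, G.singE, G.singF, G.pair, zero_add, zero_add]
    obtain ⟨s, hs₀⟩ := exists_om C₀ h7 (sGL_mem_root (B := B₀) (U := ⊤) trivial trivial he hea)
    have heF : Q' (ι₀ ∘ e) = 0 := by rw [hQ, he, map_zero]
    have heaF : B' (ι₀ ∘ e) (ι₀ ∘ (a₁ + b₁)) = 0 := by rw [hB, hea, map_zero]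
    set U := Matrix.GeneralLinearGroup.map ι₀ (sGL Q₀ B₀ e (a₁ + b₁)) with hU
    have hX : U.val = (sGL Q' B' (ι₀ ∘ e) (ι₀ ∘ (a₁ + b₁))).val := by
      refine Matrix.ext_of_mulVec_single fun k => ?_
      rw [← comp_single ι₀ k, hU, map_vec, sGL_act C₀ he hea, sGL_act C' heF heaF, hB, hB, hQ]
      funext j
      simp [mul_add]
    have hpow : (sGL Q₀ B₀ e (a₁ + b₁)) ^ p = 1 := by
      have key : ∀ k : ℕ, (sGL Q₀ B₀ e (a₁ + b₁)) ^ k = sGL Q₀ B₀ e ((k : Kσ) • (a₁ + b₁)) := fun k => by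
        induction k with
        | zero =>
          refine gl_ext fun z => ?_
          rw [pow_zero, Nat.cast_zero, zero_smul, sGL_act C₀ he (by simp), C₀.zero]
          simp
        | succ k ih =>
          rw [pow_succ, ih, sGL_mul C₀ he (by rw [map_smul, hea, smul_zero]) hea, Nat.cast_succ, add_smul, one_smul]
      refine gl_ext fun z => ?_
      rw [key, CharP.cast_eq_zero, zero_smul, sGL_act C₀ he (by simp), C₀.zero]
      simp
    have hc := hfix _ (sGL_mem C₀ he hea) hpow ⟨s, hs₀⟩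
    have hc' : semiGL h' τ U = U := by
      have e1 : semiGL h' τ U = M⁻¹ * semiGL h τ (M * U * M⁻¹) * M := by
        show h' * Units.mapEquiv τ.mapMatrix.toMulEquiv U * h'⁻¹ =
          M⁻¹ * (h * Units.mapEquiv τ.mapMatrix.toMulEquiv (M * U * M⁻¹) * h⁻¹) * M
        rw [sm_eq, sm_eq, hh', map_mul, map_mul, map_inv]
        group
      rw [e1, hU, hc]
      group
    have h1 := semiGL_act h' τ U (ι₀ ∘ a₁)
    rw [hc', hX, sGL_act C' heF heaF, sGL_act C' heF heaF, hB, hB, hQ, hqa, (mem_perp2.mp G.memE).2.1, haz] at h1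
    simp only [map_zero, map_one, zero_smul, add_zero, one_mul, mul_zero, one_smul] at h1
    have hTa : h'.val *ᵥ (τ ∘ (ι₀ ∘ a₁ - ι₀ ∘ e)) = T (ι₀ ∘ a₁) - T (ι₀ ∘ e) := hTsub _ _
    rw [hTa] at h1
    set x := B' (ι₀ ∘ e) (h'.val *ᵥ (τ ∘ (ι₀ ∘ a₁)))
    set y := B' (ι₀ ∘ (a₁ + b₁)) (h'.val *ᵥ (τ ∘ (ι₀ ∘ a₁))) + x
    have h3 : T (ι₀ ∘ e) = y • (ι₀ ∘ e) + (-x) • (ι₀ ∘ (a₁ + b₁)) := by
      linear_combination (norm := module) h1
    obtain ⟨μ, hμ⟩ := id hs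
    have hq : Q' (T (ι₀ ∘ e)) = 0 := by
      rw [hTdef, hh', ← hM, mul_act, mul_act, act_inv, ← sm_eq, map_act]
      refine (hμ _).trans ?_
      rw [hM, heF, map_zero, mul_zero]
    rw [h3, C'.smul_add, heF, hQ, hqa, heaF, map_one] at hq
    have hx0 : -x = 0 := pow_eq_zero_iff two_ne_zero |>.1 (by linear_combination hq)
    exact ⟨y, by rw [h3, hx0, zero_smul, add_zero]⟩
  have hcadd : ∀ u v : ι → Kσ, ι₀ ∘ (u + v) = ι₀ ∘ u + ι₀ ∘ v := fun u v => rfl
  have hcsmul : ∀ (t : Kσ) (v : ι → Kσ), ι₀ ∘ (t • v) = ι₀ t • (ι₀ ∘ v) := fun t v => rfl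
  -- two hyperbolic pairs
  obtain ⟨e, f, H⟩ := exists_hyp' C₀ C₀.ndeg_top (by rw [finrank_top, finrank_fintype_fun_eq_card]; omega)
  obtain ⟨a, b, G⟩ := exists_hyp' C₀ (H.ndeg C₀ C₀.ndeg_top) (by
    have := H.le_finrank C₀; rw [finrank_top, finrank_fintype_fun_eq_card] at this; omega)
  obtain ⟨-, hea, hfa⟩ := mem_perp2.mp G.memE
  have he0 : e ≠ 0 := fun h0 => by simpa [h0] using H.pair
  have ha0 : a ≠ 0 := fun h0 => by simpa [h0] using G.pair
  obtain ⟨c₀, hc₀⟩ := hpt e H.singE he0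
  obtain ⟨c₁, hc₁⟩ := hpt a G.singE ha0
  have hcmb : ∀ t : Kσ, τ (ι₀ t) * c₀ = c₁ * ι₀ t := fun t => by
    obtain ⟨γ, hγ⟩ := hpt (t • e + a) (by
        rw [C₀.add, C₀.smul, H.singE, G.singE, map_smul, LinearMap.smul_apply, hea]; simp)
      (fun h0 => ha0 (by
        have h1 := congrArg (B₀ f) h0
        rw [map_add, map_smul, H.pair' C₀, hfa, add_zero, map_zero, smul_eq_mul, mul_one] at h1
        rw [h1, zero_smul, zero_add] at h0
        exact h0))
    rw [hcadd, hcsmul, hTadd, hTsmul, hc₀, hc₁, smul_add, smul_smul, smul_smul] at hγ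
    have e1 := congrArg (B' (ι₀ ∘ b)) hγ
    have e2 := congrArg (B' (ι₀ ∘ f)) hγ
    have hbe : B₀ b e = 0 := by rw [C₀.symm]; exact (mem_perp2.mp G.memF).2.1
    simp only [map_add, map_smul, hB, hbe, hfa, G.pair' C₀, H.pair' C₀, map_zero, map_one, smul_eq_mul, mul_zero,
      zero_add, add_zero, mul_one] at e1 e2
    rw [e2, e1]
  have hc01 : c₁ = c₀ := by
    have h1 := hcmb 1
    rwa [map_one, map_one, one_mul, mul_one, eq_comm] at h1
  subst hc01
  have hc0 : c₁ ≠ 0 := fun h0 => ha0 (funext fun i => (ι₀).injective (congrFun (hTinj _ (by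
    rw [hc₁, h0, zero_smul] : T (ι₀ ∘ a) = 0)) i))
  have hτK : ∀ t : Kσ, τ (ι₀ t) = ι₀ t := fun t => mul_right_cancel₀ hc0 ((hcmb t).trans (mul_comm _ _))
  let S : Submodule Kσ (ι → Kσ) :=
    { carrier := {v | T (ι₀ ∘ v) = c₁ • (ι₀ ∘ v)}
      add_mem' := fun {u v} hu hv => by
        show T (ι₀ ∘ (u + v)) = c₁ • (ι₀ ∘ (u + v))
        rw [hcadd, hTadd, hu, hv, smul_add]
      zero_mem' := by
        show T (ι₀ ∘ (0 : ι → Kσ)) = c₁ • (ι₀ ∘ (0 : ι → Kσ))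
        rw [show ι₀ ∘ (0 : ι → Kσ) = (0 : F) • (0 : ι → F) from funext fun i => by simp, hTsmul, map_zero, zero_smul,
          zero_smul, smul_zero]
      smul_mem' := fun t v hv => by
        show T (ι₀ ∘ (t • v)) = c₁ • (ι₀ ∘ (t • v))
        rw [hcsmul, hTsmul, hτK, hv, smul_comm] }
  have hS : ∀ v, v ∈ S ↔ T (ι₀ ∘ v) = c₁ • (ι₀ ∘ v) := fun v => Iff.rfl
  have hstep : ∀ e' f' v : ι → Kσ, e' ∈ S → Q₀ e' = 0 → B₀ f' e' = 1 → Q₀ v = 0 → B₀ e' v = 0 → v ∈ S := by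
    intro e' f' v he' hq' hp hv hev
    by_cases hv0 : v = 0
    · rw [hv0]; exact S.zero_mem
    obtain ⟨α, hα⟩ := hpt v hv hv0
    by_cases hve : v + e' = 0
    · rw [eq_neg_of_add_eq_zero_left hve]
      exact S.neg_mem he'
    obtain ⟨γ, hγ⟩ := hpt (v + e') (by rw [C₀.add, hv, hq', C₀.symm, hev, add_zero, add_zero]) hve
    rw [hcadd, hTadd, hα, (hS _).1 he', smul_add] at hγ
    have h1 : (γ - α) • (ι₀ ∘ v) = (c₁ - γ) • (ι₀ ∘ e') := by linear_combination (norm := module) -hγ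
    by_cases hγα : γ = α
    · subst hγα
      rw [sub_self, zero_smul, eq_comm, smul_eq_zero] at h1
      rcases h1 with h1 | h1
      · rw [hS, hα, sub_eq_zero.1 h1]
      · exfalso
        have := congrArg (B' (ι₀ ∘ f')) h1
        rw [hB, hp, map_one, map_zero] at this
        exact one_ne_zero this
    · have h2 := congrArg (B' (ι₀ ∘ f')) h1
      rw [map_smul, map_smul, hB, hB, hp, map_one, smul_eq_mul, smul_eq_mul, mul_one] at h2
      have h3 : v = B₀ f' v • e' := by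
        funext i
        refine (ι₀).injective (mul_left_cancel₀ (sub_ne_zero.2 hγα) ?_)
        have h4 := congrFun h1 i
        rw [← h2] at h4
        simp only [Pi.smul_apply, smul_eq_mul, Function.comp_apply] at h4 ⊢
        rw [h4, map_mul, mul_assoc]
      rw [h3]
      exact S.smul_mem _ he'
  have hsing : ∀ v : ι → Kσ, Q₀ v = 0 → v ∈ S := fun v hv => by
    by_cases hev : B₀ e v = 0
    · exact hstep e f v hc₀ H.singE (H.pair' C₀) hv hev
    · have H' : Hyp Q₀ B₀ ⊤ e ((B₀ e v)⁻¹ • v) := ⟨trivial, trivial, H.singE, by rw [C₀.smul, hv, mul_zero], by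
        rw [map_smul, smul_eq_mul, inv_mul_cancel₀ hev]⟩
      obtain ⟨a', b', G'⟩ := exists_hyp' C₀ (H'.ndeg C₀ C₀.ndeg_top) (by
        have := H'.le_finrank C₀; rw [finrank_top, finrank_fintype_fun_eq_card] at this; omega)
      obtain ⟨-, hea', hva'⟩ := mem_perp2.mp G'.memE
      have ha' := hstep e f a' hc₀ H.singE (H.pair' C₀) G'.singE hea'
      rw [map_smul, LinearMap.smul_apply, smul_eq_mul, mul_eq_zero, or_iff_right (inv_ne_zero hev)] at hva'
      exact hstep a' b' v ha' G'.singE (G'.pair' C₀) hv (by rw [C₀.symm]; exact hva')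
  have hspan : ∀ v : ι → Kσ, B₀ v e ≠ 0 → v ∈ S := fun v hv => by
    have h1 : v + (-Q₀ v / B₀ v e) • e ∈ S := hsing _ (by
      rw [C₀.add, C₀.smul, H.singE, map_smul, smul_eq_mul]
      field_simp
      ring)
    have h2 := S.sub_mem h1 (S.smul_mem (-Q₀ v / B₀ v e) ((hS e).2 hc₀))
    rwa [add_sub_cancel_right] at h2
  have hall : ∀ v : ι → Kσ, v ∈ S := fun v => by
    by_cases hv : B₀ v e = 0
    · have h1 := hspan (v + f) (by rw [map_add, LinearMap.add_apply, hv, H.pair' C₀, zero_add]; exact one_ne_zero)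
      have h2 := S.sub_mem h1 (hsing f H.singF)
      rwa [add_sub_cancel_right] at h2
    · exact hspan v hv
  have hscal : h' = sc (Units.mk0 c₁ hc0) := Units.ext (Matrix.ext_of_mulVec_single fun k => by
    have h1 := (hS _).1 (hall (Pi.single k 1))
    rw [hTdef, comp_single, show τ ∘ (Pi.single k 1 : ι → F) = Pi.single k 1 from
      funext fun i => by simp [Pi.single_apply, apply_ite τ]] at h1
    rw [h1, sc_act, Units.val_mk0])
  haveI : Finite (F ≃+* F) := Finite.of_injective (fun σ => (σ : F → F)) fun a b h => RingEquiv.ext (congrFun h)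
  let Gz := Subgroup.zpowers (σ : RingAut F)
  let τ' : F →ₐ[FixedPoints.subfield Gz F] F := ⟨τ.toRingHom, fun y => by
    show τ (y : F) = y
    exact hτK ⟨y, y.2 ⟨σ, Subgroup.mem_zpowers _⟩⟩⟩
  obtain ⟨⟨_, hg'⟩, hg''⟩ := (FixedPoints.toAlgHom_bijective Gz F).surjective τ'
  obtain ⟨k, rfl⟩ := mem_powers_iff_mem_zpowers.2 hg'
  have hτ : τ = σ ^ k := RingEquiv.ext fun x => (AlgHom.congr_fun hg'' x).symm
  refine ⟨k, ?_⟩
  obtain ⟨hk, e'⟩ := semiAut_pow hx k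
  subst hτ
  have htw : ∀ j : ℕ, tw σ g j = M * (sm (σ ^ j) M)⁻¹ := fun j => by
    induction j with
    | zero => rw [tw, pow_zero, sm_one, mul_inv_cancel]
    | succ j ih =>
      rw [tw, ih, map_mul, map_inv, pow_succ', sm_mul, hg]
      group
  have hh : h = sc (Units.mk0 c₁ hc0) * (M * (sm (σ ^ k) M)⁻¹) := by
    rw [show h = M * h' * (sm (σ ^ k) M)⁻¹ by rw [hh']; group, hscal, ← sc_comm, mul_assoc]
  obtain ⟨Z, hZ⟩ : ∃ Z : ↥(Cfsg.Geo.quadSimilarityGroup (F := F) Q), Z.1 = sc (Units.mk0 c₁ hc0) :=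
    ⟨⟨_, Units.mk0 c₁ hc0 ^ 2, fun v => by rw [sc_act, C.smul, Units.val_pow_eq_pow_val]⟩, rfl⟩
  have hZ1 : innd Z = 1 := (innd_eq_sc C h7 p).2 ⟨_, hZ⟩
  rw [e', ← one_mul (semiAut hk), ← hZ1, innd_eq, semiAut_mul]
  refine semiAut_congr hs _ ?_
  rw [hh, hZ, htw, sm_eq, show sm (RingEquiv.refl F) (M * (sm (σ ^ k) M)⁻¹) = M * (sm (σ ^ k) M)⁻¹ from sm_one _]
  rfl

variable (ℓ : ℕ) [Fact ℓ.Prime]

/-- The map `ψ` from the rational group. -/
theorem exists_frameHom : ∃ ψ : ↥(Cfsg.Omega Kσ Q₀) →* P,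
    (∀ s, semiAut hx (ψ s) = ψ s) ∧
    (∀ s, ∃ t : ↥(Cfsg.Omega F Q), ψ s = QuotientGroup.mk t ∧
      om Q t = M * Matrix.GeneralLinearGroup.map ι₀ (om Q₀ s) * M⁻¹) ∧
    (∀ k : P, semiAut hx k = k → ∀ s, ∃ s', k * ψ s * k⁻¹ = ψ s') := by
  classical
  let ε : ↥(isometryGroup Kσ Q₀) →* ↥(isometryGroup F Q) :=
    MonoidHom.mk' (fun u => ⟨_, frame_rat_mem C₀ C' hQ hM u⟩) fun u u' => Subtype.ext (by
      show M * Matrix.GeneralLinearGroup.map ι₀ ((u : GL ι Kσ) * (u' : GL ι Kσ)) * M⁻¹ =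
        M * Matrix.GeneralLinearGroup.map ι₀ (u : GL ι Kσ) * M⁻¹ * (M * Matrix.GeneralLinearGroup.map ι₀ (u' : GL ι Kσ) * M⁻¹)
      rw [map_mul]
      group)
  have hεΩ : ∀ s : ↥(Cfsg.Omega Kσ Q₀), ε s.1 ∈ Cfsg.Omega F Q := fun s => by
    have : (commutator ↥(isometryGroup Kσ Q₀)).map ε ≤ commutator ↥(isometryGroup F Q) := by
      rw [_root_.commutator_def, Subgroup.map_commutator]
      exact Subgroup.commutator_mono le_top le_top
    exact this ⟨_, s.2, rfl⟩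
  let εΩ : ↥(Cfsg.Omega Kσ Q₀) →* ↥(Cfsg.Omega F Q) := (ε.comp (Cfsg.Omega Kσ Q₀).subtype).codRestrict _ hεΩ
  let ψ : ↥(Cfsg.Omega Kσ Q₀) →* P := (QuotientGroup.mk' (Subgroup.center ↥(Cfsg.Omega F Q))).comp εΩ
  have hψ : ∀ s, ψ s = QuotientGroup.mk (εΩ s) := fun s => rfl
  set fA := semiOmega hx with hfA
  have hfv : ∀ t, om Q (fA t) = M * sm σ (M⁻¹ * om Q t * M) * M⁻¹ := fun t => by
    refine (semiOmega_coe hx t).trans ?_
    show g * Units.mapEquiv σ.mapMatrix.toMulEquiv (om Q t) * g⁻¹ = _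
    rw [sm_eq, hg, map_mul, map_mul, map_inv]
    group
  refine ⟨ψ, fun s => ?_, fun s => ⟨εΩ s, rfl, rfl⟩, fun k hk s => ?_⟩
  · rw [hψ, semiAut_mk]
    refine congrArg _ (om_injective ((hfv _).trans ?_))
    show _ = M * Matrix.GeneralLinearGroup.map ι₀ (om Q₀ s) * M⁻¹
    rw [show M⁻¹ * om Q (εΩ s) * M = Matrix.GeneralLinearGroup.map ι₀ (om Q₀ s) by
      show M⁻¹ * (M * Matrix.GeneralLinearGroup.map ι₀ (om Q₀ s) * M⁻¹) * M = _
      group]
    congr 2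
    exact Units.ext (Matrix.ext fun i j => ((om Q₀ s).val i j).2)
  obtain ⟨t, rfl⟩ := QuotientGroup.mk_surjective k
  rw [semiAut_mk, QuotientGroup.eq] at hk
  set z := (fA t)⁻¹ * t with hz
  have hft : fA t = t * z⁻¹ := by rw [hz]; group
  obtain ⟨η, hη'⟩ : ∃ η : Fˣ, om Q z⁻¹ = sc η := by
    rcases omega_center_pm C h7 (inv_mem hk) with e | e
    · exact ⟨1, Units.ext (by rw [map_one]; exact e)⟩
    · exact ⟨-1, Units.ext (e.trans (by rw [sc_val]; simp))⟩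
  set R := M⁻¹ * om Q t * M with hR
  have hση : sm σ R = sc η * R := by
    have h1 := hfv t
    rw [hft, map_mul, hη', ← hR] at h1
    calc sm σ R = M⁻¹ * (M * sm σ R * M⁻¹) * M := by group
      _ = M⁻¹ * (om Q t * sc η) * M := by rw [h1]
      _ = M⁻¹ * om Q t * (sc η * M) := by group
      _ = R * sc η := by rw [sc_comm, hR]; group
      _ = sc η * R := (sc_comm η R).symm
  have hconj : ∀ u : GL ι Kσ, sm σ (R * Matrix.GeneralLinearGroup.map ι₀ u * R⁻¹) =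
      R * Matrix.GeneralLinearGroup.map ι₀ u * R⁻¹ := fun u => by
    have hu : sm σ (Matrix.GeneralLinearGroup.map ι₀ u) = Matrix.GeneralLinearGroup.map ι₀ u :=
      Units.ext (Matrix.ext fun i j => (u.val i j).2)
    rw [map_mul, map_mul, map_inv, hu, hση]
    calc sc η * R * Matrix.GeneralLinearGroup.map ι₀ u * (sc η * R)⁻¹ =
        sc η * (R * Matrix.GeneralLinearGroup.map ι₀ u * R⁻¹) * (sc η)⁻¹ := by group
      _ = R * Matrix.GeneralLinearGroup.map ι₀ u * R⁻¹ := by rw [sc_comm]; group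
  have hdown : ∀ u : ↥(isometryGroup Kσ Q₀), ∃ u' : ↥(isometryGroup Kσ Q₀),
      Matrix.GeneralLinearGroup.map ι₀ (u' : GL ι Kσ) =
        R * Matrix.GeneralLinearGroup.map ι₀ (u : GL ι Kσ) * R⁻¹ := fun u => by
    set W := R * Matrix.GeneralLinearGroup.map ι₀ (u : GL ι Kσ) * R⁻¹ with hW
    have hWK : ∀ i j, W.val i j ∈ Kσ := fun i j =>
      congrFun (congrFun (congrArg (fun u : GL ι F => u.val) (hconj (u : GL ι Kσ))) i) j
    have hdet : IsUnit (Matrix.of fun i j => (⟨W.val i j, hWK i j⟩ : Kσ)).det := by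
      rw [isUnit_iff_ne_zero]
      intro h0
      have h1 := congrArg ι₀ h0
      rw [map_zero, RingHom.map_det] at h1
      exact (Matrix.GeneralLinearGroup.det W).ne_zero h1
    set G₀ : GL ι Kσ := Matrix.GeneralLinearGroup.mk'' _ hdet
    have hG : Matrix.GeneralLinearGroup.map ι₀ G₀ = W := Units.ext rfl
    refine ⟨⟨G₀, mem_iso.2 fun v => (ι₀).injective ?_⟩, hG⟩
    have hin : M * W * M⁻¹ ∈ isometryGroup F Q := by
      rw [show M * W * M⁻¹ = om Q t * (M * Matrix.GeneralLinearGroup.map ι₀ (u : GL ι Kσ) * M⁻¹) * (om Q t)⁻¹ by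
        rw [hW, hR]; group]
      exact mul_mem (mul_mem (om_mem t) (frame_rat_mem C₀ C' hQ hM u)) (inv_mem (om_mem t))
    rw [← hQ, ← hQ, ← map_vec, hG, ← hM, ← hM]
    have h2 := mem_iso.1 hin (M.val *ᵥ (ι₀ ∘ v))
    rwa [mul_act, mul_act, inv_act] at h2
  choose φ hφ using hdown
  let Φ : ↥(isometryGroup Kσ Q₀) →* ↥(isometryGroup Kσ Q₀) := MonoidHom.mk' φ fun u u' =>
    Subtype.ext (map_gl_injective ι₀ (by rw [hφ, Subgroup.coe_mul, Subgroup.coe_mul, map_mul, map_mul, hφ, hφ]; group))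
  have hΦΩ : Φ s.1 ∈ Cfsg.Omega Kσ Q₀ := by
    have : (commutator ↥(isometryGroup Kσ Q₀)).map Φ ≤ commutator ↥(isometryGroup Kσ Q₀) := by
      rw [_root_.commutator_def, Subgroup.map_commutator]
      exact Subgroup.commutator_mono le_top le_top
    exact this ⟨_, s.2, rfl⟩
  refine ⟨⟨Φ s.1, hΦΩ⟩, ?_⟩
  rw [hψ, hψ, ← QuotientGroup.mk_inv, ← QuotientGroup.mk_mul, ← QuotientGroup.mk_mul]
  refine congrArg _ (om_injective ?_)
  show om Q t * (M * Matrix.GeneralLinearGroup.map ι₀ (om Q₀ s) * M⁻¹) * (om Q t)⁻¹ =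
    M * Matrix.GeneralLinearGroup.map ι₀ (φ s.1 : GL ι Kσ) * M⁻¹
  rw [hφ, hR]
  group
  rfl

/-- The kernel of `ψ` is central. -/
theorem frameHom_center {ψ : ↥(Cfsg.Omega Kσ Q₀) →* P}
    (hψ : ∀ s, ∃ t : ↥(Cfsg.Omega F Q), ψ s = QuotientGroup.mk t ∧
      om Q t = M * Matrix.GeneralLinearGroup.map ι₀ (om Q₀ s) * M⁻¹)
    {z : ↥(Cfsg.Omega Kσ Q₀)} (hz : z ∈ Subgroup.center ↥(Cfsg.Omega Kσ Q₀)) : ψ z = 1 := by
  classical
  obtain ⟨t, ht, hv⟩ := hψ z
  obtain ⟨η, hη⟩ : ∃ η : (↥(Kσ))ˣ, om Q₀ z = sc η := by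
    rcases omega_center_pm C₀ h7 hz with e | e
    · exact ⟨1, Units.ext (by rw [map_one]; exact e)⟩
    · exact ⟨-1, Units.ext (e.trans (by rw [sc_val]; simp))⟩
  have hv' : om Q t = sc (Units.map (ι₀).toMonoidHom η) := by
    rw [hv, hη, show Matrix.GeneralLinearGroup.map ι₀ (sc η : GL ι Kσ) = sc (Units.map (ι₀).toMonoidHom η) from
      Units.ext (Matrix.ext fun i j => by simp [Matrix.diagonal_apply, apply_ite ι₀]), ← sc_comm]
    group
  rw [ht, QuotientGroup.eq_one_iff, Subgroup.mem_center_iff]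
  exact fun w => om_injective (by rw [map_mul, map_mul, hv', sc_comm])

set_option maxHeartbeats 1600000 in
/-- **No core.** -/
theorem frameGen_core_eq_bot (A : Subgroup (MulAut P)) (hinn : ∀ k : P, MulAut.conj k ∈ A)
    {ψ : ↥(Cfsg.Omega Kσ Q₀) →* P} (hψfix : ∀ s, semiAut hx (ψ s) = ψ s)
    (hψ : ∀ s, ∃ t : ↥(Cfsg.Omega F Q), ψ s = QuotientGroup.mk t ∧
      om Q t = M * Matrix.GeneralLinearGroup.map ι₀ (om Q₀ s) * M⁻¹)
    (hnorm : ∀ k : P, semiAut hx k = k → ∀ s, ∃ s', k * ψ s * k⁻¹ = ψ s')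
    {s₀ : ↥(Cfsg.Omega Kσ Q₀)} (hs₀ : orderOf (ψ s₀) = ℓ) (hord : semiAut hx ^ ℓ = 1)
    (hdec : ∀ b : MulAut P, b * semiAut hx = semiAut hx * b → (∀ s, b (ψ s) = ψ s) →
      ∃ (h : GL ι F) (τ : F ≃+* F) (hs : Cfsg.IsSemisimilarityPair Q h τ), b = semiAut hs) :
    Cfsg.pPrimeCore ℓ ↥(A ⊓ Subgroup.centralizer {semiAut hx}) = ⊥ := by
  classical
  haveI : Finite P := inferInstanceAs (Finite (_ ⧸ _))
  haveI : CharP Kσ p := RingHom.charP ι₀ (ι₀).injective p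
  refine Balance.core_eq_bot A hinn (semiAut hx) (conj_injective' C h7 p) ψ hψfix hnorm (fun N hN hNo => ?_)
    (fun β _ hβx hβo hβfix => ?_)
  · haveI : IsSimpleGroup (Cfsg.POmega Kσ Q₀) := pomega_simple C₀ h7
    haveI : (N.map (QuotientGroup.mk' (Subgroup.center ↥(Cfsg.Omega Kσ Q₀)))).Normal :=
      Subgroup.Normal.map hN _ (QuotientGroup.mk'_surjective _)
    rcases Subgroup.Normal.eq_bot_or_eq_top
      (H := N.map (QuotientGroup.mk' (Subgroup.center ↥(Cfsg.Omega Kσ Q₀)))) inferInstance with hb | ht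
    · intro s hs
      refine frameHom_center C C' C₀ hQ hM hg h7 p hψ ((QuotientGroup.eq_one_iff s).1 (Subgroup.mem_bot.1 ?_))
      rw [← hb]
      exact ⟨s, hs, rfl⟩
    · exfalso
      obtain ⟨n, hn, hne'⟩ : QuotientGroup.mk' (Subgroup.center ↥(Cfsg.Omega Kσ Q₀)) s₀ ∈
          N.map (QuotientGroup.mk' (Subgroup.center ↥(Cfsg.Omega Kσ Q₀))) := ht ▸ Subgroup.mem_top _
      have h1 := hNo n hn
      have h2' : ψ s₀ = ψ n := by
        rw [show s₀ = n * (n⁻¹ * s₀) by group, map_mul,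
          frameHom_center C C' C₀ hQ hM hg h7 p hψ (QuotientGroup.eq.1 hne'), mul_one]
      rw [← h2', hs₀] at h1
      exact (Fact.out : ℓ.Prime).ne_one ((Nat.coprime_self _).1 h1)
  · obtain ⟨h, τ, hs, rfl⟩ := hdec β hβx hβfix
    obtain ⟨j, hj⟩ := frameGen_fix_pow C C' C₀ hQ hM hg hx h7 p hs fun u hu hup ⟨s, hs'⟩ => by
      subst hs'
      have hsp : s ^ p = 1 := om_injective (by rw [map_pow, hup, map_one])
      obtain ⟨t, ht, htv⟩ := hψ s
      have htp : t ^ p = 1 := om_injective (by rw [map_pow, htv, conj_pow, ← map_pow, hup, map_one, mul_one,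
        mul_inv_cancel, map_one])
      have h1 : (QuotientGroup.mk (semiOmega hs t) : P) = QuotientGroup.mk t := by
        rw [← semiAut_mk, ← ht]
        exact hβfix s
      have h3 := congrArg (om Q) (mk_inj_of_pow C h7 p (by rw [← map_pow, htp, map_one]) htp h1)
      rw [← htv]
      exact h3
    have hpow : (semiAut hs) ^ ℓ = 1 := by
      rw [hj, ← pow_mul, mul_comm, pow_mul, hord, one_pow]
    exact orderOf_eq_one_iff.1 (Nat.eq_one_of_dvd_coprimes hβo.symm (orderOf_dvd_of_pow_eq_one hpow) dvd_rfl)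

/-- The kernel of `ψ` consists of scalars `±1`. -/
theorem frameHom_eq_one {ψ : ↥(Cfsg.Omega Kσ Q₀) →* P}
    (hψ : ∀ s, ∃ t : ↥(Cfsg.Omega F Q), ψ s = QuotientGroup.mk t ∧
      om Q t = M * Matrix.GeneralLinearGroup.map ι₀ (om Q₀ s) * M⁻¹)
    {s : ↥(Cfsg.Omega Kσ Q₀)} (hs : ψ s = 1) :
    (∀ v, (om Q₀ s).val *ᵥ v = v) ∨ ∀ v, (om Q₀ s).val *ᵥ v = -v := by
  classical
  obtain ⟨t, ht, hv⟩ := hψ s
  rw [ht, QuotientGroup.eq_one_iff] at hs
  have hmap : Matrix.GeneralLinearGroup.map ι₀ (om Q₀ s) = M⁻¹ * om Q t * M := by rw [hv]; group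
  have hact : ∀ (η : F), (∀ w, (om Q t).val *ᵥ w = η • w) → ∀ v, ι₀ ∘ ((om Q₀ s).val *ᵥ v) = η • (ι₀ ∘ v) := fun η h v => by
    rw [← map_vec, hmap, mul_act, mul_act, h, Matrix.mulVec_smul, inv_act]
  rcases omega_center_pm C h7 hs with e | e
  · left
    intro v
    refine funext fun i => (ι₀).injective ?_
    have := congrFun (hact 1 (fun w => by rw [show (om Q t).val = 1 from e, Matrix.one_mulVec, one_smul]) v) i
    simpa using this
  · right
    intro v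
    refine funext fun i => (ι₀).injective ?_
    have := congrFun (hact (-1) (fun w => by
      rw [show (om Q t).val = -1 from e, Matrix.neg_mulVec, Matrix.one_mulVec, neg_one_smul]) v) i
    simpa using this

/-- `ψ` is not trivial. -/
theorem frameHom_ne_one {ψ : ↥(Cfsg.Omega Kσ Q₀) →* P}
    (hψ : ∀ s, ∃ t : ↥(Cfsg.Omega F Q), ψ s = QuotientGroup.mk t ∧
      om Q t = M * Matrix.GeneralLinearGroup.map ι₀ (om Q₀ s) * M⁻¹) :
    ∃ s, ψ s ≠ 1 := by
  classical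
  haveI : CharP Kσ p := RingHom.charP ι₀ (ι₀).injective p
  obtain ⟨e, f, H⟩ := exists_hyp' C₀ C₀.ndeg_top (by rw [finrank_top, finrank_fintype_fun_eq_card]; omega)
  obtain ⟨a, b, G⟩ := exists_hyp' C₀ (H.ndeg C₀ C₀.ndeg_top) (by
    have := H.le_finrank C₀; rw [finrank_top, finrank_fintype_fun_eq_card] at this; omega)
  obtain ⟨-, hea, hfa⟩ := mem_perp2.mp G.memE
  obtain ⟨s, hs⟩ := exists_om C₀ h7 (sGL_mem_root (B := B₀) (U := ⊤) trivial trivial H.singE hea)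
  refine ⟨s, fun h1 => ?_⟩
  have he0 : e ≠ 0 := fun h0 => by simpa [h0] using H.pair
  have hact : ∀ v, (om Q₀ s).val *ᵥ v = v + B₀ e v • a - B₀ a v • e := fun v => by
    rw [hs, sGL_act C₀ H.singE hea, G.singE, zero_mul, add_zero]
  rcases frameHom_eq_one C C' C₀ hQ hM hg h7 p hψ h1 with h | h
  · have := (hact b).symm.trans (h b)
    rw [(mem_perp2.mp G.memF).2.1, G.pair, zero_smul, one_smul, add_zero, sub_eq_self] at this
    exact he0 this
  · have h2 := (hact b).symm.trans (h b)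
    rw [(mem_perp2.mp G.memF).2.1, G.pair, zero_smul, one_smul, add_zero] at h2
    have h3 := congrArg (B₀ f) h2
    rw [map_sub, map_neg, H.pair' C₀, (mem_perp2.mp G.memF).2.2, zero_sub, neg_zero, neg_eq_zero] at h3
    exact one_ne_zero h3

/-- An involution in the image of `ψ`. -/
theorem frameHom_invol (h2 : (2 : F) ≠ 0) {ψ : ↥(Cfsg.Omega Kσ Q₀) →* P}
    (hψ : ∀ s, ∃ t : ↥(Cfsg.Omega F Q), ψ s = QuotientGroup.mk t ∧
      om Q t = M * Matrix.GeneralLinearGroup.map ι₀ (om Q₀ s) * M⁻¹) :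
    ∃ s, orderOf (ψ s) = 2 := by
  classical
  haveI : Fact (Nat.Prime 2) := ⟨Nat.prime_two⟩
  have h20 : (2 : Kσ) ≠ 0 := fun h0 => h2 (by rw [← map_ofNat ι₀ 2, h0, map_zero])
  obtain ⟨e, f, H⟩ := exists_hyp' C₀ C₀.ndeg_top (by rw [finrank_top, finrank_fintype_fun_eq_card]; omega)
  obtain ⟨a, b, G⟩ := exists_hyp' C₀ (H.ndeg C₀ C₀.ndeg_top) (by
    have := H.le_finrank C₀; rw [finrank_top, finrank_fintype_fun_eq_card] at this; omega)
  obtain ⟨-, hea, hfa⟩ := mem_perp2.mp G.memE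
  obtain ⟨-, heb, hfb⟩ := mem_perp2.mp G.memF
  obtain ⟨c, d, K⟩ := exists_hyp' C₀ (G.ndeg C₀ (H.ndeg C₀ C₀.ndeg_top)) (by
    have h1 := H.le_finrank C₀
    have h3 := G.le_finrank C₀
    rw [finrank_top, finrank_fintype_fun_eq_card] at h1
    omega)
  obtain ⟨hcU, hac, hbc⟩ := mem_perp2.mp K.memE
  obtain ⟨-, hec, hfc⟩ := mem_perp2.mp hcU
  set v := e + f with hv
  set w := a + b with hw
  have hQv : Q₀ v = 1 := by rw [hv, C₀.add, H.singE, H.singF, H.pair, zero_add, zero_add]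
  have hQw : Q₀ w = 1 := by rw [hw, C₀.add, G.singE, G.singF, G.pair, zero_add, zero_add]
  have hvw : B₀ v w = 0 := by simp [hv, hw, hea, heb, hfa, hfb]
  have hv0 : Q₀ v ≠ 0 := by rw [hQv]; exact one_ne_zero
  have hw0 : Q₀ w ≠ 0 := by rw [hQw]; exact one_ne_zero
  have hQd : Q₀ (v - w) = 2 := by
    rw [sub_eq_add_neg, C₀.add, C₀.neg, hQv, hQw, map_neg, hvw, neg_zero, add_zero, one_add_one_eq_two]
  have hd0 : Q₀ (v - w) ≠ 0 := by rw [hQd]; exact h20
  let R := rI C₀ (v - w) hd0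
  let V := rI C₀ v hv0
  let W := rI C₀ w hw0
  have hRv : (R : GL ι Kσ).val *ᵥ v = w := by
    show (rGL Q₀ (v - w)).val *ᵥ v = w
    rw [rGL_act C₀ hd0, map_sub, LinearMap.sub_apply, C₀.self, hQv, C₀.symm w v, hvw, sub_zero, mul_one,
      hQd, inv_mul_cancel₀ h20, one_smul, sub_sub_cancel]
  have hW : W = R * V * R⁻¹ := Subtype.ext (by
    show rGL Q₀ w = (R : GL ι Kσ) * rGL Q₀ v * (R : GL ι Kσ)⁻¹
    rw [rGL_conj C₀ hv0 R.2, hRv])
  have hmem : V * W ∈ Cfsg.Omega Kσ Q₀ := by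
    have h1 := Subgroup.commutator_mem_commutator (H₁ := ⊤) (H₂ := ⊤) (Subgroup.mem_top V) (Subgroup.mem_top R)
    rw [commutatorElement_def, show V⁻¹ = V from inv_eq_of_mul_eq_one_right (rI_sq C₀ hv0),
      mul_assoc V R, mul_assoc V, ← hW] at h1
    exact h1
  let s : ↥(Cfsg.Omega Kσ Q₀) := ⟨V * W, hmem⟩
  have hact : ∀ x, (om Q₀ s).val *ᵥ x = x - B₀ v x • v - B₀ w x • w := fun x => by
    show ((rGL Q₀ v) * (rGL Q₀ w)).val *ᵥ x = _
    rw [mul_act, rGL_act C₀ hw0, rGL_act C₀ hv0, hQv, hQw, inv_one, one_mul, one_mul, map_sub, map_smul, hvw,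
      smul_zero, sub_zero, sub_right_comm]
  have hss : s * s = 1 := om_injective (gl_ext fun x => by
    rw [map_mul, map_one, mul_act, hact, hact, Units.val_one, Matrix.one_mulVec]
    simp only [map_sub, map_smul, C₀.self, hQv, hQw, hvw, C₀.symm w v, smul_eq_mul]
    module)
  refine ⟨s, orderOf_eq_prime (by rw [pow_two, ← map_mul, hss, map_one]) fun h1 => ?_⟩
  rcases frameHom_eq_one C C' C₀ hQ hM hg h7 p hψ h1 with h | h
  · have h3 := (hact v).symm.trans (h v)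
    rw [C₀.self, hQv, mul_one, C₀.symm w v, hvw, zero_smul, sub_zero, sub_eq_self, smul_eq_zero, or_iff_right h20] at h3
    exact hv0 (by rw [h3, C₀.zero])
  · have h3 := (hact c).symm.trans (h c)
    rw [show B₀ v c = 0 by simp [hv, hec, hfc], show B₀ w c = 0 by simp [hw, hac, hbc], zero_smul, zero_smul,
      sub_zero, sub_zero] at h3
    have h4 := congrArg (fun x => B₀ x d) h3
    simp only [map_neg, LinearMap.neg_apply, K.pair] at h4
    exact h20 (by linear_combination h4)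

/-- An element of odd prime order in the image of `ψ`. -/
theorem frameHom_order (hσ : orderOf σ = ℓ) (hodd : Odd ℓ) {ψ : ↥(Cfsg.Omega Kσ Q₀) →* P}
    (hψ : ∀ s, ∃ t : ↥(Cfsg.Omega F Q), ψ s = QuotientGroup.mk t ∧
      om Q t = M * Matrix.GeneralLinearGroup.map ι₀ (om Q₀ s) * M⁻¹)
    (hdiv : ℓ ∣ Nat.card ↥(MonoidHom.eqLocus (semiAut hx).toMonoidHom (MonoidHom.id P))) :
    ∃ s, orderOf (ψ s) = ℓ := by
  classical
  haveI : Finite P := inferInstanceAs (Finite (_ ⧸ _))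
  obtain ⟨k, hk⟩ := exists_prime_orderOf_dvd_card' ℓ hdiv
  obtain ⟨t, ht⟩ := QuotientGroup.mk_surjective k.1
  have hkx : semiAut hx k.1 = k.1 := k.2
  rw [← ht, semiAut_mk, QuotientGroup.eq] at hkx
  set z := (semiOmega hx t)⁻¹ * t with hz
  have hft : semiOmega hx t = t * z⁻¹ := by rw [hz]; group
  obtain ⟨η, hηη, hη'⟩ : ∃ η : Fˣ, η * η = 1 ∧ om Q z⁻¹ = sc η := by
    rcases omega_center_pm C h7 (inv_mem hkx) with e | e
    · exact ⟨1, one_mul _, Units.ext (by rw [map_one]; exact e)⟩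
    · exact ⟨-1, neg_mul_neg (1 : Fˣ) 1 ▸ one_mul _, Units.ext (e.trans (by rw [sc_val]; simp))⟩
  set R := M⁻¹ * om Q t * M with hR
  have hση : sm σ R = sc η * R := by
    have h1 : om Q (semiOmega hx t) = M * sm σ R * M⁻¹ := by
      refine (semiOmega_coe hx t).trans ?_
      show g * Units.mapEquiv σ.mapMatrix.toMulEquiv (om Q t) * g⁻¹ = _
      rw [sm_eq, hg, hR, map_mul, map_mul, map_inv]
      group
    rw [hft, map_mul, hη'] at h1
    calc sm σ R = M⁻¹ * (M * sm σ R * M⁻¹) * M := by group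
      _ = M⁻¹ * (om Q t * sc η) * M := by rw [h1]
      _ = M⁻¹ * om Q t * (sc η * M) := by group
      _ = R * sc η := by rw [sc_comm, hR]; group
      _ = sc η * R := (sc_comm η R).symm
  have hση1 : σ (η : F) = η := by
    rcases mul_self_eq_one_iff.1 (show (η : F) * η = 1 by rw [← Units.val_mul, hηη, Units.val_one]) with e | e <;>
      simp [e]
  have hscσ : sm σ (sc η : GL ι F) = sc η := Units.ext (Matrix.ext fun i j => by
    show σ ((sc η : GL ι F).val i j) = _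
    rw [sc_val]
    simp [Matrix.one_apply, apply_ite σ, hση1])
  have hk' : ∀ j : ℕ, sm (σ ^ j) R = sc η ^ j * R := fun j => by
    induction j with
    | zero => rw [pow_zero, pow_zero, sm_one, one_mul]
    | succ j ih =>
      rw [pow_succ', sm_mul, ih, map_mul, map_pow, hscσ, hση, ← mul_assoc, ← pow_succ]
  have h1 := hk' ℓ
  rw [← hσ, pow_orderOf_eq_one, hσ, sm_one, right_eq_mul] at h1
  obtain ⟨j, hj⟩ := id hodd
  rw [hj, pow_succ, pow_mul, sq, ← map_mul, hηη, map_one, one_pow, one_mul] at h1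
  rw [h1, one_mul] at hση
  have hTK : ∀ i j, R.val i j ∈ Kσ := fun i j => congrFun (congrFun (congrArg (fun u : GL ι F => u.val) hση) i) j
  have hdet : IsUnit (Matrix.of fun i j => (⟨R.val i j, hTK i j⟩ : Kσ)).det := by
    rw [isUnit_iff_ne_zero]
    intro h0
    have h1 := congrArg ι₀ h0
    rw [map_zero, RingHom.map_det] at h1
    exact (Matrix.GeneralLinearGroup.det R).ne_zero h1
  set G₀ : GL ι Kσ := Matrix.GeneralLinearGroup.mk'' _ hdet
  have hG : Matrix.GeneralLinearGroup.map ι₀ G₀ = R := Units.ext rfl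
  let u : ↥(isometryGroup Kσ Q₀) := ⟨G₀, mem_iso.2 fun v => (ι₀).injective (by
    rw [← hQ, ← hQ, ← map_vec, hG, hR, ← hM, mul_act, mul_act, act_inv, mem_iso.1 (om_mem t), hM])⟩
  let s₀ : ↥(Cfsg.Omega Kσ Q₀) := ⟨u * u, iso_sq_mem_omega C₀ h7 u⟩
  refine ⟨s₀, ?_⟩
  obtain ⟨t', ht', htv⟩ := hψ s₀
  have he : t' = t * t := om_injective (by
    rw [htv, map_mul, show om Q₀ s₀ = G₀ * G₀ from rfl, map_mul, hG, hR]
    group)
  have hsq : ψ s₀ = k.1 * k.1 := by rw [ht', he, QuotientGroup.mk_mul, ht]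
  rw [hsq, ← pow_two, orderOf_pow' _ two_ne_zero, Subgroup.orderOf_coe, hk,
    (Nat.coprime_two_right.2 hodd).gcd_eq_one, Nat.div_one]

/-- For an involution the fixed points have even number. -/
theorem frameGen_even (h2 : (2 : F) ≠ 0) :
    ¬ Nat.Coprime 2 (Nat.card ↥(MonoidHom.eqLocus (semiAut hx).toMonoidHom (MonoidHom.id P))) := by
  classical
  haveI : Finite P := inferInstanceAs (Finite (_ ⧸ _))
  obtain ⟨ψ, hψfix, hψ, -⟩ := exists_frameHom C C' C₀ hQ hM hg hx h7 p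
  intro hc
  obtain ⟨s, hs⟩ := frameHom_invol C C' C₀ hQ hM hg h7 p h2 hψ
  have h1 : orderOf (⟨ψ s, hψfix s⟩ : ↥(MonoidHom.eqLocus (semiAut hx).toMonoidHom (MonoidHom.id P))) = 2 := by
    rw [← Subgroup.orderOf_coe]; exact hs
  exact Nat.prime_two.coprime_iff_not_dvd.1 hc (h1 ▸ orderOf_dvd_natCard _)

/-- **Failure of balance.** -/
theorem frameGen_balance (hσ : orderOf σ = ℓ) (hord : semiAut hx ^ ℓ = 1) (hℓp : ℓ ≠ p)
    (A : Subgroup (MulAut P)) (hinn : ∀ k : P, MulAut.conj k ∈ A)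
    (hdec : ∀ ψ : ↥(Cfsg.Omega Kσ Q₀) →* P, (∀ s, ∃ t : ↥(Cfsg.Omega F Q), ψ s = QuotientGroup.mk t ∧
      om Q t = M * Matrix.GeneralLinearGroup.map ι₀ (om Q₀ s) * M⁻¹) →
      ∀ b : MulAut P, b * semiAut hx = semiAut hx * b → (∀ s, b (ψ s) = ψ s) →
      ∃ (h : GL ι F) (τ : F ≃+* F) (hs : Cfsg.IsSemisimilarityPair Q h τ), b = semiAut hs) :
    Cfsg.pPrimeCore ℓ ↥(A ⊓ Subgroup.centralizer {semiAut hx}) ≠ ⊥ ↔
      Nat.Coprime ℓ (Nat.card ↥(MonoidHom.eqLocus (semiAut hx).toMonoidHom (MonoidHom.id P))) := by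
  classical
  haveI : Finite P := inferInstanceAs (Finite (_ ⧸ _))
  have hℓ : ℓ.Prime := Fact.out
  obtain ⟨ψ, hψfix, hψ, hnorm⟩ := exists_frameHom C C' C₀ hQ hM hg hx h7 p
  refine ⟨fun hne => ?_, fun hcop => ?_⟩
  · by_contra hdiv
    rw [hℓ.coprime_iff_not_dvd, not_not] at hdiv
    refine hne ?_
    obtain ⟨s₀, hs₀⟩ : ∃ s, orderOf (ψ s) = ℓ := by
      rcases hℓ.eq_two_or_odd' with h | h
      · subst h
        exact frameHom_invol C C' C₀ hQ hM hg h7 p (fun h => hℓp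
          (((Nat.prime_dvd_prime_iff_eq (Fact.out : p.Prime) Nat.prime_two).1
            ((CharP.cast_eq_zero_iff F p 2).1 (by exact_mod_cast h)))).symm) hψ
      · exact frameHom_order C C' C₀ hQ hM hg hx h7 p ℓ hσ h hψ hdiv
    exact frameGen_core_eq_bot C C' C₀ hQ hM hg hx h7 p ℓ A hinn hψfix hψ hnorm hs₀ hord (hdec ψ hψ)
  · obtain ⟨s, hs⟩ := frameHom_ne_one C C' C₀ hQ hM hg h7 p hψ
    exact Balance.core_ne_bot A hinn (semiAut hx) (conj_injective' C h7 p) hcop (hψfix s) hs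

end Cfsg.Lib.Linear.AutPO
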