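import Cfsg.Agent.Lib.Linear.AutPO.Odd
import Cfsg.Agent.Lib.Linear.AutPSL.FieldCentralizer
import Cfsg.Agent.Lib.Linear.OrthStdBasis

/-!
# Base change of the odd orthogonal groups along a subfield
-/

set_option autoImplicit false

namespace Cfsg.Lib.Linear.AutPO

open Module
open Cfsg.Lib.Linear.Orth
open Cfsg.Lib.Linear.Descent (sc sm tw sc_val sc_comm sm_sc sm_one)
open scoped Matrix

set_option quotPrecheck false

section Vec

variable {ι : Type} [Fintype ι] [DecidableEq ι] {F : Type*} [Field F] {F₀ : Type*} [Field F₀] (i : F₀ →+* F)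

theorem map_vec (g : GL ι F₀) (v : ι → F₀) :
    (Matrix.GeneralLinearGroup.map i g).val *ᵥ (i ∘ v) = i ∘ (g.val *ᵥ v) :=
  funext fun k => by simp [Matrix.mulVec, dotProduct, map_sum]

theorem comp_single (k : ι) : (i ∘ (Pi.single k 1 : ι → F₀)) = Pi.single k 1 :=
  funext fun j => by simp [Pi.single_apply, apply_ite i]

theorem map_gl_injective : Function.Injective (Matrix.GeneralLinearGroup.map (n := ι) i) := fun g h e =>
  Units.ext (Matrix.ext fun a b => i.injective (congrFun (congrFun (congrArg (fun x : GL ι F => x.val) e) a) b))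

theorem sc_act (c : Fˣ) (v : ι → F) : (sc c : GL ι F).val *ᵥ v = (c : F) • v := by
  rw [sc_val, Matrix.smul_mulVec, Matrix.one_mulVec]

theorem eq_sc_iff {g : GL ι F} : (∃ c : F, c ≠ 0 ∧ ∀ x, g.val *ᵥ x = c • x) ↔ ∃ c : Fˣ, g = sc c :=
  ⟨fun ⟨c, hc, h⟩ => ⟨Units.mk0 c hc, gl_ext fun x => by rw [h, sc_act, Units.val_mk0]⟩,
    fun ⟨c, h⟩ => ⟨c, c.ne_zero, fun x => by rw [h, sc_act]⟩⟩

end Vec

section Form

variable {m : ℕ} {F : Type*} [Field F] {B : LinearMap.BilinForm F (Unit ⊕ (Fin m ⊕ Fin m) → F)}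
  (C : Space (Cfsg.quadFormOdd m F) B) {F₀ : Type*} [Field F₀] (i : F₀ →+* F)

local notation "ιv" => (Unit ⊕ (Fin m ⊕ Fin m))

/-- The Gram matrix of the standard odd form. -/
def gram : ιv → ιv → F
  | .inl _, .inl _ => 2
  | .inr (.inl k), .inr (.inr l) => if k = l then 1 else 0
  | .inr (.inr k), .inr (.inl l) => if k = l then 1 else 0
  | _, _ => 0

theorem quad_map (v : ιv → F₀) : Cfsg.quadFormOdd m F (i ∘ v) = i (Cfsg.quadFormOdd m F₀ v) := by
  simp [Cfsg.quadFormOdd, map_sum]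

include C

theorem std_gram (x y : ιv) : B (Pi.single x 1) (Pi.single y 1) = gram x y := by
  rw [← C.polar]
  have hinj : ∀ (k : Fin m) (f : Fin m → F) (g : Fin m → F),
      (∀ l, l ≠ k → f l * g l = 0) → ∑ l, f l * g l = f k * g k := fun k f g h =>
    Finset.sum_eq_single k (fun l _ hl => h l hl) (by simp)
  rcases x with x | x | x <;> rcases y with y | y | y <;>
    simp [QuadraticMap.polar, Cfsg.quadFormOdd, gram, Pi.single_apply, add_mul, mul_add, Finset.sum_add_distrib]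
  · ring
  all_goals split_ifs <;> simp_all

/-- Equality of forms is checked on the basis. -/
theorem quad_of_gram (h2 : (2 : F) ≠ 0) {M : Matrix ιv ιv F} {c : F}
    (h : ∀ x y, B (M *ᵥ Pi.single x 1) (M *ᵥ Pi.single y 1) = c * gram x y) (v : ιv → F) :
    Cfsg.quadFormOdd m F (M *ᵥ v) = c * Cfsg.quadFormOdd m F v := by
  have hB : B.compl₁₂ M.mulVecLin M.mulVecLin = c • B :=
    LinearMap.ext_basis (Pi.basisFun F _) (Pi.basisFun F _) fun x y => by
      simp only [Pi.basisFun_apply, LinearMap.compl₁₂_apply, Matrix.mulVecLin_apply, LinearMap.smul_apply,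
        smul_eq_mul, h, std_gram C]
  have h1 := LinearMap.congr_fun₂ hB v v
  simp only [LinearMap.compl₁₂_apply, Matrix.mulVecLin_apply, LinearMap.smul_apply, smul_eq_mul, C.self] at h1
  exact mul_left_cancel₀ h2 (by rw [h1]; ring)

variable {B₀ : LinearMap.BilinForm F₀ (Unit ⊕ (Fin m ⊕ Fin m) → F₀)} (C₀ : Space (Cfsg.quadFormOdd m F₀) B₀)

include C₀

theorem polar_map (u v : ιv → F₀) : B (i ∘ u) (i ∘ v) = i (B₀ u v) := by
  rw [← C.polar, ← C₀.polar, QuadraticMap.polar, QuadraticMap.polar, map_sub, map_sub, ← quad_map, ← quad_map,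
    ← quad_map, show i ∘ (u + v) = i ∘ u + i ∘ v from funext fun k => map_add i _ _]

theorem map_sim (h2 : (2 : F) ≠ 0) {g : GL ιv F₀} {c : F₀}
    (h : ∀ v, Cfsg.quadFormOdd m F₀ (g.val *ᵥ v) = c * Cfsg.quadFormOdd m F₀ v) (v : ιv → F) :
    Cfsg.quadFormOdd m F ((Matrix.GeneralLinearGroup.map i g).val *ᵥ v) = i c * Cfsg.quadFormOdd m F v := by
  refine quad_of_gram C h2 (fun x y => ?_) v
  rw [← std_gram C x y, ← comp_single i x, ← comp_single i y, map_vec, map_vec, polar_map C i C₀,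
    polar_map C i C₀, ← map_mul, ← C₀.polar, ← C₀.polar]
  refine congrArg i ?_
  simp only [QuadraticMap.polar, ← Matrix.mulVec_add, h]
  ring

end Form

section Spinor

variable {m : ℕ} {F : Type*} [Field F] {B : LinearMap.BilinForm F (Unit ⊕ (Fin m ⊕ Fin m) → F)}
  (C : Space (Cfsg.quadFormOdd m F) B)

local notation "ιv" => (Unit ⊕ (Fin m ⊕ Fin m))
local notation "O" => ↥(isometryGroup F (Cfsg.quadFormOdd m F))
local notation "GS" => ↥(Cfsg.Geo.quadSimilarityGroup (F := F) (Cfsg.quadFormOdd m F))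

/-- An isometry as a similitude. -/
def toSim : O →* GS :=
  MonoidHom.mk' (fun s => ⟨(s : GL ιv F), 1, fun v => by rw [Units.val_one, one_mul]; exact mem_iso.mp s.2 v⟩)
    fun _ _ => rfl

include C

/-- Every similitude is a scalar times an isometry of determinant one. -/
theorem exists_so (A : GS) :
    ∃ (d : Fˣ) (s : O), (s : GL ιv F) = sc d * A.1 ∧ (s : GL ιv F).val.det = 1 := by
  obtain ⟨c, hc⟩ := A.2
  have h := mult_pow_card C hc
  rw [card_odd_index] at h
  set δ := A.1.val.det with hδ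
  have hδ0 : δ ≠ 0 := (Matrix.GeneralLinearGroup.det A.1).ne_zero
  set d : F := (c : F) ^ m / δ with hd
  have hd0 : d ≠ 0 := div_ne_zero (pow_ne_zero _ c.ne_zero) hδ0
  have hcd : (c : F) * d ^ 2 = 1 := by
    rw [hd, div_pow, ← mul_div_assoc, ← pow_mul, mul_comm m 2, ← pow_succ', h, div_self (pow_ne_zero 2 hδ0)]
  refine ⟨Units.mk0 d hd0, ⟨sc (Units.mk0 d hd0) * A.1, mem_iso.mpr fun v => ?_⟩, rfl, ?_⟩
  · rw [mul_act, sc_act, C.smul, hc, Units.val_mk0, ← mul_assoc, mul_comm (d ^ 2), hcd, one_mul]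
  · show (sc (Units.mk0 d hd0) * A.1).val.det = 1
    rw [Units.val_mul, sc_val, Matrix.smul_mul, Matrix.one_mul, Units.val_mk0, Matrix.det_smul, card_odd_index, ← hδ,
      pow_succ, pow_mul]
    have h1 : (d ^ 2) ^ m * d * δ = ((c : F) * d ^ 2) ^ m := by
      rw [mul_pow, hd]; field_simp
    rw [h1, hcd, one_pow]

variable [Fintype F]

theorem detSpin_eq {s : O} (hdet : (s : GL ιv F).val.det = 1) : detSpin _ s = (1, spin _ s) :=
  Prod.ext (Units.ext hdet) rfl

theorem spin_sq (s : O) : detSpin _ (s * s) = 1 := by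
  rw [map_mul]
  refine Prod.ext (Units.ext ?_) (Int.units_mul_self _)
  show (s : GL ιv F).val.det * (s : GL ιv F).val.det = 1
  rcases det_sq C s.2 with h | h <;> simp [h]

variable (h2 : (2 : F) ≠ 0)

include h2

theorem mem_omega_iff (hm : 3 ≤ m) {s : O} :
    s ∈ Cfsg.Omega F (Cfsg.quadFormOdd m F) ↔ detSpin _ s = 1 := by
  rw [show Cfsg.Omega F (Cfsg.quadFormOdd m F) = (detSpin _).ker from
    (omega_odd C h2 (by rw [card_odd_index]; omega)).1, MonoidHom.mem_ker]

theorem mem_inn_iff (hm : 3 ≤ m) (p : ℕ) [Fact p.Prime] [CharP F p] {s : O}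
    (hdet : (s : GL ιv F).val.det = 1) :
    (innd (toSim s) : MulAut _) ∈ Cfsg.Inn (Cfsg.POmega F (Cfsg.quadFormOdd m F)) ↔
      spin (Cfsg.quadFormOdd m F) s = 1 := by
  have h7 : 7 ≤ Fintype.card ιv := by rw [card_odd_index]; omega
  constructor
  · rintro ⟨x, hx⟩
    obtain ⟨t, rfl⟩ := QuotientGroup.mk_surjective x
    obtain ⟨A, hA, hA'⟩ := conj_mk_eq C h7 p t
    have h1 : innd (A⁻¹ * toSim s) = 1 := by rw [map_mul, map_inv, hA', hx, inv_mul_cancel]
    obtain ⟨c, hc, hcx⟩ := (innd_eq_one_iff C h7 p).1 h1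
    have hval : (A⁻¹ * toSim s).1 = sc (Units.mk0 c hc) :=
      gl_ext fun v => by rw [hcx, sc_act, Units.val_mk0]
    have hts : ((t : O)⁻¹ * s : O).1 = sc (Units.mk0 c hc) := by
      rw [← hval]
      show ((t : O) : GL ιv F)⁻¹ * _ = A.1⁻¹ * _
      rw [hA]
      rfl
    have hdett : (t : O).1.val.det = 1 :=
      congrArg Units.val (congrArg Prod.fst ((mem_omega_iff C h2 hm).1 t.2))
    have hc1 : c = 1 := by
      have hd := congrArg (fun x : GL ιv F => x.val.det) hts
      simp only [Subgroup.coe_mul, Units.val_mul, Matrix.det_mul, sc_val, Units.val_mk0, Matrix.det_smul,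
        Matrix.det_one, mul_one, card_odd_index, hdet] at hd
      have hinv : ((t : O)⁻¹ : O).1.val.det = 1 := by
        have := congrArg (fun x : GL ιv F => x.val.det) (inv_mul_cancel (t : O).1)
        simp only [Units.val_mul, Matrix.det_mul, hdett, mul_one, Units.val_one, Matrix.det_one] at this
        exact this
      rw [hinv] at hd
      have hQ := mem_iso.mp ((t : O)⁻¹ * s).2 (Pi.single (.inl ()) 1)
      rw [hts, sc_act, C.smul, Units.val_mk0] at hQ
      have hc2 : c ^ 2 = 1 := by simpa [Cfsg.quadFormOdd] using hQ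
      rw [pow_succ, pow_mul, hc2, one_pow, one_mul] at hd
      exact hd.symm
    have : s = (t : O) := by
      refine (inv_mul_eq_one.1 (Subtype.ext ?_)).symm
      rw [hts, show Units.mk0 c hc = 1 from Units.ext hc1, map_one]
      rfl
    rw [this]
    exact congrArg Prod.snd ((mem_omega_iff C h2 hm).1 t.2)
  · intro hs
    obtain ⟨A, hA, hA'⟩ := conj_mk_eq C h7 p ⟨s, (mem_omega_iff C h2 hm).2 (by
      rw [detSpin_eq C hdet, hs]; rfl)⟩
    exact ⟨QuotientGroup.mk ⟨s, _⟩, by rw [← hA']; exact congrArg innd (Subtype.ext hA)⟩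

variable {F₀ : Type*} [Field F₀] (i : F₀ →+* F)
  {B₀ : LinearMap.BilinForm F₀ (Unit ⊕ (Fin m ⊕ Fin m) → F₀)} (C₀ : Space (Cfsg.quadFormOdd m F₀) B₀)

include C₀

omit [Fintype F] in
theorem map_mem_iso {g : GL ιv F₀} (h : g ∈ isometryGroup F₀ (Cfsg.quadFormOdd m F₀)) :
    Matrix.GeneralLinearGroup.map i g ∈ isometryGroup F (Cfsg.quadFormOdd m F) :=
  mem_iso.2 fun v => by
    rw [map_sim C i C₀ h2 (c := 1) (fun u => by rw [one_mul]; exact mem_iso.1 h u), map_one, one_mul]

/-- Base change of isometries. -/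
def iI : ↥(isometryGroup F₀ (Cfsg.quadFormOdd m F₀)) →* O :=
  ((Matrix.GeneralLinearGroup.map i).comp (isometryGroup F₀ _).subtype).codRestrict _ fun g =>
    map_mem_iso C h2 i C₀ g.2

/-- Base change on the commutator subgroups. -/
def iOm : ↥(Cfsg.Omega F₀ (Cfsg.quadFormOdd m F₀)) →* ↥(Cfsg.Omega F (Cfsg.quadFormOdd m F)) :=
  ((iI C h2 i C₀).comp (Cfsg.Omega F₀ _).subtype).codRestrict _ fun g => by
    have h : (commutator _).map (iI C h2 i C₀) ≤ commutator O := by
      rw [_root_.commutator_def, Subgroup.map_commutator]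
      exact Subgroup.commutator_mono le_top le_top
    exact h ⟨g.1, g.2, rfl⟩

/-- Base change of similitudes. -/
def iG : ↥(Cfsg.Geo.quadSimilarityGroup (F := F₀) (Cfsg.quadFormOdd m F₀)) →* GS :=
  ((Matrix.GeneralLinearGroup.map i).comp (Cfsg.Geo.quadSimilarityGroup (F := F₀) _).subtype).codRestrict _ fun g => by
    obtain ⟨c, hc⟩ := g.2
    exact ⟨Units.map i.toMonoidHom c, fun v => map_sim C i C₀ h2 hc v⟩

omit [Fintype F] in
theorem iI_rI {v : ιv → F₀} (hv : Cfsg.quadFormOdd m F₀ v ≠ 0) :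
    iI C h2 i C₀ (rI C₀ v hv) = rI C (i ∘ v) (fun h => hv (i.injective (by rw [← quad_map, h, map_zero]))) := by
  refine Subtype.ext (Units.ext (Matrix.ext_of_mulVec_single fun k => ?_))
  show (Matrix.GeneralLinearGroup.map i (rI C₀ v hv).1).val *ᵥ _ = (rGL _ (i ∘ v)).val *ᵥ _
  rw [← comp_single i k, map_vec, rI_val, rGL_act C₀ hv, rGL_act C (fun h => hv (i.injective (by
    rw [← quad_map, h, map_zero]))), polar_map C i C₀, quad_map]
  funext j
  simp [map_inv₀]

end Spinor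

end Cfsg.Lib.Linear.AutPO
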