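import Cfsg.Agent.Lib.Linear.AutPO.Group
import Cfsg.Agent.Lib.Linear.AutPO.OddBase
import Cfsg.Agent.Lib.Linear.OrthSpinor

/-!
# The field part of an automorphism of `PΩ(Q)`

For a form that need not be fixed by the field automorphisms: the field part is a homomorphism, its kernel is the image of
the similitudes, and the powers of a semisimilarity are computed by twisted products.
-/

set_option autoImplicit false

namespace Cfsg.Lib.Linear.AutPO

open Module
open Cfsg.Lib.Linear.Orth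
open Cfsg.Lib.Linear.Descent (sc sm tw sc_val sc_comm sm_one sm_mul)
open scoped Matrix

set_option quotPrecheck false

variable {ι : Type} [Fintype ι] [DecidableEq ι] {F : Type*} [Field F] [Finite F]
  {Q : (ι → F) → F} {B : LinearMap.BilinForm F (ι → F)}

local notation "GS" => ↥(Cfsg.Geo.quadSimilarityGroup (F := F) Q)
local notation "P" => Cfsg.POmega F Q

omit [Finite F] in
theorem sm_eq (σ : F ≃+* F) (g : GL ι F) : Units.mapEquiv σ.mapMatrix.toMulEquiv g = sm σ g := Units.ext rfl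

omit [Finite F] in
theorem isSemi_one : Cfsg.IsSemisimilarityPair Q 1 (1 : F ≃+* F) :=
  ⟨1, fun v => by
    rw [Units.val_one, Units.val_one, Matrix.one_mulVec, one_mul]
    rfl⟩

theorem semiAut_one : semiAut (isSemi_one (Q := Q)) = 1 := by
  refine MulEquiv.ext fun x => ?_
  obtain ⟨s, rfl⟩ := QuotientGroup.mk_surjective x
  rw [semiAut_mk, MulAut.one_apply]
  refine congrArg _ (Subtype.ext (Subtype.ext (Units.ext ?_)))
  rw [semiOmega_coe, semiGL_val]
  simp

/-- Powers of a semisimilarity. -/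
theorem semiAut_pow {g : GL ι F} {σ : F ≃+* F} (h : Cfsg.IsSemisimilarityPair Q g σ) :
    ∀ k : ℕ, ∃ hk : Cfsg.IsSemisimilarityPair Q (tw σ g k) (σ ^ k), semiAut h ^ k = semiAut hk := by
  intro k
  induction k with
  | zero => exact ⟨isSemi_one, (pow_zero _).trans semiAut_one.symm⟩
  | succ k ih =>
    obtain ⟨hk, e⟩ := ih
    have hm := isSemi_mul h hk
    rw [sm_eq] at hm
    have hm' : Cfsg.IsSemisimilarityPair Q (tw σ g (k + 1)) (σ ^ (k + 1)) := by
      rw [pow_succ']; exact hm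
    refine ⟨hm', ?_⟩
    rw [pow_succ', e, semiAut_mul]
    refine semiAut_congr _ _ ?_
    rw [sm_eq, pow_succ']
    rfl

/-- Conjugating a similitude by a semisimilarity. -/
theorem semiAut_conj {g : GL ι F} {σ : F ≃+* F} (h : Cfsg.IsSemisimilarityPair Q g σ) (A : GS) :
    ∃ A' : GS, A'.1 = g * sm σ A.1 * g⁻¹ ∧ semiAut h * innd A * (semiAut h)⁻¹ = innd A' := by
  obtain ⟨k, hk⟩ := id h
  obtain ⟨c, hc⟩ := A.2
  have hmem : g * sm σ A.1 * g⁻¹ ∈ Cfsg.Geo.quadSimilarityGroup (F := F) Q := by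
    refine ⟨Units.map σ.toRingHom.toMonoidHom c, fun v => ?_⟩
    obtain ⟨u, rfl⟩ := semi_surj σ g v
    rw [mul_act, mul_act, inv_act, ← sm_eq, map_act]
    refine (hk _).trans ((congrArg (fun t => (k : F) * σ t) (hc u)).trans ?_)
    rw [map_mul]
    refine Eq.trans ?_ (congrArg (fun t => σ (c : F) * t) (hk u)).symm
    ring
  refine ⟨⟨_, hmem⟩, rfl, ?_⟩
  rw [mul_inv_eq_iff_eq_mul, innd_eq, innd_eq, semiAut_mul, semiAut_mul]
  refine semiAut_congr _ _ ?_
  rw [sm_eq, sm_eq, show sm (RingEquiv.refl F) g = g from sm_one g, inv_mul_cancel_right]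
  rfl

variable (C : Space Q B) (h7 : 7 ≤ Fintype.card ι) (p : ℕ) [Fact p.Prime] [CharP F p]

include C h7 p

theorem innd_eq_sc {A : GS} : innd A = 1 ↔ ∃ c : Fˣ, A.1 = sc c :=
  (innd_eq_one_iff C h7 p).trans eq_sc_iff

variable (hgood : 9 ≤ Fintype.card ι ∨ ∀ A : Submodule F (ι → F), (∀ v ∈ A, Q v = 0) → finrank F A ≤ 3)

include hgood

theorem semiAut_field_unique {g h : GL ι F} {σ τ : F ≃+* F} (hg : Cfsg.IsSemisimilarityPair Q g σ)
    (hh : Cfsg.IsSemisimilarityPair Q h τ) (e : semiAut hg = semiAut hh) : σ = τ := by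
  obtain ⟨k, ρ, hk, hk'⟩ := exists_decomp C h7 p (semiAut hg)⁻¹ hgood
  have e1 : semiAut hg * semiAut hk = 1 := by rw [← hk', mul_inv_cancel]
  have e2 : semiAut hh * semiAut hk = 1 := by rw [← hk', ← e, mul_inv_cancel]
  rw [semiAut_mul] at e1 e2
  have a1 := (semiAut_eq_one C h7 p _ e1).1
  have a2 := (semiAut_eq_one C h7 p _ e2).1
  refine RingEquiv.ext fun x => ?_
  have h1 : σ (ρ (ρ.symm x)) = ρ.symm x := RingEquiv.congr_fun a1 (ρ.symm x)
  have h2 : τ (ρ (ρ.symm x)) = ρ.symm x := RingEquiv.congr_fun a2 (ρ.symm x)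
  rw [RingEquiv.apply_symm_apply] at h1 h2
  rw [h1, h2]

theorem exists_galOf : ∃ π : MulAut P →* (F ≃+* F),
    (∀ {g : GL ι F} {σ : F ≃+* F} (h : Cfsg.IsSemisimilarityPair Q g σ), π (semiAut h) = σ) ∧
      π.ker = (innd : GS →* MulAut P).range := by
  have hall : ∀ β : MulAut P, ∃ σ : F ≃+* F, ∃ g : GL ι F, ∃ h : Cfsg.IsSemisimilarityPair Q g σ,
      β = semiAut h := fun β => by
    obtain ⟨g, σ, h, e⟩ := exists_decomp C h7 p β hgood
    exact ⟨σ, g, h, e⟩
  choose π g h e using hall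
  have hπ : ∀ {g : GL ι F} {σ : F ≃+* F} (h' : Cfsg.IsSemisimilarityPair Q g σ), π (semiAut h') = σ :=
    fun h' => semiAut_field_unique C h7 p hgood (h _) h' (e (semiAut h')).symm
  let gal₀ : MulAut P →* (F ≃+* F) := MonoidHom.mk' π fun β γ => by
    have := hπ (isSemi_mul (h β) (h γ))
    rw [← semiAut_mul (h β) (h γ), ← e β, ← e γ] at this
    exact this
  refine ⟨gal₀, hπ, le_antisymm (fun β hβ => ?_) ?_⟩
  · have hh := h β
    have he := e β
    change π β = 1 at hβ
    refine ⟨⟨g β, ?_⟩, ?_⟩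
    · obtain ⟨c, hc⟩ := hh
      refine ⟨c, fun v => ?_⟩
      have := hc v
      rw [hβ] at this
      exact this
    · rw [innd_eq]
      conv_rhs => rw [he]
      refine semiAut_congr _ _ ?_
      show semiGL (g β) (RingEquiv.refl F) = semiGL (g β) (π β)
      rw [hβ]
      rfl
  · rintro _ ⟨A, rfl⟩
    exact hπ (isSemi_sim A)

end Cfsg.Lib.Linear.AutPO
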