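import Cfsg.Agent.Lib.Linear.AutPO.Main
import Cfsg.Agent.Lib.Linear.AutPSL.Out

/-!
# The automorphism group of `PΩ(Q)` as the image of the semisimilarities

Similitudes and, for a form with coefficients in the prime field, field automorphisms; the kernel consists of the scalars.
-/

set_option autoImplicit false

namespace Cfsg.Lib.Linear.AutPO

open Module
open Cfsg.Lib.Linear.Orth
open scoped Matrix

set_option quotPrecheck false

variable {ι : Type} [Fintype ι] [DecidableEq ι] {F : Type*} [Field F] [Finite F]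
  {Q : (ι → F) → F} {B : LinearMap.BilinForm F (ι → F)}

/-- Composition of semisimilarities. -/
theorem isSemi_mul {g h : GL ι F} {σ τ : F ≃+* F} (hg : Cfsg.IsSemisimilarityPair Q g σ)
    (hh : Cfsg.IsSemisimilarityPair Q h τ) :
    Cfsg.IsSemisimilarityPair Q (g * Units.mapEquiv σ.mapMatrix.toMulEquiv h) (τ.trans σ) := by
  obtain ⟨c, hc⟩ := hg
  obtain ⟨d, hd⟩ := hh
  refine ⟨c * Units.map σ.toRingHom.toMonoidHom d, fun v => ?_⟩
  show Q ((g * _).val *ᵥ ((τ.trans σ) ∘ v)) = _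
  rw [mul_act, show ((τ.trans σ) ∘ v : ι → F) = σ ∘ (τ ∘ v) from rfl, map_act]
  refine (hc _).trans ?_
  refine (congrArg (fun a => (c : F) * σ a) (hd v)).trans ?_
  show (c : F) * σ ((d : F) * τ (Q v)) = (c : F) * σ (d : F) * σ (τ (Q v))
  rw [map_mul, mul_assoc]

theorem semiAut_mul {g h : GL ι F} {σ τ : F ≃+* F} (hg : Cfsg.IsSemisimilarityPair Q g σ)
    (hh : Cfsg.IsSemisimilarityPair Q h τ) :
    semiAut hg * semiAut hh = semiAut (isSemi_mul hg hh) := by
  refine MulEquiv.ext fun x => ?_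
  obtain ⟨s, rfl⟩ := QuotientGroup.mk_surjective x
  rw [MulAut.mul_apply, semiAut_mk, semiAut_mk, semiAut_mk]
  refine congrArg _ (Subtype.ext (Subtype.ext ?_))
  rw [semiOmega_coe, semiOmega_coe, semiOmega_coe, ← semiGL_mul, MulAut.mul_apply]

theorem semiAut_congr {g h : GL ι F} {σ τ : F ≃+* F} (hg : Cfsg.IsSemisimilarityPair Q g σ)
    (hh : Cfsg.IsSemisimilarityPair Q h τ) (e : semiGL g σ = semiGL h τ) : semiAut hg = semiAut hh := by
  refine MulEquiv.ext fun x => ?_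
  obtain ⟨s, rfl⟩ := QuotientGroup.mk_surjective x
  rw [semiAut_mk, semiAut_mk]
  refine congrArg _ (Subtype.ext (Subtype.ext ?_))
  rw [semiOmega_coe, semiOmega_coe, e]

local notation "GS" => ↥(Cfsg.Geo.quadSimilarityGroup (F := F) Q)

omit [Finite F] in
theorem isSemi_sim (g : GS) : Cfsg.IsSemisimilarityPair Q g.1 (RingEquiv.refl F) := g.2

/-- The inner-diagonal automorphism of a similitude. -/
noncomputable def innd : GS →* MulAut (Cfsg.POmega F Q) :=
  MonoidHom.mk' (fun g => semiAut (isSemi_sim g)) fun g h => by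
    rw [semiAut_mul]
    refine semiAut_congr _ _ ?_
    congr 1

/-- A form with coefficients in the prime field. -/
def StdForm (Q : (ι → F) → F) : Prop := ∀ (σ : F ≃+* F) (v : ι → F), Q (σ ∘ v) = σ (Q v)

omit [Finite F] in
theorem isSemi_fld (hQ : StdForm Q) (σ : F ≃+* F) : Cfsg.IsSemisimilarityPair Q 1 σ :=
  ⟨1, fun v => by simp only [Units.val_one, Matrix.one_mulVec, one_mul]; exact hQ σ v⟩

/-- The standard field automorphism. -/
noncomputable def fld (hQ : StdForm Q) : (F ≃+* F) →* MulAut (Cfsg.POmega F Q) :=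
  MonoidHom.mk' (fun σ => semiAut (isSemi_fld hQ σ)) fun σ τ => by
    rw [semiAut_mul]
    refine semiAut_congr _ _ ?_
    rw [map_one, one_mul]
    rfl

theorem innd_eq (g : GS) : innd g = semiAut (isSemi_sim g) := rfl

theorem fld_eq (hQ : StdForm Q) (σ : F ≃+* F) : fld hQ σ = semiAut (isSemi_fld hQ σ) := rfl

omit [Finite F] in
theorem sim_of_semi (hQ : StdForm Q) {g : GL ι F} {σ : F ≃+* F} (h : Cfsg.IsSemisimilarityPair Q g σ) :
    g ∈ Cfsg.Geo.quadSimilarityGroup (F := F) Q := by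
  obtain ⟨c, hc⟩ := h
  refine ⟨c, fun v => ?_⟩
  obtain ⟨u, rfl⟩ : ∃ u : ι → F, σ ∘ u = v := ⟨σ.symm ∘ v, funext fun i => σ.apply_symm_apply _⟩
  exact (hc u).trans (by rw [hQ σ u])

theorem semiAut_eq_mul (hQ : StdForm Q) {g : GL ι F} {σ : F ≃+* F} (h : Cfsg.IsSemisimilarityPair Q g σ) :
    semiAut h = innd ⟨g, sim_of_semi hQ h⟩ * fld hQ σ := by
  rw [innd_eq, fld_eq, semiAut_mul]
  refine semiAut_congr _ _ ?_
  congr 1
  exact (mul_one g).symm.trans (congrArg (g * ·) (Units.ext (by simp)))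

/-- Conjugating a similitude by a field automorphism. -/
theorem fld_mul_innd (hQ : StdForm Q) (σ : F ≃+* F) (A : GS) :
    ∃ A' : GS, A'.1 = Units.mapEquiv σ.mapMatrix.toMulEquiv A.1 ∧ fld hQ σ * innd A = innd A' * fld hQ σ := by
  have h := isSemi_mul (isSemi_fld hQ σ) (isSemi_sim A)
  have hmem := sim_of_semi hQ h
  rw [one_mul] at hmem
  refine ⟨⟨_, hmem⟩, rfl, ?_⟩
  rw [fld_eq, innd_eq, semiAut_mul, semiAut_eq_mul hQ]
  congr 1
  · exact congrArg innd (Subtype.ext (one_mul _))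

theorem isInduced_innd (g : GS) : Cfsg.IsInducedBySemilinearPOmega Q g.1 (RingEquiv.refl F) (innd g) :=
  semiAut_isInduced _

theorem pgoAut_eq_range : Cfsg.pgoAut F Q = (innd : GS →* MulAut (Cfsg.POmega F Q)).range := by
  refine le_antisymm ((Subgroup.closure_le _).2 ?_) ?_
  · rintro β ⟨g, hg, hβ⟩
    exact ⟨⟨g, hg⟩, (eq_semiAut (isSemi_sim ⟨g, hg⟩) hβ).symm⟩
  · rintro _ ⟨g, rfl⟩
    exact Subgroup.subset_closure ⟨g.1, g.2, isInduced_innd g⟩

theorem isFieldAut_iff (hQ : StdForm Q) {σ : F ≃+* F} {β : MulAut (Cfsg.POmega F Q)} :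
    Cfsg.IsFieldAutPOmegaOf Q σ β ↔ β = fld hQ σ := by
  have hgl : ∀ x : GL ι F, (semiGL 1 σ x).val = x.val.map σ := fun x => by
    rw [semiGL_val, Units.val_one, inv_one, Units.val_one, one_mul, mul_one]
  constructor
  · intro h
    refine MulEquiv.ext fun x => ?_
    obtain ⟨s, rfl⟩ := QuotientGroup.mk_surjective x
    rw [fld_eq, semiAut_mk]
    exact h s _ (by rw [semiOmega_coe, hgl])
  · rintro rfl s s' e
    rw [fld_eq, semiAut_mk]
    exact congrArg _ (Subtype.ext (Subtype.ext (Units.ext (by rw [semiOmega_coe, hgl]; exact e.symm))))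

section

variable (C : Space Q B) (h7 : 7 ≤ Fintype.card ι) (p : ℕ) [Fact p.Prime] [CharP F p]

include C h7 p

/-- The kernel consists of the scalars. -/
theorem semiAut_eq_one {g : GL ι F} {σ : F ≃+* F} (h : Cfsg.IsSemisimilarityPair Q g σ) (h1 : semiAut h = 1) :
    σ = RingEquiv.refl F ∧ ∃ c : F, c ≠ 0 ∧ ∀ x, g.val *ᵥ x = c • x := by
  have hline : ∀ (L : Submodule F (ι → F)), IsSLine Q L → ∀ v ∈ L, g.val *ᵥ (σ ∘ v) ∈ L := by
    intro L hL v hv
    obtain ⟨x, hx, hl⟩ := exists_om_root C h7 p ⟨L, hL⟩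
    have e : semiOmega h x = x := mk_inj_of_pow C h7 p
      (by rw [← map_pow, root_pow C h7 p hx, map_one]) (root_pow C h7 p hx)
      (by rw [← semiAut_mk, h1, MulAut.one_apply])
    dsimp only at hl
    rw [← hl] at hv ⊢
    obtain ⟨z, rfl⟩ := mem_rl.mp hv
    have e' : semiGL g σ (om Q x) = om Q x := congrArg (om Q) e
    refine mem_rl.mpr ⟨g.val *ᵥ (σ ∘ z), ?_⟩
    conv_lhs => arg 1; rw [← e', semiGL_act]
    rw [← Matrix.mulVec_sub]
    exact congrArg _ (funext fun i => (map_sub σ _ _).symm)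
  have hpt : ∀ e, Q e = 0 → ∃ c : F, g.val *ᵥ (σ ∘ e) = c • e := by
    intro e he
    rcases eq_or_ne e 0 with rfl | he0
    · exact ⟨0, by rw [zero_smul, show σ ∘ (0 : ι → F) = 0 from funext fun i => map_zero σ, Matrix.mulVec_zero]⟩
    obtain ⟨f, H⟩ := exists_hyp C C.ndeg_top (U := ⊤) trivial he0 he
    obtain ⟨a, b, G⟩ := exists_hyp' C (H.ndeg C C.ndeg_top) (by
      have := H.le_finrank C; rw [finrank_top, finrank_fintype_fun_eq_card] at this; omega)
    obtain ⟨N₁, hN₁, h1, ha⟩ := exists_common_line C h7 he0 he G.singE (mem_perp2.mp G.memE).2.1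
    obtain ⟨N₂, hN₂, h2, hb⟩ := exists_common_line C h7 he0 he G.singF (mem_perp2.mp G.memF).2.1
    have hne : N₁ ≠ N₂ := fun hN => by
      have := hN₁.perp_self C a ha b (hN ▸ hb)
      rw [G.pair] at this
      exact one_ne_zero this
    obtain ⟨c, hc⟩ := Submodule.mem_span_singleton.mp
      (meet_unique hN₁ hN₂ hne he0 h1 h2 (hline _ hN₁ e h1) (hline _ hN₂ e h2))
    exact ⟨c, hc.symm⟩
  obtain ⟨e, f, H⟩ := exists_hyp' C C.ndeg_top (by
    rw [finrank_top, finrank_fintype_fun_eq_card]; omega)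
  obtain ⟨a, b, G⟩ := exists_hyp' C (H.ndeg C C.ndeg_top) (by
    have := H.le_finrank C; rw [finrank_top, finrank_fintype_fun_eq_card] at this; omega)
  obtain ⟨-, hea, hfa⟩ := mem_perp2.mp G.memE
  have ha0 : a ≠ 0 := fun h => by simpa [h] using G.pair
  have hσ : σ = RingEquiv.refl F := by
    refine RingEquiv.ext fun t => ?_
    obtain ⟨ce, hce⟩ := hpt e H.singE
    obtain ⟨ca, hca⟩ := hpt a G.singE
    have hcomb : ∀ t : F, σ t * ce = ca * t := by
      intro t
      obtain ⟨r, hr⟩ := hpt (t • e + a) (by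
        rw [C.add, C.smul, H.singE, G.singE, map_smul, LinearMap.smul_apply, hea]; simp)
      rw [show σ ∘ (t • e + a) = σ t • (σ ∘ e) + σ ∘ a from funext fun i => by simp, Matrix.mulVec_add,
        Matrix.mulVec_smul, hce, hca] at hr
      have e1 := congrArg (B b) hr
      have e2 := congrArg (B f) hr
      have hbe : B b e = 0 := by rw [C.symm]; exact (mem_perp2.mp G.memF).2.1
      simp [hbe, G.pair' C, H.pair' C, hfa] at e1 e2
      rw [e2, e1, mul_comm]
    have h1 := hcomb 1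
    rw [map_one, one_mul, mul_one] at h1
    have hca0 : ca ≠ 0 := fun h0 => ha0 (by
      have h2 : g.val *ᵥ (σ ∘ a) = g.val *ᵥ 0 := by rw [hca, h0, zero_smul, Matrix.mulVec_zero]
      exact funext fun i => σ.injective ((congrFun (act_injective g h2) i).trans (map_zero σ).symm))
    show σ t = t
    have h3 := hcomb t
    rw [h1, mul_comm ca] at h3
    exact mul_right_cancel₀ hca0 h3
  subst hσ
  obtain ⟨c, hc⟩ := scalar_of_lines C h7 (g := g) fun e he => by
    obtain ⟨c, hc⟩ := hpt e he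
    exact Submodule.mem_span_singleton.mpr ⟨c, hc.symm⟩
  refine ⟨rfl, c, fun h0 => ha0 ?_, hc⟩
  have := act_injective g (a₁ := a) (a₂ := 0) (by simp [hc, h0])
  exact this

theorem innd_eq_one_iff {A : GS} : innd A = 1 ↔ ∃ c : F, c ≠ 0 ∧ ∀ x, A.1.val *ᵥ x = c • x := by
  refine ⟨fun h => (semiAut_eq_one C h7 p _ h).2, fun ⟨c, hc, hx⟩ => ?_⟩
  rw [innd_eq]
  refine MulEquiv.ext fun x => ?_
  obtain ⟨s, rfl⟩ := QuotientGroup.mk_surjective x
  rw [semiAut_mk, MulAut.one_apply]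
  refine congrArg _ (Subtype.ext (Subtype.ext (gl_ext fun v => ?_)))
  rw [semiOmega_coe]
  obtain ⟨u, rfl⟩ := semi_surj (RingEquiv.refl F) A.1 v
  rw [semiGL_act]
  simp [hx, Matrix.mulVec_smul]

theorem innd_mul_fld_eq_one (hQ : StdForm Q) {A : GS} {σ : F ≃+* F} (h : innd A * fld hQ σ = 1) :
    innd A = 1 ∧ σ = 1 := by
  have hpair := isSemi_mul (isSemi_sim A) (isSemi_fld hQ σ)
  have h1 : semiAut hpair = 1 := by
    show semiAut (isSemi_mul (isSemi_sim A) (isSemi_fld hQ σ)) = 1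
    rw [← semiAut_mul]
    exact h
  obtain ⟨hs, -⟩ := semiAut_eq_one C h7 p hpair h1
  have hσ : σ = 1 := RingEquiv.ext fun t => RingEquiv.congr_fun hs t
  subst hσ
  rw [map_one, mul_one] at h
  exact ⟨h, rfl⟩

theorem decomp_unique (hQ : StdForm Q) {A A' : GS} {σ τ : F ≃+* F}
    (h : innd A * fld hQ σ = innd A' * fld hQ τ) : σ = τ ∧ innd A = innd A' := by
  have h1 : innd (A'⁻¹ * A) * fld hQ (σ * τ⁻¹) = 1 := by
    rw [map_mul, map_mul, map_inv, map_inv, mul_assoc, ← mul_assoc (innd A), h]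
    group
  obtain rfl := mul_inv_eq_one.1 (innd_mul_fld_eq_one C h7 p hQ h1).2
  exact ⟨rfl, mul_right_cancel h⟩

theorem conj_mk_eq (s : ↥(Cfsg.Omega F Q)) :
    ∃ A : GS, A.1 = om Q s ∧ innd A = MulAut.conj (QuotientGroup.mk s : Cfsg.POmega F Q) := by
  refine ⟨⟨om Q s, 1, fun v => by rw [Units.val_one, one_mul]; exact mem_iso.mp (om_mem s) v⟩, rfl, ?_⟩
  refine MulEquiv.ext fun x => ?_
  obtain ⟨t, rfl⟩ := QuotientGroup.mk_surjective x
  rw [innd_eq, semiAut_mk, MulAut.conj_apply, ← QuotientGroup.mk_inv, ← QuotientGroup.mk_mul, ← QuotientGroup.mk_mul]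
  refine congrArg _ (Subtype.ext (Subtype.ext (Units.ext ?_)))
  rw [semiOmega_coe, semiGL_val]
  simp

variable (hgood : 9 ≤ Fintype.card ι ∨ ∀ A : Submodule F (ι → F), (∀ v ∈ A, Q v = 0) → finrank F A ≤ 3)

include hgood

theorem exists_decomp_std (hQ : StdForm Q) (β : MulAut (Cfsg.POmega F Q)) :
    ∃ (A : GS) (σ : F ≃+* F), β = innd A * fld hQ σ := by
  obtain ⟨g, σ, h, rfl⟩ := exists_decomp C h7 p β hgood
  exact ⟨_, σ, semiAut_eq_mul hQ h⟩

theorem card_mulAut_std (hQ : StdForm Q) :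
    Nat.card (MulAut (Cfsg.POmega F Q)) =
      Nat.card (innd : GS →* MulAut (Cfsg.POmega F Q)).range * Nat.card (F ≃+* F) := by
  rw [← Nat.card_prod]
  refine (Nat.card_eq_of_bijective
    (fun z : (innd : GS →* MulAut (Cfsg.POmega F Q)).range × (F ≃+* F) => z.1.1 * fld hQ z.2) ⟨?_, ?_⟩).symm
  · rintro ⟨⟨_, A, rfl⟩, σ⟩ ⟨⟨_, A', rfl⟩, τ⟩ h
    obtain ⟨rfl, h2⟩ := decomp_unique C h7 p hQ h
    exact Prod.ext (Subtype.ext h2) rfl
  · intro β
    obtain ⟨A, σ, e⟩ := exists_decomp_std C h7 p hgood hQ β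
    exact ⟨(⟨_, A, rfl⟩, σ), e.symm⟩

end

end Cfsg.Lib.Linear.AutPO
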