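import Cfsg.Agent.Lib.Linear.AutPO.Polar

/-!
# Singular lines of an orthogonal space

Two singular lines commute (as root groups) when they meet or are perpendicular, and are adjacent when both.
A permutation of the lines keeping the two relations comes from a map of the singular points keeping
perpendicularity, except in dimension eight with maximal Witt index.
-/

set_option autoImplicit false

namespace Cfsg.Lib.Linear.AutPO

open Module
open Cfsg.Lib.Linear.Orth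
open scoped Matrix

variable {ι : Type} [Fintype ι] [DecidableEq ι] {F : Type*} [Field F]
  {Q : (ι → F) → F} {B : LinearMap.BilinForm F (ι → F)}

/-- A singular line. -/
def IsSLine (Q : (ι → F) → F) (L : Submodule F (ι → F)) : Prop :=
  finrank F L = 2 ∧ ∀ v ∈ L, Q v = 0

/-- The lines are perpendicular. -/
def Perp (B : LinearMap.BilinForm F (ι → F)) (L M : Submodule F (ι → F)) : Prop :=
  ∀ a ∈ L, ∀ b ∈ M, B a b = 0

/-- The lines meet. -/
def Meets (L M : Submodule F (ι → F)) : Prop := ∃ x, x ≠ 0 ∧ x ∈ L ∧ x ∈ M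

/-- The lines meet or are perpendicular. -/
def Com (B : LinearMap.BilinForm F (ι → F)) (L M : Submodule F (ι → F)) : Prop :=
  Meets L M ∨ Perp B L M

/-- The lines span a singular plane. -/
def Adj (B : LinearMap.BilinForm F (ι → F)) (L M : Submodule F (ι → F)) : Prop :=
  L ≠ M ∧ Meets L M ∧ Perp B L M

/-- The lines adjacent to both. -/
def Cmn (Q : (ι → F) → F) (B : LinearMap.BilinForm F (ι → F)) (L M c : Submodule F (ι → F)) : Prop :=
  IsSLine Q c ∧ Adj B c L ∧ Adj B c M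

/-- The intrinsic form of meeting without being perpendicular. -/
def Star (Q : (ι → F) → F) (B : LinearMap.BilinForm F (ι → F)) (L M : Submodule F (ι → F)) : Prop :=
  L ≠ M ∧ Com B L M ∧ ¬ Adj B L M ∧
    ((∀ c d, Cmn Q B L M c → Cmn Q B L M d → ¬ Adj B c d) ∨
      ∃ c d₁ d₂ d₃, Cmn Q B L M c ∧ (Cmn Q B L M d₁ ∧ Adj B c d₁) ∧ (Cmn Q B L M d₂ ∧ Adj B c d₂) ∧
        (Cmn Q B L M d₃ ∧ Adj B c d₃) ∧ d₁ ≠ d₂ ∧ d₁ ≠ d₃ ∧ d₂ ≠ d₃ ∧
        ¬ Adj B d₁ d₂ ∧ ¬ Adj B d₁ d₃ ∧ ¬ Adj B d₂ d₃)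

/-- The lines commuting with both lines and with their common neighbours. -/
def Through (Q : (ι → F) → F) (B : LinearMap.BilinForm F (ι → F)) (L M N : Submodule F (ι → F)) : Prop :=
  Com B N L ∧ Com B N M ∧ ∀ c, Cmn Q B L M c → Com B N c

theorem IsSLine.perp_self (C : Space Q B) {L : Submodule F (ι → F)} (hL : IsSLine Q L) : Perp B L L :=
  fun a ha b hb => by
    have := hL.2 _ (L.add_mem ha hb)
    rw [C.add, hL.2 a ha, hL.2 b hb] at this
    simpa using this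

theorem Meets.symm {L M : Submodule F (ι → F)} (h : Meets L M) : Meets M L := by
  obtain ⟨x, h0, h1, h2⟩ := h; exact ⟨x, h0, h2, h1⟩

theorem Perp.symm (C : Space Q B) {L M : Submodule F (ι → F)} (h : Perp B L M) : Perp B M L :=
  fun a ha b hb => by rw [C.symm]; exact h b hb a ha

theorem Adj.symm (C : Space Q B) {L M : Submodule F (ι → F)} (h : Adj B L M) : Adj B M L :=
  ⟨h.1.symm, h.2.1.symm, h.2.2.symm C⟩

theorem IsSLine.exists_basis {L : Submodule F (ι → F)} (hL : IsSLine Q L) {x : ι → F} (hx : x ∈ L)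
    (hx0 : x ≠ 0) : ∃ y ∈ L, y ∉ Submodule.span F {x} ∧ L = Submodule.span F {x, y} := by
  obtain ⟨y, hy, hyx⟩ : ∃ y ∈ L, y ∉ Submodule.span F {x} := by
    by_contra! h
    have := Submodule.finrank_mono (show L ≤ Submodule.span F {x} from h)
    rw [hL.1, finrank_span_singleton hx0] at this
    omega
  refine ⟨y, hy, hyx, (Submodule.eq_of_le_of_finrank_le (Submodule.span_le.mpr ?_) ?_).symm⟩
  · rintro z (rfl | rfl) <;> assumption
  · rw [hL.1]
    have hlt : Submodule.span F {x} < Submodule.span F {x, y} :=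
      lt_of_le_of_ne (Submodule.span_mono (by simp)) fun h => hyx (h ▸ Submodule.subset_span (by simp))
    have := Submodule.finrank_lt_finrank_of_lt hlt
    rw [finrank_span_singleton hx0] at this
    omega

theorem isSLine_span (C : Space Q B) {x y : ι → F} (hx0 : x ≠ 0) (hx : Q x = 0) (hy : Q y = 0)
    (hxy : B x y = 0) (hind : y ∉ Submodule.span F {x}) : IsSLine Q (Submodule.span F {x, y}) := by
  refine ⟨le_antisymm (finrank_span_pair_le x y) ?_, fun v hv => ?_⟩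
  · have hlt : Submodule.span F {x} < Submodule.span F {x, y} :=
      lt_of_le_of_ne (Submodule.span_mono (by simp)) fun h => hind (h ▸ Submodule.subset_span (by simp))
    have := Submodule.finrank_lt_finrank_of_lt hlt
    rw [finrank_span_singleton hx0] at this
    omega
  · obtain ⟨a, b, rfl⟩ := Submodule.mem_span_pair.mp hv
    rw [C.smul_add, hx, hy, hxy]; ring

theorem perp_span {x y u v : ι → F} (h1 : B x u = 0) (h2 : B x v = 0) (h3 : B y u = 0) (h4 : B y v = 0) :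
    Perp B (Submodule.span F {x, y}) (Submodule.span F {u, v}) := by
  intro a ha b hb
  obtain ⟨p, q, rfl⟩ := Submodule.mem_span_pair.mp ha
  obtain ⟨r, s, rfl⟩ := Submodule.mem_span_pair.mp hb
  simp [h1, h2, h3, h4]

theorem meet_unique {L M : Submodule F (ι → F)} (hL : IsSLine Q L) (hM : IsSLine Q M) (hne : L ≠ M)
    {x y : ι → F} (hx0 : x ≠ 0) (hxL : x ∈ L) (hxM : x ∈ M) (hyL : y ∈ L) (hyM : y ∈ M) :
    y ∈ Submodule.span F {x} := by
  by_contra hy
  have key : ∀ N : Submodule F (ι → F), IsSLine Q N → x ∈ N → y ∈ N → Submodule.span F {x, y} = N := by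
    intro N hN hxN hyN
    obtain ⟨z, -, -, hN'⟩ := hN.exists_basis hxN hx0
    refine Submodule.eq_of_le_of_finrank_le (Submodule.span_le.mpr ?_) ?_
    · rintro w (rfl | rfl) <;> assumption
    · rw [hN.1]
      have hlt : Submodule.span F {x} < Submodule.span F {x, y} :=
        lt_of_le_of_ne (Submodule.span_mono (by simp)) fun h => hy (h ▸ Submodule.subset_span (by simp))
      have := Submodule.finrank_lt_finrank_of_lt hlt
      rw [finrank_span_singleton hx0] at this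
      omega
  exact hne ((key L hL hxL hyL).symm.trans (key M hM hxM hyM))

/-- A line through a singular point, inside the complement of a hyperbolic pair. -/
theorem IsSLine.exists_side (C : Space Q B) {L : Submodule F (ι → F)} (hL : IsSLine Q L) {x f : ι → F}
    (H : Hyp Q B ⊤ x f) (hx0 : x ≠ 0) (hx : x ∈ L) :
    ∃ a ∈ perp2 B ⊤ x f, a ≠ 0 ∧ Q a = 0 ∧ a ∈ L ∧ L = Submodule.span F {x, a} := by
  obtain ⟨y, hy, hyx, hLy⟩ := hL.exists_basis hx hx0
  have hxy : B x y = 0 := hL.perp_self C x hx y hy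
  have hp : prj B x f y = y - B f y • x := by simp [prj_apply, hxy]
  refine ⟨prj B x f y, prj_mem C H y, fun h => hyx ?_, ?_, ?_, ?_⟩
  · rw [hp, sub_eq_zero] at h
    rw [h]
    exact Submodule.smul_mem _ _ (Submodule.mem_span_singleton_self x)
  · rw [hp]; exact hL.2 _ (L.sub_mem hy (L.smul_mem _ hx))
  · rw [hp]; exact L.sub_mem hy (L.smul_mem _ hx)
  · rw [hLy, hp, sub_eq_add_neg, ← neg_smul]
    refine le_antisymm (Submodule.span_le.mpr ?_) (Submodule.span_le.mpr ?_)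
    · rintro z (rfl | rfl)
      · exact Submodule.subset_span (by simp)
      · exact Submodule.mem_span_pair.mpr ⟨B f z, 1, by module⟩
    · rintro z (rfl | rfl)
      · exact Submodule.subset_span (by simp)
      · exact Submodule.mem_span_pair.mpr ⟨-B f y, 1, by module⟩

section

variable [Finite F] (C : Space Q B) (h7 : 7 ≤ Fintype.card ι)
  (hgood : 9 ≤ Fintype.card ι ∨ ∀ A : Submodule F (ι → F), (∀ v ∈ A, Q v = 0) → finrank F A ≤ 3)

include C h7

/-- A frame at a meeting of two non-perpendicular lines. -/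
theorem meet_frame {L M : Submodule F (ι → F)} (hL : IsSLine Q L) (hM : IsSLine Q M)
    (hm : Meets L M) (hnp : ¬ Perp B L M) :
    ∃ x f a b, x ≠ 0 ∧ Hyp Q B ⊤ x f ∧ Hyp Q B (perp2 B ⊤ x f) a b ∧
      L = Submodule.span F {x, a} ∧ M = Submodule.span F {x, b} := by
  obtain ⟨x, hx0, hxL, hxM⟩ := hm
  obtain ⟨f, H⟩ := exists_hyp C C.ndeg_top (U := ⊤) trivial hx0 (hL.2 x hxL)
  obtain ⟨a, ha, ha0, hQa, -, hLa⟩ := hL.exists_side C H hx0 hxL
  obtain ⟨b, hb, hb0, hQb, -, hMb⟩ := hM.exists_side C H hx0 hxM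
  obtain ⟨-, hxa, -⟩ := mem_perp2.mp ha
  obtain ⟨-, hxb, -⟩ := mem_perp2.mp hb
  have hab : B a b ≠ 0 := fun h => hnp (by
    rw [hLa, hMb]; exact perp_span (C.self_zero (hL.2 x hxL)) hxb (by rw [C.symm]; exact hxa) h)
  refine ⟨x, f, a, (B a b)⁻¹ • b, hx0, H, ⟨ha, Submodule.smul_mem _ _ hb, hQa,
    by rw [C.smul, hQb, mul_zero], by rw [map_smul, smul_eq_mul, inv_mul_cancel₀ hab]⟩, hLa, ?_⟩
  rw [hMb, Submodule.span_insert, Submodule.span_insert,
    Submodule.span_singleton_smul_eq (IsUnit.mk0 _ (inv_ne_zero hab))]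

omit h7 in
theorem cmn_iff {x f a b : ι → F} (hx0 : x ≠ 0) (H : Hyp Q B ⊤ x f)
    (G : Hyp Q B (perp2 B ⊤ x f) a b) {c : Submodule F (ι → F)} :
    Cmn Q B (Submodule.span F {x, a}) (Submodule.span F {x, b}) c ↔
      ∃ q ∈ perp2 B (perp2 B ⊤ x f) a b, q ≠ 0 ∧ Q q = 0 ∧ c = Submodule.span F {x, q} := by
  obtain ⟨-, hxa, hfa⟩ := mem_perp2.mp G.memE
  obtain ⟨-, hxb, hfb⟩ := mem_perp2.mp G.memF
  have hxx := C.self_zero H.singE
  constructor
  · rintro ⟨hc, ⟨-, ⟨l, hl0, hlc, hlL⟩, hpL⟩, ⟨-, ⟨m, hm0, hmc, hmM⟩, hpM⟩⟩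
    obtain ⟨p, q, rfl⟩ := Submodule.mem_span_pair.mp hlL
    obtain ⟨r, s, rfl⟩ := Submodule.mem_span_pair.mp hmM
    have hxc : x ∈ c := by
      by_contra hxc
      have h := hc.perp_self C _ hlc _ hmc
      simp [hxx, hxb, C.symm a x, hxa, G.pair] at h
      rcases h with rfl | rfl
      · have hp0 : p ≠ 0 := fun h => hl0 (by simp [h])
        rw [zero_smul, add_zero] at hlc
        exact hxc ((Submodule.smul_mem_iff _ hp0).mp hlc)
      · have hr0 : r ≠ 0 := fun h => hm0 (by simp [h])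
        rw [zero_smul, add_zero] at hmc
        exact hxc ((Submodule.smul_mem_iff _ hr0).mp hmc)
    obtain ⟨q', hq', hq0, hQq, hqc, hc'⟩ := hc.exists_side C H hx0 hxc
    refine ⟨q', mem_perp2.mpr ⟨hq', ?_, ?_⟩, hq0, hQq, hc'⟩
    · rw [C.symm]; exact hpL q' hqc a (Submodule.subset_span (by simp))
    · rw [C.symm]; exact hpM q' hqc b (Submodule.subset_span (by simp))
  · rintro ⟨q, hq, hq0, hQq, rfl⟩
    obtain ⟨hqW, haq, hbq⟩ := mem_perp2.mp hq
    obtain ⟨-, hxq, hfq⟩ := mem_perp2.mp hqW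
    have hqx : q ∉ Submodule.span F {x} := fun h => hq0 (by
      obtain ⟨k, rfl⟩ := Submodule.mem_span_singleton.mp h
      rw [map_smul, H.pair' C, smul_eq_mul, mul_one] at hfq
      rw [hfq, zero_smul])
    have key : ∀ a' b' : ι → F, B x a' = 0 → B f a' = 0 → B b' q = 0 → B x b' = 0 → B a' q = 0 →
        B b' a' = 1 →
        Adj B (Submodule.span F {x, q}) (Submodule.span F {x, a'}) := by
      intro a' b' h1 h2 h3 h4 h5 h6
      refine ⟨fun h => ?_, ⟨x, hx0, Submodule.subset_span (by simp), Submodule.subset_span (by simp)⟩,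
        perp_span hxx h1 (by rw [C.symm]; exact hxq) (by rw [C.symm]; exact h5)⟩
      have hmem : a' ∈ Submodule.span F {x, q} := h ▸ Submodule.subset_span (by simp)
      obtain ⟨u, v, rfl⟩ := Submodule.mem_span_pair.mp hmem
      simp [h3, C.symm b' x, h4] at h6
    exact ⟨isSLine_span C hx0 H.singE hQq hxq hqx,
      key a b hxa hfa hbq hxb haq (G.pair' C), key b a hxb hfb haq hxa hbq G.pair⟩

/-- At a meeting of non-perpendicular lines, the intrinsic star is the star of the common point. -/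
theorem through_iff {x f a b : ι → F} (hx0 : x ≠ 0) (H : Hyp Q B ⊤ x f)
    (G : Hyp Q B (perp2 B ⊤ x f) a b) {N : Submodule F (ι → F)} (hN : IsSLine Q N) :
    Through Q B (Submodule.span F {x, a}) (Submodule.span F {x, b}) N ↔ x ∈ N := by
  obtain ⟨-, hxa, hfa⟩ := mem_perp2.mp G.memE
  obtain ⟨-, hxb, hfb⟩ := mem_perp2.mp G.memF
  have hxx := C.self_zero H.singE
  refine ⟨?_, fun hx => ⟨Or.inl ⟨x, hx0, hx, Submodule.subset_span (by simp)⟩,
    Or.inl ⟨x, hx0, hx, Submodule.subset_span (by simp)⟩, fun c hc => ?_⟩⟩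
  swap
  · obtain ⟨q, -, -, -, rfl⟩ := (cmn_iff C hx0 H G).mp hc
    exact Or.inl ⟨x, hx0, hx, Submodule.subset_span (by simp)⟩
  rintro ⟨hL, hM, hC⟩
  by_contra hxN
  have hmeet : ∀ a' b' : ι → F, B x b' = 0 → B a' b' = 1 →
      Meets N (Submodule.span F {x, a'}) → ∀ n' ∈ N, n' ∈ Submodule.span F {x, b'} → n' ≠ 0 →
      B a' x = 0 → False := by
    rintro a' b' h1 h2 ⟨n, hn0, hnN, hnL⟩ n' hn'N hn' hn'0 h3
    obtain ⟨p, q, rfl⟩ := Submodule.mem_span_pair.mp hnL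
    obtain ⟨r, s, rfl⟩ := Submodule.mem_span_pair.mp hn'
    have h := hN.perp_self C _ hnN _ hn'N
    simp [hxx, h1, h2, h3] at h
    rcases h with rfl | rfl
    · have hp0 : p ≠ 0 := fun h => hn0 (by simp [h])
      rw [zero_smul, add_zero] at hnN
      exact hxN ((Submodule.smul_mem_iff _ hp0).mp hnN)
    · have hr0 : r ≠ 0 := fun h => hn'0 (by simp [h])
      rw [zero_smul, add_zero] at hn'N
      exact hxN ((Submodule.smul_mem_iff _ hr0).mp hn'N)
  have hmp : ∀ a' b' : ι → F, B x b' = 0 → B a' b' = 1 →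
      Meets N (Submodule.span F {x, a'}) → Perp B N (Submodule.span F {x, b'}) → False := by
    rintro a' b' h1 h2 ⟨n, hn0, hnN, hnL⟩ hp
    obtain ⟨p, q, rfl⟩ := Submodule.mem_span_pair.mp hnL
    have h := hp _ hnN b' (Submodule.subset_span (by simp))
    simp [h1, h2] at h
    subst h
    have hp0 : p ≠ 0 := fun h => hn0 (by simp [h])
    rw [zero_smul, add_zero] at hnN
    exact hxN ((Submodule.smul_mem_iff _ hp0).mp hnN)
  rcases hL with hL | hL
  · rcases hM with hM | hM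
    · obtain ⟨n', hn'0, hn'N, hn'⟩ := hM
      exact hmeet a b hxb G.pair hL n' hn'N hn' hn'0 (by rw [C.symm]; exact hxa)
    · exact hmp a b hxb G.pair hL hM
  · rcases hM with hM | hM
    · exact hmp b a hxa (G.pair' C) hM hL
    obtain ⟨n, hnN, hn0⟩ := Submodule.exists_mem_ne_zero_of_ne_bot
      (p := N) (fun h => by have := hN.1; rw [h, finrank_bot] at this; omega)
    have hxn : B x n = 0 := by rw [C.symm]; exact hL n hnN x (Submodule.subset_span (by simp))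
    have han : B a n = 0 := by rw [C.symm]; exact hL n hnN a (Submodule.subset_span (by simp))
    have hbn : B b n = 0 := by rw [C.symm]; exact hM n hnN b (Submodule.subset_span (by simp))
    have hW' := G.ndeg C (H.ndeg C C.ndeg_top)
    have hW3 : 3 ≤ finrank F (perp2 B (perp2 B ⊤ x f) a b) := by
      have h1 := H.le_finrank C
      have h2 := G.le_finrank C
      rw [finrank_top, finrank_fintype_fun_eq_card] at h1
      omega
    have hn' : prj B x f n ∈ perp2 B (perp2 B ⊤ x f) a b := mem_perp2.mpr ⟨prj_mem C H n,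
      by simp [prj_apply, han, C.symm a x, hxa, hxn],
      by simp [prj_apply, hbn, C.symm b x, hxb, hxn]⟩
    have hn'0 : prj B x f n ≠ 0 := fun h => by
      rw [prj_apply, hxn, zero_smul, sub_zero, sub_eq_zero] at h
      have hk : B f n ≠ 0 := fun hk => hn0 (by rw [h, hk, zero_smul])
      rw [h] at hnN
      exact hxN ((Submodule.smul_mem_iff _ hk).mp hnN)
    obtain ⟨q, hq, hQq, hqn⟩ := exists_sing_pair C hW' hW3 (x := prj B x f n) (by
      by_contra! h
      exact hn'0 (hW' _ hn' fun y hy => by rw [C.symm]; exact h y hy))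
    obtain ⟨hqW, -, -⟩ := mem_perp2.mp hq
    obtain ⟨-, hxq, hfq⟩ := mem_perp2.mp hqW
    have hq0 : q ≠ 0 := fun h => by simp [h] at hqn
    have hqn' : B q n = 1 := by
      simpa [prj_apply, hxn, C.symm q x, hxq] using hqn
    rcases hC _ ((cmn_iff C hx0 H G).mpr ⟨q, hq, hq0, hQq, rfl⟩) with ⟨z, hz0, hzN, hz⟩ | hp
    · obtain ⟨u, v, rfl⟩ := Submodule.mem_span_pair.mp hz
      have h := hN.perp_self C _ hzN _ hnN
      simp [hxn, hqn'] at h
      subst h
      have hu : u ≠ 0 := fun h => hz0 (by simp [h])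
      rw [zero_smul, add_zero] at hzN
      exact hxN ((Submodule.smul_mem_iff _ hu).mp hzN)
    · have h := hp n hnN q (Submodule.subset_span (by simp))
      rw [C.symm, hqn'] at h
      exact one_ne_zero h

include hgood

theorem star_of_meet {L M : Submodule F (ι → F)} (hL : IsSLine Q L) (hM : IsSLine Q M)
    (hm : Meets L M) (hnp : ¬ Perp B L M) : Star Q B L M := by
  refine ⟨fun h => hnp (h ▸ hL.perp_self C), Or.inl hm, fun h => hnp h.2.2, ?_⟩
  obtain ⟨x, f, a, b, hx0, H, G, rfl, rfl⟩ := meet_frame C h7 hL hM hm hnp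
  obtain ⟨-, hxa, hfa⟩ := mem_perp2.mp G.memE
  have hxx := C.self_zero H.singE
  set W' := perp2 B (perp2 B ⊤ x f) a b with hW'
  have mem : ∀ {q}, q ∈ W' → B x q = 0 ∧ B f q = 0 ∧ B a q = 0 ∧ B b q = 0 := fun {q} hq => by
    obtain ⟨h1, h2, h3⟩ := mem_perp2.mp hq
    obtain ⟨-, h4, h5⟩ := mem_perp2.mp h1
    exact ⟨h4, h5, h2, h3⟩
  by_cases hpair : ∃ q ∈ W', ∃ q' ∈ W', Q q = 0 ∧ Q q' = 0 ∧ q ≠ 0 ∧ B q q' = 0 ∧
      q' ∉ Submodule.span F {q}
  swap
  · refine Or.inl fun c d hc hd hcd => hpair ?_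
    obtain ⟨q, hq, hq0, hQq, rfl⟩ := (cmn_iff C hx0 H G).mp hc
    obtain ⟨q', hq', hq'0, hQq', rfl⟩ := (cmn_iff C hx0 H G).mp hd
    refine ⟨q, hq, q', hq', hQq, hQq', hq0,
      hcd.2.2 q (Submodule.subset_span (by simp)) q' (Submodule.subset_span (by simp)), fun hs => ?_⟩
    obtain ⟨k, rfl⟩ := Submodule.mem_span_singleton.mp hs
    have hk : k ≠ 0 := fun h => hq'0 (by rw [h, zero_smul])
    exact hcd.1 (by rw [Submodule.span_insert, Submodule.span_insert,
      Submodule.span_singleton_smul_eq (IsUnit.mk0 _ hk)])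
  right
  obtain ⟨q, hq, q', hq', hQq, hQq', hq0, hqq', hind⟩ := hpair
  obtain ⟨g, K⟩ := exists_hyp C (G.ndeg C (H.ndeg C C.ndeg_top)) hq hq0 hQq
  set W'' := perp2 B W' q g with hW''
  have hd3 : 3 ≤ finrank F W'' := by
    have h1 := H.le_finrank C
    have h2 := G.le_finrank C
    have h3 := K.le_finrank C
    rw [finrank_top, finrank_fintype_fun_eq_card] at h1
    rw [← hW'] at h2
    rw [← hW', ← hW''] at h3
    rcases hgood with h9 | hts
    · omega
    exfalso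
    obtain ⟨hxq, hfq, haq, -⟩ := mem hq
    obtain ⟨hxq', hfq', haq', hbq'⟩ := mem hq'
    obtain ⟨-, -, hbq⟩ := mem_perp2.mp hq
    let v : Fin 4 → ι → F := ![x, a, q, q']
    have hli : LinearIndependent F v := by
      rw [Fintype.linearIndependent_iff]
      intro t ht
      simp [Fin.sum_univ_four, v] at ht
      have e1 := congrArg (B f) ht
      have e2 := congrArg (B b) ht
      simp [H.pair' C, hfa, hfq, hfq', G.pair' C, hbq, hbq', C.symm b x,
        (mem_perp2.mp G.memF).2.1] at e1 e2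
      rw [e1, e2, zero_smul, zero_smul, zero_add, zero_add] at ht
      have e4 : t 3 = 0 := by
        by_contra h
        refine hind (Submodule.mem_span_singleton.mpr ⟨-(t 3)⁻¹ * t 2, ?_⟩)
        rw [← smul_smul, eq_neg_of_add_eq_zero_left ht, smul_neg, neg_smul, neg_neg, smul_smul,
          inv_mul_cancel₀ h, one_smul]
      have e3 : t 2 = 0 := by
        rw [e4, zero_smul, add_zero, smul_eq_zero] at ht
        exact ht.resolve_right hq0
      intro i
      fin_cases i <;> assumption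
    have hsing : ∀ z ∈ Submodule.span F (Set.range v), Q z = 0 := by
      intro z hz
      obtain ⟨t, rfl⟩ := (Submodule.mem_span_range_iff_exists_fun F).mp hz
      simp [Fin.sum_univ_four, v, C.add, C.smul, H.singE, G.singE, hQq, hQq', hxa, hxq, hxq', haq,
        haq', hqq']
    have := hts _ hsing
    rw [finrank_span_eq_card hli, Fintype.card_fin] at this
    omega
  have hW''n : NDeg B W'' := K.ndeg C (G.ndeg C (H.ndeg C C.ndeg_top))
  obtain ⟨r, s, R⟩ := exists_hyp' C hW''n hd3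
  obtain ⟨w, hw, hQw⟩ := exists_nonsing C (R.ndeg C hW''n) (fun h => by
    have := R.le_finrank C; rw [h, finrank_bot] at this; omega)
  set u := w + (1 : F) • r + (-Q w) • s with hu
  have hum : u ∈ W'' := Submodule.add_mem _ (Submodule.add_mem _ (mem_perp2.mp hw).1
    (Submodule.smul_mem _ _ R.memE)) (Submodule.smul_mem _ _ R.memF)
  have hQu : Q u = 0 := by rw [hu, Q_hyp C R hw]; ring
  have hru : B r u ≠ 0 := by
    simpa [hu, (mem_perp2.mp hw).2.1, C.self_zero R.singE, R.pair] using hQw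
  have hsu : B s u ≠ 0 := by
    simp [hu, (mem_perp2.mp hw).2.2, C.self_zero R.singF, R.pair' C]
  have hrs : B r s ≠ 0 := by rw [R.pair]; exact one_ne_zero
  have hne0 : ∀ {z z' : ι → F}, B z z' ≠ 0 → z ≠ 0 ∧ z' ≠ 0 := fun h =>
    ⟨fun h0 => h (by simp [h0]), fun h0 => h (by simp [h0])⟩
  have memx : ∀ {z}, z ∈ W'' → B x z = 0 := fun {z} hz => (mem (mem_perp2.mp hz).1).1
  have hnot : ∀ {z z' : ι → F}, B z z' ≠ 0 → Q z = 0 → z ∈ W'' →
      Submodule.span F {x, z} ≠ Submodule.span F {x, z'} ∧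
        ¬ Adj B (Submodule.span F {x, z}) (Submodule.span F {x, z'}) := by
    intro z z' h hz hzm
    refine ⟨fun he => h ?_, fun hA =>
      h (hA.2.2 z (Submodule.subset_span (by simp)) z' (Submodule.subset_span (by simp)))⟩
    have hz' : z' ∈ Submodule.span F {x, z} := he ▸ Submodule.subset_span (by simp)
    obtain ⟨p, k, rfl⟩ := Submodule.mem_span_pair.mp hz'
    simp [C.symm z x, memx hzm, C.self_zero hz]
  have hadj : ∀ {z}, z ∈ W'' → z ≠ 0 → Q z = 0 → Cmn Q B (Submodule.span F {x, a}) (Submodule.span F {x, b})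
      (Submodule.span F {x, z}) ∧ Adj B (Submodule.span F {x, q}) (Submodule.span F {x, z}) := by
    intro z hz hz0 hQz
    obtain ⟨hzW', hqz, hgz⟩ := mem_perp2.mp hz
    refine ⟨(cmn_iff C hx0 H G).mpr ⟨z, hzW', hz0, hQz, rfl⟩, fun he => hz0 ?_,
      ⟨x, hx0, Submodule.subset_span (by simp), Submodule.subset_span (by simp)⟩,
      perp_span hxx (memx hz) (by rw [C.symm]; exact (mem hq).1) hqz⟩
    have hz' : z ∈ Submodule.span F {x, q} := he ▸ Submodule.subset_span (by simp)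
    obtain ⟨p, k, rfl⟩ := Submodule.mem_span_pair.mp hz'
    have e1 := (mem hzW').2.1
    simp [H.pair' C, (mem hq).2.1] at e1
    have e2 : B g x = 0 := by rw [C.symm]; exact (mem K.memF).1
    simp [e2, K.pair' C] at hgz
    rw [e1, hgz, zero_smul, zero_smul, add_zero]
  exact ⟨Submodule.span F {x, q}, Submodule.span F {x, r}, Submodule.span F {x, s},
    Submodule.span F {x, u}, (cmn_iff C hx0 H G).mpr ⟨q, hq, hq0, hQq, rfl⟩,
    hadj R.memE (hne0 hrs).1 R.singE, hadj R.memF (hne0 hrs).2 R.singF, hadj hum (hne0 hru).2 hQu,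
    (hnot hrs R.singE R.memE).1, (hnot hru R.singE R.memE).1, (hnot hsu R.singF R.memF).1,
    (hnot hrs R.singE R.memE).2, (hnot hru R.singE R.memE).2, (hnot hsu R.singF R.memF).2⟩

end


/-- Disjoint perpendicular lines do not form a star. -/
theorem not_star_of_perp (C : Space Q B) {L M : Submodule F (ι → F)} (hL : IsSLine Q L) (hM : IsSLine Q M)
    (hp : Perp B L M) (hd : ¬ Meets L M) : ¬ Star Q B L M := by
  rintro ⟨-, -, -, hstar⟩
  have hdis : ∀ {l m : ι → F}, l ∈ L → m ∈ M → l + m = 0 → l = 0 ∧ m = 0 := by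
    intro l m hl hm h
    have hlm : l = -m := eq_neg_of_add_eq_zero_left h
    have hl0 : l = 0 := by
      by_contra hl0
      exact hd ⟨l, hl0, hl, hlm ▸ M.neg_mem hm⟩
    exact ⟨hl0, by rwa [hl0, zero_add] at h⟩
  -- the common neighbours are the lines meeting both
  have shape : ∀ c, Cmn Q B L M c → ∃ l m, l ≠ 0 ∧ m ≠ 0 ∧ l ∈ L ∧ m ∈ M ∧ c = Submodule.span F {l, m} := by
    rintro c ⟨hc, ⟨-, ⟨l, hl0, hlc, hlL⟩, -⟩, ⟨-, ⟨m, hm0, hmc, hmM⟩, -⟩⟩
    refine ⟨l, m, hl0, hm0, hlL, hmM, ?_⟩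
    have hml : m ∉ Submodule.span F {l} := fun h => hd ⟨m, hm0,
      (Submodule.span_singleton_le_iff_mem l L).mpr hlL h, hmM⟩
    refine (Submodule.eq_of_le_of_finrank_le (Submodule.span_le.mpr ?_) ?_).symm
    · rintro z (rfl | rfl) <;> assumption
    · have hlm : B l m = 0 := hp l hlL m hmM
      rw [hc.1, (isSLine_span C hl0 (hL.2 l hlL) (hM.2 m hmM) hlm hml).1]
  rcases hstar with hno | ⟨c, d₁, d₂, d₃, hc, ⟨h₁, a₁⟩, ⟨h₂, a₂⟩, ⟨h₃, a₃⟩, n12, n13, n23, b12, b13, b23⟩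
  · obtain ⟨e, he, he0⟩ := Submodule.exists_mem_ne_zero_of_ne_bot
      (p := L) (fun h => by have := hL.1; rw [h, finrank_bot] at this; omega)
    obtain ⟨w, hw, hwe, -⟩ := hL.exists_basis he he0
    obtain ⟨u, hu, hu0⟩ := Submodule.exists_mem_ne_zero_of_ne_bot
      (p := M) (fun h => by have := hM.1; rw [h, finrank_bot] at this; omega)
    obtain ⟨v, hv, hvu, -⟩ := hM.exists_basis hu hu0
    have hv0 : v ≠ 0 := fun h => hvu (h ▸ Submodule.zero_mem _)
    have mk : ∀ z, z ∈ M → z ≠ 0 → Cmn Q B L M (Submodule.span F {e, z}) := by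
      intro z hz hz0
      have hze : z ∉ Submodule.span F {e} := fun h => hd ⟨z, hz0,
        (Submodule.span_singleton_le_iff_mem e L).mpr he h, hz⟩
      refine ⟨isSLine_span C he0 (hL.2 e he) (hM.2 z hz) (hp e he z hz) hze,
        ⟨fun h => hd ⟨z, hz0, h ▸ Submodule.subset_span (by simp), hz⟩,
          ⟨e, he0, Submodule.subset_span (by simp), he⟩, fun a ha b hb => ?_⟩,
        ⟨fun h => hd ⟨e, he0, he, h ▸ Submodule.subset_span (by simp)⟩,
          ⟨z, hz0, Submodule.subset_span (by simp), hz⟩, fun a ha b hb => ?_⟩⟩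
      · obtain ⟨p, q, rfl⟩ := Submodule.mem_span_pair.mp ha
        simp [hL.perp_self C e he b hb, C.symm z b, hp b hb z hz]
      · obtain ⟨p, q, rfl⟩ := Submodule.mem_span_pair.mp ha
        simp [hM.perp_self C z hz b hb, hp e he b hb]
    refine hno _ _ (mk u hu hu0) (mk v hv hv0) ⟨fun h => ?_,
      ⟨e, he0, Submodule.subset_span (by simp), Submodule.subset_span (by simp)⟩,
      perp_span (C.self_zero (hL.2 e he)) (hp e he v hv) (by rw [C.symm]; exact hp e he u hu)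
        (hM.perp_self C u hu v hv)⟩
    have hv' : v ∈ Submodule.span F {e, u} := h ▸ Submodule.subset_span (by simp)
    obtain ⟨p, q, hpq⟩ := Submodule.mem_span_pair.mp hv'
    obtain ⟨hpe, -⟩ := hdis (L.smul_mem p he) (M.sub_mem (M.smul_mem q hu) hv) (by
      rw [← add_sub_assoc, hpq, sub_self])
    rw [hpe, zero_add] at hpq
    exact hvu (hpq ▸ Submodule.smul_mem _ _ (Submodule.mem_span_singleton_self u))
  obtain ⟨l, m, hl0, hm0, hlL, hmM, rfl⟩ := shape c hc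
  have share : ∀ d, Cmn Q B L M d → Adj B (Submodule.span F {l, m}) d → l ∈ d ∨ m ∈ d := by
    rintro d hd' ⟨-, ⟨x, hx0, hxc, hxd⟩, -⟩
    obtain ⟨l', m', -, -, hl', hm', rfl⟩ := shape d hd'
    obtain ⟨s, t, hst⟩ := Submodule.mem_span_pair.mp hxc
    obtain ⟨s', t', hst'⟩ := Submodule.mem_span_pair.mp hxd
    obtain ⟨e1, e2⟩ := hdis (L.sub_mem (L.smul_mem s hlL) (L.smul_mem s' hl'))
      (M.sub_mem (M.smul_mem t hmM) (M.smul_mem t' hm'))
      (by rw [sub_add_sub_comm, hst, hst', sub_self])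
    rw [sub_eq_zero] at e1 e2
    by_cases hs : s = 0
    · have ht : t ≠ 0 := fun ht => hx0 (by rw [← hst, hs, ht]; simp)
      exact Or.inr ((Submodule.smul_mem_iff _ ht).mp
        (e2 ▸ Submodule.smul_mem _ _ (Submodule.subset_span (by simp))))
    · exact Or.inl ((Submodule.smul_mem_iff _ hs).mp
        (e1 ▸ Submodule.smul_mem _ _ (Submodule.subset_span (by simp))))
  have perpd : ∀ d d', Cmn Q B L M d → Cmn Q B L M d' → Perp B d d' := by
    intro d d' hd hd'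
    obtain ⟨l₁, m₁, -, -, hl₁, hm₁, rfl⟩ := shape d hd
    obtain ⟨l₂, m₂, -, -, hl₂, hm₂, rfl⟩ := shape d' hd'
    exact perp_span (hL.perp_self C _ hl₁ _ hl₂) (hp _ hl₁ _ hm₂)
      (by rw [C.symm]; exact hp _ hl₂ _ hm₁) (hM.perp_self C _ hm₁ _ hm₂)
  have adj : ∀ d d', Cmn Q B L M d → Cmn Q B L M d' → d ≠ d' → ∀ x, x ≠ 0 → x ∈ d → x ∈ d' → Adj B d d' :=
    fun d d' hd hd' hne x hx0 hx hx' => ⟨hne, ⟨x, hx0, hx, hx'⟩, perpd d d' hd hd'⟩
  rcases share _ h₁ a₁ with e₁ | e₁ <;> rcases share _ h₂ a₂ with e₂ | e₂ <;>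
    rcases share _ h₃ a₃ with e₃ | e₃
  all_goals
    first
    | exact b12 (adj _ _ h₁ h₂ n12 _ hl0 e₁ e₂)
    | exact b12 (adj _ _ h₁ h₂ n12 _ hm0 e₁ e₂)
    | exact b13 (adj _ _ h₁ h₃ n13 _ hl0 e₁ e₃)
    | exact b13 (adj _ _ h₁ h₃ n13 _ hm0 e₁ e₃)
    | exact b23 (adj _ _ h₂ h₃ n23 _ hl0 e₂ e₃)
    | exact b23 (adj _ _ h₂ h₃ n23 _ hm0 e₂ e₃)

/-- A permutation of the singular lines keeping commuting and adjacency. -/
structure LinePerm (Q : (ι → F) → F) (B : LinearMap.BilinForm F (ι → F))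
    (Φ : {L : Submodule F (ι → F) // IsSLine Q L} ≃ {L : Submodule F (ι → F) // IsSLine Q L}) : Prop where
  com : ∀ L M, Com B (Φ L).1 (Φ M).1 ↔ Com B L.1 M.1
  adj : ∀ L M, Adj B (Φ L).1 (Φ M).1 ↔ Adj B L.1 M.1

namespace LinePerm

variable {Φ : {L : Submodule F (ι → F) // IsSLine Q L} ≃ {L : Submodule F (ι → F) // IsSLine Q L}}
  (P : LinePerm Q B Φ)

local notation "SL" => {L : Submodule F (ι → F) // IsSLine Q L}

include P

theorem inv : LinePerm Q B Φ.symm :=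
  ⟨fun L M => by rw [← P.com, Φ.apply_symm_apply, Φ.apply_symm_apply],
    fun L M => by rw [← P.adj, Φ.apply_symm_apply, Φ.apply_symm_apply]⟩

theorem cmn {L M c : SL} (h : Cmn Q B L.1 M.1 c.1) : Cmn Q B (Φ L).1 (Φ M).1 (Φ c).1 :=
  ⟨(Φ c).2, (P.adj c L).2 h.2.1, (P.adj c M).2 h.2.2⟩

theorem exists_cmn {L M : SL} {c : Submodule F (ι → F)} (h : Cmn Q B (Φ L).1 (Φ M).1 c) :
    ∃ d : SL, c = (Φ d).1 ∧ Cmn Q B L.1 M.1 d.1 := by
  refine ⟨Φ.symm ⟨c, h.1⟩, by rw [Φ.apply_symm_apply], ?_⟩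
  have h' := P.inv.cmn (L := Φ L) (M := Φ M) (c := ⟨c, h.1⟩) h
  rwa [Φ.symm_apply_apply, Φ.symm_apply_apply] at h'

theorem star {L M : SL} (h : Star Q B L.1 M.1) : Star Q B (Φ L).1 (Φ M).1 := by
  obtain ⟨hne, hc, ha, h⟩ := h
  refine ⟨fun e => hne (congrArg Subtype.val (Φ.injective (Subtype.ext e))), (P.com L M).2 hc,
    fun e => ha ((P.adj L M).1 e), ?_⟩
  rcases h with hno | ⟨c, d₁, d₂, d₃, hc, ⟨h₁, a₁⟩, ⟨h₂, a₂⟩, ⟨h₃, a₃⟩, n12, n13, n23, b12, b13, b23⟩
  · refine Or.inl fun c d hc hd hcd => ?_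
    obtain ⟨c', rfl, hc'⟩ := P.exists_cmn hc
    obtain ⟨d', rfl, hd'⟩ := P.exists_cmn hd
    exact hno _ _ hc' hd' ((P.adj c' d').1 hcd)
  · have ne : ∀ {d d' : SL}, d.1 ≠ d'.1 → (Φ d).1 ≠ (Φ d').1 := fun hne e =>
      hne (congrArg Subtype.val (Φ.injective (Subtype.ext e)))
    refine Or.inr ⟨(Φ ⟨c, hc.1⟩).1, (Φ ⟨d₁, h₁.1⟩).1, (Φ ⟨d₂, h₂.1⟩).1, (Φ ⟨d₃, h₃.1⟩).1,
      P.cmn (c := ⟨c, hc.1⟩) hc, ⟨P.cmn (c := ⟨d₁, h₁.1⟩) h₁, (P.adj _ _).2 a₁⟩,
      ⟨P.cmn (c := ⟨d₂, h₂.1⟩) h₂, (P.adj _ _).2 a₂⟩, ⟨P.cmn (c := ⟨d₃, h₃.1⟩) h₃, (P.adj _ _).2 a₃⟩,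
      ne n12, ne n13, ne n23, fun e => b12 ((P.adj _ _).1 e), fun e => b13 ((P.adj _ _).1 e),
      fun e => b23 ((P.adj _ _).1 e)⟩

theorem through {L M N : SL} (h : Through Q B L.1 M.1 N.1) : Through Q B (Φ L).1 (Φ M).1 (Φ N).1 := by
  refine ⟨(P.com N L).2 h.1, (P.com N M).2 h.2.1, fun c hc => ?_⟩
  obtain ⟨c', rfl, hc'⟩ := P.exists_cmn hc
  exact (P.com N c').2 (h.2.2 _ hc')

variable [Finite F] (C : Space Q B) (h7 : 7 ≤ Fintype.card ι)
  (hgood : 9 ≤ Fintype.card ι ∨ ∀ A : Submodule F (ι → F), (∀ v ∈ A, Q v = 0) → finrank F A ≤ 3)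

include C h7 hgood

theorem meets {L M : SL} (hm : Meets L.1 M.1) (hnp : ¬ Perp B L.1 M.1) :
    Meets (Φ L).1 (Φ M).1 ∧ ¬ Perp B (Φ L).1 (Φ M).1 := by
  have h := P.star (star_of_meet C h7 hgood L.2 M.2 hm hnp)
  obtain ⟨hne, hc, ha, -⟩ := id h
  by_cases hd : Meets (Φ L).1 (Φ M).1
  · exact ⟨hd, fun hp => ha ⟨hne, hd, hp⟩⟩
  · rcases hc with hc | hp
    · exact absurd hc hd
    · exact absurd h (not_star_of_perp C (Φ L).2 (Φ M).2 hp hd)

/-- The image of a singular point. -/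
theorem exists_point {x : ι → F} (hx0 : x ≠ 0) (hx : Q x = 0) :
    ∃ y, y ≠ 0 ∧ Q y = 0 ∧ ∀ N : SL, x ∈ N.1 ↔ y ∈ (Φ N).1 := by
  obtain ⟨f, H⟩ := exists_hyp C C.ndeg_top (U := ⊤) trivial hx0 hx
  obtain ⟨a, b, G⟩ := exists_hyp' C (H.ndeg C C.ndeg_top) (by
    have := H.le_finrank C; rw [finrank_top, finrank_fintype_fun_eq_card] at this; omega)
  have mk : ∀ z ∈ perp2 B ⊤ x f, Q z = 0 → z ≠ 0 → IsSLine Q (Submodule.span F {x, z}) := by
    intro z hz hQz hz0
    obtain ⟨-, hxz, hfz⟩ := mem_perp2.mp hz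
    refine isSLine_span C hx0 hx hQz hxz fun h => hz0 ?_
    obtain ⟨k, rfl⟩ := Submodule.mem_span_singleton.mp h
    rw [map_smul, H.pair' C, smul_eq_mul, mul_one] at hfz
    rw [hfz, zero_smul]
  have ha0 : a ≠ 0 := fun h => by simpa [h] using G.pair
  have hb0 : b ≠ 0 := fun h => by simpa [h] using G.pair
  let L : SL := ⟨_, mk a G.memE G.singE ha0⟩
  let M : SL := ⟨_, mk b G.memF G.singF hb0⟩
  have hm : Meets L.1 M.1 := ⟨x, hx0, Submodule.subset_span (by simp), Submodule.subset_span (by simp)⟩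
  have hnp : ¬ Perp B L.1 M.1 := fun h => by
    have := h a (Submodule.subset_span (by simp)) b (Submodule.subset_span (by simp))
    rw [G.pair] at this; exact one_ne_zero this
  obtain ⟨hm', hnp'⟩ := P.meets C h7 hgood hm hnp
  obtain ⟨y, g, a', b', hy0, H', G', hL', hM'⟩ := meet_frame C h7 (Φ L).2 (Φ M).2 hm' hnp'
  refine ⟨y, hy0, H'.singE, fun N => ⟨fun hN => ?_, fun hN => ?_⟩⟩
  · have h := P.through (L := L) (M := M) ((through_iff C h7 hx0 H G N.2).mpr hN)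
    rw [hL', hM'] at h
    exact (through_iff C h7 hy0 H' G' (Φ N).2).mp h
  · have h := (through_iff C h7 hy0 H' G' (Φ N).2).mpr hN
    rw [← hL', ← hM'] at h
    have h' := P.inv.through h
    rw [Φ.symm_apply_apply, Φ.symm_apply_apply, Φ.symm_apply_apply] at h'
    exact (through_iff C h7 hx0 H G N.2).mp h'

omit P hgood in
/-- Perpendicular singular points share a line. -/
theorem _root_.Cfsg.Lib.Linear.AutPO.exists_common_line {x y : ι → F} (hx0 : x ≠ 0) (hx : Q x = 0)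
    (hy : Q y = 0) (hxy : B x y = 0) : ∃ N, IsSLine Q N ∧ x ∈ N ∧ y ∈ N := by
  by_cases hdep : y ∈ Submodule.span F {x}
  · obtain ⟨f, H⟩ := exists_hyp C C.ndeg_top (U := ⊤) trivial hx0 hx
    obtain ⟨z, hz, hz0, hQz⟩ := Sing.exists_singular C.smul C.polar (perp2 B ⊤ x f) (by
      have := H.le_finrank C; rw [finrank_top, finrank_fintype_fun_eq_card] at this; omega)
    obtain ⟨-, hxz, hfz⟩ := mem_perp2.mp hz
    refine ⟨_, isSLine_span C hx0 hx hQz hxz fun h => hz0 ?_, Submodule.subset_span (by simp),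
      Submodule.span_mono (by simp) hdep⟩
    obtain ⟨k, rfl⟩ := Submodule.mem_span_singleton.mp h
    rw [map_smul, H.pair' C, smul_eq_mul, mul_one] at hfz
    rw [hfz, zero_smul]
  · exact ⟨_, isSLine_span C hx0 hx hy hxy hdep, Submodule.subset_span (by simp),
      Submodule.subset_span (by simp)⟩

/-- A permutation of the lines comes from a map of the points. -/
theorem exists_polarMap :
    ∃ φ : (ι → F) → ι → F, PolarMap Q B φ ∧
      ∀ (x : ι → F) (N : SL), x ≠ 0 → Q x = 0 → (x ∈ N.1 ↔ φ x ∈ (Φ N).1) := by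
  classical
  choose φ₀ hφ0 hφQ hφ using fun x : {x : ι → F // x ≠ 0 ∧ Q x = 0} => P.exists_point C h7 hgood x.2.1 x.2.2
  refine ⟨fun x => if h : x ≠ 0 ∧ Q x = 0 then φ₀ ⟨x, h⟩ else 0, ⟨fun x hx0 hx => ?_, ?_, ?_⟩,
    fun x N hx0 hx => ?_⟩
  · rw [dif_pos ⟨hx0, hx⟩]; exact ⟨hφ0 _, hφQ _⟩
  · intro x y hx0 hx hy0 hy
    rw [dif_pos ⟨hx0, hx⟩, dif_pos ⟨hy0, hy⟩]
    constructor
    · intro h
      obtain ⟨N, hN, hxN, hyN⟩ := exists_common_line C h7 hx0 hx hy h
      exact (Φ ⟨N, hN⟩).2.perp_self C _ ((hφ ⟨x, hx0, hx⟩ _).1 hxN) _ ((hφ ⟨y, hy0, hy⟩ ⟨N, hN⟩).1 hyN)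
    · intro h
      obtain ⟨N, hN, hxN, hyN⟩ := exists_common_line C h7 (hφ0 _) (hφQ _) (hφQ _) h
      have h1 := (hφ ⟨x, hx0, hx⟩ (Φ.symm ⟨N, hN⟩)).2 (by rwa [Φ.apply_symm_apply])
      have h2 := (hφ ⟨y, hy0, hy⟩ (Φ.symm ⟨N, hN⟩)).2 (by rwa [Φ.apply_symm_apply])
      exact (Φ.symm ⟨N, hN⟩).2.perp_self C _ h1 _ h2
  · intro z hz0 hz
    obtain ⟨x, hx0, hx, hxN⟩ := P.inv.exists_point C h7 hgood hz0 hz
    refine ⟨x, hx0, hx, ?_⟩
    rw [dif_pos ⟨hx0, hx⟩]
    obtain ⟨f, H⟩ := exists_hyp C C.ndeg_top (U := ⊤) trivial hz0 hz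
    obtain ⟨a, b, G⟩ := exists_hyp' C (H.ndeg C C.ndeg_top) (by
      have := H.le_finrank C; rw [finrank_top, finrank_fintype_fun_eq_card] at this; omega)
    obtain ⟨-, hza, -⟩ := mem_perp2.mp G.memE
    obtain ⟨-, hzb, -⟩ := mem_perp2.mp G.memF
    obtain ⟨N₁, hN₁, hz₁, ha₁⟩ := exists_common_line C h7 hz0 hz G.singE hza
    obtain ⟨N₂, hN₂, hz₂, hb₂⟩ := exists_common_line C h7 hz0 hz G.singF hzb
    have hne : N₁ ≠ N₂ := fun h => by
      have := hN₁.perp_self C a ha₁ b (h ▸ hb₂)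
      rw [G.pair] at this
      exact one_ne_zero this
    have m₁ := (hφ ⟨x, hx0, hx⟩ (Φ.symm ⟨N₁, hN₁⟩)).1 ((hxN ⟨N₁, hN₁⟩).1 hz₁)
    have m₂ := (hφ ⟨x, hx0, hx⟩ (Φ.symm ⟨N₂, hN₂⟩)).1 ((hxN ⟨N₂, hN₂⟩).1 hz₂)
    rw [Φ.apply_symm_apply] at m₁ m₂
    obtain ⟨c, hc⟩ := Submodule.mem_span_singleton.mp (meet_unique hN₁ hN₂ hne hz0 hz₁ hz₂ m₁ m₂)
    exact ⟨c, hc.symm⟩
  · dsimp only; rw [dif_pos ⟨hx0, hx⟩]; exact hφ ⟨x, hx0, hx⟩ N

end LinePerm

end Cfsg.Lib.Linear.AutPO
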