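import Cfsg.Agent.Lib.Linear.AutPO.MinusField
import Cfsg.Agent.Lib.Linear.AutPSL.FieldClass

/-!
# Automorphisms of prime order of `PΩ⁻` outside the similitudes

Such an automorphism has odd order and is a field automorphism, conjugate to the standard element of a frame.
-/

set_option autoImplicit false

namespace Cfsg.Lib.Linear.AutPO

open Module
open Cfsg.Lib.Linear.Orth
open Cfsg.Lib.Linear.Descent (sc sm tw sc_val sc_comm sm_one sm_mul)
open scoped Matrix

set_option quotPrecheck false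

variable {m : ℕ} {F : Type*} [Field F] [Fintype F] {a b : F}

local notation "ιm" => ((Fin m ⊕ Fin m) ⊕ Fin 2)
local notation "Qm" => Cfsg.quadFormMinus m F a b
local notation "GS" => ↥(Cfsg.Geo.quadSimilarityGroup (F := F) Qm)
local notation "P" => Cfsg.POmega F Qm
local notation "D" => Cfsg.inndiagPOmegaMinus m F a b
local notation "R" => (innd : GS →* MulAut P).range

variable (hab : ∀ z₁ z₂ : F, z₁ ^ 2 + a * z₁ * z₂ + b * z₂ ^ 2 = 0 → z₁ = 0 ∧ z₂ = 0) (hm : 3 ≤ m)

include hab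

omit [Fintype F] hab in
/-- An anisotropic binary form fixed by a field automorphism of odd prime order. -/
theorem exists_aniso_fixed [Finite F] {σ : F ≃+* F} {ℓ : ℕ} (hσ : orderOf σ = ℓ) (hodd : Odd ℓ) :
    ∃ ζ : F, σ ζ = ζ ∧ ∀ z₁ z₂ : F, z₁ ^ 2 + 1 * z₁ * z₂ + ζ * z₂ ^ 2 = 0 → z₁ = 0 ∧ z₂ = 0 := by
  classical
  obtain ⟨ζ, hζ⟩ : ∃ ζ : AutPSL.fixedF σ, ∀ z : AutPSL.fixedF σ, z * z + z + ζ ≠ 0 := by
    by_contra hc
    push Not at hc
    have hsurj : Function.Surjective fun z : AutPSL.fixedF σ => z * z + z := fun y => by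
      obtain ⟨z, hz⟩ := hc (-y)
      exact ⟨z, by linear_combination hz⟩
    have h01 := (Finite.injective_iff_surjective.2 hsurj) (a₁ := 0) (a₂ := -1) (by ring)
    exact one_ne_zero (neg_eq_zero.1 h01.symm)
  refine ⟨ζ, ζ.2, fun z₁ z₂ h => ?_⟩
  by_cases hz : z₂ = 0
  · subst hz
    exact ⟨pow_eq_zero_iff two_ne_zero |>.1 (by linear_combination h), rfl⟩
  exfalso
  obtain ⟨θ, hθ⟩ : ∃ θ : F, θ * θ + θ + ζ = 0 := ⟨z₁ / z₂, by field_simp; linear_combination h⟩
  have hσθ : σ θ * σ θ + σ θ + ζ = 0 := by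
    have := congrArg σ hθ
    rwa [map_add, map_add, map_mul, map_zero, show σ (ζ : F) = ζ from ζ.2] at this
  have h2 : σ (σ θ) = θ ∨ σ θ = θ := by
    rcases eq_or_ne (σ θ) θ with e | e
    · exact Or.inr e
    left
    have hsum : σ θ + θ + 1 = 0 := (mul_eq_zero.1 (show (σ θ - θ) * (σ θ + θ + 1) = 0 by
      linear_combination hσθ - hθ)).resolve_left (sub_ne_zero.2 e)
    have := congrArg σ hsum
    rw [map_add, map_add, map_one, map_zero] at this
    linear_combination this - hsum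
  have hfix : σ θ = θ := by
    rcases h2 with e | e
    · have hk : ∀ k : ℕ, (σ ^ (2 * k)) θ = θ := fun k => by
        induction k with
        | zero => rfl
        | succ k ih =>
          show (σ ^ (2 * k + 1 + 1)) θ = θ
          rw [pow_succ, pow_succ, RingAut.mul_apply, RingAut.mul_apply, e, ih]
      obtain ⟨j, hj⟩ := hodd
      have h1 : (σ ^ ℓ) θ = θ := by rw [← hσ, pow_orderOf_eq_one]; rfl
      rw [hj, pow_succ', RingAut.mul_apply, hk] at h1
      exact h1
    · exact e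
  exact hζ ⟨θ, hfix⟩ (Subtype.ext hθ)

variable (p : ℕ) [Fact p.Prime] [CharP F p]

include hm p

/-- Outside the inner-diagonal group the similitudes form one coset. -/
theorem mul_mem_diag (h2 : (2 : F) ≠ 0) {A A' : GS} (h : innd A ∉ D) (h' : innd A' ∉ D) : innd A * innd A' ∈ D := by
  obtain ⟨B, C⟩ := exists_space_minus (F := F) m a b hab
  have hcard : Fintype.card ιm = 2 * (m + 1) := by simp only [Fintype.card_sum, Fintype.card_fin]; omega
  obtain ⟨c, hc⟩ := A.2
  obtain ⟨c', hc'⟩ := A'.2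
  rw [← map_mul]
  refine (diag_iff_det hab hm p h2 (c := (c : F) * c') fun v => ?_).2 ?_
  · rw [Subgroup.coe_mul, mul_act, hc, hc', mul_assoc]
  · rw [Subgroup.coe_mul, Units.val_mul, Matrix.det_mul,
      (det_eq_or C hcard hc).resolve_left fun e => h ((diag_iff_det hab hm p h2 hc).2 e),
      (det_eq_or C hcard hc').resolve_left fun e => h' ((diag_iff_det hab hm p h2 hc').2 e), neg_mul_neg, mul_pow]

set_option maxHeartbeats 1600000 in
/-- An automorphism of prime order that is not induced by a similitude has odd order. -/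
theorem odd_of_not_range {f : ℕ} (hf : 1 ≤ f) (hF : Fintype.card F = p ^ f) {x : MulAut P} {ℓ : ℕ} (hℓ : ℓ.Prime)
    (hℓp : ℓ ≠ p) (hord : orderOf x = ℓ) (hx : x ∉ R) : Odd ℓ := by
  refine hℓ.eq_two_or_odd'.resolve_left ?_
  rintro rfl
  have h2 : (2 : F) ≠ 0 := fun h => hℓp (((Nat.prime_dvd_prime_iff_eq (Fact.out : p.Prime) Nat.prime_two).1
    ((CharP.cast_eq_zero_iff F p 2).1 (by exact_mod_cast h)))).symm
  obtain ⟨π, -, hker, g, hg, T, hπg, hpow, hdet, -⟩ := exists_field_part hab hm p hf hF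
  have hdetT := hdet h2
  haveI : Finite (F ≃+* F) := Finite.of_injective (fun σ => (σ : F → F)) fun a b h => RingEquiv.ext (congrFun h)
  obtain ⟨k, hk⟩ := mem_powers_iff_mem_zpowers.2 (mem_zpowers_frobF p hf hF (π x))
  change frobF p ^ k = π x at hk
  set φ := semiAut hg
  have hne : π x ≠ 1 := fun h => hx (by
    have h' : x ∈ π.ker := h
    rwa [hker] at h')
  have hsq : x * x = 1 := by
    have h := pow_orderOf_eq_one x
    rwa [hord, pow_two] at h
  have hk2 : frobF (F := F) p ^ (2 * k) = 1 := by rw [mul_comm, pow_mul, hk, pow_two, ← map_mul, hsq, map_one]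
  have hdvd : f ∣ 2 * k := orderOf_frobF (F := F) p hf hF ▸ orderOf_dvd_of_pow_eq_one hk2
  have hndvd : ¬ f ∣ k := fun ⟨j, hj⟩ => hne (by
    rw [← hk, hj, pow_mul, show frobF (F := F) p ^ f = 1 by
      rw [← orderOf_frobF (F := F) p hf hF, pow_orderOf_eq_one], one_pow])
  obtain ⟨j, hj⟩ := hdvd
  obtain ⟨i, hi⟩ : Odd j := by
    by_contra he
    obtain ⟨i, rfl⟩ := Nat.not_odd_iff_even.1 he
    exact hndvd ⟨i, by linarith⟩
  have hR : ∀ y : MulAut P, π y = 1 → ∃ A : GS, innd A = y := fun y hy => by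
    have h : y ∈ π.ker := hy
    rw [hker] at h
    exact h
  have hπA : ∀ A : GS, π (innd A) = 1 := fun A => by
    have h : innd A ∈ π.ker := by rw [hker]; exact ⟨A, rfl⟩
    exact h
  obtain ⟨A, hA⟩ := hR (x * (φ ^ k)⁻¹) (by rw [map_mul, map_inv, map_pow, hπg, hk, mul_inv_cancel])
  have hxA : x = innd A * φ ^ k := by rw [hA, inv_mul_cancel_right]
  obtain ⟨A', hA'⟩ := hR (φ ^ k * innd A * (φ ^ k)⁻¹) (by
    rw [map_mul, map_mul, map_inv, hπA A]
    group)
  have h1 : innd A * innd A' * innd (isoSim (T ^ j)) = 1 := by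
    rw [map_pow, map_pow, ← hpow, ← pow_mul, ← hj, hA', ← hsq, hxA, two_mul k, pow_add]
    group
  have hAA : innd A * innd A' ∈ D := by
    have hD := inndiag_normal hab hm p
    by_cases h : innd A ∈ D
    · exact mul_mem h (hA' ▸ hD.conj_mem _ h _)
    · refine mul_mem_diag hab hm p h2 h fun h' => h ?_
      have := hD.conj_mem _ h' (φ ^ k)⁻¹
      rw [hA'] at this
      convert this using 1
      group
  have hTD : innd (isoSim (T ^ j)) ∈ D := by
    have := inv_mem hAA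
    rwa [inv_eq_of_mul_eq_one_right h1] at this
  have h3 := (diag_iff_det hab hm p h2 (c := 1) fun v => by rw [one_mul]; exact mem_iso.1 (T ^ j).2 v).1 hTD
  change ((T ^ j : ↥(isometryGroup F Qm)) : GL ιm F).val.det = _ at h3
  rw [Subgroup.coe_pow, Units.val_pow_eq_pow_val, Matrix.det_pow, hdetT, one_pow, hi, pow_succ, pow_mul, neg_one_sq,
    one_pow, one_mul] at h3
  exact h2 (by linear_combination -h3)

set_option maxHeartbeats 1600000 in
/-- An automorphism of prime order not induced by a similitude is conjugate to the standard element of a frame. -/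
theorem exists_frame_conj {f : ℕ} (hf : 1 ≤ f) (hF : Fintype.card F = p ^ f) {x : MulAut P} {ℓ : ℕ} (hℓ : ℓ.Prime)
    (hℓp : ℓ ≠ p) (hord : orderOf x = ℓ) (hx : x ∉ R) :
    ∃ (a' b' : F) (σ : F ≃+* F) (M : GL ιm F) (hM : ∀ v, Qm (M.val *ᵥ v) = Cfsg.quadFormMinus m F a' b' v)
      (hfa : σ a' = a') (hfb : σ b' = b') (α : MulAut P),
      (∀ z₁ z₂ : F, z₁ ^ 2 + a' * z₁ * z₂ + b' * z₂ ^ 2 = 0 → z₁ = 0 ∧ z₂ = 0) ∧ orderOf σ = ℓ ∧
      x = α * frameAut hM hfa hfb * α⁻¹ := by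
  obtain ⟨B, C⟩ := exists_space_minus (F := F) m a b hab
  have h7 : 7 ≤ Fintype.card ιm := by simp only [Fintype.card_sum, Fintype.card_fin]; omega
  have hodd := odd_of_not_range hab hm p hf hF hℓ hℓp hord hx
  obtain ⟨π, hπ, hker⟩ := exists_galOf C h7 p (good_minus hab C)
  haveI : Fact ℓ.Prime := ⟨hℓ⟩
  have hσ : orderOf (π x) = ℓ := orderOf_eq_prime (by rw [← map_pow, ← hord, pow_orderOf_eq_one, map_one])
    fun h => hx (by
      have h' : x ∈ π.ker := h
      rwa [hker] at h')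
  obtain ⟨ζ, hζ, hab'⟩ := exists_aniso_fixed hσ hodd
  obtain ⟨M, hM⟩ := binary_equiv (m := m) hab hab'
  have hfa : π x 1 = 1 := map_one _
  have hmem : x * (frameAut hM hfa hζ)⁻¹ ∈ R := by
    rw [← hker, MonoidHom.mem_ker, map_mul, map_inv, frameAut, hπ, mul_inv_cancel]
  obtain ⟨A, hA⟩ := hmem
  have hxA : x = innd A * frameAut hM hfa hζ := by rw [hA, inv_mul_cancel_right]
  obtain ⟨h, -, he⟩ := minus_coset hM hfa hζ hab hab' hm p hℓ hσ A (hxA ▸ hord)
  exact ⟨1, ζ, π x, M, hM, hfa, hζ, h, hab', hσ, hxA.trans he⟩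

omit p [Fact p.Prime] [CharP F p] hm in
/-- The standard element of a frame is a field automorphism. -/
theorem frame_class {a' b' : F} {M : GL ιm F} (hM : ∀ v, Qm (M.val *ᵥ v) = Cfsg.quadFormMinus m F a' b' v)
    {σ : F ≃+* F} (hfa : σ a' = a') (hfb : σ b' = b')
    (hab' : ∀ z₁ z₂ : F, z₁ ^ 2 + a' * z₁ * z₂ + b' * z₂ ^ 2 = 0 → z₁ = 0 ∧ z₂ = 0) (hσ : σ ≠ 1) (α : MulAut P) :
    Cfsg.IsFieldAutClassPOmegaMinus m (α * frameAut hM hfa hfb * α⁻¹) := by
  set Q' := Cfsg.quadFormMinus m F a' b' with hQ'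
  have hM' : ∀ v, Q' ((M⁻¹).val *ᵥ v) = Qm v := fun v => by rw [← hM, act_inv]
  let e : ↥(isometryGroup F Q') ≃* ↥(isometryGroup F Qm) :=
    { toFun := fun s => ⟨M * s * M⁻¹, frame_conj_iso hM s.2⟩
      invFun := fun s => ⟨M⁻¹ * s * M, mem_iso.2 fun v => by
        rw [mul_act, mul_act, hM', mem_iso.1 s.2, hM]⟩
      left_inv := fun s => Subtype.ext (by simp [mul_assoc])
      right_inv := fun s => Subtype.ext (by simp [mul_assoc])
      map_mul' := fun s t => Subtype.ext (by simp [mul_assoc]) }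
  have hmap : (commutator ↥(isometryGroup F Q')).map e.toMonoidHom = commutator ↥(isometryGroup F Qm) := by
    rw [_root_.commutator_def, Subgroup.map_commutator, Subgroup.map_top_of_surjective _ e.surjective]
    rfl
  let eΩ : ↥(Cfsg.Omega F Q') ≃* ↥(Cfsg.Omega F Qm) :=
    (e.subgroupMap (Cfsg.Omega F Q')).trans (MulEquiv.subgroupCongr hmap)
  have hval : ∀ s, om Qm (eΩ s) = M * om Q' s * M⁻¹ := fun s => rfl
  have hcen : (Subgroup.center ↥(Cfsg.Omega F Q')).map eΩ.toMonoidHom = Subgroup.center ↥(Cfsg.Omega F Qm) := by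
    ext z
    constructor
    · rintro ⟨y, hy, rfl⟩
      rw [Subgroup.mem_center_iff]
      intro w
      obtain ⟨t, rfl⟩ := eΩ.surjective w
      show eΩ t * eΩ y = eΩ y * eΩ t
      rw [← map_mul, ← map_mul, Subgroup.mem_center_iff.1 hy t]
    · intro hz
      refine ⟨eΩ.symm z, ?_, eΩ.apply_symm_apply z⟩
      rw [SetLike.mem_coe, Subgroup.mem_center_iff]
      intro w
      apply eΩ.injective
      rw [map_mul, map_mul, eΩ.apply_symm_apply, Subgroup.mem_center_iff.1 hz]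
  let φ : Cfsg.POmega F Q' ≃* P := QuotientGroup.congr _ _ eΩ hcen
  refine ⟨a', b', (α⁻¹ : MulAut P).trans φ.symm, σ, hab', fun h => hσ h, hfa, hfb, fun s s' hss => ?_⟩
  show φ.symm ((α⁻¹ : MulAut P) ((α * frameAut hM hfa hfb * α⁻¹) (((α⁻¹ : MulAut P).trans φ.symm).symm
    (QuotientGroup.mk s)))) = _
  have hsym : (((α⁻¹ : MulAut P).trans φ.symm).symm (QuotientGroup.mk s)) = α (φ (QuotientGroup.mk s)) := rfl
  rw [hsym]
  simp only [MulAut.mul_apply, MulAut.inv_def, MulEquiv.symm_apply_apply]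
  rw [MulEquiv.symm_apply_eq]
  show frameAut hM hfa hfb (QuotientGroup.mk (eΩ s)) = QuotientGroup.mk (eΩ s')
  rw [frameAut, semiAut_mk]
  refine congrArg _ (om_injective ?_)
  refine (semiOmega_coe (frame_semi hM hfa hfb) (eΩ s)).trans ?_
  show (M * (sm σ M)⁻¹) * Units.mapEquiv σ.mapMatrix.toMulEquiv (om Qm (eΩ s)) * (M * (sm σ M)⁻¹)⁻¹ = om Qm (eΩ s')
  rw [hval, hval, sm_eq, map_mul, map_mul, map_inv, show om Q' s' = sm σ (om Q' s) from Units.ext hss]
  group

end Cfsg.Lib.Linear.AutPO
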