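import Cfsg.Agent.Lib.Linear.AutPO.MinusField
import Cfsg.Agent.Lib.Linear.AutPO.BalanceInvGen

/-!
# Balance for field automorphisms of `PΩ⁻`

A normal subgroup of order prime to `ℓ` of the centraliser of a field automorphism `x` of order `ℓ` is trivial when `ℓ` divides
the number of fixed points: it would centralise the image of `Ω⁻` over the fixed field, whose centraliser is generated by `x`.
-/

set_option autoImplicit false

namespace Cfsg.Lib.Linear.AutPO

open Module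
open Cfsg.Lib.Linear.Orth
open Cfsg.Lib.Linear.Descent (sc sm tw sc_val sc_comm sm_one sm_mul)
open scoped Matrix

set_option quotPrecheck false

section General

variable {ι : Type} [Fintype ι] [DecidableEq ι] {F : Type*} [Field F] [Fintype F] {Q : (ι → F) → F}
  {B : LinearMap.BilinForm F (ι → F)} (C : Space Q B) (h7 : 7 ≤ Fintype.card ι)

include C h7

/-- Squares of isometries lie in `Ω`. -/
theorem iso_sq_mem_omega (U : ↥(isometryGroup F Q)) : U * U ∈ Cfsg.Omega F Q := by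
  show U * U ∈ commutator _
  by_cases h2 : (2 : F) = 0
  · exact Subgroup.mul_self_mem_of_index_two (omega_two C h2 (by omega) (Or.inr (by omega))).1 _
  rw [(omega_odd C h2 (by omega)).1, MonoidHom.mem_ker, map_mul]
  refine Prod.ext (Units.ext ?_) (Int.units_mul_self _)
  show (U : GL ι F).val.det * (U : GL ι F).val.det = 1
  rcases det_sq C U.2 with h | h <;> rw [h] <;> ring

end General

section Field

variable {m : ℕ} {F : Type*} [Field F] [Fintype F] {a b : F}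

local notation "ιm" => ((Fin m ⊕ Fin m) ⊕ Fin 2)
local notation "Qm" => Cfsg.quadFormMinus m F a b
local notation "GS" => ↥(Cfsg.Geo.quadSimilarityGroup (F := F) Qm)
local notation "P" => Cfsg.POmega F Qm

variable {a' b' : F} {M : GL ((Fin m ⊕ Fin m) ⊕ Fin 2) F}
  (hM : ∀ v, Cfsg.quadFormMinus m F a b (M.val *ᵥ v) = Cfsg.quadFormMinus m F a' b' v) {σ : F ≃+* F}
  (hfa : σ a' = a') (hfb : σ b' = b')
  (hab : ∀ z₁ z₂ : F, z₁ ^ 2 + a * z₁ * z₂ + b * z₂ ^ 2 = 0 → z₁ = 0 ∧ z₂ = 0)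
  (hab' : ∀ z₁ z₂ : F, z₁ ^ 2 + a' * z₁ * z₂ + b' * z₂ ^ 2 = 0 → z₁ = 0 ∧ z₂ = 0) (hm : 3 ≤ m)
  (p : ℕ) [Fact p.Prime] [CharP F p]

include hM hab hab' hm p hfa hfb

local notation "Kσ" => AutPSL.fixedF σ
local notation "ι₀" => Subfield.subtype (AutPSL.fixedF σ)
local notation "Q₀" => Cfsg.quadFormMinus m (AutPSL.fixedF σ) (⟨a', hfa⟩ : AutPSL.fixedF σ) ⟨b', hfb⟩
local notation "Q'" => Cfsg.quadFormMinus m F a' b'

set_option maxHeartbeats 3200000 in
/-- A semisimilarity fixing the rational unipotent elements is a power of the field automorphism. -/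
theorem frame_fix_pow [Fintype (AutPSL.fixedF σ)] {h : GL ιm F} {τ : F ≃+* F}
    (hs : Cfsg.IsSemisimilarityPair Qm h τ)
    (hfix : ∀ g ∈ isometryGroup (AutPSL.fixedF σ) (Cfsg.quadFormMinus m (AutPSL.fixedF σ) ⟨a', hfa⟩ ⟨b', hfb⟩),
      g ^ p = 1 → (∃ s : ↥(Cfsg.Omega (AutPSL.fixedF σ) (Cfsg.quadFormMinus m (AutPSL.fixedF σ) ⟨a', hfa⟩ ⟨b', hfb⟩)),
        om _ s = g) →
      semiGL h τ (M * Matrix.GeneralLinearGroup.map (AutPSL.fixedF σ).subtype g * M⁻¹) =
        M * Matrix.GeneralLinearGroup.map (AutPSL.fixedF σ).subtype g * M⁻¹) :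
    ∃ k : ℕ, semiAut hs = frameAut hM hfa hfb ^ k := by
  classical
  obtain ⟨B, C⟩ := exists_space_minus (F := F) m a b hab
  obtain ⟨B', C'⟩ := exists_space_minus (F := F) m a' b' hab'
  have hab₀ := aniso_sub hab' ι₀ (a₀ := (⟨a', hfa⟩ : Kσ)) (b₀ := ⟨b', hfb⟩) rfl rfl
  obtain ⟨B₀, C₀⟩ := exists_space_minus (F := Kσ) m (⟨a', hfa⟩ : Kσ) ⟨b', hfb⟩ hab₀
  haveI : CharP Kσ p := RingHom.charP ι₀ (ι₀).injective p
  have h7 : 7 ≤ Fintype.card ιm := by simp only [Fintype.card_sum, Fintype.card_fin]; omega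
  have hQ : ∀ v : ιm → Kσ, Q' (ι₀ ∘ v) = ι₀ (Q₀ v) := fun v => minus_map ι₀ (⟨a', hfa⟩ : Kσ) ⟨b', hfb⟩ v
  set h' := M⁻¹ * h * sm τ M with hh'
  let T : (ιm → F) → (ιm → F) := fun v => h'.val *ᵥ (τ ∘ v)
  have hTdef : ∀ v, T v = h'.val *ᵥ (τ ∘ v) := fun v => rfl
  have hTadd : ∀ u v, T (u + v) = T u + T v := fun u v => by
    rw [hTdef, hTdef, hTdef, show τ ∘ (u + v) = τ ∘ u + τ ∘ v from funext fun i => map_add τ _ _, Matrix.mulVec_add]
  have hTsmul : ∀ (c : F) v, T (c • v) = τ c • T v := fun c v => by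
    rw [hTdef, hTdef, show τ ∘ (c • v) = τ c • (τ ∘ v) from funext fun i => map_mul τ _ _, Matrix.mulVec_smul]
  have hTsub : ∀ u v, T (u - v) = T u - T v := fun u v => eq_sub_of_add_eq (by rw [← hTadd, sub_add_cancel])
  have hTinj : ∀ u v, T u = T v → u = v := fun u v e =>
    funext fun i => τ.injective (congrFun (act_injective h' (a₁ := τ ∘ u) (a₂ := τ ∘ v) e) i)
  have hpt : ∀ e : ιm → Kσ, Q₀ e = 0 → e ≠ 0 → ∃ α : F, T (ι₀ ∘ e) = α • (ι₀ ∘ e) := by
    intro e he he0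
    obtain ⟨f, H⟩ := exists_hyp C₀ C₀.ndeg_top (U := ⊤) trivial he0 he
    obtain ⟨a₁, b₁, G⟩ := exists_hyp' C₀ (H.ndeg C₀ C₀.ndeg_top) (by
      have := H.le_finrank C₀; rw [finrank_top, finrank_fintype_fun_eq_card] at this; omega)
    have hea : B₀ e (a₁ + b₁) = 0 := by
      rw [map_add, (mem_perp2.mp G.memE).2.1, (mem_perp2.mp G.memF).2.1, add_zero]
    have haz : B₀ (a₁ + b₁) a₁ = 1 := by
      rw [map_add, LinearMap.add_apply, C₀.self_zero G.singE, G.pair' C₀, zero_add]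
    have hqa : Q₀ (a₁ + b₁) = 1 := by rw [C₀.add, G.singE, G.singF, G.pair, zero_add, zero_add]
    obtain ⟨s, hs₀⟩ := exists_om C₀ h7 (sGL_mem_root (B := B₀) (U := ⊤) trivial trivial he hea)
    have heF : Q' (ι₀ ∘ e) = 0 := by rw [hQ, he, map_zero]
    have hB : ∀ u v : ιm → Kσ, B' (ι₀ ∘ u) (ι₀ ∘ v) = ι₀ (B₀ u v) := fun u v => polar_ext ι₀ C₀ C' hQ u v
    have heaF : B' (ι₀ ∘ e) (ι₀ ∘ (a₁ + b₁)) = 0 := by rw [hB, hea, map_zero]
    set U := Matrix.GeneralLinearGroup.map ι₀ (sGL Q₀ B₀ e (a₁ + b₁)) with hU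
    have hX : U.val = (sGL Q' B' (ι₀ ∘ e) (ι₀ ∘ (a₁ + b₁))).val := by
      refine Matrix.ext_of_mulVec_single fun k => ?_
      rw [← comp_single ι₀ k, hU, map_vec, sGL_act C₀ he hea, sGL_act C' heF heaF, hB, hB, hQ]
      funext j
      simp [mul_add]
    have hpow : (sGL Q₀ B₀ e (a₁ + b₁)) ^ p = 1 := by
      have key : ∀ k : ℕ, (sGL Q₀ B₀ e (a₁ + b₁)) ^ k = sGL Q₀ B₀ e ((k : Kσ) • (a₁ + b₁)) := fun k => by
        induction k with
        | zero =>
          refine gl_ext fun z => ?_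
          rw [pow_zero, Nat.cast_zero, zero_smul, sGL_act C₀ he (by simp), C₀.zero]
          simp
        | succ k ih =>
          rw [pow_succ, ih, sGL_mul C₀ he (by rw [map_smul, hea, smul_zero]) hea, Nat.cast_succ, add_smul, one_smul]
      refine gl_ext fun z => ?_
      rw [key, CharP.cast_eq_zero, zero_smul, sGL_act C₀ he (by simp), C₀.zero]
      simp
    have hc := hfix _ (sGL_mem C₀ he hea) hpow ⟨s, hs₀⟩
    have hc' : semiGL h' τ U = U := by
      have e1 : semiGL h' τ U = M⁻¹ * semiGL h τ (M * U * M⁻¹) * M := by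
        show h' * Units.mapEquiv τ.mapMatrix.toMulEquiv U * h'⁻¹ =
          M⁻¹ * (h * Units.mapEquiv τ.mapMatrix.toMulEquiv (M * U * M⁻¹) * h⁻¹) * M
        rw [sm_eq, sm_eq, hh', map_mul, map_mul, map_inv]
        group
      rw [e1, hU, hc]
      group
    have h1 := semiGL_act h' τ U (ι₀ ∘ a₁)
    rw [hc', hX, sGL_act C' heF heaF, sGL_act C' heF heaF, hB, hB, hQ, hqa, (mem_perp2.mp G.memE).2.1, haz] at h1
    simp only [map_zero, map_one, zero_smul, add_zero, one_mul, mul_zero, one_smul] at h1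
    have hTa : h'.val *ᵥ (τ ∘ (ι₀ ∘ a₁ - ι₀ ∘ e)) = T (ι₀ ∘ a₁) - T (ι₀ ∘ e) := hTsub _ _
    rw [hTa] at h1
    set x := B' (ι₀ ∘ e) (h'.val *ᵥ (τ ∘ (ι₀ ∘ a₁)))
    set y := B' (ι₀ ∘ (a₁ + b₁)) (h'.val *ᵥ (τ ∘ (ι₀ ∘ a₁))) + x
    have h3 : T (ι₀ ∘ e) = y • (ι₀ ∘ e) + (-x) • (ι₀ ∘ (a₁ + b₁)) := by
      linear_combination (norm := module) h1
    obtain ⟨μ, hμ⟩ := id hs
    have hq : Q' (T (ι₀ ∘ e)) = 0 := by
      rw [hTdef, hh', ← hM, mul_act, mul_act, act_inv, ← sm_eq, map_act]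
      refine (hμ _).trans ?_
      rw [hM, heF, map_zero, mul_zero]
    rw [h3, C'.smul_add, heF, hQ, hqa, heaF, map_one] at hq
    have hx0 : -x = 0 := pow_eq_zero_iff two_ne_zero |>.1 (by linear_combination hq)
    exact ⟨y, by rw [h3, hx0, zero_smul, add_zero]⟩
  -- the standard basis
  let e : ιm → ιm → Kσ := fun k => Pi.single k 1
  have hcomp : ∀ (k : ιm), ι₀ ∘ e k = Pi.single k 1 := fun k => comp_single ι₀ k
  have hq₀ : ∀ k : Fin m ⊕ Fin m, Q₀ (e (.inl k)) = 0 := fun k => by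
    rcases k with k | k <;> simp [e, Cfsg.quadFormMinus, Pi.single_apply]
  choose c hc using fun k : Fin m ⊕ Fin m => hpt (e (.inl k)) (hq₀ k) (Pi.single_ne_zero_iff.2 one_ne_zero)
  simp only [hcomp] at hc
  have cmb : ∀ (k l : Fin m ⊕ Fin m) (t : Kσ), k ≠ l → Q₀ (t • e (.inl k) + e (.inl l)) = 0 →
      τ (ι₀ t) * c k = c l * ι₀ t := by
    intro k l t hkl hq
    obtain ⟨α, hα⟩ := hpt _ hq (fun h0 => by have := congrFun h0 (.inl l); simp [e, hkl] at this)
    rw [show ι₀ ∘ (t • e (.inl k) + e (.inl l)) = ι₀ t • (ι₀ ∘ e (.inl k)) + ι₀ ∘ e (.inl l) from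
      funext fun j => by simp, hcomp, hcomp, hTadd, hTsmul, hc, hc, smul_add, smul_smul, smul_smul] at hα
    have c1 := congrFun hα (.inl k)
    have c2 := congrFun hα (.inl l)
    simp [hkl, hkl.symm] at c1 c2
    rw [c2]
    exact c1
  let k₀ : Fin m := ⟨0, by omega⟩
  let k₁ : Fin m := ⟨1, by omega⟩
  have hk01 : k₀ ≠ k₁ := fun h0 => by simp [k₀, k₁] at h0
  have hEF : ∀ k l : Fin m, k ≠ l → ∀ t : Kσ, Q₀ (t • e (.inl (.inl k)) + e (.inl (.inr l))) = 0 := fun k l hkl t => by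
    simp [e, Cfsg.quadFormMinus, Pi.single_apply, hkl, hkl.symm, Finset.sum_add_distrib, add_mul, mul_add]
  have hEE : ∀ k l : Fin m, c (.inl k) = c (.inl l) := fun k l => by
    rcases eq_or_ne k l with rfl | hkl
    · rfl
    · have h1 := cmb (.inl k) (.inl l) 1 (by simpa using hkl) (by
        simp [e, Cfsg.quadFormMinus, Pi.single_apply, add_mul, mul_add])
      simpa using h1
  have hEF' : ∀ k l : Fin m, c (.inr l) = c (.inl k) := fun k l => by
    obtain ⟨j, hj⟩ : ∃ j : Fin m, j ≠ l := by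
      rcases eq_or_ne k₀ l with rfl | h0
      · exact ⟨k₁, hk01.symm⟩
      · exact ⟨k₀, h0⟩
    have h1 := cmb (.inl j) (.inr l) 1 (by simp) (hEF j l hj 1)
    rw [map_one, map_one, one_mul, mul_one] at h1
    rw [← h1, hEE]
  set c₀ := c (.inl k₀) with hc₀
  have hall : ∀ k, c k = c₀ := by
    rintro (k | k)
    · exact hEE k k₀
    · exact hEF' k₀ k
  have hc0 : c₀ ≠ 0 := fun h0 => by
    have h1 := hTinj (Pi.single (.inl (.inl k₀)) 1) 0 (by
      rw [hc, ← hc₀, h0, zero_smul, hTdef, show τ ∘ (0 : ιm → F) = 0 from funext fun i => map_zero τ, Matrix.mulVec_zero])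
    exact Pi.single_ne_zero_iff.2 one_ne_zero h1
  have hτK : ∀ t : Kσ, τ (ι₀ t) = ι₀ t := fun t => by
    have h1 := cmb (.inl k₀) (.inr k₁) t (by simp) (hEF k₀ k₁ hk01 t)
    rw [hall, hall] at h1
    exact mul_right_cancel₀ hc0 (h1.trans (mul_comm _ _))
  have hplane : ∀ j : Fin 2, T (Pi.single (.inr j) 1) = c₀ • Pi.single (.inr j) 1 := by
    intro j
    set q := Q₀ (e (.inr j)) with hq
    have key : ∀ k : Fin m, ∃ α : F, T (Pi.single (.inr j) 1) = α • Pi.single (.inr j) 1 +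
        (α - c₀) • Pi.single (.inl (.inl k)) 1 - ((α - c₀) * ι₀ q) • Pi.single (.inl (.inr k)) 1 := by
      intro k
      obtain ⟨α, hα⟩ := hpt (e (.inr j) + e (.inl (.inl k)) - q • e (.inl (.inr k))) (by
        rw [hq]
        obtain rfl | rfl := (by omega : j = 0 ∨ j = 1) <;>
          simp [e, Cfsg.quadFormMinus, Pi.single_apply, sub_mul, mul_sub, add_mul, mul_add])
        (fun h0 => by have := congrFun h0 (.inl (.inl k)); simp [e] at this)
      refine ⟨α, ?_⟩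
      rw [show ι₀ ∘ (e (.inr j) + e (.inl (.inl k)) - q • e (.inl (.inr k))) =
        ι₀ ∘ e (.inr j) + ι₀ ∘ e (.inl (.inl k)) - ι₀ q • (ι₀ ∘ e (.inl (.inr k))) from
          funext fun i => by simp, hcomp, hcomp, hcomp, hTsub, hTadd, hTsmul, hτK, hc, hc, hall, hall] at hα
      linear_combination (norm := module) hα
    obtain ⟨α, hα⟩ := key k₀
    obtain ⟨β, hβ⟩ := key k₁
    have h1 := congrFun (hα.symm.trans hβ) (.inl (.inl k₀))
    simp [hk01] at h1
    rw [hα, h1, sub_eq_zero.1 (show α - c₀ = 0 by rw [h1])]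
    simp
  have hscal : h' = sc (Units.mk0 c₀ hc0) := Units.ext (Matrix.ext_of_mulVec_single fun k => by
    have h1 : h'.val *ᵥ (τ ∘ (Pi.single k 1 : ιm → F)) = c₀ • Pi.single k 1 := by
      rcases k with k | j
      · exact (hc k).trans (by rw [hall])
      · exact hplane j
    rw [show τ ∘ (Pi.single k 1 : ιm → F) = Pi.single k 1 from funext fun i => by simp [Pi.single_apply, apply_ite τ]] at h1
    rw [h1, sc_act, Units.val_mk0])
  haveI : Finite (F ≃+* F) := Finite.of_injective (fun σ => (σ : F → F)) fun a b h => RingEquiv.ext (congrFun h)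
  let Gz := Subgroup.zpowers (σ : RingAut F)
  let τ' : F →ₐ[FixedPoints.subfield Gz F] F := ⟨τ.toRingHom, fun y => by
    show τ (y : F) = y
    exact hτK ⟨y, y.2 ⟨σ, Subgroup.mem_zpowers _⟩⟩⟩
  obtain ⟨⟨_, hg'⟩, hg⟩ := (FixedPoints.toAlgHom_bijective Gz F).surjective τ'
  obtain ⟨k, rfl⟩ := mem_powers_iff_mem_zpowers.2 hg'
  have hτ : τ = σ ^ k := RingEquiv.ext fun x => (AlgHom.congr_fun hg x).symm
  refine ⟨k, ?_⟩
  obtain ⟨hk, e'⟩ := semiAut_pow (frame_semi hM hfa hfb) k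
  subst hτ
  have hh : h = sc (Units.mk0 c₀ hc0) * (M * (sm (σ ^ k) M)⁻¹) := by
    rw [show h = M * h' * (sm (σ ^ k) M)⁻¹ by rw [hh']; group, hscal, ← sc_comm, mul_assoc]
  obtain ⟨Z, hZ⟩ : ∃ Z : GS, Z.1 = sc (Units.mk0 c₀ hc0) :=
    ⟨⟨_, Units.mk0 c₀ hc0 ^ 2, fun v => by rw [sc_act, C.smul, Units.val_pow_eq_pow_val]⟩, rfl⟩
  have hZ1 : innd Z = 1 := (innd_eq_sc C h7 p).2 ⟨_, hZ⟩
  rw [frameAut, e', ← one_mul (semiAut hk), ← hZ1, innd_eq, semiAut_mul]
  refine semiAut_congr hs _ ?_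
  rw [hh, hZ, frame_tw, sm_eq, show sm (RingEquiv.refl F) (M * (sm (σ ^ k) M)⁻¹) = M * (sm (σ ^ k) M)⁻¹ from sm_one _]
  rfl

variable {ℓ : ℕ} [Fact ℓ.Prime] (hσ : orderOf σ = ℓ)

include hσ

set_option maxHeartbeats 3200000 in
/-- **Failure of balance for a field automorphism.** -/
theorem minus_field_balance (A : Subgroup (MulAut P)) (hinn : ∀ k : P, MulAut.conj k ∈ A) :
    Cfsg.pPrimeCore ℓ ↥(A ⊓ Subgroup.centralizer {frameAut hM hfa hfb}) ≠ ⊥ ↔
      Nat.Coprime ℓ (Nat.card ↥(MonoidHom.eqLocus (frameAut hM hfa hfb).toMonoidHom (MonoidHom.id P))) := by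
  classical
  obtain ⟨B, C⟩ := exists_space_minus (F := F) m a b hab
  obtain ⟨B', C'⟩ := exists_space_minus (F := F) m a' b' hab'
  letI : Fintype (AutPSL.fixedF σ) := Fintype.ofFinite _
  have hab₀ := aniso_sub hab' ι₀ (a₀ := (⟨a', hfa⟩ : Kσ)) (b₀ := ⟨b', hfb⟩) rfl rfl
  obtain ⟨B₀, C₀⟩ := exists_space_minus (F := Kσ) m (⟨a', hfa⟩ : Kσ) ⟨b', hfb⟩ hab₀
  haveI : CharP Kσ p := RingHom.charP ι₀ (ι₀).injective p
  have hcard : Fintype.card ιm = 2 * (m + 1) := by simp only [Fintype.card_sum, Fintype.card_fin]; omega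
  have h7 : 7 ≤ Fintype.card ιm := by omega
  haveI : Finite P := inferInstanceAs (Finite (_ ⧸ _))
  have hℓ : ℓ.Prime := Fact.out
  have hℓodd : Odd ℓ := odd_of_fixed hab' hfa hfb hℓ hσ
  have hQ : ∀ v : ιm → Kσ, Q' (ι₀ ∘ v) = ι₀ (Q₀ v) := fun v => minus_map ι₀ (⟨a', hfa⟩ : Kσ) ⟨b', hfb⟩ v
  let ε : ↥(isometryGroup Kσ Q₀) →* ↥(isometryGroup F Qm) :=
    MonoidHom.mk' (fun g => ⟨M * Matrix.GeneralLinearGroup.map ι₀ (g : GL ιm Kσ) * M⁻¹, mem_iso.2 fun v => by
      rw [mul_act, mul_act, hM, sim_ext ι₀ C₀ C' hQ (c := 1) (fun v => by rw [one_mul]; exact mem_iso.1 g.2 v),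
        map_one, one_mul, ← hM, act_inv]⟩) fun g g' => Subtype.ext (by
      show M * Matrix.GeneralLinearGroup.map ι₀ ((g : GL ιm Kσ) * (g' : GL ιm Kσ)) * M⁻¹ =
        M * Matrix.GeneralLinearGroup.map ι₀ (g : GL ιm Kσ) * M⁻¹ * (M * Matrix.GeneralLinearGroup.map ι₀ (g' : GL ιm Kσ) * M⁻¹)
      rw [map_mul]
      group)
  have hεv : ∀ g, ((ε g : ↥(isometryGroup F Qm)) : GL ιm F) = M * Matrix.GeneralLinearGroup.map ι₀ (g : GL ιm Kσ) * M⁻¹ :=
    fun g => rfl
  have hεinj : Function.Injective ε := fun g g' e => Subtype.ext (map_gl_injective ι₀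
    (mul_left_cancel (mul_right_cancel (congrArg Subtype.val e))))
  have hεΩ : ∀ s : ↥(Cfsg.Omega Kσ Q₀), ε s.1 ∈ Cfsg.Omega F Qm := fun s => by
    have : (commutator ↥(isometryGroup Kσ Q₀)).map ε ≤ commutator ↥(isometryGroup F Qm) := by
      rw [_root_.commutator_def, Subgroup.map_commutator]
      exact Subgroup.commutator_mono le_top le_top
    exact this ⟨_, s.2, rfl⟩
  let εΩ : ↥(Cfsg.Omega Kσ Q₀) →* ↥(Cfsg.Omega F Qm) := (ε.comp (Cfsg.Omega Kσ Q₀).subtype).codRestrict _ hεΩ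
  let ψ : ↥(Cfsg.Omega Kσ Q₀) →* P := (QuotientGroup.mk' (Subgroup.center ↥(Cfsg.Omega F Qm))).comp εΩ
  have hψ : ∀ s, ψ s = QuotientGroup.mk (εΩ s) := fun s => rfl
  set fA := semiOmega (frame_semi hM hfa hfb) with hfA
  have hfv : ∀ t, om Qm (fA t) = M * sm σ (M⁻¹ * om Qm t * M) * M⁻¹ := fun t => by
    refine (semiOmega_coe (frame_semi hM hfa hfb) t).trans ?_
    show (M * (sm σ M)⁻¹) * Units.mapEquiv σ.mapMatrix.toMulEquiv (om Qm t) * (M * (sm σ M)⁻¹)⁻¹ = _
    rw [sm_eq, map_mul, map_mul, map_inv]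
    group
  have hx : ∀ t, frameAut hM hfa hfb (QuotientGroup.mk t : P) = QuotientGroup.mk (fA t) := fun t => rfl
  have hψfix : ∀ s, frameAut hM hfa hfb (ψ s) = ψ s := fun s => by
    rw [hψ, hx]
    refine congrArg _ (om_injective ((hfv _).trans ?_))
    show _ = M * Matrix.GeneralLinearGroup.map ι₀ (om Q₀ s) * M⁻¹
    rw [show M⁻¹ * om Qm (εΩ s) * M = Matrix.GeneralLinearGroup.map ι₀ (om Q₀ s) by
      show M⁻¹ * (M * Matrix.GeneralLinearGroup.map ι₀ (om Q₀ s) * M⁻¹) * M = _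
      group]
    congr 2
    exact Units.ext (Matrix.ext fun i j => ((om Q₀ s).val i j).2)
  have hlift : ∀ k : P, frameAut hM hfa hfb k = k → ∃ (t : ↥(Cfsg.Omega F Qm)) (g : ↥(isometryGroup Kσ Q₀)),
      k = QuotientGroup.mk t ∧ ε g = t.1 := by
    intro k hk
    obtain ⟨t, rfl⟩ := QuotientGroup.mk_surjective k
    rw [hx, QuotientGroup.eq] at hk
    set z := (fA t)⁻¹ * t with hz
    have hft : fA t = t * z⁻¹ := by rw [hz]; group
    obtain ⟨η, hη, hη'⟩ : ∃ η : Fˣ, η * η = 1 ∧ om Qm z⁻¹ = sc η := by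
      rcases omega_center_pm C h7 (inv_mem hk) with e | e
      · exact ⟨1, one_mul _, Units.ext (by rw [map_one]; exact e)⟩
      · exact ⟨-1, neg_mul_neg (1 : Fˣ) 1 ▸ one_mul _, Units.ext (e.trans (by rw [sc_val]; simp))⟩
    set T := M⁻¹ * om Qm t * M with hT
    have hση : sm σ T = sc η * T := by
      have h1 := hfv t
      rw [hft, map_mul, hη', ← hT] at h1
      calc sm σ T = M⁻¹ * (M * sm σ T * M⁻¹) * M := by group
        _ = M⁻¹ * (om Qm t * sc η) * M := by rw [h1]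
        _ = M⁻¹ * om Qm t * (sc η * M) := by group
        _ = T * sc η := by rw [sc_comm, hT]; group
        _ = sc η * T := (sc_comm η T).symm
    have hση1 : σ (η : F) = η := by
      rcases mul_self_eq_one_iff.1 (show (η : F) * η = 1 by rw [← Units.val_mul, hη, Units.val_one]) with e | e <;>
        simp [e]
    have hscσ : sm σ (sc η : GL ιm F) = sc η := Units.ext (Matrix.ext fun i j => by
      show σ ((sc η : GL ιm F).val i j) = _
      rw [sc_val]
      simp [Matrix.one_apply, apply_ite σ, hση1])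
    have hk' : ∀ j : ℕ, sm (σ ^ j) T = sc η ^ j * T := fun j => by
      induction j with
      | zero => rw [pow_zero, pow_zero, sm_one, one_mul]
      | succ j ih =>
        rw [pow_succ', sm_mul, ih, map_mul, map_pow, hscσ, hση, ← mul_assoc, ← pow_succ]
    have h1 := hk' ℓ
    rw [← hσ, pow_orderOf_eq_one, hσ, sm_one, right_eq_mul] at h1
    obtain ⟨j, hj⟩ := hℓodd
    rw [hj, pow_succ, pow_mul, sq, ← map_mul, hη, map_one, one_pow, one_mul] at h1
    rw [h1, one_mul] at hση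
    have hTK : ∀ i j, T.val i j ∈ Kσ := fun i j => congrFun (congrFun (congrArg (fun u : GL ιm F => u.val) hση) i) j
    have hdet : IsUnit (Matrix.of fun i j => (⟨T.val i j, hTK i j⟩ : Kσ)).det := by
      rw [isUnit_iff_ne_zero]
      intro h0
      have h1 := congrArg ι₀ h0
      rw [map_zero, RingHom.map_det] at h1
      exact (Matrix.GeneralLinearGroup.det T).ne_zero h1
    set G₀ : GL ιm Kσ := Matrix.GeneralLinearGroup.mk'' _ hdet
    have hG : Matrix.GeneralLinearGroup.map ι₀ G₀ = T := Units.ext rfl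
    refine ⟨t, ⟨G₀, mem_iso.2 fun v => (ι₀).injective ?_⟩, rfl, Subtype.ext ?_⟩
    · rw [← hQ, ← hQ, ← map_vec, hG, hT, ← hM, mul_act, mul_act, act_inv, mem_iso.1 (om_mem t), hM]
    · show M * Matrix.GeneralLinearGroup.map ι₀ G₀ * M⁻¹ = _
      rw [hG, hT]
      group
      rfl
  obtain ⟨e₀, f₀, H⟩ := exists_hyp' C₀ C₀.ndeg_top (by rw [finrank_top, finrank_fintype_fun_eq_card]; omega)
  constructor
  · intro hne
    by_contra hdiv
    rw [hℓ.coprime_iff_not_dvd, not_not] at hdiv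
    refine hne (Balance.core_eq_bot A hinn (frameAut hM hfa hfb) (conj_injective' C h7 p) ψ hψfix
      (fun k hk s => ?_) (fun N hN hNo => ?_) (fun β hβ hβx hβo hβfix => ?_))
    · obtain ⟨t, g, rfl, hg⟩ := hlift k hk
      refine ⟨⟨g * s.1 * g⁻¹, (inferInstance : (commutator _).Normal).conj_mem _ s.2 g⟩, ?_⟩
      rw [hψ, hψ, ← QuotientGroup.mk_inv, ← QuotientGroup.mk_mul, ← QuotientGroup.mk_mul]
      refine congrArg _ (Subtype.ext ?_)
      show t.1 * ε s.1 * t.1⁻¹ = ε (g * s.1 * g⁻¹)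
      rw [map_mul, map_mul, map_inv, hg]
    · -- an element of order `ℓ`
      obtain ⟨k, hk⟩ := exists_prime_orderOf_dvd_card' ℓ hdiv
      obtain ⟨t, g, hkt, hg⟩ := hlift k.1 k.2
      let s₀ : ↥(Cfsg.Omega Kσ Q₀) := ⟨g * g, iso_sq_mem_omega C₀ h7 g⟩
      have hs₀ : ψ s₀ = k.1 * k.1 := by
        rw [hψ, hkt, ← QuotientGroup.mk_mul]
        refine congrArg _ (Subtype.ext ?_)
        show ε (g * g) = t.1 * t.1
        rw [map_mul, hg]
      have hs₀o : orderOf (ψ s₀) = ℓ := by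
        rw [hs₀, ← pow_two, orderOf_pow' _ two_ne_zero, Subgroup.orderOf_coe, hk,
          (Nat.coprime_two_right.2 hℓodd).gcd_eq_one, Nat.div_one]
      haveI : IsSimpleGroup (Cfsg.POmega Kσ Q₀) := pomega_simple C₀ h7
      have hcen : ∀ z ∈ Subgroup.center ↥(Cfsg.Omega Kσ Q₀), ψ z = 1 := fun z hz => by
        rw [hψ, QuotientGroup.eq_one_iff, Subgroup.mem_center_iff]
        intro w
        obtain ⟨η, hη⟩ : ∃ η : (↥(Kσ))ˣ, om Q₀ z = sc η := by
          rcases omega_center_pm C₀ h7 hz with e | e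
          · exact ⟨1, Units.ext (by rw [map_one]; exact e)⟩
          · exact ⟨-1, Units.ext (e.trans (by rw [sc_val]; simp))⟩
        have hv : om Qm (εΩ z) = sc (Units.map (ι₀).toMonoidHom η) := by
          show M * Matrix.GeneralLinearGroup.map ι₀ (om Q₀ z) * M⁻¹ = _
          rw [hη, show Matrix.GeneralLinearGroup.map ι₀ (sc η : GL ιm Kσ) = sc (Units.map (ι₀).toMonoidHom η) from
            Units.ext (Matrix.ext fun i j => by simp [Matrix.diagonal_apply, apply_ite ι₀]), ← sc_comm]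
          group
        exact om_injective (by rw [map_mul, map_mul, hv, sc_comm])
      haveI : (N.map (QuotientGroup.mk' (Subgroup.center ↥(Cfsg.Omega Kσ Q₀)))).Normal :=
        Subgroup.Normal.map hN _ (QuotientGroup.mk'_surjective _)
      rcases Subgroup.Normal.eq_bot_or_eq_top
        (H := N.map (QuotientGroup.mk' (Subgroup.center ↥(Cfsg.Omega Kσ Q₀)))) inferInstance with hb | ht
      · intro s hs
        refine hcen s ((QuotientGroup.eq_one_iff s).1 (Subgroup.mem_bot.1 ?_))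
        rw [← hb]
        exact ⟨s, hs, rfl⟩
      · exfalso
        obtain ⟨n, hn, hne'⟩ : QuotientGroup.mk' (Subgroup.center ↥(Cfsg.Omega Kσ Q₀)) s₀ ∈
            N.map (QuotientGroup.mk' (Subgroup.center ↥(Cfsg.Omega Kσ Q₀))) := ht ▸ Subgroup.mem_top _
        have h1 := hNo n hn
        have h2' : ψ s₀ = ψ n := by
          rw [show s₀ = n * (n⁻¹ * s₀) by group, map_mul, hcen _ (QuotientGroup.eq.1 hne'), mul_one]
        rw [← h2', hs₀o] at h1
        exact hℓ.ne_one ((Nat.coprime_self _).1 h1)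
    · obtain ⟨h, τ, hs, rfl⟩ := exists_decomp C h7 p β (good_minus hab C)
      obtain ⟨j, hj⟩ := frame_fix_pow hM hfa hfb hab hab' hm p hs fun g hg hgp ⟨s, hs'⟩ => by
        subst hs'
        have hsp : s ^ p = 1 := om_injective (by rw [map_pow, hgp, map_one])
        have hεp : εΩ s ^ p = 1 := by rw [← map_pow, hsp, map_one]
        have h1 : (QuotientGroup.mk (semiOmega hs (εΩ s)) : P) = QuotientGroup.mk (εΩ s) := hβfix s
        exact congrArg (om Qm) (mk_inj_of_pow C h7 p (by rw [← map_pow, hεp, map_one]) hεp h1)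
      have hpow : (semiAut hs) ^ ℓ = 1 := by
        rw [hj, ← pow_mul, mul_comm, pow_mul, ← (orderOf_frameAut hM hfa hfb hab hm p).trans hσ, pow_orderOf_eq_one,
          one_pow]
      exact orderOf_eq_one_iff.1 (Nat.eq_one_of_dvd_coprimes hβo.symm (orderOf_dvd_of_pow_eq_one hpow) dvd_rfl)
  · intro hcop
    obtain ⟨a₁, b₁, G⟩ := exists_hyp' C₀ (H.ndeg C₀ C₀.ndeg_top) (by
      have := H.le_finrank C₀; rw [finrank_top, finrank_fintype_fun_eq_card] at this; omega)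
    have hea : B₀ e₀ a₁ = 0 := (mem_perp2.mp G.memE).2.1
    obtain ⟨s, hs⟩ := exists_om C₀ h7 (sGL_mem_root (B := B₀) (U := ⊤) trivial trivial H.singE hea)
    refine Balance.core_ne_bot A hinn (frameAut hM hfa hfb) (conj_injective' C h7 p) hcop (hψfix s) fun h1 => ?_
    rw [hψ, QuotientGroup.eq_one_iff] at h1
    have hz : ∀ v, (sGL Q₀ B₀ e₀ a₁).val *ᵥ v = v ∨ (sGL Q₀ B₀ e₀ a₁).val *ᵥ v = -v := fun v => by
      rcases omega_center_pm C h7 h1 with e | e
      · left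
        rw [← hs]
        refine funext fun i => (ι₀).injective (congrFun (f := ι₀ ∘ ((om Q₀ s).val *ᵥ v)) (g := ι₀ ∘ v) ?_ i)
        rw [← map_vec]
        refine act_injective M (?_ : M.val *ᵥ _ = M.val *ᵥ _)
        have e' : (M * Matrix.GeneralLinearGroup.map ι₀ (om Q₀ s) * M⁻¹).val = 1 := e
        calc M.val *ᵥ ((Matrix.GeneralLinearGroup.map ι₀ (om Q₀ s)).val *ᵥ (ι₀ ∘ v))
            = (M * Matrix.GeneralLinearGroup.map ι₀ (om Q₀ s) * M⁻¹).val *ᵥ (M.val *ᵥ (ι₀ ∘ v)) := by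
              rw [mul_act, mul_act, inv_act]
          _ = _ := by rw [e', Matrix.one_mulVec]
      · right
        rw [← hs]
        refine funext fun i => (ι₀).injective (congrFun (f := ι₀ ∘ ((om Q₀ s).val *ᵥ v)) (g := ι₀ ∘ (-v)) ?_ i)
        rw [← map_vec, show ι₀ ∘ (-v) = -(ι₀ ∘ v) from funext fun i => map_neg ι₀ _]
        refine act_injective M (?_ : M.val *ᵥ _ = M.val *ᵥ _)
        have e' : (M * Matrix.GeneralLinearGroup.map ι₀ (om Q₀ s) * M⁻¹).val = -1 := e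
        calc M.val *ᵥ ((Matrix.GeneralLinearGroup.map ι₀ (om Q₀ s)).val *ᵥ (ι₀ ∘ v))
            = (M * Matrix.GeneralLinearGroup.map ι₀ (om Q₀ s) * M⁻¹).val *ᵥ (M.val *ᵥ (ι₀ ∘ v)) := by
              rw [mul_act, mul_act, inv_act]
          _ = _ := by rw [e', Matrix.neg_mulVec, Matrix.one_mulVec, Matrix.mulVec_neg]
    have hb1 := hz b₁
    rw [sGL_act C₀ H.singE hea, (mem_perp2.mp G.memF).2.1, G.pair, mul_zero, add_zero, zero_smul, add_zero, one_smul] at hb1
    have he0 : e₀ ≠ 0 := fun h0 => by simpa [h0] using H.pair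
    rcases hb1 with e | e
    · exact he0 (by simpa using e)
    · have := congrArg (B₀ a₁) e
      rw [map_sub, map_neg, G.pair, C₀.symm a₁ e₀, hea, sub_zero] at this
      have h20 : (2 : Kσ) = 0 := by linear_combination this
      have e2 := congrArg (B₀ f₀) e
      rw [map_sub, map_neg, H.pair' C₀, (mem_perp2.mp G.memF).2.2, zero_sub, neg_zero, neg_eq_zero] at e2
      exact one_ne_zero e2

end Field

end Cfsg.Lib.Linear.AutPO
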