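import Cfsg.Agent.Lib.Linear.AutPO.MinusDiag

/-!
# Field automorphisms of `PΩ⁻`: standard frames

A field automorphism is conjugate, in the full automorphism group, to the semisimilarity `M σ(M)⁻¹` composed with `σ`, where
`M` carries a form with `σ`-fixed coefficients to the given one.
-/

set_option autoImplicit false

namespace Cfsg.Lib.Linear.AutPO

open Module
open Cfsg.Lib.Linear.Orth
open Cfsg.Lib.Linear.Descent (sc sm tw sc_val sc_comm sm_one sm_mul)
open scoped Matrix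

set_option quotPrecheck false

variable {m : ℕ} {F : Type*} [Field F] [Fintype F]

local notation "ιm" => ((Fin m ⊕ Fin m) ⊕ Fin 2)

omit [Fintype F] in
theorem minus_map {K : Type*} [Field K] (j : F →+* K) (a b : F) (v : ιm → F) :
    Cfsg.quadFormMinus m K (j a) (j b) (j ∘ v) = j (Cfsg.quadFormMinus m F a b v) := by
  simp [Cfsg.quadFormMinus, map_sum]

/-- Two anisotropic binary forms with leading coefficient one are equivalent. -/
theorem binary_equiv {a b a' b' : F}
    (h : ∀ z₁ z₂ : F, z₁ ^ 2 + a * z₁ * z₂ + b * z₂ ^ 2 = 0 → z₁ = 0 ∧ z₂ = 0)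
    (h' : ∀ z₁ z₂ : F, z₁ ^ 2 + a' * z₁ * z₂ + b' * z₂ ^ 2 = 0 → z₁ = 0 ∧ z₂ = 0) :
    ∃ M : GL ιm F, ∀ v, Cfsg.quadFormMinus m F a b (M.val *ᵥ v) = Cfsg.quadFormMinus m F a' b' v := by
  classical
  obtain ⟨u, w, hw, h1, h2⟩ : ∃ u w : F, w ≠ 0 ∧ 2 * u + a * w = a' ∧ u ^ 2 + a * u * w + b * w ^ 2 = b' := by
    by_cases h20 : (2 : F) = 0
    · haveI : CharP F 2 := CharTwo.of_one_ne_zero_of_two_eq_zero one_ne_zero h20
      have nz : ∀ (a b : F), (∀ z₁ z₂ : F, z₁ ^ 2 + a * z₁ * z₂ + b * z₂ ^ 2 = 0 → z₁ = 0 ∧ z₂ = 0) → a ≠ 0 := by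
        intro a b hab ha
        obtain ⟨r, hr⟩ := FiniteField.isSquare_of_char_two (ringChar.eq F 2) b
        exact one_ne_zero (hab r 1 (by rw [ha, hr]; linear_combination (r * r) * h20)).2
      have ha := nz a b h
      have ha' := nz a' b' h'
      let AS : F →+ F := AddMonoidHom.mk' (fun y => y ^ 2 + y) fun x y => by linear_combination (x * y) * h20
      have hidx : AS.range.index = 2 := by
        have hk : Nat.card AS.ker = 2 := by
          rw [← SetLike.coe_sort_coe, Nat.card_coe_set_eq, show (AS.ker : Set F) = {0, 1} from ?_, Set.ncard_pair zero_ne_one]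
          ext y
          simp only [SetLike.mem_coe, AddMonoidHom.mem_ker, Set.mem_insert_iff, Set.mem_singleton_iff]
          show y ^ 2 + y = 0 ↔ _
          constructor
          · intro hy
            rcases mul_eq_zero.1 (show y * (y - 1) = 0 by linear_combination hy - y * h20) with h | h
            · exact Or.inl h
            · exact Or.inr (sub_eq_zero.1 h)
          · rintro (rfl | rfl)
            · ring
            · linear_combination h20
        have e1 := AS.range.card_mul_index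
        have e2 := AS.ker.card_mul_index
        rw [AddSubgroup.index_ker, hk] at e2
        rw [← e2, mul_comm 2] at e1
        exact Nat.eq_of_mul_eq_mul_left Nat.card_pos e1
      have notmem : ∀ (a b : F), a ≠ 0 → (∀ z₁ z₂ : F, z₁ ^ 2 + a * z₁ * z₂ + b * z₂ ^ 2 = 0 → z₁ = 0 ∧ z₂ = 0) →
          b / a ^ 2 ∉ AS.range := by
        intro a b ha hab hm
        obtain ⟨y, hy⟩ := hm
        change y ^ 2 + y = b / a ^ 2 at hy
        rw [eq_div_iff (pow_ne_zero 2 ha)] at hy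
        exact one_ne_zero (hab (a * y) 1 (by linear_combination hy + b * h20)).2
      obtain ⟨y, hy⟩ := (AddSubgroup.add_mem_iff_of_index_two hidx).2
        (iff_of_false (notmem a' b' ha' h') (notmem a b ha h))
      change y ^ 2 + y = _ at hy
      refine ⟨a' * y, a' / a, div_ne_zero ha' ha, ?_, ?_⟩
      · field_simp
        linear_combination y * h20
      · field_simp at hy ⊢
        linear_combination hy + (b * a' ^ 2) * h20
    · obtain ⟨d0, ns⟩ := disc_ne_zero h h20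
      obtain ⟨d0', ns'⟩ := disc_ne_zero h' h20
      obtain ⟨w, hw⟩ : IsSquare ((a' ^ 2 - 4 * b') / (a ^ 2 - 4 * b)) := by
        rw [← quadraticChar_one_iff_isSquare (div_ne_zero d0' d0), div_eq_mul_inv, map_mul,
          quadraticChar_neg_one_iff_not_isSquare.mpr ns',
          quadraticChar_neg_one_iff_not_isSquare.mpr (by rwa [isSquare_inv])]
        norm_num
      have hw0 : w ≠ 0 := fun h => div_ne_zero d0' d0 (by rw [hw, h, mul_zero])
      rw [div_eq_iff d0] at hw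
      have h40 : (4 : F) ≠ 0 := by
        rw [show (4 : F) = 2 * 2 by norm_num]; exact mul_ne_zero h20 h20
      refine ⟨(a' - a * w) / 2, w, hw0, by field_simp; ring, mul_left_cancel₀ h40 ?_⟩
      field_simp
      linear_combination hw
  refine ⟨planeGL u (Units.mk0 w hw), fun v => ?_⟩
  show Cfsg.quadFormMinus m F a b (planeMat u w *ᵥ v) = _
  rw [quad_planeMat, Cfsg.quadFormMinus, ← h1, ← h2]
  ring

variable {a b : F}

local notation "Qm" => Cfsg.quadFormMinus m F a b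
local notation "GS" => ↥(Cfsg.Geo.quadSimilarityGroup (F := F) Qm)
local notation "P" => Cfsg.POmega F Qm

variable {a' b' : F} {M : GL ((Fin m ⊕ Fin m) ⊕ Fin 2) F}
  (hM : ∀ v, Cfsg.quadFormMinus m F a b (M.val *ᵥ v) = Cfsg.quadFormMinus m F a' b' v) {σ : F ≃+* F}
  (hfa : σ a' = a') (hfb : σ b' = b')

include hM hfa hfb

theorem frame_semi : Cfsg.IsSemisimilarityPair Qm (M * (sm σ M)⁻¹) σ := by
  refine ⟨1, fun v => ?_⟩
  obtain ⟨w, rfl⟩ : ∃ w, M.val *ᵥ w = v := ⟨(M⁻¹).val *ᵥ v, act_inv _ _⟩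
  rw [Units.val_one, one_mul, hM]
  show Qm ((M * (sm σ M)⁻¹).val *ᵥ (σ ∘ (M.val *ᵥ w))) = _
  rw [← map_act σ M w, sm_eq, mul_act, inv_act, hM]
  have h1 := minus_map (m := m) σ.toRingHom a' b' w
  rw [show (σ.toRingHom : F → F) = σ from rfl, hfa, hfb] at h1
  exact h1

omit [Fintype F] in
omit hM hfa hfb in
theorem frame_tw (k : ℕ) : tw σ (M * (sm σ M)⁻¹) k = M * (sm (σ ^ k) M)⁻¹ := by
  induction k with
  | zero => rw [tw, pow_zero, sm_one, mul_inv_cancel]
  | succ k ih =>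
    rw [tw, ih, map_mul, map_inv, pow_succ', sm_mul]
    group

/-- The standard element of the frame. -/
noncomputable def frameAut : MulAut P := semiAut (frame_semi hM hfa hfb)

variable (hab : ∀ z₁ z₂ : F, z₁ ^ 2 + a * z₁ * z₂ + b * z₂ ^ 2 = 0 → z₁ = 0 ∧ z₂ = 0) (hm : 3 ≤ m)
  (p : ℕ) [Fact p.Prime] [CharP F p]

include hab hm p

theorem orderOf_frameAut : orderOf (frameAut hM hfa hfb) = orderOf σ := by
  obtain ⟨B, C⟩ := exists_space_minus (F := F) m a b hab
  have h7 : 7 ≤ Fintype.card ιm := by simp only [Fintype.card_sum, Fintype.card_fin]; omega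
  refine orderOf_eq_orderOf_iff.2 fun k => ?_
  obtain ⟨hk, e⟩ := semiAut_pow (frame_semi hM hfa hfb) k
  rw [frameAut, e]
  constructor
  · intro h1
    exact RingEquiv.ext fun x => RingEquiv.congr_fun (semiAut_eq_one C h7 p hk h1).1 x
  · intro h1
    have hone : (1 : GL ιm F) = M * (sm (σ ^ k) M)⁻¹ := by rw [h1, sm_one, mul_inv_cancel]
    refine (semiAut_congr hk isSemi_one ?_).trans semiAut_one
    rw [frame_tw, ← hone, h1]

omit hM hfa hfb

theorem diag_iff_det (h2 : (2 : F) ≠ 0) {A : GS} {c : F} (hc : ∀ v, Qm (A.1.val *ᵥ v) = c * Qm v) :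
    innd A ∈ Cfsg.inndiagPOmegaMinus m F a b ↔ A.1.val.det = c ^ (m + 1) := by
  obtain ⟨B, C⟩ := exists_space_minus (F := F) m a b hab
  have h7 : 7 ≤ Fintype.card ιm := by simp only [Fintype.card_sum, Fintype.card_fin]; omega
  have hcard : Fintype.card ιm = 2 * (m + 1) := by simp only [Fintype.card_sum, Fintype.card_fin]; omega
  rw [mem_inndiag_odd hab hm p h2]
  refine ⟨?_, fun h => ⟨A, c, hc, h, rfl⟩⟩
  rintro ⟨A', c', hc', hd', e⟩
  obtain ⟨d, hd⟩ := (innd_eq_innd_sc C h7 p).1 e.symm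
  obtain ⟨v, hv⟩ := Cfsg.Lib.H3.exists_nonsing_vec C (by omega)
  have h1 := hc v
  rw [hd, mul_act, sc_act, C.smul, hc', ← mul_assoc] at h1
  rw [← mul_right_cancel₀ hv h1, hd, Units.val_mul, sc_val, Matrix.smul_mul, Matrix.one_mul, Matrix.det_smul, hd',
    hcard, pow_mul, mul_pow]

theorem diag_iff_omega (h2 : (2 : F) = 0) {A : GS} {s : ↥(isometryGroup F Qm)} {d : Fˣ}
    (hA : A.1 = sc d * (s : GL ιm F)) :
    innd A ∈ Cfsg.inndiagPOmegaMinus m F a b ↔ s ∈ Cfsg.Omega F Qm := by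
  obtain ⟨B, C⟩ := exists_space_minus (F := F) m a b hab
  have h7 : 7 ≤ Fintype.card ιm := by simp only [Fintype.card_sum, Fintype.card_fin]; omega
  rw [inndiag_two hab hm p h2]
  constructor
  · rintro ⟨x, hx⟩
    obtain ⟨t, rfl⟩ := QuotientGroup.mk_surjective x
    obtain ⟨A', hA', hA''⟩ := conj_mk_eq C h7 p t
    obtain ⟨e, he⟩ := (innd_eq_innd_sc C h7 p).1 (hx.symm.trans hA''.symm)
    rw [hA, hA'] at he
    have hs : (s : GL ιm F) = sc (d⁻¹ * e) * om Qm t := by
      rw [map_mul, mul_assoc, ← he, ← mul_assoc, ← map_mul, inv_mul_cancel, map_one, one_mul]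
    obtain ⟨v, hv⟩ := Cfsg.Lib.H3.exists_nonsing_vec C (by omega)
    have hq := mem_iso.1 s.2 v
    rw [hs, mul_act, sc_act, C.smul, mem_iso.1 (om_mem t)] at hq
    have h1 : ((d⁻¹ * e : Fˣ) : F) ^ 2 = 1 := mul_right_cancel₀ hv (by rw [hq, one_mul])
    set u := ((d⁻¹ * e : Fˣ) : F) with hu
    have hu1 : (u - 1) * (u - 1) = 0 := by linear_combination h1 - (u - 1) * h2
    rw [show d⁻¹ * e = 1 from Units.ext (sub_eq_zero.1 (mul_self_eq_zero.1 hu1)), map_one, one_mul] at hs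
    rw [show s = (t : ↥(isometryGroup F Qm)) from Subtype.ext hs]
    exact t.2
  · intro hs
    obtain ⟨A', hA', hA''⟩ := conj_mk_eq C h7 p ⟨s, hs⟩
    refine ⟨QuotientGroup.mk ⟨s, hs⟩, hA''.symm.trans ((innd_eq_innd_sc C h7 p).2 ⟨d⁻¹, ?_⟩)⟩
    rw [hA, hA', ← mul_assoc, ← map_mul, inv_mul_cancel, map_one, one_mul]
    rfl

theorem inndiag_le_range : Cfsg.inndiagPOmegaMinus m F a b ≤ (innd : GS →* MulAut P).range := by
  refine (Subgroup.closure_le _).2 ?_
  rintro β ⟨g, hg, -, hβ⟩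
  exact ⟨⟨g, hg⟩, (eq_semiAut (isSemi_sim ⟨g, hg⟩) hβ).symm⟩

theorem inndiag_normal : (Cfsg.inndiagPOmegaMinus m F a b).Normal := ⟨fun β hβ γ => by
  obtain ⟨B, C⟩ := exists_space_minus (F := F) m a b hab
  have h7 : 7 ≤ Fintype.card ιm := by simp only [Fintype.card_sum, Fintype.card_fin]; omega
  by_cases h2 : (2 : F) = 0
  · rw [inndiag_two hab hm p h2] at hβ ⊢
    exact (inferInstance : (Cfsg.Inn P).Normal).conj_mem β hβ γ
  obtain ⟨A, c, hc, hd, rfl⟩ := (mem_inndiag_odd hab hm p h2).1 hβ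
  obtain ⟨g, τ, h, rfl⟩ := exists_decomp C h7 p γ (good_minus hab C)
  obtain ⟨A', hA', e⟩ := semiAut_conj h A
  obtain ⟨k, hk⟩ := h
  rw [e]
  refine (mem_inndiag_odd hab hm p h2).2 ⟨A', τ c, fun v => ?_, ?_, rfl⟩
  · obtain ⟨u, rfl⟩ := semi_surj τ g v
    rw [hA', mul_act, mul_act, inv_act, ← sm_eq, map_act]
    refine (hk _).trans ((congrArg (fun t => (k : F) * τ t) (hc u)).trans ?_)
    rw [map_mul]
    refine Eq.trans ?_ (congrArg (fun t => τ c * t) (hk u)).symm
    ring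
  · rw [hA', ← map_pow, ← hd]
    have e' : Matrix.GeneralLinearGroup.det (g * sm τ A.1 * g⁻¹) = Matrix.GeneralLinearGroup.det (sm τ A.1) := by
      simp
    refine (congrArg Units.val e').trans ?_
    show (sm τ A.1).val.det = _
    rw [Descent.sm_val]
    exact (RingHom.map_det τ.toRingHom A.1.val).symm⟩

omit [Fintype F] hab hm p [Fact p.Prime] [CharP F p] in
include hM in
theorem frame_conj_iso {s : GL ιm F} (hs : s ∈ isometryGroup F (Cfsg.quadFormMinus m F a' b')) :
    M * s * M⁻¹ ∈ isometryGroup F Qm := mem_iso.2 fun v => by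
  rw [mul_act, mul_act, hM, mem_iso.1 hs, ← hM, act_inv]

set_option maxHeartbeats 2000000 in
omit hm p [Fact p.Prime] [CharP F p] in
/-- A field automorphism is conjugate to the standard element of a frame. -/
theorem exists_frame {x : MulAut P} (hx : Cfsg.IsFieldAutClassPOmegaMinus m x) :
    ∃ (a' b' : F) (σ : F ≃+* F) (M : GL ιm F) (hM : ∀ v, Qm (M.val *ᵥ v) = Cfsg.quadFormMinus m F a' b' v)
      (hfa : σ a' = a') (hfb : σ b' = b') (α : MulAut P),
      (∀ z₁ z₂ : F, z₁ ^ 2 + a' * z₁ * z₂ + b' * z₂ ^ 2 = 0 → z₁ = 0 ∧ z₂ = 0) ∧ σ ≠ 1 ∧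
      x = α * frameAut hM hfa hfb * α⁻¹ := by
  obtain ⟨a', b', ψ, σ, hab', hσ, hfa, hfb, hfld⟩ := hx
  obtain ⟨M, hM⟩ := binary_equiv (m := m) hab hab'
  obtain ⟨B, C⟩ := exists_space_minus (F := F) m a b hab
  set Q' := Cfsg.quadFormMinus m F a' b' with hQ'
  have hM' : ∀ v, Q' ((M⁻¹).val *ᵥ v) = Qm v := fun v => by rw [← hM, act_inv]
  let e : ↥(isometryGroup F Q') ≃* ↥(isometryGroup F Qm) :=
    { toFun := fun s => ⟨M * s * M⁻¹, frame_conj_iso hM s.2⟩
      invFun := fun s => ⟨M⁻¹ * s * M, mem_iso.2 fun v => by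
        rw [mul_act, mul_act, hM', mem_iso.1 s.2, hM]⟩
      left_inv := fun s => Subtype.ext (by simp [mul_assoc])
      right_inv := fun s => Subtype.ext (by simp [mul_assoc])
      map_mul' := fun s t => Subtype.ext (by simp [mul_assoc]) }
  have hmap : (commutator ↥(isometryGroup F Q')).map e.toMonoidHom = commutator ↥(isometryGroup F Qm) := by
    rw [_root_.commutator_def, Subgroup.map_commutator, Subgroup.map_top_of_surjective _ e.surjective]
    rfl
  let eΩ : ↥(Cfsg.Omega F Q') ≃* ↥(Cfsg.Omega F Qm) :=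
    (e.subgroupMap (Cfsg.Omega F Q')).trans (MulEquiv.subgroupCongr hmap)
  have hval : ∀ s, om Qm (eΩ s) = M * om Q' s * M⁻¹ := fun s => rfl
  have hcen : (Subgroup.center ↥(Cfsg.Omega F Q')).map eΩ.toMonoidHom = Subgroup.center ↥(Cfsg.Omega F Qm) := by
    ext z
    constructor
    · rintro ⟨y, hy, rfl⟩
      rw [Subgroup.mem_center_iff]
      intro w
      obtain ⟨t, rfl⟩ := eΩ.surjective w
      show eΩ t * eΩ y = eΩ y * eΩ t
      rw [← map_mul, ← map_mul, Subgroup.mem_center_iff.1 hy t]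
    · intro hz
      refine ⟨eΩ.symm z, ?_, eΩ.apply_symm_apply z⟩
      rw [SetLike.mem_coe, Subgroup.mem_center_iff]
      intro w
      apply eΩ.injective
      rw [map_mul, map_mul, eΩ.apply_symm_apply, Subgroup.mem_center_iff.1 hz]
  let φ : Cfsg.POmega F Q' ≃* P := QuotientGroup.congr _ _ eΩ hcen
  let γ : MulAut P := ψ.trans φ
  refine ⟨a', b', σ, M, hM, hfa, hfb, γ⁻¹, hab', fun h => hσ h, ?_⟩
  suffices γ * x * γ⁻¹ = frameAut hM hfa hfb by rw [← this]; group
  refine MulEquiv.ext fun y => ?_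
  obtain ⟨t, rfl⟩ := QuotientGroup.mk_surjective y
  set s := eΩ.symm t with hs
  obtain ⟨t', ht'⟩ : ∃ t', t' = semiOmega (frame_semi hM hfa hfb) t := ⟨_, rfl⟩
  have hmat : (((eΩ.symm t' : ↥(Cfsg.Omega F Q')) : ↥(isometryGroup F Q')) : GL ιm F).val =
      ((s : ↥(isometryGroup F Q')) : GL ιm F).val.map σ := by
    have h1 := hval (eΩ.symm t')
    have h2 := hval s
    rw [eΩ.apply_symm_apply] at h1
    rw [hs, eΩ.apply_symm_apply] at h2
    have h3 : om Q' (eΩ.symm t') = sm σ (om Q' s) := by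
      have h4 : om Qm t' = semiGL (M * (sm σ M)⁻¹) σ (om Qm t) := by rw [ht']; exact semiOmega_coe (frame_semi hM hfa hfb) t
      have h5 : semiGL (M * (sm σ M)⁻¹) σ (om Qm t) = M * sm σ (om Q' s) * M⁻¹ := by
        show (M * (sm σ M)⁻¹) * Units.mapEquiv σ.mapMatrix.toMulEquiv (om Qm t) * (M * (sm σ M)⁻¹)⁻¹ = _
        rw [sm_eq, h2, map_mul, map_mul, map_inv, hs]
        group
      rw [h4, h5] at h1
      exact (mul_left_cancel (mul_right_cancel h1)).symm
    exact congrArg Units.val h3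
  rw [MulAut.mul_apply, MulAut.mul_apply, frameAut, semiAut_mk, ← ht']
  have hφ : ∀ r, φ (QuotientGroup.mk r) = QuotientGroup.mk (eΩ r) := fun r => rfl
  show φ (ψ (x (ψ.symm (φ.symm (QuotientGroup.mk t))))) = _
  have hsym : φ.symm (QuotientGroup.mk t) = QuotientGroup.mk s := by
    rw [MulEquiv.symm_apply_eq, hφ, hs, eΩ.apply_symm_apply]
  rw [hsym, show ψ (x (ψ.symm (QuotientGroup.mk s))) = QuotientGroup.mk (eΩ.symm t') from hfld s _ hmat, hφ,
    eΩ.apply_symm_apply]

end Cfsg.Lib.Linear.AutPO
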