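import Cfsg.Agent.Lib.Linear.AutPO.BalanceInvPM
import Cfsg.Agent.Lib.Linear.AutPO.BalanceInvQuad
import Cfsg.Agent.Lib.Linear.AutPO.MinusFrame

/-!
# Balance for the involutions of `PΩ⁻` outside the inner-diagonal group

An involution induced by a similitude outside the inner-diagonal group is induced either by an orthogonal involution with
eigenspaces of odd dimension or by a similitude whose square and multiplier are the same non-square scalar; in both cases
the centraliser in an almost simple group has no core of odd order.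
-/

set_option autoImplicit false

namespace Cfsg.Lib.Linear.AutPO

open Module Polynomial
open Cfsg.Lib.Linear.Orth
open Cfsg.Lib.Linear.Descent (sc sm tw sc_val sc_comm sm_one)
open Cfsg.Lib.Linear.Balance
open scoped Matrix

set_option quotPrecheck false

section General

universe uF

variable {ι : Type} [Fintype ι] [DecidableEq ι] {F : Type uF} [Field F] {Q : (ι → F) → F}
  {B : LinearMap.BilinForm F (ι → F)} (C : Space Q B) (h7 : 7 ≤ Fintype.card ι) [Fintype F]
  (h2 : (2 : F) ≠ 0) (p : ℕ) [Fact p.Prime] [CharP F p]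

local notation "GS" => ↥(Cfsg.Geo.quadSimilarityGroup (F := F) Q)

omit h2 in
include C h7 p in
/-- A semisimilarity that commutes with an inner-diagonal automorphism in the automorphism group. -/
theorem semi_comm {h : GL ι F} {τ : F ≃+* F} (hs : Cfsg.IsSemisimilarityPair Q h τ) (g : GS)
    (hcomm : semiAut hs * innd g = innd g * semiAut hs) :
    ∃ c : Fˣ, ∀ v, h.val *ᵥ (τ ∘ (g.1.val *ᵥ v)) = (c : F) • (g.1.val *ᵥ (h.val *ᵥ (τ ∘ v))) := by
  obtain ⟨A', hA', e⟩ := semiAut_conj hs g
  rw [hcomm, mul_inv_cancel_right] at e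
  obtain ⟨c, hc⟩ := (innd_eq_innd_sc C h7 p).1 e.symm
  refine ⟨c, fun v => ?_⟩
  rw [← sc_act, ← mul_act, ← hc, hA', mul_act, mul_act, inv_act, ← sm_eq, map_act]

omit h2 in
include C h7 p in
/-- A scalar multiple of `1` or `g`. -/
theorem semiAut_of_scalar {h : GL ι F} (hs : Cfsg.IsSemisimilarityPair Q h (1 : F ≃+* F)) (g : GS)
    (hh : (∃ u : Fˣ, h = sc u) ∨ ∃ u : Fˣ, h = sc u * g.1) : semiAut hs = 1 ∨ semiAut hs = innd g := by
  have e : semiAut hs = innd (⟨h, hs⟩ : GS) := semiAut_congr _ _ rfl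
  rcases hh with ⟨u, hu⟩ | ⟨u, hu⟩
  · exact Or.inl (e.trans ((innd_eq_sc C h7 p).2 ⟨u, hu⟩))
  · exact Or.inr (e.trans ((innd_eq_innd_sc C h7 p).2 ⟨u, hu⟩))

/-- The quadratic extension acting through a matrix with non-square scalar square. -/
theorem exists_quad_data {g : GL ι F} {d : F} (hd : ¬ IsSquare d)
    (hgg : ∀ v, g.val *ᵥ (g.val *ᵥ v) = d • v) :
    ∃ (K : Type uF) (_ : Field K) (_ : Algebra F K) (s : K) (_ : Module K (ι → F)) (_ : IsScalarTower F K (ι → F)),
      s * s = algebraMap F K d ∧ (∀ κ : K, ∃ a b : F, κ = algebraMap F K a + algebraMap F K b * s) ∧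
      (∀ v : ι → F, s • v = g.val *ᵥ v) ∧
      (∀ (c : F) (τ : F ≃+* F), c * c * d = τ d →
        ∃ τ' : K →+* K, (∀ a, τ' (algebraMap F K a) = algebraMap F K (τ a)) ∧ τ' s = algebraMap F K c * s) ∧
      g.val.det ^ 2 = (d ^ Fintype.card ι) ∧ ∀ k : ℕ, Fintype.card ι = 2 * k → g.val.det = (-d) ^ k := by
  classical
  set f : F[X] := X ^ 2 - Polynomial.C d with hf
  have hdeg : f.natDegree = 2 := by rw [hf]; exact natDegree_X_pow_sub_C
  have hmon : f.Monic := monic_X_pow_sub_C d two_ne_zero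
  haveI : Fact (Irreducible f) := ⟨by
    rw [irreducible_iff_roots_eq_zero_of_degree_le_three (by omega) (by omega)]
    refine Multiset.eq_zero_of_forall_notMem fun x hx => hd ⟨x, ?_⟩
    have := (mem_roots'.1 hx).2
    simp only [hf, IsRoot, eval_sub, eval_pow, eval_X, eval_C] at this
    linear_combination -this⟩
  let K := AdjoinRoot f
  let pb := AdjoinRoot.powerBasis hmon.ne_zero
  haveI : Module.Finite F K := pb.finite
  have hw : aeval (Matrix.toLin' g.val) f = 0 := LinearMap.ext fun v => by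
    simp [hf, sq, Module.End.mul_apply, hgg]
  let φ : K →ₐ[F] Module.End F (ι → F) :=
    Ideal.Quotient.liftₐ (Ideal.span {f}) (aeval (Matrix.toLin' g.val)) fun q hq => by
      obtain ⟨t, rfl⟩ := Ideal.mem_span_singleton'.1 hq
      rw [map_mul, hw, mul_zero]
  letI : Module K (ι → F) := Module.compHom _ φ.toRingHom
  haveI : IsScalarTower F K (ι → F) := ⟨fun c a v => by
    show φ (c • a) v = c • φ a v
    rw [map_smul]; rfl⟩
  haveI : Module.Finite K (ι → F) := Module.Finite.of_restrictScalars_finite F K _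
  set s : K := AdjoinRoot.root f with hs
  have hρ : φ s = Matrix.toLin' g.val := by
    show aeval (Matrix.toLin' g.val) (X : F[X]) = _
    exact aeval_X _
  have hss : s * s = algebraMap F K d := by
    have h1 := AdjoinRoot.eval₂_root f
    simp only [hf, eval₂_sub, eval₂_pow, eval₂_X, eval₂_C] at h1
    rw [AdjoinRoot.algebraMap_eq, hs, ← sq]
    exact sub_eq_zero.1 h1
  refine ⟨K, inferInstance, inferInstance, s, inferInstance, inferInstance, hss, fun κ => ?_, fun v => ?_, fun c τ hc => ?_,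
    ?_⟩
  · induction κ using AdjoinRoot.induction_on with
    | ih q =>
      induction q using Polynomial.induction_on with
      | C a => exact ⟨a, 0, by rw [map_zero, zero_mul, add_zero, AdjoinRoot.mk_C, AdjoinRoot.algebraMap_eq]⟩
      | add q q' h h' =>
        obtain ⟨a, b, e⟩ := h
        obtain ⟨a', b', e'⟩ := h'
        exact ⟨a + a', b + b', by rw [map_add, e, e', map_add, map_add]; ring⟩
      | monomial n a h =>
        obtain ⟨u, v, e⟩ := h
        refine ⟨v * d, u, ?_⟩
        rw [pow_succ, ← mul_assoc, map_mul, e, AdjoinRoot.mk_X, ← hs, map_mul (algebraMap F K) v, ← hss]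
        ring
  · show φ s v = _
    rw [hρ]
    rfl
  · have hroot : f.eval₂ ((algebraMap F K).comp τ.toRingHom) (algebraMap F K c * s) = 0 := by
      simp only [hf, eval₂_sub, eval₂_pow, eval₂_X, eval₂_C, RingHom.comp_apply]
      rw [show τ.toRingHom d = c * c * d from hc.symm, map_mul, map_mul, ← hss]
      ring
    refine ⟨AdjoinRoot.lift _ _ hroot, fun a => ?_, AdjoinRoot.lift_root hroot⟩
    exact AdjoinRoot.lift_of hroot
  · have e1 : Matrix.toLin' g.val = (s • (LinearMap.id : (ι → F) →ₗ[K] (ι → F))).restrictScalars F :=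
      LinearMap.ext fun v => by
        show _ = φ s v
        rw [hρ]
    have hnorm : Algebra.norm F s = -d := by
      have h1 : Algebra.norm F pb.gen = (-1) ^ pb.dim * (minpoly F pb.gen).coeff 0 :=
        Algebra.PowerBasis.norm_gen_eq_coeff_zero_minpoly pb
      rw [AdjoinRoot.powerBasis_gen, AdjoinRoot.powerBasis_dim, hdeg, AdjoinRoot.minpoly_root hmon.ne_zero,
        hmon.leadingCoeff, inv_one, map_one, mul_one] at h1
      rw [hs, h1, hf]
      simp
    have hdet : g.val.det = (-d) ^ finrank K (ι → F) := by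
      rw [← LinearMap.det_toLin', e1, LinearMap.det_restrictScalars, LinearMap.det_smul, LinearMap.det_id, mul_one,
        map_pow, hnorm]
    have hk : Fintype.card ι = 2 * finrank K (ι → F) := by
      have h := Module.finrank_mul_finrank F K (ι → F)
      rw [finrank_fintype_fun_eq_card, pb.finrank, AdjoinRoot.powerBasis_dim, hdeg] at h
      exact h.symm
    refine ⟨?_, fun k hk' => ?_⟩
    · rw [hdet, hk, ← pow_mul, mul_comm (finrank K (ι → F)) 2, pow_mul, pow_mul, neg_sq]
    · rw [hdet, show k = finrank K (ι → F) by omega]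

end General

section Minus

variable {m : ℕ} {F : Type*} [Field F] [Fintype F] {a b : F}
  (hab : ∀ z₁ z₂ : F, z₁ ^ 2 + a * z₁ * z₂ + b * z₂ ^ 2 = 0 → z₁ = 0 ∧ z₂ = 0) (hm : 3 ≤ m)
  (p : ℕ) [Fact p.Prime] [CharP F p] (h2 : (2 : F) ≠ 0)

local notation "ιm" => ((Fin m ⊕ Fin m) ⊕ Fin 2)
local notation "Qm" => Cfsg.quadFormMinus m F a b
local notation "GS" => ↥(Cfsg.Geo.quadSimilarityGroup (F := F) Qm)
local notation "P" => Cfsg.POmega F Qm
local notation "D" => Cfsg.inndiagPOmegaMinus m F a b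

include hab hm p h2

set_option maxHeartbeats 1600000 in
/-- **No core for the involutions outside the inner-diagonal group.** -/
theorem minus_inv_core_eq_bot (A : Subgroup (MulAut P)) (hinn : ∀ k : P, MulAut.conj k ∈ A) (g₀ : GS)
    (hord : orderOf (innd g₀) = 2) (hnot : innd g₀ ∉ D) :
    Cfsg.pPrimeCore 2 ↥(A ⊓ Subgroup.centralizer {innd g₀}) = ⊥ := by
  classical
  obtain ⟨B, C⟩ := exists_space_minus (F := F) m a b hab
  have hcard : Fintype.card ιm = 2 * (m + 1) := by simp only [Fintype.card_sum, Fintype.card_fin]; omega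
  have h7 : 7 ≤ Fintype.card ιm := by omega
  obtain ⟨c₀, hc₀⟩ := g₀.2
  obtain ⟨d, hd⟩ : ∃ d : Fˣ, g₀.1 * g₀.1 = sc d := (innd_eq_sc C h7 p (A := g₀ * g₀)).1 (by
    rw [map_mul, ← pow_two]
    have h := pow_orderOf_eq_one (innd g₀)
    rwa [hord] at h)
  have hdv : ∀ v, g₀.1.val *ᵥ (g₀.1.val *ᵥ v) = (d : F) • v := fun v => by rw [← mul_act, hd, sc_act]
  obtain ⟨v₀, hv₀⟩ := Cfsg.Lib.H3.exists_nonsing_vec C (by omega)
  have hcd : (c₀ : F) = d ∨ (c₀ : F) = -d := by
    refine mul_self_eq_mul_self_iff.1 (mul_right_cancel₀ hv₀ ?_)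
    rw [mul_assoc, ← hc₀, ← hc₀, hdv, C.smul]
    ring
  by_cases hsq : IsSquare (d : F)
  · obtain ⟨e, he⟩ := hsq
    have he0 : e ≠ 0 := fun h => d.ne_zero (by rw [he, h, mul_zero])
    obtain ⟨z, hz⟩ : ∃ z : GS, z.1 = sc (Units.mk0 e he0)⁻¹ * g₀.1 :=
      ⟨⟨_, (Units.mk0 e he0)⁻¹ ^ 2 * c₀, fun v => by
        rw [mul_act, sc_act, C.smul, hc₀, Units.val_mul, Units.val_pow_eq_pow_val, mul_assoc]⟩, rfl⟩
    have hzz : z.1 * z.1 = 1 := gl_ext fun v => by
      simp only [hz, mul_act, sc_act, Matrix.mulVec_smul, hdv, smul_smul, Units.val_inv_eq_inv_val, Units.val_mk0,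
        Units.val_one, Matrix.one_mulVec, he]
      field_simp
      simp
    have hinnd : innd z = innd g₀ := (innd_eq_innd_sc C h7 p).2 ⟨_, hz⟩
    have hzq : ∀ v, Qm (z.1.val *ᵥ v) = (c₀ : F) / d * Qm v := fun v => by
      rw [hz, mul_act, sc_act, C.smul, hc₀, Units.val_inv_eq_inv_val, Units.val_mk0, he]
      field_simp
    rw [← hinnd] at hord hnot ⊢
    rcases hcd with hc | hc
    swap
    · exfalso
      have hneg : ∀ v, Qm (z.1.val *ᵥ v) = -Qm v := fun v => by
        rw [hzq, hc, neg_div, div_self d.ne_zero, neg_one_mul]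
      have h0 : ∀ v, z.1.val *ᵥ v = v ∨ z.1.val *ᵥ v = -v → Qm v = 0 := fun v hv => by
        have h := hneg v
        have h' : (2 : F) * Qm v = 0 := by
          rcases hv with hv | hv <;> rw [hv] at h
          · linear_combination h
          · rw [C.neg] at h
            linear_combination h
        exact (mul_eq_zero.1 h').resolve_left h2
      have h1 := minus_ts_bound hab C (A := fixW z.1) fun v hv => h0 v (Or.inl (mem_fixW.1 hv))
      have h3 := minus_ts_bound hab C (A := fixW (sc (-1) * z.1)) fun v hv => h0 v (Or.inr (mem_fixW_neg.1 hv))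
      have h4 := finrank_fixW_add hzz h2
      omega
    have hiso : z.1 ∈ isometryGroup F Qm := mem_iso.2 fun v => by rw [hzq, hc, div_self d.ne_zero, one_mul]
    have hdet : z.1.val.det = -1 := by
      rcases det_eq_or C hcard (A := z.1) (c := 1) (fun v => by rw [one_mul]; exact mem_iso.1 hiso v) with h | h
      · exact absurd ((diag_iff_det hab hm p h2 (c := 1) fun v => by rw [one_mul]; exact mem_iso.1 hiso v).2 h) hnot
      · rw [h, one_pow]
    have hodd : Odd (finrank F (fixW (sc (-1) * z.1))) := by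
      by_contra hev
      rw [det_of_fixW hzz h2, (Nat.not_odd_iff_even.1 hev).neg_one_pow] at hdet
      exact h2 (by linear_combination hdet)
    have hsum := finrank_fixW_add hzz h2
    have hodd' : Odd (finrank F (fixW z.1)) := by
      obtain ⟨k, hk⟩ := hodd
      exact ⟨m - k, by omega⟩
    have hzz' := neg_sq_one hzz
    have hiso' : sc (-1) * z.1 ∈ isometryGroup F Qm := mem_iso.2 fun v => by
      rw [neg_act, C.neg, mem_iso.1 hiso]
    have hneg2 : sc (-1) * (sc (-1) * z.1) = z.1 := by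
      rw [← mul_assoc, ← map_mul, neg_mul_neg, one_mul, map_one, one_mul]
    have hcase : ∀ W : Submodule F (ιm → F), Odd (finrank F W) → finrank F W = 1 ∨ 3 ≤ finrank F W := fun W hW => by
      obtain ⟨k, hk⟩ := hW
      omega
    have hcm : ∀ u : GL ιm F, u * z.1 = z.1 * u → u * (sc (-1) * z.1) = sc (-1) * z.1 * u := fun u hu => by
      rw [← mul_assoc, ← sc_comm, mul_assoc, hu, mul_assoc]
    have hcm' : ∀ u : GL ιm F, u * (sc (-1) * z.1) = sc (-1) * z.1 * u → u * z.1 = z.1 * u := fun u hu => by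
      rw [← mul_assoc, ← sc_comm, mul_assoc, mul_assoc] at hu
      exact mul_left_cancel hu
    have hsplit : ∀ (u : GL ιm F) (x y : F), (∀ v ∈ fixW z.1, u.val *ᵥ v = x • v) →
        (∀ v ∈ fixW (sc (-1) * z.1), u.val *ᵥ v = y • v) →
        (x = y → ∀ v, u.val *ᵥ v = x • v) ∧ (y = -x → ∀ v, u.val *ᵥ v = x • (z.1.val *ᵥ v)) := by
      intro u x y hx hy
      have hdec : ∀ v, ∃ w ∈ fixW z.1, ∃ w' ∈ fixW (sc (-1) * z.1), v = w + w' := fun v => by
        obtain ⟨w, hw, w', hw', e⟩ := Submodule.mem_sup.1 (show v ∈ fixW z.1 ⊔ fixW (sc (-1) * z.1) by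
          rw [(isCompl_fixW hzz h2).sup_eq_top]; trivial)
        exact ⟨w, hw, w', hw', e.symm⟩
      constructor <;> intro hxy v <;> obtain ⟨w, hw, w', hw', rfl⟩ := hdec v
      · rw [Matrix.mulVec_add, hx w hw, hy w' hw', hxy, smul_add]
      · rw [Matrix.mulVec_add, hx w hw, hy w' hw', hxy, Matrix.mulVec_add, mem_fixW.1 hw, mem_fixW_neg.1 hw',
          smul_add, smul_neg, neg_smul]
    refine inv_core_eq_bot C h2 h7 p A hinn z hord (fun M hM hn ho u hu => ?_) (fun h τ hs hcomm hfix => ?_)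
      (good_minus hab C)
    · obtain ⟨x, hx1, hx⟩ := scal_fixW hzz h2 C hiso (hcase _ hodd') M hM hn ho hu
      obtain ⟨y, hy1, hy⟩ := scal_fixW hzz' h2 C hiso' (hcase _ hodd) M
        (fun u hu => ⟨(hM u hu).1, hcm u (hM u hu).2⟩) (fun v hv hvz => hn v hv (hcm' v hvz)) ho hu
      obtain ⟨k, ⟨j, rfl⟩, c, hc⟩ := ho u hu
      have hpow : ∀ (W : Submodule F (ιm → F)) (t : F), t * t = 1 → (∀ v ∈ W, u.val *ᵥ v = t • v) → finrank F W ≠ 0 →
          t = c := by
        intro W t ht1 ht hW
        obtain ⟨v, hv, hv0⟩ := (Submodule.ne_bot_iff W).1 fun h => hW (by rw [h, finrank_bot])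
        have hk : ∀ i : ℕ, (u ^ i).val *ᵥ v = t ^ i • v := fun i => by
          induction i with
          | zero => simp
          | succ i ih => rw [pow_succ', mul_act, ih, Matrix.mulVec_smul, ht v hv, smul_smul, pow_succ]
        have h1 := hk (2 * j + 1)
        rw [hc, sc_act, pow_succ, pow_mul, sq, ht1, one_pow, one_mul] at h1
        exact (smul_left_injective F hv0 h1).symm
      have hxy : x = y := (hpow _ x hx1 hx (by rintro h; rw [h] at hodd'; exact absurd hodd' (by decide))).trans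
        (hpow _ y hy1 hy (by rintro h; rw [h] at hodd; exact absurd hodd (by decide))).symm
      exact eq_sc_of_smul ((hsplit u x y hx hy).1 hxy)
    · have hfix' : ∀ U ∈ isometryGroup F Qm, U * (sc (-1) * z.1) = sc (-1) * z.1 * U → U ^ p = 1 →
          semiGL h τ U = U := fun U hU hUz => hfix U hU (hcm' U hUz)
      have hbig : 3 ≤ finrank F (fixW z.1) ∨ 3 ≤ finrank F (fixW (sc (-1) * z.1)) := by omega
      obtain rfl : τ = 1 := hbig.elim (fun h' => (lin_fixW hzz h2 C hiso p h' hs hfix).1)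
        (fun h' => (lin_fixW hzz' h2 C hiso' p h' hs hfix').1)
      obtain ⟨μ, hμ⟩ := id hs
      have hμ' : ∀ v, Qm (h.val *ᵥ v) = (μ : F) * Qm v := hμ
      have hnz : ∀ (W : Submodule F (ιm → F)) (t : F), (∀ v ∈ W, h.val *ᵥ v = t • v) → 3 ≤ finrank F W → t ≠ 0 := by
        intro W t ht hW h0
        obtain ⟨v, hv, hv0⟩ := (Submodule.ne_bot_iff W).1 fun h => by rw [h, finrank_bot] at hW; omega
        exact hv0 (act_injective h (a₁ := v) (a₂ := 0) (by simp [ht v hv, h0]))
      have hone : ∀ (W : Submodule F (ιm → F)), finrank F W = 1 → (∀ v ∈ W, h.val *ᵥ v ∈ W) →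
          ∃ t : F, ∀ v ∈ W, h.val *ᵥ v = t • v := by
        intro W hW hinv
        obtain ⟨⟨e, he⟩, he0, hspan⟩ := finrank_eq_one_iff'.1 hW
        obtain ⟨t, ht⟩ := hspan ⟨_, hinv e he⟩
        refine ⟨t, fun v hv => ?_⟩
        obtain ⟨k, hk⟩ := hspan ⟨v, hv⟩
        have hk' : k • e = v := congrArg Subtype.val hk
        have ht' : t • e = h.val *ᵥ e := congrArg Subtype.val ht
        rw [← hk', Matrix.mulVec_smul, ← ht', smul_comm]
      obtain ⟨x, y, hx, hy⟩ : ∃ x y : F, (∀ v ∈ fixW z.1, h.val *ᵥ v = x • v) ∧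
          ∀ v ∈ fixW (sc (-1) * z.1), h.val *ᵥ v = y • v := by
        rcases hcase _ hodd' with h1 | h1 <;> rcases hcase _ hodd with h3 | h3
        · omega
        · obtain ⟨y, hy⟩ := (lin_fixW hzz' h2 C hiso' p h3 hs hfix').2
          obtain ⟨x, hx⟩ := hone _ h1 fun v hv => fixW_invariant hzz h2 C hiso hμ' (hnz _ y hy h3) hy hv
          exact ⟨x, y, hx, hy⟩
        · obtain ⟨x, hx⟩ := (lin_fixW hzz h2 C hiso p h1 hs hfix).2
          obtain ⟨y, hy⟩ := hone _ h3 fun v hv => fixW_invariant hzz' h2 C hiso' hμ' (hnz _ x hx h1)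
            (by rw [hneg2]; exact hx) hv
          exact ⟨x, y, hx, hy⟩
        · obtain ⟨x, hx⟩ := (lin_fixW hzz h2 C hiso p h1 hs hfix).2
          obtain ⟨y, hy⟩ := (lin_fixW hzz' h2 C hiso' p h3 hs hfix').2
          exact ⟨x, y, hx, hy⟩
      have hsq : ∀ (g : GL ιm F) (hg : g * g = 1) (hgi : g ∈ isometryGroup F Qm) (t : F),
          (∀ v ∈ fixW g, h.val *ᵥ v = t • v) → finrank F (fixW g) ≠ 0 → t * t = μ := by
        intro g hg hgi t ht hW
        obtain ⟨w, hw⟩ := (rformW hg h2 C hgi).exists_aniso h2 (by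
          haveI : Nontrivial (fixW g) := Module.nontrivial_of_finrank_pos (R := F) (by omega)
          exact exists_ne 0)
        have hq : Qm w.1 ≠ 0 := fun h0 => hw (by show B w.1 w.1 = 0; rw [C.self, h0, mul_zero])
        have h1 := hμ' w.1
        rw [ht w.1 w.2, C.smul, sq] at h1
        exact mul_right_cancel₀ hq h1
      have hxx := hsq z.1 hzz hiso x hx (by rintro h; rw [h] at hodd'; exact absurd hodd' (by decide))
      have hyy := hsq _ hzz' hiso' y hy (by rintro h; rw [h] at hodd; exact absurd hodd (by decide))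
      refine semiAut_of_scalar C h7 p hs z ?_
      rcases mul_self_eq_mul_self_iff.1 (hyy.trans hxx.symm) with e | e
      · exact Or.inl (eq_sc_of_smul ((hsplit h x y hx hy).1 e.symm))
      · have hx0 : x ≠ 0 := fun h0 => μ.ne_zero (by rw [← hxx, h0, mul_zero])
        exact Or.inr ⟨Units.mk0 x hx0, gl_ext fun v => by rw [(hsplit h x y hx hy).2 e, mul_act, sc_act]; rfl⟩
  · obtain ⟨K, iK, iA, s, iM, iT, hss, hdec, hact, hlift, hdet2, hdet⟩ := exists_quad_data hsq hdv
    rcases hcd with hc | hc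
    swap
    · exfalso
      refine hnot ((diag_iff_det hab hm p h2 hc₀).2 ?_)
      rw [hdet (m + 1) hcard, hc]
    have hgm : ∀ v, Qm (g₀.1.val *ᵥ v) = (d : F) * Qm v := fun v => by rw [hc₀, hc]
    refine inv_core_eq_bot C h2 h7 p A hinn g₀ hord (fun M hM hn ho u hu => ?_) (fun h τ hs hcomm hfix => ?_)
      (good_minus hab C)
    · exact scal_quad C h2 hsq hdv hgm hss hdec hact h7 M hM hn ho hu
    · obtain ⟨c, hc'⟩ := semi_comm C h7 p hs g₀ hcomm
      have hτd : (c : F) * c * d = τ d := by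
        obtain ⟨i⟩ : Nonempty ιm := Fintype.card_pos_iff.1 (by omega)
        set v := (Pi.single i 1 : ιm → F)
        have h1 := hc' (g₀.1.val *ᵥ v)
        rw [hdv, hc' v, show τ ∘ ((d : F) • v) = τ d • (τ ∘ v) from funext fun j => map_mul τ _ _, Matrix.mulVec_smul,
          Matrix.mulVec_smul, hdv, smul_smul, smul_smul] at h1
        refine (smul_left_injective F ?_ h1).symm
        intro h0
        have h3 := act_injective h (a₁ := τ ∘ v) (a₂ := 0) (h0.trans (Matrix.mulVec_zero _).symm)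
        have := congrFun h3 i
        simp [v] at this
      obtain ⟨τ', hτa, hτs⟩ := hlift c τ hτd
      obtain ⟨rfl, hh⟩ := lin_quad C h2 hsq hdv hgm hss hdec hact h7 p hs c.ne_zero hc' τ' hτa hτs hfix
      exact semiAut_of_scalar C h7 p hs g₀ hh

end Minus

end Cfsg.Lib.Linear.AutPO
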