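import Cfsg.Agent.Lib.Linear.AutPO.MinusFrame
import Cfsg.Agent.Lib.Linear.AutPSL.FieldCentralizer

/-!
# Field automorphisms of `PΩ⁻`: descent of forms to the fixed field

A twisted matrix `N` whose columns carry values of the form that are semilinearly fixed up to a scalar carries the form, up to a
scalar, to the minus-type form with `σ`-fixed coefficients, after a rational change of basis.
-/

set_option autoImplicit false

namespace Cfsg.Lib.Linear.AutPO

open Module
open Cfsg.Lib.Linear.Orth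
open Cfsg.Lib.Linear.Descent (sc sm tw sc_val sc_comm sm_one sm_mul)
open scoped Matrix

set_option quotPrecheck false

section General

variable {ι : Type} [Fintype ι] [DecidableEq ι] {F : Type*} [Field F] {κ : Type} [Fintype κ] [DecidableEq κ]
  {Q₁ : (κ → F) → F} {B₁ : LinearMap.BilinForm F (κ → F)} (C₁ : Space Q₁ B₁)
  {Q₂ : (ι → F) → F} {B₂ : LinearMap.BilinForm F (ι → F)} (C₂ : Space Q₂ B₂)

include C₁ C₂

/-- Two forms agree when they agree on the standard vectors. -/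
theorem quad_ext (T : Matrix ι κ F) (c : F) (h1 : ∀ i, Q₂ (T *ᵥ Pi.single i 1) = c * Q₁ (Pi.single i 1))
    (h2 : ∀ i j, QuadraticMap.polar Q₂ (T *ᵥ Pi.single i 1) (T *ᵥ Pi.single j 1) =
      c * QuadraticMap.polar Q₁ (Pi.single i 1) (Pi.single j 1)) (v : κ → F) :
    Q₂ (T *ᵥ v) = c * Q₁ v := by
  classical
  have hB : B₂.compl₁₂ T.mulVecLin T.mulVecLin = c • B₁ :=
    LinearMap.ext_basis (Pi.basisFun F _) (Pi.basisFun F _) fun x y => by
      simp only [Pi.basisFun_apply, LinearMap.compl₁₂_apply, Matrix.mulVecLin_apply, LinearMap.smul_apply,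
        smul_eq_mul, ← C₂.polar, ← C₁.polar, h2]
  have hb : ∀ x y, B₂ (T *ᵥ x) (T *ᵥ y) = c * B₁ x y := fun x y => LinearMap.congr_fun₂ hB x y
  have key : ∀ s : Finset κ, Q₂ (T *ᵥ ∑ i ∈ s, v i • (Pi.single i 1 : κ → F)) =
      c * Q₁ (∑ i ∈ s, v i • (Pi.single i 1 : κ → F)) := by
    intro s
    induction s using Finset.induction_on with
    | empty => simp [C₁.zero, C₂.zero]
    | insert k s hk ih =>
      rw [Finset.sum_insert hk, Matrix.mulVec_add, C₂.add, C₁.add, ih, hb, Matrix.mulVec_smul, C₁.smul, C₂.smul, h1]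
      ring
  rw [pi_eq_sum_univ' v]
  exact key Finset.univ

omit C₁ C₂

/-- Conjugating a reflection by an isometry of forms. -/
theorem conj_rI {Q' : (ι → F) → F} {B' : LinearMap.BilinForm F (ι → F)} (C' : Space Q' B') (C₂ : Space Q₂ B₂)
    {M : GL ι F} (hM : ∀ v, Q₂ (M.val *ᵥ v) = Q' v) {v : ι → F} (hv : Q' v ≠ 0) :
    M * (rI C' v hv : GL ι F) * M⁻¹ = (rI C₂ (M.val *ᵥ v) (by rwa [hM]) : GL ι F) := by
  refine gl_ext fun x => ?_
  obtain ⟨y, rfl⟩ : ∃ y, M.val *ᵥ y = x := ⟨(M⁻¹).val *ᵥ x, act_inv _ _⟩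
  have hB : ∀ x y, B₂ (M.val *ᵥ x) (M.val *ᵥ y) = B' x y := fun x y => by
    rw [← C'.polar, ← C₂.polar, QuadraticMap.polar, QuadraticMap.polar, ← Matrix.mulVec_add, hM, hM, hM]
  rw [mul_act, mul_act, inv_act, rI_val, rI_val, rGL_act C' hv, rGL_act C₂ (by rwa [hM]), hB, hM, Matrix.mulVec_sub,
    Matrix.mulVec_smul]

end General

section Field

variable {m : ℕ} {F : Type*} [Field F] [Fintype F]

local notation "ιm" => ((Fin m ⊕ Fin m) ⊕ Fin 2)

/-- A field automorphism of prime order fixing an anisotropic binary form has odd order. -/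
theorem odd_of_fixed {a b : F} (hab : ∀ z₁ z₂ : F, z₁ ^ 2 + a * z₁ * z₂ + b * z₂ ^ 2 = 0 → z₁ = 0 ∧ z₂ = 0)
    {σ : F ≃+* F} (hfa : σ a = a) (hfb : σ b = b) {r : ℕ} (hr : r.Prime) (hσ : orderOf σ = r) : Odd r := by
  refine hr.eq_two_or_odd'.resolve_left ?_
  rintro rfl
  letI := Fintype.ofFinite (AutPSL.fixedF σ)
  have hpow := AutPSL.card_fixedF_pow σ
  rw [hσ] at hpow
  have hK : finrank (AutPSL.fixedF σ) F = 2 := by
    refine Nat.pow_right_injective (a := Fintype.card (AutPSL.fixedF σ)) Fintype.one_lt_card ?_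
    show Fintype.card (AutPSL.fixedF σ) ^ _ = Fintype.card (AutPSL.fixedF σ) ^ 2
    rw [← Module.card_eq_pow_finrank, ← hpow, Nat.card_eq_fintype_card]
  obtain ⟨θ, hθ⟩ := exists_root_quadratic (F := AutPSL.fixedF σ) (K := F) (a := ⟨a, hfa⟩) (b := ⟨b, hfb⟩)
    (fun z₁ z₂ h => by
      obtain ⟨h1, h2⟩ := hab z₁ z₂ (congrArg Subtype.val h)
      exact ⟨Subtype.ext h1, Subtype.ext h2⟩) hK
  refine one_ne_zero (hab θ 1 ?_).2
  change θ ^ 2 + a * θ + b = 0 at hθ
  linear_combination hθ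

/-- In odd degree a fixed element is a square only if it is the square of a fixed element. -/
theorem isSquare_fixed (h2 : (2 : F) ≠ 0) {σ : F ≃+* F} {r : ℕ} (hσ : orderOf σ = r) (hodd : Odd r) {y : F}
    (hy : σ (y * y) = y * y) : σ y = y := by
  rw [map_mul] at hy
  rcases mul_self_eq_mul_self_iff.1 hy with h | h
  · exact h
  · have hk : ∀ k : ℕ, (σ ^ k) y = (-1) ^ k * y := by
      intro k
      induction k with
      | zero => simp
      | succ k ih =>
        show (σ ^ k) (σ y) = _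
        rw [h, map_neg, ih, pow_succ]
        ring
    have h1 := hk r
    rw [← hσ, pow_orderOf_eq_one, hσ, hodd.neg_one_pow] at h1
    have h1' : y = -1 * y := h1
    have h0 : y = 0 := (mul_eq_zero.1 (show (2 : F) * y = 0 by linear_combination h1')).resolve_left h2
    rw [h, h0, neg_zero]

/-- A basis with the standard table carries the form to the standard one. -/
theorem minus_table {ζ : F} {B₁ : LinearMap.BilinForm F (ιm → F)} (C₁ : Space (Cfsg.quadFormMinus m F 1 ζ) B₁)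
    {Q₀ : (ιm → F) → F} {B₀ : LinearMap.BilinForm F (ιm → F)} (C₀ : Space Q₀ B₀) (W : Matrix ιm ιm F)
    (w : ιm → ιm → F) (hW : ∀ k, W *ᵥ Pi.single k 1 = w k)
    (h1 : ∀ i, Q₀ (w (.inl (.inl i))) = 0 ∧ Q₀ (w (.inl (.inr i))) = 0)
    (h2 : ∀ i j, QuadraticMap.polar Q₀ (w (.inl (.inl i))) (w (.inl (.inr j))) = if i = j then 1 else 0)
    (h3 : ∀ i j, QuadraticMap.polar Q₀ (w (.inl (.inl i))) (w (.inl (.inl j))) = 0 ∧
      QuadraticMap.polar Q₀ (w (.inl (.inr i))) (w (.inl (.inr j))) = 0)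
    (h4 : ∀ i (k : Fin 2), QuadraticMap.polar Q₀ (w (.inl (.inl i))) (w (.inr k)) = 0 ∧
      QuadraticMap.polar Q₀ (w (.inl (.inr i))) (w (.inr k)) = 0)
    (h5 : Q₀ (w (.inr 0)) = 1) (h6 : QuadraticMap.polar Q₀ (w (.inr 0)) (w (.inr 1)) = 1) (h7 : Q₀ (w (.inr 1)) = ζ)
    (v : ιm → F) : Q₀ (W *ᵥ v) = Cfsg.quadFormMinus m F 1 ζ v := by
  have sym : ∀ x y, QuadraticMap.polar Q₀ x y = QuadraticMap.polar Q₀ y x := QuadraticMap.polar_comm _
  have self : ∀ x, QuadraticMap.polar Q₀ x x = 2 * Q₀ x := fun x => by rw [C₀.polar, C₀.self]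
  have self₁ : ∀ x, QuadraticMap.polar (Cfsg.quadFormMinus m F 1 ζ) x x = 2 * Cfsg.quadFormMinus m F 1 ζ x := fun x => by
    rw [C₁.polar, C₁.self]
  have := quad_ext C₁ C₀ W 1 (fun k => ?_) (fun k l => ?_) v
  · rw [one_mul] at this
    exact this
  · rw [hW, one_mul]
    rcases k with (k | k) | k
    · rw [(h1 k).1]; simp [Cfsg.quadFormMinus, Pi.single_apply]
    · rw [(h1 k).2]; simp [Cfsg.quadFormMinus, Pi.single_apply]
    · obtain rfl | rfl := (by omega : k = 0 ∨ k = 1)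
      · rw [h5]; simp [Cfsg.quadFormMinus, Pi.single_apply]
      · rw [h7]; simp [Cfsg.quadFormMinus, Pi.single_apply]
  · rw [hW, hW, one_mul]
    rcases k with (k | k) | k <;> rcases l with (l | l) | l
    · rw [(h3 k l).1]; simp [QuadraticMap.polar, Cfsg.quadFormMinus, Pi.single_apply]
    · rw [h2]
      rcases eq_or_ne k l with rfl | h
      · simp [QuadraticMap.polar, Cfsg.quadFormMinus, Pi.single_apply]
      · simp [QuadraticMap.polar, Cfsg.quadFormMinus, Pi.single_apply, h, h.symm]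
    · rw [(h4 k l).1]; simp [QuadraticMap.polar, Cfsg.quadFormMinus, Pi.single_apply]
    · rw [sym, h2]
      rcases eq_or_ne l k with rfl | h
      · simp [QuadraticMap.polar, Cfsg.quadFormMinus, Pi.single_apply]
      · simp [QuadraticMap.polar, Cfsg.quadFormMinus, Pi.single_apply, h, h.symm]
    · rw [(h3 k l).2]; simp [QuadraticMap.polar, Cfsg.quadFormMinus, Pi.single_apply]
    · rw [(h4 k l).2]; simp [QuadraticMap.polar, Cfsg.quadFormMinus, Pi.single_apply]
    · rw [sym, (h4 l k).1]; simp [QuadraticMap.polar, Cfsg.quadFormMinus, Pi.single_apply]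
    · rw [sym, (h4 l k).2]; simp [QuadraticMap.polar, Cfsg.quadFormMinus, Pi.single_apply]
    · obtain rfl | rfl := (by omega : k = 0 ∨ k = 1) <;> obtain rfl | rfl := (by omega : l = 0 ∨ l = 1)
      · rw [self, self₁, h5]; simp [Cfsg.quadFormMinus, Pi.single_apply]
      · rw [h6]; simp [QuadraticMap.polar, Cfsg.quadFormMinus, Pi.single_apply]; try ring
      · rw [sym, h6]; simp [QuadraticMap.polar, Cfsg.quadFormMinus, Pi.single_apply]; try ring
      · rw [self, self₁, h7]; simp [Cfsg.quadFormMinus, Pi.single_apply]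

set_option maxHeartbeats 1600000 in
/-- **Descent.** -/
theorem exists_descent {a b a' b' : F}
    (hab : ∀ z₁ z₂ : F, z₁ ^ 2 + a * z₁ * z₂ + b * z₂ ^ 2 = 0 → z₁ = 0 ∧ z₂ = 0)
    (hab' : ∀ z₁ z₂ : F, z₁ ^ 2 + a' * z₁ * z₂ + b' * z₂ ^ 2 = 0 → z₁ = 0 ∧ z₂ = 0)
    {σ : F ≃+* F} (hfa : σ a' = a') (hfb : σ b' = b') (N : GL ιm F) (μ : F)
    (hN : ∀ v, σ ∘ v = v →
      Cfsg.quadFormMinus m F a b (N.val *ᵥ v) = μ * σ (Cfsg.quadFormMinus m F a b (N.val *ᵥ v))) :
    ∃ (W : GL ιm F) (c : Fˣ), sm σ W = W ∧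
      ∀ v, Cfsg.quadFormMinus m F a b ((N * W).val *ᵥ v) = c * Cfsg.quadFormMinus m F a' b' v := by
  classical
  obtain ⟨B, C⟩ := exists_space_minus (F := F) m a b hab
  have hts_bd := @minus_ts_bound F _ m a b hab B C
  set Qm := Cfsg.quadFormMinus m F a b with hQm
  obtain ⟨B', C'⟩ := exists_space_minus (F := F) m a' b' hab'
  let K := AutPSL.fixedF σ
  letI := Fintype.ofFinite K
  let ι₀ : K →+* F := K.subtype
  have hsub : ∀ u : ιm → K, σ ∘ (ι₀ ∘ u) = ι₀ ∘ u := fun u => funext fun k => (u k).2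
  have hadd : ∀ u v : ιm → K, ι₀ ∘ (u + v) = ι₀ ∘ u + ι₀ ∘ v := fun u v => funext fun k => map_add ι₀ _ _
  have hsmul : ∀ (t : K) (u : ιm → K), ι₀ ∘ (t • u) = ι₀ t • (ι₀ ∘ u) := fun t u =>
    funext fun k => map_mul ι₀ _ _
  obtain ⟨u₀, hu₀⟩ : ∃ u : ιm → K, Qm (N.val *ᵥ (ι₀ ∘ u)) ≠ 0 := by
    by_contra hc'
    push Not at hc'
    obtain ⟨v, hv⟩ := Cfsg.Lib.H3.exists_nonsing_vec C (by simp)
    refine hv ?_
    obtain ⟨w, rfl⟩ : ∃ w, N.val *ᵥ w = v := ⟨(N⁻¹).val *ᵥ v, act_inv _ _⟩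
    rw [quad_ext C' C N.val 0 (fun i => by rw [zero_mul, ← comp_single ι₀ i, hc'])
      (fun i j => by
        rw [zero_mul, QuadraticMap.polar, ← Matrix.mulVec_add, ← comp_single ι₀ i, ← comp_single ι₀ j, ← hadd, hc', hc', hc']
        ring) w, zero_mul]
  set q₀ := Qm (N.val *ᵥ (ι₀ ∘ u₀)) with hq₀
  have hmem : ∀ u : ιm → K, Qm (N.val *ᵥ (ι₀ ∘ u)) / q₀ ∈ K := fun u => by
    rw [AutPSL.mem_fixedF, map_div₀]
    have e1 := hN _ (hsub u)
    have e2 : q₀ = μ * σ q₀ := hN _ (hsub u₀)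
    have hμ0 : μ ≠ 0 := fun h0 => hu₀ (by rw [e2, h0, zero_mul])
    conv_rhs => rw [e1, e2, mul_div_mul_left _ _ hμ0]
  let f : (ιm → K) → K := fun u => ⟨_, hmem u⟩
  have hf : ∀ u, ι₀ (f u) = Qm (N.val *ᵥ (ι₀ ∘ u)) / q₀ := fun u => rfl
  have hfp : ∀ u v, ι₀ (QuadraticMap.polar f u v) = B (N.val *ᵥ (ι₀ ∘ u)) (N.val *ᵥ (ι₀ ∘ v)) / q₀ := fun u v => by
    rw [QuadraticMap.polar, map_sub, map_sub, hf, hf, hf, hadd, Matrix.mulVec_add, C.add]
    ring
  let Q₀ : QuadraticForm K (ιm → K) := QuadraticMap.ofPolar f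
    (fun t u => ι₀.injective (by
      rw [smul_eq_mul, map_mul, map_mul, hf, hf, hsmul, Matrix.mulVec_smul, C.smul]; ring))
    (fun u u' v => ι₀.injective (by
      rw [map_add ι₀, hfp, hfp, hfp, hadd, Matrix.mulVec_add, map_add B, LinearMap.add_apply, add_div]))
    (fun t u v => ι₀.injective (by
      rw [smul_eq_mul, map_mul, hfp, hfp, hsmul, Matrix.mulVec_smul, map_smul B, LinearMap.smul_apply, smul_eq_mul,
        mul_div_assoc]))
  have hnd : (QuadraticMap.polarBilin Q₀).Nondegenerate := by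
    refine LinearMap.BilinForm.Nondegenerate.ofSeparatingLeft fun u hu => ?_
    have hz : ∀ w, B (N.val *ᵥ (ι₀ ∘ u)) w = 0 := by
      have hb : (B (N.val *ᵥ (ι₀ ∘ u))).comp N.val.mulVecLin = 0 := (Pi.basisFun F ιm).ext fun y => by
        have h1 := congrArg ι₀ (hu (Pi.single y 1))
        rw [QuadraticMap.polarBilin_apply_apply, show (⇑Q₀ : (ιm → K) → K) = f from rfl, hfp, map_zero, comp_single] at h1
        simpa using (div_eq_zero_iff.1 h1).resolve_right hu₀
      intro w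
      simpa [act_inv] using LinearMap.congr_fun hb ((N⁻¹).val *ᵥ w)
    have h1 := act_injective N (a₁ := ι₀ ∘ u) (a₂ := 0) (by simpa using C.nondeg' hz)
    exact funext fun k => ι₀.injective ((congrFun h1 k).trans (map_zero ι₀).symm)
  have C₀ := space_of_quadraticForm Q₀ hnd
  have hdim : finrank K (ιm → K) = 2 * (m + 1) := by
    rw [finrank_fintype_fun_eq_card]; simp only [Fintype.card_sum, Fintype.card_fin]; omega
  rcases std_basis_even (by omega) hdim Q₀ hnd with ⟨bs, hb1, -, hb3⟩ | ⟨bs, ζ, hζ, hb1, hb2, hb3, hb4, hb5, hb6, hb7⟩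
  · exfalso
    let e : ιm ≃ Fin (m + 1) ⊕ Fin (m + 1) := Fintype.equivOfCardEq (by
      simp only [Fintype.card_sum, Fintype.card_fin]; omega)
    let W : Matrix ιm ιm K := (Pi.basisFun K ιm).toMatrix (bs.reindex e.symm)
    have hW : IsUnit W.det := by
      haveI := (Pi.basisFun K ιm).invertibleToMatrix (bs.reindex e.symm)
      exact (Matrix.isUnit_iff_isUnit_det W).1 (isUnit_of_invertible W)
    let G : GL ιm F := N * Matrix.GeneralLinearGroup.map ι₀ (Matrix.GeneralLinearGroup.mk'' W hW)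
    have hG : ∀ k, G.val *ᵥ Pi.single (e.symm k) 1 = N.val *ᵥ (ι₀ ∘ bs k) := fun k => by
      rw [mul_act, ← comp_single ι₀, map_vec]
      refine congrArg (fun t => N.val *ᵥ (ι₀ ∘ t)) ?_
      show W *ᵥ Pi.single (e.symm k) 1 = _
      rw [Matrix.mulVec_single_one]
      funext i
      simp [W, Module.Basis.toMatrix_apply]
    let L : (Fin (m + 1) → F) →ₗ[F] (ιm → F) :=
      (Pi.basisFun F (Fin (m + 1))).constr F fun i => G.val *ᵥ Pi.single (e.symm (.inl i)) 1
    have hLE : ∀ x, L x = G.val *ᵥ ∑ i, x i • (Pi.single (e.symm (.inl i)) 1 : ιm → F) := fun x => by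
      simp [L, Module.Basis.constr_apply_fintype, Matrix.mulVec_sum, Matrix.mulVec_smul]
    have hL : Function.Injective L := fun x y h => funext fun j => by
      rw [hLE, hLE] at h
      have h' := congrFun (act_injective G h) (e.symm (.inl j))
      simpa [Finset.sum_apply, Pi.single_apply, e.symm.injective.eq_iff] using h'
    have hb : ∀ i j, B (G.val *ᵥ Pi.single (e.symm (.inl i)) 1) (G.val *ᵥ Pi.single (e.symm (.inl j)) 1) = 0 := fun i j => by
      have h := congrArg ι₀ (hb3 i j).1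
      rw [show (⇑Q₀ : (ιm → K) → K) = f from rfl, hfp, map_zero] at h
      rw [hG, hG]
      exact (div_eq_zero_iff.1 h).resolve_right hu₀
    have hperp : ∀ x y, B (L x) (L y) = 0 := by
      have : B.compl₁₂ L L = 0 := LinearMap.ext_basis (Pi.basisFun F _) (Pi.basisFun F _) fun i j => by
        simp only [LinearMap.compl₁₂_apply, L, Module.Basis.constr_basis, LinearMap.zero_apply]
        exact hb i j
      exact fun x y => LinearMap.congr_fun₂ this x y
    have hts : ∀ v ∈ LinearMap.range L, Qm v = 0 := by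
      rintro _ ⟨x, rfl⟩
      rw [pi_eq_sum_univ' x]
      induction (Finset.univ : Finset (Fin (m + 1))) using Finset.induction_on with
      | empty => rw [Finset.sum_empty, map_zero]; exact C.zero
      | insert k s hk ih =>
        have h := congrArg ι₀ (hb1 k).1
        rw [show (⇑Q₀ : (ιm → K) → K) = f from rfl, hf, map_zero] at h
        rw [Finset.sum_insert hk, map_add, C.add, ih, hperp, map_smul, C.smul,
          show L (Pi.single k 1) = G.val *ᵥ Pi.single (e.symm (.inl k)) 1 by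
            rw [← Pi.basisFun_apply]; exact Module.Basis.constr_basis _ _ _ _, hG,
          (div_eq_zero_iff.1 h).resolve_right hu₀]
        ring
    have h := hts_bd hts
    rw [LinearMap.finrank_range_of_inj hL, Module.finrank_fintype_fun_eq_card, Fintype.card_fin] at h
    omega
  · let W₁ : Matrix ιm ιm K := (Pi.basisFun K ιm).toMatrix bs
    have hW₁ : IsUnit W₁.det := by
      haveI := (Pi.basisFun K ιm).invertibleToMatrix bs
      exact (Matrix.isUnit_iff_isUnit_det W₁).1 (isUnit_of_invertible W₁)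
    have hW₁s : ∀ k, W₁ *ᵥ Pi.single k 1 = bs k := fun k => by
      rw [Matrix.mulVec_single_one]
      funext i
      simp [W₁, Module.Basis.toMatrix_apply]
    have hζ' : ∀ z₁ z₂ : K, z₁ ^ 2 + 1 * z₁ * z₂ + ζ * z₂ ^ 2 = 0 → z₁ = 0 ∧ z₂ = 0 := by
      intro z₁ z₂ h
      by_cases hz : z₂ = 0
      · subst hz
        exact ⟨pow_eq_zero_iff two_ne_zero |>.1 (by linear_combination h), rfl⟩
      · exact absurd (show (z₁ / z₂) ^ 2 + z₁ / z₂ + ζ = 0 by field_simp; linear_combination h) (hζ _)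
    obtain ⟨U, hU⟩ := binary_equiv (m := m) (a := (1 : K)) (b := ζ) (a' := ⟨a', hfa⟩) (b' := ⟨b', hfb⟩) hζ'
      (fun z₁ z₂ h => by
        obtain ⟨h1, h2⟩ := hab' z₁ z₂ (congrArg Subtype.val h)
        exact ⟨Subtype.ext h1, Subtype.ext h2⟩)
    obtain ⟨Bζ, Cζ⟩ := exists_space_minus (F := K) m 1 ζ hζ'
    have hq : ∀ v, f (W₁ *ᵥ v) = Cfsg.quadFormMinus m K 1 ζ v := fun v =>
      minus_table Cζ C₀ W₁ (fun k => bs k) hW₁s (fun i => hb1 i) (fun i j => hb2 i j) (fun i j => hb3 i j)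
        (fun i k => hb4 i k) hb5 hb6 hb7 v
    let W₀ : GL ιm K := Matrix.GeneralLinearGroup.mk'' W₁ hW₁ * U
    refine ⟨Matrix.GeneralLinearGroup.map ι₀ W₀, Units.mk0 q₀ hu₀,
      Units.ext (Matrix.ext fun x y => (W₀.val x y).2), ?_⟩
    have key : ∀ v : ιm → K, Qm ((N * Matrix.GeneralLinearGroup.map ι₀ W₀).val *ᵥ (ι₀ ∘ v)) =
        q₀ * Cfsg.quadFormMinus m F a' b' (ι₀ ∘ v) := fun v => by
      have h1 : f (W₀.val *ᵥ v) = Cfsg.quadFormMinus m K ⟨a', hfa⟩ ⟨b', hfb⟩ v := by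
        rw [mul_act, ← hU]; exact hq _
      rw [mul_act, map_vec, show a' = ι₀ ⟨a', hfa⟩ from rfl, show b' = ι₀ ⟨b', hfb⟩ from rfl, minus_map ι₀, ← h1, hf]
      field_simp
    refine quad_ext C' C _ q₀ (fun i => ?_) (fun i j => ?_)
    · rw [← comp_single ι₀ i]; exact key _
    · rw [QuadraticMap.polar, QuadraticMap.polar, ← Matrix.mulVec_add, ← comp_single ι₀ i, ← comp_single ι₀ j, ← hadd,
        key, key, key]
      ring

end Field

end Cfsg.Lib.Linear.AutPO
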