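import Cfsg.Agent.Lib.Linear.AutPO.ParityClass
import Cfsg.Agent.Lib.Linear.AutPO.MinusOut

/-!
# The inner-diagonal automorphisms of `PΩ⁻`
-/

set_option autoImplicit false

namespace Cfsg.Lib.Linear.AutPO

open Module
open Cfsg.Lib.Linear.Orth
open Cfsg.Lib.Linear.Descent (sc sm sc_val sc_comm)
open scoped Matrix

set_option quotPrecheck false

universe u

section BaseChange

variable {ι : Type} [Fintype ι] [DecidableEq ι] {F : Type*} [Field F] {K : Type*} [Field K] (j : F →+* K)
  {Q : (ι → F) → F} {B : LinearMap.BilinForm F (ι → F)} (C : Space Q B)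
  {QK : (ι → K) → K} {BK : LinearMap.BilinForm K (ι → K)} (CK : Space QK BK)
  (hQ : ∀ v : ι → F, QK (j ∘ v) = j (Q v))

include C CK hQ

theorem polar_ext (u v : ι → F) : BK (j ∘ u) (j ∘ v) = j (B u v) := by
  rw [← C.polar, ← CK.polar, QuadraticMap.polar, QuadraticMap.polar, map_sub, map_sub, ← hQ, ← hQ, ← hQ,
    show j ∘ (u + v) = j ∘ u + j ∘ v from funext fun k => map_add j _ _]

/-- A similitude stays one after base change. -/
theorem sim_ext {A : GL ι F} {c : F} (hA : ∀ v, Q (A.val *ᵥ v) = c * Q v) (v : ι → K) :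
    QK ((Matrix.GeneralLinearGroup.map j A).val *ᵥ v) = j c * QK v := by
  classical
  set G := (Matrix.GeneralLinearGroup.map j A).val with hG
  have hB : BK.compl₁₂ G.mulVecLin G.mulVecLin = j c • BK :=
    LinearMap.ext_basis (Pi.basisFun K _) (Pi.basisFun K _) fun x y => by
      simp only [Pi.basisFun_apply, LinearMap.compl₁₂_apply, Matrix.mulVecLin_apply, LinearMap.smul_apply,
        smul_eq_mul, hG]
      rw [← comp_single j x, ← comp_single j y, map_vec, map_vec, polar_ext j C CK hQ, polar_ext j C CK hQ,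
        ← map_mul, ← C.polar, ← C.polar]
      refine congrArg j ?_
      simp only [QuadraticMap.polar, ← Matrix.mulVec_add, hA]
      ring
  have hb : ∀ x y, BK (G *ᵥ x) (G *ᵥ y) = j c * BK x y := fun x y => LinearMap.congr_fun₂ hB x y
  have key : ∀ s : Finset ι, QK (G *ᵥ ∑ i ∈ s, v i • (Pi.single i 1 : ι → K)) =
      j c * QK (∑ i ∈ s, v i • (Pi.single i 1 : ι → K)) := by
    intro s
    induction s using Finset.induction_on with
    | empty => simp [CK.zero]
    | insert k s hk ih =>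
      rw [Finset.sum_insert hk, Matrix.mulVec_add, CK.add, CK.add, ih, hb, Matrix.mulVec_smul, CK.smul, CK.smul,
        hG, ← comp_single j k, map_vec, hQ, hA, map_mul, ← hQ]
      ring
  rw [pi_eq_sum_univ' v]
  exact key Finset.univ

theorem rI_ext {v : ι → F} (hv : Q v ≠ 0) :
    Matrix.GeneralLinearGroup.map j (rI C v hv : GL ι F) =
      (rI CK (j ∘ v) (fun h => hv (j.injective (by rw [← hQ, h, map_zero]))) : GL ι K) := by
  refine Units.ext (Matrix.ext_of_mulVec_single fun k => ?_)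
  rw [← comp_single j k, map_vec, rI_val, rI_val, rGL_act C hv,
    rGL_act CK (fun h => hv (j.injective (by rw [← hQ, h, map_zero]))), polar_ext j C CK hQ, hQ]
  funext i
  simp [map_inv₀]

end BaseChange

variable {m : ℕ} {F : Type u} [Field F] [Fintype F] {a b : F}
  (hab : ∀ z₁ z₂ : F, z₁ ^ 2 + a * z₁ * z₂ + b * z₂ ^ 2 = 0 → z₁ = 0 ∧ z₂ = 0) (hm : 3 ≤ m)

local notation "ιm" => ((Fin m ⊕ Fin m) ⊕ Fin 2)
local notation "Qm" => Cfsg.quadFormMinus m F a b
local notation "GS" => ↥(Cfsg.Geo.quadSimilarityGroup (F := F) Qm)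
local notation "P" => Cfsg.POmega F Qm

include hab

/-- The action of a similitude on the two families over a quadratic extension, odd characteristic. -/
theorem preserves_ext_odd (h2 : (2 : F) ≠ 0) {A : GL ιm F} {c : F} (hc : c ≠ 0)
    (hA : ∀ v, Qm (A.val *ᵥ v) = c * Qm v) {K : Type u} [Field K] [Algebra F K] (hK : finrank F K = 2) :
    Cfsg.PreservesSingularClasses (Cfsg.quadFormMinus m K (algebraMap F K a) (algebraMap F K b))
      (A.val.map (algebraMap F K)) ↔ A.val.det = c ^ (m + 1) := by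
  classical
  haveI : Module.Finite F K := Module.finite_of_finrank_pos (by omega)
  haveI : Finite K := Module.finite_of_finite F
  letI := Fintype.ofFinite K
  set j := algebraMap F K with hj
  obtain ⟨B, C⟩ := exists_space_minus (F := F) m a b hab
  obtain ⟨BK, CK⟩ := exists_space_disc (m := m) (j a) (j b) (by
    rw [← map_ofNat j 4, ← map_pow, ← map_mul, ← map_sub, map_ne_zero]
    exact disc_ne hab)
  have hQ : ∀ v, Cfsg.quadFormMinus m K (j a) (j b) (j ∘ v) = j (Qm v) := fun v => quad_algebraMap hab v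
  have hK2 : (2 : K) ≠ 0 := by rw [← map_ofNat j 2, map_ne_zero]; exact h2
  have hcard : Fintype.card ιm = 2 * (m + 1) := by simp only [Fintype.card_sum, Fintype.card_fin]; omega
  obtain ⟨d, hd⟩ : IsSquare (j c) := by
    have hcK : ringChar K ≠ 2 := fun h => hK2 (by haveI := ringChar.of_eq h; exact CharTwo.two_eq_zero)
    refine (FiniteField.isSquare_iff hcK ((map_ne_zero j).2 hc)).2 ?_
    have hq : Fintype.card K = Fintype.card F ^ 2 := by
      have := Module.card_eq_pow_finrank (K := F) (V := K)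
      rwa [hK] at this
    obtain ⟨k, hk⟩ := Nat.odd_iff.2 (FiniteField.odd_card_of_char_ne_two (F := F) fun h => h2 (by
      haveI := ringChar.of_eq h; exact CharTwo.two_eq_zero))
    have h1 : Fintype.card K / 2 = (Fintype.card F - 1) * (k + 1) := by
      rw [hq, hk, Nat.add_sub_cancel, show (2 * k + 1) ^ 2 = 2 * (2 * k * (k + 1)) + 1 by ring]
      omega
    rw [h1, ← map_pow, pow_mul, FiniteField.pow_card_sub_one_eq_one c hc, one_pow, map_one]
  have hd0 : d ≠ 0 := fun h => (map_ne_zero j).2 hc (by rw [hd, h, mul_zero])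
  set G : GL ιm K := Matrix.GeneralLinearGroup.map j A with hG
  set g : ↥(isometryGroup K (Cfsg.quadFormMinus m K (j a) (j b))) :=
    ⟨sc (Units.mk0 d hd0)⁻¹ * G, mem_iso.2 fun v => by
      rw [mul_act, sc_act, CK.smul, sim_ext j C CK hQ hA, Units.val_inv_eq_inv_val, Units.val_mk0, hd]
      field_simp⟩ with hg
  obtain ⟨χ, hχ, hχdet⟩ := exists_det_sign CK hK2
  rw [show A.val.map j = G.val from rfl, preserves_iff CK (Or.inl (card_ne_two hK2)) χ hχ (exists_half hab hK) hd0
    (g := g) (fun x => by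
      show G.val *ᵥ x = d • ((sc (Units.mk0 d hd0)⁻¹ * G).val *ᵥ x)
      rw [mul_act, sc_act, Units.val_inv_eq_inv_val, Units.val_mk0, smul_inv_smul₀ hd0]), hχdet]
  show (sc (Units.mk0 d hd0)⁻¹ * G).val.det = 1 ↔ _
  rw [Units.val_mul, sc_val, Matrix.smul_mul, Matrix.one_mul, Matrix.det_smul, hcard, Units.val_inv_eq_inv_val,
    Units.val_mk0, inv_pow, pow_mul, sq, ← hd, inv_mul_eq_one₀ (pow_ne_zero _ ((map_ne_zero j).2 hc)),
    show G.val.det = j A.val.det from (RingHom.map_det j A.val).symm, ← map_pow, j.injective.eq_iff]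
  exact eq_comm

/-- In characteristic two: the Dickson invariant. -/
theorem preserves_ext_two (h2 : (2 : F) = 0) (s : ↥(isometryGroup F Qm)) {d : F} (hd : d ≠ 0) {A : GL ιm F}
    (hA : ∀ x, A.val *ᵥ x = d • ((s : GL ιm F).val *ᵥ x)) (hm : 3 ≤ m) {K : Type u} [Field K] [Algebra F K]
    (hK : finrank F K = 2) :
    Cfsg.PreservesSingularClasses (Cfsg.quadFormMinus m K (algebraMap F K a) (algebraMap F K b))
      (A.val.map (algebraMap F K)) ↔ s ∈ Cfsg.Omega F Qm := by
  classical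
  haveI : Module.Finite F K := Module.finite_of_finrank_pos (by omega)
  haveI : Finite K := Module.finite_of_finite F
  letI := Fintype.ofFinite K
  set j := algebraMap F K with hj
  obtain ⟨B, C⟩ := exists_space_minus (F := F) m a b hab
  obtain ⟨BK, CK⟩ := exists_space_disc (m := m) (j a) (j b) (by
    rw [← map_ofNat j 4, ← map_pow, ← map_mul, ← map_sub, map_ne_zero]
    exact disc_ne hab)
  have hQ : ∀ v, Cfsg.quadFormMinus m K (j a) (j b) (j ∘ v) = j (Qm v) := fun v => quad_algebraMap hab v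
  have hK2 : (2 : K) = 0 := by rw [← map_ofNat j 2, h2, map_zero]
  have hcard : Fintype.card ιm = 2 * (m + 1) := by simp only [Fintype.card_sum, Fintype.card_fin]; omega
  have hneK : Fintype.card K ≠ 2 ∨ Fintype.card ιm ≠ 4 := Or.inr (by omega)
  have hneF : Fintype.card F ≠ 2 ∨ Fintype.card ιm ≠ 4 := Or.inr (by omega)
  obtain ⟨χ, hχ, -⟩ := Cfsg.Lib.H3.omega_char_two CK hK2 (by omega) hneK
  obtain ⟨δ, hδ, hδΩ⟩ := Cfsg.Lib.H3.omega_char_two C h2 (by omega) hneF
  let e : ↥(isometryGroup F Qm) →* ↥(isometryGroup K (Cfsg.quadFormMinus m K (j a) (j b))) :=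
    ((Matrix.GeneralLinearGroup.map j).comp (isometryGroup F Qm).subtype).codRestrict _ fun g =>
      mem_iso.2 fun v => by
        show Cfsg.quadFormMinus m K (j a) (j b) ((Matrix.GeneralLinearGroup.map j (g : GL ιm F)).val *ᵥ v) = _
        rw [sim_ext j C CK hQ (c := 1) (fun v => by rw [one_mul]; exact mem_iso.1 g.2 v), map_one, one_mul]
  have key : χ (e s) = δ s := by
    refine refl_induction C hneF (fun g => χ (e g) = δ g) (by rw [map_one, map_one, map_one]) (fun v hv g hg => ?_) s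
    rw [map_mul, map_mul, map_mul, hg, hδ v hv,
      show e (rI C v hv) = rI CK (j ∘ v) _ from Subtype.ext (rI_ext j C CK hQ hv), hχ]
  rw [show A.val.map j = (Matrix.GeneralLinearGroup.map j A).val from rfl,
    preserves_iff CK hneK χ hχ (exists_half hab hK) ((map_ne_zero j).2 hd) (g := e s) (fun x => ?_), key]
  · exact (hδΩ s).symm
  · have hAs : A = sc (Units.mk0 d hd) * (s : GL ιm F) := gl_ext fun x => by
      rw [hA, mul_act, sc_act, Units.val_mk0]
    rw [hAs, map_mul, show Matrix.GeneralLinearGroup.map j (sc (Units.mk0 d hd) : GL ιm F) =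
      sc (Units.map j.toMonoidHom (Units.mk0 d hd)) from Units.ext (Matrix.ext fun x y => by
        simp [Matrix.diagonal_apply, apply_ite j]), mul_act, sc_act]
    rfl

theorem exists_quadratic_ext : ∃ (K : Type u) (_ : Field K) (_ : Algebra F K), finrank F K = 2 := by
  let h : Polynomial F := Polynomial.X ^ 2 + Polynomial.C a * Polynomial.X + Polynomial.C b
  have hdeg : h.natDegree = 2 := by unfold h; compute_degree!
  have hirr : Irreducible h := by
    rw [Polynomial.irreducible_iff_roots_eq_zero_of_degree_le_three (by omega) (by omega)]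
    refine Multiset.eq_zero_of_forall_notMem fun x hx => one_ne_zero (hab x 1 ?_).2
    have := (Polynomial.mem_roots'.1 hx).2
    simp only [h, Polynomial.IsRoot, Polynomial.eval_add, Polynomial.eval_pow, Polynomial.eval_X, Polynomial.eval_mul,
      Polynomial.eval_C] at this
    linear_combination this
  haveI := Fact.mk hirr
  refine ⟨AdjoinRoot h, inferInstance, inferInstance, ?_⟩
  rw [(AdjoinRoot.powerBasis hirr.ne_zero).finrank, AdjoinRoot.powerBasis_dim, hdeg]

include hm

variable (p : ℕ) [Fact p.Prime] [CharP F p]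

include p

/-- **The inner-diagonal group in odd characteristic.** -/
theorem mem_inndiag_odd (h2 : (2 : F) ≠ 0) {β : MulAut P} :
    β ∈ Cfsg.inndiagPOmegaMinus m F a b ↔ ∃ (A : GS) (c : F), (∀ v, Qm (A.1.val *ᵥ v) = c * Qm v) ∧
      A.1.val.det = c ^ (m + 1) ∧ innd A = β := by
  obtain ⟨B, C⟩ := exists_space_minus (F := F) m a b hab
  obtain ⟨v0, hv0⟩ := Cfsg.Lib.H3.exists_nonsing_vec C (by simp)
  have hc0 : ∀ (A : GS) (c : F), (∀ v, Qm (A.1.val *ᵥ v) = c * Qm v) → c ≠ 0 := fun A c hc h => by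
    obtain ⟨c', hc'⟩ := A.2
    have h1 := (hc v0).symm.trans (hc' v0)
    rw [h, zero_mul, eq_comm, mul_eq_zero] at h1
    exact h1.elim c'.ne_zero hv0
  let H : Subgroup GS :=
    { carrier := {A | ∃ c : F, (∀ v, Qm (A.1.val *ᵥ v) = c * Qm v) ∧ A.1.val.det = c ^ (m + 1)}
      one_mem' := ⟨1, fun v => by simp, by simp⟩
      mul_mem' := by
        rintro A A' ⟨c, hc, hd⟩ ⟨c', hc', hd'⟩
        exact ⟨c * c', fun v => by rw [Subgroup.coe_mul, mul_act, hc, hc', mul_assoc],
          by rw [Subgroup.coe_mul, Units.val_mul, Matrix.det_mul, hd, hd', mul_pow]⟩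
      inv_mem' := by
        rintro A ⟨c, hc, hd⟩
        refine ⟨c⁻¹, fun v => ?_, ?_⟩
        · have h := hc (((A⁻¹ : GS) : GL ιm F).val *ᵥ v)
          rw [← mul_act, Subgroup.coe_inv, mul_inv_cancel, Units.val_one, Matrix.one_mulVec] at h
          rw [Subgroup.coe_inv, h, inv_mul_cancel_left₀ (hc0 A c hc)]
        · rw [inv_pow, ← hd]
          exact eq_inv_of_mul_eq_one_left (by
            rw [← Matrix.det_mul, Subgroup.coe_inv, ← Units.val_mul, inv_mul_cancel, Units.val_one, Matrix.det_one]) }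
  have heq : Cfsg.inndiagPOmegaMinus m F a b = H.map (innd : GS →* MulAut P) := by
    refine le_antisymm ((Subgroup.closure_le _).2 ?_) ?_
    · rintro β ⟨g, hg, ⟨K, iK, iA, hK, hpres⟩, hβ⟩
      obtain ⟨c, hc⟩ := id hg
      exact ⟨⟨g, hg⟩, ⟨c, hc, (preserves_ext_odd hab h2 c.ne_zero hc hK).1 hpres⟩,
        (eq_semiAut (isSemi_sim ⟨g, hg⟩) hβ).symm⟩
    · rintro _ ⟨A, ⟨c, hc, hd⟩, rfl⟩
      obtain ⟨K, iK, iA, hK⟩ := exists_quadratic_ext hab
      exact Subgroup.subset_closure ⟨A.1, A.2,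
        ⟨K, iK, iA, hK, (preserves_ext_odd hab h2 (hc0 A c hc) hc hK).2 hd⟩, isInduced_innd A⟩
  rw [heq]
  exact ⟨fun ⟨A, ⟨c, hc, hd⟩, e⟩ => ⟨A, c, hc, hd, e⟩, fun ⟨A, c, hc, hd, e⟩ => ⟨A, ⟨c, hc, hd⟩, e⟩⟩

/-- **The inner-diagonal group in characteristic two.** -/
theorem inndiag_two (h2 : (2 : F) = 0) : Cfsg.inndiagPOmegaMinus m F a b = Cfsg.Inn P := by
  obtain ⟨B, C⟩ := exists_space_minus (F := F) m a b hab
  have h7 : 7 ≤ Fintype.card ιm := by simp only [Fintype.card_sum, Fintype.card_fin]; omega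
  have hconj : ∀ (s : ↥(Cfsg.Omega F Qm)), ∃ A : GS, A.1 = om Qm s ∧
      innd A = MulAut.conj (QuotientGroup.mk s : P) := conj_mk_eq C h7 p
  refine le_antisymm ((Subgroup.closure_le _).2 ?_) ?_
  · rintro β ⟨g, hg, ⟨K, iK, iA, hK, hpres⟩, hβ⟩
    obtain ⟨c, hc⟩ := id hg
    obtain ⟨d, hd⟩ : IsSquare (c : F) :=
      FiniteField.isSquare_of_char_two (ringChar.eq_iff.2 (CharTwo.of_one_ne_zero_of_two_eq_zero one_ne_zero h2)) _
    have hd0 : d ≠ 0 := fun h => c.ne_zero (by rw [hd, h, mul_zero])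
    let s : ↥(isometryGroup F Qm) := ⟨sc (Units.mk0 d hd0)⁻¹ * g, mem_iso.2 fun v => by
      rw [mul_act, sc_act, C.smul, hc, Units.val_inv_eq_inv_val, Units.val_mk0, hd]
      field_simp⟩
    have hs : s ∈ Cfsg.Omega F Qm := (preserves_ext_two hab h2 s hd0 (fun x => by
      show g.val *ᵥ x = d • ((sc (Units.mk0 d hd0)⁻¹ * g).val *ᵥ x)
      rw [mul_act, sc_act, Units.val_inv_eq_inv_val, Units.val_mk0, smul_inv_smul₀ hd0]) hm hK).1 hpres
    obtain ⟨A, hA, hA'⟩ := hconj ⟨s, hs⟩
    refine ⟨QuotientGroup.mk ⟨s, hs⟩, hA'.symm.trans ?_⟩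
    rw [eq_semiAut (isSemi_sim ⟨g, hg⟩) hβ, ← innd_eq, innd_eq_innd_sc C h7 p]
    exact ⟨(Units.mk0 d hd0)⁻¹, hA.trans rfl⟩
  · rintro _ ⟨x, rfl⟩
    obtain ⟨s, rfl⟩ := QuotientGroup.mk_surjective x
    obtain ⟨A, hA, hA'⟩ := hconj s
    obtain ⟨K, iK, iA, hK⟩ := exists_quadratic_ext hab
    refine Subgroup.subset_closure ⟨A.1, A.2, ⟨K, iK, iA, hK, ?_⟩, hA' ▸ isInduced_innd A⟩
    exact (preserves_ext_two hab h2 (s : ↥(isometryGroup F Qm)) one_ne_zero (fun x => by rw [one_smul, hA]; rfl) hm hK).2 s.2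

end Cfsg.Lib.Linear.AutPO
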