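import Cfsg.Agent.Lib.Linear.AutPO.MinusDescent
import Cfsg.Agent.Lib.Linear.AutPSL.FieldClass

/-!
# Field automorphisms of prime order of `PΩ⁻_{2m+2}(q)`

The elements of prime order in the coset of a field automorphism, its centraliser in the inner-diagonal group, and the
splitting of its class under the simple group.
-/

set_option autoImplicit false

namespace Cfsg.Lib.Linear.AutPO

open Module
open Cfsg.Lib.Linear.Orth
open Cfsg.Lib.Linear.Descent (sc sm tw sc_val sc_comm sm_sc sm_one sm_mul)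
open scoped Matrix

set_option quotPrecheck false

variable {m : ℕ} {F : Type*} [Field F] [Fintype F] {a b : F}

local notation "ιm" => ((Fin m ⊕ Fin m) ⊕ Fin 2)
local notation "Qm" => Cfsg.quadFormMinus m F a b
local notation "GS" => ↥(Cfsg.Geo.quadSimilarityGroup (F := F) Qm)
local notation "P" => Cfsg.POmega F Qm
local notation "D" => Cfsg.inndiagPOmegaMinus m F a b

omit [Fintype F] in
/-- The standard non-singular vector. -/
theorem minus_e0 (a b : F) : Cfsg.quadFormMinus m F a b (Pi.single (.inr 0) 1) = 1 := by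
  simp [Cfsg.quadFormMinus, Pi.single_apply]

section Diag

variable (hab : ∀ z₁ z₂ : F, z₁ ^ 2 + a * z₁ * z₂ + b * z₂ ^ 2 = 0 → z₁ = 0 ∧ z₂ = 0) (hm : 3 ≤ m)
  (p : ℕ) [Fact p.Prime] [CharP F p]

include hab hm p

theorem diag_or_refl {B : LinearMap.BilinForm F (((Fin m ⊕ Fin m) ⊕ Fin 2) → F)}
    (C : Space Qm B) (A : GS) {v : ιm → F} (hv : Qm v ≠ 0) :
    innd A ∈ D ∨ innd (A * isoSim (rI C v hv)) ∈ D := by
  have hcard : Fintype.card ιm = 2 * (m + 1) := by simp only [Fintype.card_sum, Fintype.card_fin]; omega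
  obtain ⟨c, hc⟩ := A.2
  by_cases h2 : (2 : F) = 0
  · obtain ⟨d, hd⟩ : IsSquare (c : F) := FiniteField.isSquare_of_char_two
      (ringChar.eq_iff.2 (CharTwo.of_one_ne_zero_of_two_eq_zero one_ne_zero h2)) _
    have hd0 : d ≠ 0 := fun h => c.ne_zero (by rw [hd, h, mul_zero])
    let s : ↥(isometryGroup F Qm) := ⟨sc (Units.mk0 d hd0)⁻¹ * A.1, mem_iso.2 fun x => by
      rw [mul_act, sc_act, C.smul, hc, Units.val_inv_eq_inv_val, Units.val_mk0, hd]
      field_simp⟩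
    have hAs : A.1 = sc (Units.mk0 d hd0) * (s : GL ιm F) := by
      show _ = sc _ * (sc _⁻¹ * A.1)
      rw [← mul_assoc, ← map_mul, mul_inv_cancel, map_one, one_mul]
    obtain ⟨δ, hδ, hδΩ⟩ := Cfsg.Lib.H3.omega_char_two C h2 (by omega) (Or.inr (by omega))
    rcases Int.units_eq_one_or (δ s) with h | h
    · exact Or.inl ((diag_iff_omega hab hm p h2 hAs).2 ((hδΩ s).2 h))
    · refine Or.inr ((diag_iff_omega hab hm p h2 (s := s * rI C v hv) (d := Units.mk0 d hd0) ?_).2 ((hδΩ _).2 (by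
        rw [map_mul, h, hδ v hv, neg_mul_neg, one_mul])))
      rw [Subgroup.coe_mul, Subgroup.coe_mul, ← mul_assoc, ← hAs]
      rfl
  · rcases det_eq_or C hcard hc with h | h
    · exact Or.inl ((diag_iff_det hab hm p h2 hc).2 h)
    · refine Or.inr ((diag_iff_det hab hm p h2 (c := (c : F)) fun x => ?_).2 ?_)
      · rw [Subgroup.coe_mul, mul_act, hc]
        exact congrArg _ (mem_iso.1 (rI C v hv).2 x)
      · rw [Subgroup.coe_mul, Units.val_mul, Matrix.det_mul, h]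
        show -(c : F) ^ (m + 1) * (rGL Qm v).val.det = _
        rw [rGL_det C hv]
        ring

theorem refl_not_diag {B : LinearMap.BilinForm F (((Fin m ⊕ Fin m) ⊕ Fin 2) → F)}
    (C : Space Qm B) {v : ιm → F} (hv : Qm v ≠ 0) : innd (isoSim (rI C v hv)) ∉ D := by
  have hcard : Fintype.card ιm = 2 * (m + 1) := by simp only [Fintype.card_sum, Fintype.card_fin]; omega
  intro h
  by_cases h2 : (2 : F) = 0
  · obtain ⟨δ, hδ, hδΩ⟩ := Cfsg.Lib.H3.omega_char_two C h2 (by omega) (Or.inr (by omega))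
    have h1 := (hδΩ _).1 ((diag_iff_omega hab hm p h2 (s := rI C v hv) (d := 1) (by rw [map_one, one_mul]; rfl)).1 h)
    rw [hδ v hv] at h1
    exact absurd h1 (by decide)
  · have h1 := (diag_iff_det hab hm p h2 (A := isoSim (rI C v hv)) (c := 1)
      fun x => by rw [one_mul]; exact mem_iso.1 (rI C v hv).2 x).1 h
    change (rGL Qm v).val.det = _ at h1
    rw [rGL_det C hv, one_pow] at h1
    exact h2 (by linear_combination -h1)

omit hab hm in
theorem inn_of_omega {B : LinearMap.BilinForm F (((Fin m ⊕ Fin m) ⊕ Fin 2) → F)} (C : Space Qm B) (hm : 3 ≤ m)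
    {s : ↥(isometryGroup F Qm)} (hs : s ∈ Cfsg.Omega F Qm) : innd (isoSim s) ∈ Cfsg.Inn P := by
  obtain ⟨A, hA, hA'⟩ := conj_mk_eq C (by simp only [Fintype.card_sum, Fintype.card_fin]; omega) p ⟨s, hs⟩
  exact ⟨_, hA'.symm.trans (congrArg innd (Subtype.ext hA))⟩

end Diag

section Frame

variable {a' b' : F} {M : GL ((Fin m ⊕ Fin m) ⊕ Fin 2) F}
  (hM : ∀ v, Cfsg.quadFormMinus m F a b (M.val *ᵥ v) = Cfsg.quadFormMinus m F a' b' v) {σ : F ≃+* F}
  (hfa : σ a' = a') (hfb : σ b' = b')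
  (hab : ∀ z₁ z₂ : F, z₁ ^ 2 + a * z₁ * z₂ + b * z₂ ^ 2 = 0 → z₁ = 0 ∧ z₂ = 0)
  (hab' : ∀ z₁ z₂ : F, z₁ ^ 2 + a' * z₁ * z₂ + b' * z₂ ^ 2 = 0 → z₁ = 0 ∧ z₂ = 0) (hm : 3 ≤ m)
  (p : ℕ) [Fact p.Prime] [CharP F p] {r : ℕ} (hr : r.Prime) (hσ : orderOf σ = r)

include hM hfa hfb hab hab' hm p hr hσ

set_option maxHeartbeats 1600000 in
/-- The elements of prime order in the coset are conjugate to the standard one. -/
theorem minus_coset (A : GS) (h : orderOf (innd A * frameAut hM hfa hfb) = r) :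
    Cfsg.IsConjUnder D (frameAut hM hfa hfb) (innd A * frameAut hM hfa hfb) := by
  obtain ⟨B, C⟩ := exists_space_minus (F := F) m a b hab
  obtain ⟨B', C'⟩ := exists_space_minus (F := F) m a' b' hab'
  have h7 : 7 ≤ Fintype.card ιm := by simp only [Fintype.card_sum, Fintype.card_fin]; omega
  haveI : Fact r.Prime := ⟨hr⟩
  set g := M * (sm σ M)⁻¹ with hg
  have hs := frame_semi hM hfa hfb
  obtain ⟨c, hc⟩ := A.2
  obtain ⟨k₁, hk₁⟩ := id hs
  have h' : Cfsg.IsSemisimilarityPair Qm (A.1 * g) σ := ⟨c * k₁, fun v => by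
    show Qm ((A.1 * g).val *ᵥ (σ ∘ v)) = _
    rw [mul_act, hc]
    refine (congrArg (fun t => (c : F) * t) (hk₁ v)).trans ?_
    rw [Units.val_mul, mul_assoc]⟩
  have e : innd A * frameAut hM hfa hfb = semiAut h' := by
    rw [innd_eq, frameAut, semiAut_mul]
    refine semiAut_congr _ h' ?_
    rw [sm_eq, show sm (RingEquiv.refl F) (M * (sm σ M)⁻¹) = M * (sm σ M)⁻¹ from sm_one _]
    rfl
  rw [e] at h
  obtain ⟨hk, hpow⟩ := semiAut_pow h' r
  have h1 : semiAut hk = 1 := by rw [← hpow, ← h, pow_orderOf_eq_one]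
  obtain ⟨c', hc'⟩ := eq_sc_iff.1 (semiAut_eq_one C h7 p hk h1).2
  obtain ⟨d, N, hN⟩ := Descent.exists_sc_mul hσ (A.1 * g) hc'
  have hfix : ∀ v, σ ∘ v = v → Qm (N.val *ᵥ v) = (((d⁻¹ : Fˣ) : F) ^ 2 * (c * k₁ : Fˣ)) * σ (Qm (N.val *ᵥ v)) := by
    intro v hv
    have hmv : (sm σ N).val *ᵥ v = σ ∘ (N.val *ᵥ v) := by
      conv_lhs => rw [← hv]
      rw [← sm_eq, map_act]
    have h1 : (A.1 * g).val *ᵥ (σ ∘ (N.val *ᵥ v)) = (d : F) • (N.val *ᵥ v) := by
      rw [hN, mul_act, sc_act, mul_act, ← hmv, inv_act]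
    have h2 : Qm ((A.1 * g).val *ᵥ (σ ∘ (N.val *ᵥ v))) = (c * k₁ : Fˣ) * σ (Qm (N.val *ᵥ v)) := by
      rw [mul_act, hc]
      refine (congrArg (fun t => (c : F) * t) (hk₁ (N.val *ᵥ v))).trans ?_
      rw [Units.val_mul, mul_assoc]
    rw [h1, C.smul] at h2
    rw [mul_assoc, ← h2, ← mul_assoc, ← mul_pow, Units.inv_mul, one_pow, one_mul]
  obtain ⟨W, c₀, hW, hq⟩ := exists_descent hab hab' hfa hfb N _ hfix
  have hGm : ∀ v, Qm ((N * W * M⁻¹).val *ᵥ v) = (c₀ : F) * Qm v := fun v => by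
    rw [mul_act, hq, ← hM, act_inv]
  let H₀ : GS := ⟨N * W * M⁻¹, c₀, hGm⟩
  have he : Cfsg.quadFormMinus m F a' b' (Pi.single (.inr 0) 1) ≠ 0 := by rw [minus_e0]; exact one_ne_zero
  have hRfix : sm σ (rI C' _ he : GL ιm F) = (rI C' _ he : GL ιm F) := by
    have h1 := rI_ext σ.toRingHom C' C' (fun v => by
      have := minus_map (m := m) σ.toRingHom a' b' v
      rwa [show σ.toRingHom a' = a' from hfa, show σ.toRingHom b' = b' from hfb] at this) he
    refine (Eq.trans (Units.ext rfl) h1).trans ?_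
    rw [rI_val, rI_val, comp_single]
  set R := rI C (M.val *ᵥ Pi.single (.inr 0) 1) (by rwa [hM]) with hR
  have hRM : (R : GL ιm F) = M * (rI C' _ he : GL ιm F) * M⁻¹ := (conj_rI C' C hM he).symm
  obtain ⟨H, W', hW', hH, hHD⟩ : ∃ (H : GS) (W' : GL ιm F), sm σ W' = W' ∧ H.1 = N * W' * M⁻¹ ∧ innd H ∈ D := by
    rcases diag_or_refl hab hm p C H₀ (v := M.val *ᵥ Pi.single (.inr 0) 1) (by rwa [hM]) with h | h
    · exact ⟨H₀, W, hW, rfl, h⟩
    · refine ⟨_, W * (rI C' _ he : GL ιm F), by rw [map_mul, hW, hRfix], ?_, h⟩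
      show N * W * M⁻¹ * (R : GL ιm F) = _
      rw [hRM]
      group
  refine ⟨innd H, hHD, ?_⟩
  obtain ⟨A', hA', hconj⟩ := semiAut_conj hs H⁻¹
  rw [← map_inv, mul_assoc, show frameAut hM hfa hfb * innd H⁻¹ = innd A' * frameAut hM hfa hfb from
    mul_inv_eq_iff_eq_mul.1 hconj, ← mul_assoc, ← map_mul]
  refine congrArg (· * frameAut hM hfa hfb) ((innd_eq_innd_sc C h7 p).2 ⟨d, ?_⟩)
  rw [Subgroup.coe_mul, hA', Subgroup.coe_inv, hH, map_inv, map_mul, map_mul, map_inv, hW']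
  rw [eq_mul_inv_iff_mul_eq.2 hN, hg]
  group

omit hab' hr hσ in
theorem commute_frame_iff (A : GS) :
    innd A * frameAut hM hfa hfb = frameAut hM hfa hfb * innd A ↔
      ∃ c : Fˣ, sm σ (M⁻¹ * A.1 * M) = sc c * (M⁻¹ * A.1 * M) := by
  obtain ⟨B, C⟩ := exists_space_minus (F := F) m a b hab
  have h7 : 7 ≤ Fintype.card ιm := by simp only [Fintype.card_sum, Fintype.card_fin]; omega
  obtain ⟨A', hA', hconj⟩ := semiAut_conj (frame_semi hM hfa hfb) A
  change frameAut hM hfa hfb * innd A * (frameAut hM hfa hfb)⁻¹ = _ at hconj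
  rw [mul_inv_eq_iff_eq_mul] at hconj
  rw [hconj, mul_left_inj, eq_comm, innd_eq_innd_sc C h7 p]
  have e : A'.1 = M * sm σ (M⁻¹ * A.1 * M) * M⁻¹ := by
    rw [hA', map_mul, map_mul, map_inv]
    group
  refine exists_congr fun c => ?_
  rw [e, show sc c * A.1 = M * (sc c * (M⁻¹ * A.1 * M)) * M⁻¹ by
    rw [← mul_assoc (M) (sc c), ← sc_comm c M]; group, mul_left_inj, mul_right_inj]

variable {F₀ : Type*} [Field F₀] [Fintype F₀] (i : F₀ →+* F) (hi : ∀ x, σ x = x ↔ ∃ y, i y = x)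
  {a₀ b₀ : F₀} (ha₀ : i a₀ = a') (hb₀ : i b₀ = b')

local notation "Q₀" => Cfsg.quadFormMinus m F₀ a₀ b₀
local notation "GS₀" => ↥(Cfsg.Geo.quadSimilarityGroup (F := F₀) Q₀)
local notation "D₀" => Cfsg.inndiagPOmegaMinus m F₀ a₀ b₀

omit [Fintype F] [Fintype F₀] hM hfa hfb hab hm p [Fact p.Prime] [CharP F p] hr hσ in
include ha₀ hb₀ in
theorem aniso_sub : ∀ z₁ z₂ : F₀, z₁ ^ 2 + a₀ * z₁ * z₂ + b₀ * z₂ ^ 2 = 0 → z₁ = 0 ∧ z₂ = 0 := fun z₁ z₂ h => by
  obtain ⟨h1, h2⟩ := hab' (i z₁) (i z₂) (by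
    have := congrArg i h
    simpa [ha₀, hb₀] using this)
  exact ⟨i.injective (h1.trans (map_zero i).symm), i.injective (h2.trans (map_zero i).symm)⟩

include hi ha₀ hb₀

omit hi hr hσ hfa hfb hab p [Fact p.Prime] [CharP F p] hm in
/-- The rational similitudes inside the given ones. -/
theorem exists_emb : ∃ Φ : GS₀ →* GS, (∀ g, (Φ g).1 = M * Matrix.GeneralLinearGroup.map i g.1 * M⁻¹) ∧
    ∀ (g : GS₀) (c : F₀), (∀ v, Q₀ (g.1.val *ᵥ v) = c * Q₀ v) → ∀ v, Qm ((Φ g).1.val *ᵥ v) = i c * Qm v := by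
  obtain ⟨B', C'⟩ := exists_space_minus (F := F) m a' b' hab'
  obtain ⟨B₀, C₀⟩ := exists_space_minus (F := F₀) m a₀ b₀ (aniso_sub hab' i ha₀ hb₀)
  have hQ : ∀ v : ιm → F₀, Cfsg.quadFormMinus m F a' b' (i ∘ v) = i (Q₀ v) := fun v => by
    rw [← ha₀, ← hb₀, minus_map]
  have key : ∀ (g : GL ιm F₀) (c : F₀), (∀ v, Q₀ (g.val *ᵥ v) = c * Q₀ v) →
      ∀ v, Qm ((M * Matrix.GeneralLinearGroup.map i g * M⁻¹).val *ᵥ v) = i c * Qm v := fun g c hc v => by
    rw [mul_act, mul_act, hM, sim_ext i C₀ C' hQ hc, ← hM, act_inv]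
  refine ⟨MonoidHom.mk' (fun g => ⟨M * Matrix.GeneralLinearGroup.map i g.1 * M⁻¹,
    Units.map i.toMonoidHom g.2.choose, fun v => key g.1 _ g.2.choose_spec v⟩) fun g g' => Subtype.ext ?_,
    fun g => rfl, fun g c hc v => key g.1 c hc v⟩
  show M * Matrix.GeneralLinearGroup.map i (g.1 * g'.1) * M⁻¹ = _
  rw [map_mul]
  simp [mul_assoc]

variable {Φ : ↥(Cfsg.Geo.quadSimilarityGroup (F := F₀) (Cfsg.quadFormMinus m F₀ a₀ b₀)) →*
    ↥(Cfsg.Geo.quadSimilarityGroup (F := F) (Cfsg.quadFormMinus m F a b))}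
  (hΦ : ∀ g, (Φ g).1 = M * Matrix.GeneralLinearGroup.map i g.1 * M⁻¹)

include hΦ

omit hi hr hσ hfa hfb hab hm p [Fact p.Prime] [CharP F p] in
theorem emb_rI {B₀ : LinearMap.BilinForm F₀ (((Fin m ⊕ Fin m) ⊕ Fin 2) → F₀)} (C₀ : Space Q₀ B₀)
    {B : LinearMap.BilinForm F (((Fin m ⊕ Fin m) ⊕ Fin 2) → F)} (C : Space Qm B) {v : ιm → F₀} (hv : Q₀ v ≠ 0) :
    ∃ (w : ιm → F) (hw : Qm w ≠ 0), Qm w = i (Q₀ v) ∧ Φ (isoSim (rI C₀ v hv)) = isoSim (rI C w hw) := by
  obtain ⟨B', C'⟩ := exists_space_minus (F := F) m a' b' hab'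
  have hQ : ∀ v : ιm → F₀, Cfsg.quadFormMinus m F a' b' (i ∘ v) = i (Q₀ v) := fun v => by
    rw [← ha₀, ← hb₀, minus_map]
  have hw : Qm (M.val *ᵥ (i ∘ v)) = i (Q₀ v) := by rw [hM, hQ]
  refine ⟨_, by rw [hw]; exact fun h => hv (i.injective (h.trans (map_zero i).symm)), hw, Subtype.ext ?_⟩
  rw [hΦ]
  show M * Matrix.GeneralLinearGroup.map i (rI C₀ v hv : GL ιm F₀) * M⁻¹ = _
  rw [rI_ext i C₀ C' hQ hv, conj_rI C' C hM]
  rfl

omit hi hr hσ hfa hfb in
set_option maxHeartbeats 800000 in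
theorem emb_diag (g : GS₀) : innd (Φ g) ∈ D ↔ innd g ∈ D₀ := by
  obtain ⟨B, C⟩ := exists_space_minus (F := F) m a b hab
  obtain ⟨B', C'⟩ := exists_space_minus (F := F) m a' b' hab'
  have hab₀ := aniso_sub hab' i ha₀ hb₀
  obtain ⟨B₀, C₀⟩ := exists_space_minus (F := F₀) m a₀ b₀ hab₀
  haveI : CharP F₀ p := RingHom.charP i i.injective p
  have h7 : 7 ≤ Fintype.card ιm := by simp only [Fintype.card_sum, Fintype.card_fin]; omega
  have hQ : ∀ v : ιm → F₀, Cfsg.quadFormMinus m F a' b' (i ∘ v) = i (Q₀ v) := fun v => by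
    rw [← ha₀, ← hb₀, minus_map]
  have fwd : ∀ g : GS₀, innd g ∈ D₀ → innd (Φ g) ∈ D := by
    intro g hg
    by_cases h2 : (2 : F) = 0
    · have h20 : (2 : F₀) = 0 := i.injective (by rw [map_ofNat, map_zero, h2])
      rw [inndiag_two hab₀ hm p h20] at hg
      obtain ⟨x, hx⟩ := hg
      obtain ⟨t, rfl⟩ := QuotientGroup.mk_surjective x
      obtain ⟨A, hA, hA'⟩ := conj_mk_eq C₀ h7 p t
      obtain ⟨d, hd⟩ := (innd_eq_innd_sc C₀ h7 p).1 (hx.symm.trans hA'.symm)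
      let e : ↥(isometryGroup F₀ Q₀) →* ↥(isometryGroup F Qm) :=
        MonoidHom.mk' (fun s => ⟨(Φ (isoSim s)).1, mem_iso.2 fun v => by
          rw [hΦ, mul_act, mul_act, hM]
          show Cfsg.quadFormMinus m F a' b' ((Matrix.GeneralLinearGroup.map i (s : GL ιm F₀)).val *ᵥ _) = _
          rw [sim_ext i C₀ C' hQ (c := 1) (fun v => by rw [one_mul]; exact mem_iso.1 s.2 v), map_one, one_mul, ← hM,
            act_inv]⟩) fun s t => Subtype.ext (by
            show (Φ (isoSim (s * t))).1 = (Φ (isoSim s) * Φ (isoSim t)).1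
            rw [map_mul, map_mul])
      have hΩ : e (t : ↥(isometryGroup F₀ Q₀)) ∈ Cfsg.Omega F Qm := by
        have : (commutator ↥(isometryGroup F₀ Q₀)).map e ≤ commutator ↥(isometryGroup F Qm) := by
          rw [_root_.commutator_def, Subgroup.map_commutator]
          exact Subgroup.commutator_mono le_top le_top
        exact this ⟨_, t.2, rfl⟩
      refine (diag_iff_omega hab hm p h2 (d := Units.map i.toMonoidHom d) ?_).2 hΩ
      show (Φ g).1 = _ * (Φ (isoSim (t : ↥(isometryGroup F₀ Q₀)))).1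
      rw [hΦ, hΦ, hd, hA, map_mul, show Matrix.GeneralLinearGroup.map i (sc d : GL ιm F₀) =
        sc (Units.map i.toMonoidHom d) from Units.ext (Matrix.ext fun x y => by
          simp [Matrix.diagonal_apply, apply_ite i]), ← mul_assoc M, ← sc_comm _ M]
      simp only [mul_assoc]
      rfl
    · have h20 : (2 : F₀) ≠ 0 := fun h => h2 (by rw [← map_ofNat i 2, h, map_zero])
      obtain ⟨c, hc⟩ := g.2
      have hd := (diag_iff_det hab₀ hm p h20 hc).1 hg
      refine (diag_iff_det hab hm p h2 (c := i c) fun v => ?_).2 ?_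
      · rw [hΦ, mul_act, mul_act, hM, sim_ext i C₀ C' hQ hc, ← hM, act_inv]
      · have e' : Matrix.GeneralLinearGroup.det (Φ g).1 =
            Matrix.GeneralLinearGroup.det (Matrix.GeneralLinearGroup.map i g.1) := by
          rw [hΦ]; simp
        refine (congrArg Units.val e').trans ?_
        rw [← map_pow, ← hd]
        exact (RingHom.map_det i g.1.val).symm
  refine ⟨fun h => ?_, fwd g⟩
  have he : Q₀ (Pi.single (.inr 0) 1) ≠ 0 := by rw [minus_e0]; exact one_ne_zero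
  rcases diag_or_refl hab₀ hm p C₀ g he with h' | h'
  · exact h'
  · exfalso
    obtain ⟨w, hw, -, e⟩ := emb_rI hM hab' i ha₀ hb₀ hΦ C₀ C he
    have h1 := fwd _ h'
    rw [map_mul, map_mul, e, Subgroup.mul_mem_cancel_left _ h] at h1
    exact refl_not_diag hab hm p C hw h1

omit hr hσ hab' in
theorem emb_comm (g : GS₀) : innd (Φ g) * frameAut hM hfa hfb = frameAut hM hfa hfb * innd (Φ g) := by
  refine (commute_frame_iff hM hfa hfb hab hm p _).2 ⟨1, ?_⟩
  rw [hΦ, map_one, one_mul, show M⁻¹ * (M * Matrix.GeneralLinearGroup.map i g.1 * M⁻¹) * M =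
    Matrix.GeneralLinearGroup.map i g.1 by group]
  exact Units.ext (Matrix.ext fun x y => (hi _).2 ⟨_, rfl⟩)

omit hfb hfa in
theorem emb_surj {A : GS} {c : Fˣ} (hc : sm σ (M⁻¹ * A.1 * M) = sc c * (M⁻¹ * A.1 * M)) :
    ∃ (d : Fˣ) (g : GS₀), A.1 = sc d * (Φ g).1 := by
  obtain ⟨B', C'⟩ := exists_space_minus (F := F) m a' b' hab'
  haveI : Fact r.Prime := ⟨hr⟩
  obtain ⟨d, G, hG, hAG⟩ := Descent.exists_fixed hσ (M⁻¹ * A.1 * M) hc
  have h : ∀ x y, ∃ z, i z = G.val x y := fun x y =>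
    (hi _).1 (congrFun (congrFun (congrArg (fun u : GL ιm F => u.val) hG) x) y)
  choose N hN using h
  have hdet : IsUnit (Matrix.of N).det := by
    rw [isUnit_iff_ne_zero]
    intro h0
    have h1 := congrArg i h0
    rw [map_zero, RingHom.map_det, show i.mapMatrix (Matrix.of N) = G.val from Matrix.ext hN] at h1
    exact (Matrix.GeneralLinearGroup.det G).ne_zero h1
  have hg : Matrix.GeneralLinearGroup.map i (Matrix.GeneralLinearGroup.mk'' _ hdet) = G :=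
    Units.ext (Matrix.ext hN)
  obtain ⟨μ, hμ⟩ := A.2
  have key : ∀ v : ιm → F₀, i (Q₀ ((Matrix.of N) *ᵥ v)) = ((d⁻¹ : Fˣ) : F) ^ 2 * (μ * i (Q₀ v)) := fun v => by
    have hG' : G = sc d⁻¹ * (M⁻¹ * A.1 * M) := by rw [hAG, ← mul_assoc, ← map_mul, inv_mul_cancel, map_one, one_mul]
    rw [← minus_map i, ← minus_map i, ha₀, hb₀, show i ∘ ((Matrix.of N) *ᵥ v) = G.val *ᵥ (i ∘ v) by
        rw [← hg, map_vec]; rfl, hG', mul_act, sc_act, C'.smul, mul_act, mul_act, ← hM (M⁻¹.val *ᵥ _), act_inv, hμ,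
      hM]
  set c₀ := Q₀ ((Matrix.of N) *ᵥ Pi.single (.inr 0) 1) with hc₀
  have hic : i c₀ = ((d⁻¹ : Fˣ) : F) ^ 2 * μ := by rw [hc₀, key, minus_e0, map_one, mul_one]
  have hc0 : c₀ ≠ 0 := fun h0 => by rw [h0, map_zero] at hic; simp at hic
  refine ⟨d, ⟨Matrix.GeneralLinearGroup.mk'' _ hdet, Units.mk0 c₀ hc0, fun v => i.injective ?_⟩, ?_⟩
  · refine (key v).trans ?_
    rw [map_mul, Units.val_mk0, hic, mul_assoc]
  · rw [hΦ, hg, show A.1 = M * (M⁻¹ * A.1 * M) * M⁻¹ by group, hAG, ← mul_assoc M, ← sc_comm d M]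
    group

omit hΦ

set_option maxHeartbeats 1600000 in
/-- The centraliser of the standard element in the inner-diagonal group. -/
theorem minus_centralizer :
    Nonempty (↥(D ⊓ Subgroup.centralizer {frameAut hM hfa hfb}) ≃* ↥D₀) := by
  obtain ⟨B, C⟩ := exists_space_minus (F := F) m a b hab
  have hab₀ := aniso_sub hab' i ha₀ hb₀
  obtain ⟨B₀, C₀⟩ := exists_space_minus (F := F₀) m a₀ b₀ hab₀
  haveI : CharP F₀ p := RingHom.charP i i.injective p
  have h7 : 7 ≤ Fintype.card ιm := by simp only [Fintype.card_sum, Fintype.card_fin]; omega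
  obtain ⟨Φ, hΦ, -⟩ := exists_emb hM hab' i ha₀ hb₀
  let H : Subgroup GS₀ := (D₀).comap (innd : GS₀ →* MulAut (Cfsg.POmega F₀ Q₀))
  let φ : ↥H →* ↥(D ⊓ Subgroup.centralizer {frameAut hM hfa hfb}) :=
    (((innd : GS →* MulAut P).comp Φ).comp H.subtype).codRestrict _ fun g =>
      Subgroup.mem_inf.2 ⟨(emb_diag hM hab hab' hm p i ha₀ hb₀ hΦ g.1).2 g.2,
        Subgroup.mem_centralizer_singleton_iff.2 (emb_comm hM hfa hfb hab hm p i hi ha₀ hb₀ hΦ g.1)⟩
  have hφ : Function.Surjective φ := by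
    rintro ⟨β, hβ, hc⟩
    obtain ⟨A, rfl⟩ := inndiag_le_range hab hm p hβ
    obtain ⟨c, hc'⟩ := (commute_frame_iff hM hfa hfb hab hm p A).1 (Subgroup.mem_centralizer_singleton_iff.1 hc)
    obtain ⟨d, g, hg⟩ := emb_surj hM hab hab' hm p hr hσ i hi ha₀ hb₀ hΦ hc'
    have e : innd (Φ g) = innd A := ((innd_eq_innd_sc C h7 p).2 ⟨d, hg⟩).symm
    exact ⟨⟨g, (emb_diag hM hab hab' hm p i ha₀ hb₀ hΦ g).1 (e ▸ hβ)⟩, Subtype.ext e⟩
  let ψ : ↥H →* ↥D₀ := ((innd : GS₀ →* MulAut (Cfsg.POmega F₀ Q₀)).comp H.subtype).codRestrict _ fun g => g.2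
  have hψ : Function.Surjective ψ := by
    rintro ⟨β, hβ⟩
    obtain ⟨g, rfl⟩ := inndiag_le_range hab₀ hm p hβ
    exact ⟨⟨g, hβ⟩, rfl⟩
  have hker : φ.ker = ψ.ker := by
    ext g
    rw [MonoidHom.mem_ker, MonoidHom.mem_ker, Subtype.ext_iff, Subtype.ext_iff]
    show innd (Φ g.1) = 1 ↔ innd g.1 = 1
    rw [innd_eq_sc C h7 p, innd_eq_sc C₀ h7 p, hΦ]
    constructor
    · rintro ⟨c, hc⟩
      have hc' : Matrix.GeneralLinearGroup.map i g.1.1 = sc c := by
        rw [show Matrix.GeneralLinearGroup.map i g.1.1 =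
          M⁻¹ * (M * Matrix.GeneralLinearGroup.map i g.1.1 * M⁻¹) * M by group, hc, ← sc_comm c M⁻¹]
        group
      have h1 : ∀ x y, i (g.1.1.val x y) = (c : F) * if x = y then 1 else 0 := fun x y => by
        refine (congrArg (fun u : GL ιm F => u.val x y) hc').trans ?_
        rw [sc_val]
        simp [Matrix.one_apply]
      have hne : g.1.1.val (.inr 0) (.inr 0) ≠ 0 := fun h0 => c.ne_zero (by
        simpa [h0] using (h1 (.inr 0) (.inr 0)).symm)
      refine ⟨Units.mk0 _ hne, Units.ext (Matrix.ext fun x y => i.injective ?_)⟩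
      rw [h1 x y, sc_val]
      simp [Matrix.one_apply, apply_ite i, h1 (.inr 0) (.inr 0)]
    · rintro ⟨c, hc⟩
      refine ⟨Units.map i.toMonoidHom c, ?_⟩
      rw [hc, show Matrix.GeneralLinearGroup.map i (sc c : GL ιm F₀) = sc (Units.map i.toMonoidHom c) from
        Units.ext (Matrix.ext fun x y => by simp [Matrix.diagonal_apply, apply_ite i]), ← sc_comm _ M]
      group
  exact ⟨((QuotientGroup.quotientKerEquivOfSurjective φ hφ).symm.trans
    ((QuotientGroup.quotientMulEquivOfEq hker).trans (QuotientGroup.quotientKerEquivOfSurjective ψ hψ)))⟩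

set_option maxHeartbeats 1600000 in
/-- The class of the standard element does not split under the simple group. -/
theorem minus_split : Cfsg.splitClassCount D (Cfsg.Inn P) (frameAut hM hfa hfb) = 1 := by
  classical
  obtain ⟨B, C⟩ := exists_space_minus (F := F) m a b hab
  have hab₀ := aniso_sub hab' i ha₀ hb₀
  obtain ⟨B₀, C₀⟩ := exists_space_minus (F := F₀) m a₀ b₀ hab₀
  haveI : CharP F₀ p := RingHom.charP i i.injective p
  have hcard : Fintype.card ιm = 2 * (m + 1) := by simp only [Fintype.card_sum, Fintype.card_fin]; omega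
  have h7 : 7 ≤ Fintype.card ιm := by omega
  obtain ⟨Φ, hΦ, hΦq⟩ := exists_emb hM hab' i ha₀ hb₀
  let H : Subgroup GS := (D).comap (innd : GS →* MulAut P)
  let e : ↥H →* MulAut P := (innd : GS →* MulAut P).comp H.subtype
  have hrange : e.range = D := by
    refine le_antisymm ?_ fun β hβ => ?_
    · rintro _ ⟨g, rfl⟩
      exact g.2
    · obtain ⟨A, rfl⟩ := inndiag_le_range hab hm p hβ
      exact ⟨⟨A, hβ⟩, rfl⟩
  have hle : Cfsg.Inn P ≤ e.range := by
    rintro _ ⟨x, rfl⟩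
    obtain ⟨t, rfl⟩ := QuotientGroup.mk_surjective x
    obtain ⟨A, hA, hA'⟩ := conj_mk_eq C h7 p t
    refine ⟨⟨A, ?_⟩, hA'⟩
    show innd A ∈ D
    by_cases h2 : (2 : F) = 0
    · exact (diag_iff_omega hab hm p h2 (s := (t : ↥(isometryGroup F Qm))) (d := 1)
        (by rw [hA, map_one, one_mul]; rfl)).2 t.2
    · refine (diag_iff_det hab hm p h2 (c := 1) fun v => by rw [one_mul, hA]; exact mem_iso.1 (om_mem t) v).2 ?_
      rw [one_pow, hA]
      exact congrArg Units.val (congrArg Prod.fst (Abelianization.commutator_subset_ker (detSpin Qm) t.2))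
  rw [← hrange, AutPSL.splitClassCount_eq e (Cfsg.Inn P) hle (frameAut hM hfa hfb) (1 : ↥H →* PUnit.{1})
    (fun _ => ⟨1, rfl⟩) (fun g => iff_of_true rfl ?_), Nat.card_unique]
  obtain ⟨A, hAD⟩ := g
  show ∃ k ∈ Cfsg.Inn P, ∃ c : ↥H, e c * _ = _ * e c ∧ innd A = k * e c
  change innd A ∈ D at hAD
  by_cases h2 : (2 : F) = 0
  · rw [inndiag_two hab hm p h2] at hAD
    exact ⟨innd A, hAD, 1, by simp, by simp⟩
  -- a rational element carries the class of `A`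
  suffices hs : ∃ g₀ : GS₀, innd g₀ ∈ D₀ ∧ innd A * (innd (Φ g₀))⁻¹ ∈ Cfsg.Inn P by
    obtain ⟨g₀, hg₀, hk⟩ := hs
    refine ⟨_, hk, ⟨Φ g₀, (emb_diag hM hab hab' hm p i ha₀ hb₀ hΦ g₀).2 hg₀⟩,
      emb_comm hM hfa hfb hab hm p i hi ha₀ hb₀ hΦ g₀, ?_⟩
    show innd A = innd A * (innd (Φ g₀))⁻¹ * innd (Φ g₀)
    group
  have h20 : (2 : F₀) ≠ 0 := fun h => h2 (by rw [← map_ofNat i 2, h, map_zero])
  have hodd := odd_of_fixed hab' hfa hfb hr hσ
  obtain ⟨α, hα⟩ := FiniteField.exists_nonsquare (F := F₀) (fun hc => h20 (by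
    haveI := ringChar.of_eq hc; exact CharTwo.two_eq_zero))
  have hα0 : α ≠ 0 := fun h => hα (h ▸ ⟨0, (mul_zero 0).symm⟩)
  have hiα : ¬ IsSquare (i α) := by
    rintro ⟨y, hy⟩
    obtain ⟨z, hz⟩ := (hi _).1 (isSquare_fixed h2 hσ hodd (y := y) (by rw [← hy]; exact (hi _).2 ⟨α, rfl⟩))
    exact hα ⟨z, i.injective (by rw [map_mul, hz, hy])⟩
  -- square multipliers
  have sq_case : ∀ (X : GS) (d : Fˣ), innd X ∈ D → (∀ v, Qm (X.1.val *ᵥ v) = (d : F) ^ 2 * Qm v) →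
      ∃ g₀ : GS₀, innd g₀ ∈ D₀ ∧ innd X * (innd (Φ g₀))⁻¹ ∈ Cfsg.Inn P := by
    intro X d hX hd
    obtain ⟨s, hsdet, hs⟩ := mem_soImage.1 (innd_mem_soImage C h7 p hcard hd
      ((diag_iff_det hab hm p h2 hd).1 hX))
    have toΩ : ∀ u : ↥(isometryGroup F Qm), (u : GL ιm F).val.det = 1 → spin Qm u = 1 → innd (isoSim u) ∈ Cfsg.Inn P :=
      fun u hu hspin => inn_of_omega p C hm (by
        show u ∈ commutator _
        rw [(omega_odd C h2 (by omega)).1, MonoidHom.mem_ker]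
        exact Prod.ext (Units.ext hu) hspin)
    rcases Int.units_eq_one_or (spin Qm s) with h | h
    · exact ⟨1, by rw [map_one]; exact one_mem _, by
        rw [map_one, map_one, inv_one, mul_one, ← hs]; exact toΩ s hsdet h⟩
    obtain ⟨v0, hv0⟩ := exists_value C₀ h20 (by omega) one_ne_zero
    obtain ⟨v1, hv1⟩ := exists_value C₀ h20 (by omega) hα0
    have n0 : Q₀ v0 ≠ 0 := by rw [hv0]; exact one_ne_zero
    have n1 : Q₀ v1 ≠ 0 := by rw [hv1]; exact hα0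
    obtain ⟨w0, hw0, q0, e0⟩ := emb_rI hM hab' i ha₀ hb₀ hΦ C₀ C n0
    obtain ⟨w1, hw1, q1, e1⟩ := emb_rI hM hab' i ha₀ hb₀ hΦ C₀ C n1
    refine ⟨isoSim (rI C₀ v0 n0 * rI C₀ v1 n1), ?_, ?_⟩
    · refine (diag_iff_det hab₀ hm p h20 (c := 1) fun v => by rw [one_mul]; exact mem_iso.1 (rI C₀ v0 n0 * rI C₀ v1 n1).2 v).2 ?_
      show ((rI C₀ v0 n0 * rI C₀ v1 n1 : ↥(isometryGroup F₀ Q₀)) : GL ιm F₀).val.det = _
      rw [Subgroup.coe_mul, Units.val_mul, Matrix.det_mul, rI_val, rI_val, rGL_det C₀ n0, rGL_det C₀ n1, one_pow]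
      ring
    · rw [← hs, map_mul isoSim, map_mul Φ, e0, e1, ← map_mul isoSim, ← map_inv, ← map_inv, ← map_mul, ← map_mul]
      refine toΩ _ ?_ ?_
      · have e' : Matrix.GeneralLinearGroup.det ((s * (rI C w0 hw0 * rI C w1 hw1)⁻¹ : ↥(isometryGroup F Qm)) : GL ιm F) =
            1 := by
          rw [Subgroup.coe_mul, Subgroup.coe_inv, map_mul, map_inv, Subgroup.coe_mul, map_mul, det_rI C hw0, det_rI C hw1,
            show Matrix.GeneralLinearGroup.det (s : GL ιm F) = 1 from Units.ext hsdet]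
          simp
        exact congrArg Units.val e'
      · rw [map_mul, map_inv, map_mul, h, spin_rI C h2, spin_rI C h2, q0, q1, hv0, hv1, map_one,
          if_pos IsSquare.one, if_neg hiα]
        rfl
  obtain ⟨c, hc⟩ := A.2
  by_cases hsq : IsSquare (c : F)
  · obtain ⟨d, hd⟩ := hsq
    have hd0 : d ≠ 0 := fun h => c.ne_zero (by rw [hd, h, mul_zero])
    exact sq_case A (Units.mk0 d hd0) hAD fun v => by rw [hc, hd, Units.val_mk0, sq]
  obtain ⟨gα, hgα⟩ := exists_sim hab₀ (m := m) (by omega) hα0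
  obtain ⟨g₁, hg₁m, hg₁⟩ : ∃ g₁ : GS₀, (∀ v, Q₀ (g₁.1.val *ᵥ v) = α * Q₀ v) ∧ innd g₁ ∈ D₀ := by
    have he : Q₀ (Pi.single (.inr 0) 1) ≠ 0 := by rw [minus_e0]; exact one_ne_zero
    rcases diag_or_refl hab₀ hm p C₀ ⟨gα, Units.mk0 α hα0, hgα⟩ he with h' | h'
    · exact ⟨_, hgα, h'⟩
    · exact ⟨_, fun v => by
        rw [Subgroup.coe_mul, mul_act]
        exact (hgα _).trans (congrArg _ (mem_iso.1 (rI C₀ _ he).2 v)), h'⟩
  have hmul : ∀ v, Qm ((A * Φ g₁).1.val *ᵥ v) = ((c : F) * i α) * Qm v := fun v => by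
    rw [Subgroup.coe_mul, mul_act, hc, hΦq g₁ α hg₁m, mul_assoc]
  obtain ⟨d, hd⟩ : IsSquare ((c : F) * i α) := by
    rw [← quadraticChar_one_iff_isSquare (mul_ne_zero c.ne_zero fun h => hα0 (i.injective (h.trans (map_zero i).symm))),
      map_mul, quadraticChar_neg_one_iff_not_isSquare.mpr hsq, quadraticChar_neg_one_iff_not_isSquare.mpr hiα]
    norm_num
  have hd0 : d ≠ 0 := fun h => mul_ne_zero c.ne_zero (fun h' => hα0 (i.injective (h'.trans (map_zero i).symm)))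
    (by rw [hd, h, mul_zero])
  obtain ⟨g₂, hg₂, hk⟩ := sq_case (A * Φ g₁) (Units.mk0 d hd0)
    (by rw [map_mul]; exact mul_mem hAD ((emb_diag hM hab hab' hm p i ha₀ hb₀ hΦ g₁).2 hg₁))
    fun v => by rw [hmul, hd, Units.val_mk0, sq]
  refine ⟨g₂ * g₁⁻¹, by rw [map_mul, map_inv]; exact mul_mem hg₂ (inv_mem hg₁), ?_⟩
  rw [map_mul] at hk
  simp only [map_mul, map_inv, _root_.mul_inv_rev, inv_inv]
  rwa [← mul_assoc]

end Frame

end Cfsg.Lib.Linear.AutPO
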