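import Cfsg.Agent.Lib.Linear.AutPO.OddField
import Cfsg.Agent.Lib.Core.Cores

/-!
# Balance in almost simple groups with socle `Ω_{2m+1}(q)`

A normal subgroup of order prime to `ℓ` of the centraliser of a field automorphism `x` of order `ℓ`, when `ℓ` divides the
number of fixed points, centralises `Ω_{2m+1}(q₀)`, whose centraliser in the automorphism group is generated by `x`.
-/

set_option autoImplicit false

namespace Cfsg.Lib.Linear.AutPO

open Module
open Cfsg.Lib.Linear.Orth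
open Cfsg.Lib.Linear.Descent (sc sm tw sc_val sc_comm sm_sc sm_one sm_mul)
open scoped Matrix

set_option quotPrecheck false

section General

variable {ι : Type} [Fintype ι] [DecidableEq ι] {F : Type*} [Field F] [Finite F] {Q : (ι → F) → F}

theorem innd_fld_mk (hQ : StdForm Q) (A : ↥(Cfsg.Geo.quadSimilarityGroup (F := F) Q)) (σ : F ≃+* F)
    (s : ↥(Cfsg.Omega F Q)) :
    ∃ s' : ↥(Cfsg.Omega F Q), om Q s' = A.1 * sm σ (om Q s) * A.1⁻¹ ∧
      (innd A * fld hQ σ) (QuotientGroup.mk s) = QuotientGroup.mk s' := by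
  refine ⟨semiOmega (isSemi_sim A) (semiOmega (isSemi_fld hQ σ) s), Units.ext ?_, rfl⟩
  show (semiGL A.1 (RingEquiv.refl F) (semiGL 1 σ (om Q s))).val = _
  rw [semiGL_val, semiGL_val]
  simp [Descent.sm_val]

end General

section Odd

variable {m : ℕ} {F : Type*} [Field F] [Fintype F] {B : LinearMap.BilinForm F (Unit ⊕ (Fin m ⊕ Fin m) → F)}
  (C : Space (Cfsg.quadFormOdd m F) B) (h2 : (2 : F) ≠ 0) (hm : 3 ≤ m) (p : ℕ) [Fact p.Prime] [CharP F p]

local notation "ιv" => (Unit ⊕ (Fin m ⊕ Fin m))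
local notation "Qo" => Cfsg.quadFormOdd m F
local notation "P" => Cfsg.POmega F Qo
local notation "GS" => ↥(Cfsg.Geo.quadSimilarityGroup (F := F) Qo)
local notation "hQ" => stdForm_odd (F := F) m

section Comm

variable {F₀ : Type*} [Field F₀] [Fintype F₀] (i : F₀ →+* F)
  {B₀ : LinearMap.BilinForm F₀ (Unit ⊕ (Fin m ⊕ Fin m) → F₀)} (C₀ : Space (Cfsg.quadFormOdd m F₀) B₀)

include C C₀ h2 hm

/-- The image of `Ω_{2m+1}(q₀)` is absolutely irreducible. -/
theorem scalar_of_comm {g : GL ιv F}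
    (hg : ∀ s, g * om Qo (iOm C h2 i C₀ s) = om Qo (iOm C h2 i C₀ s) * g) : ∃ c : Fˣ, g = sc c := by
  have h7 : 7 ≤ Fintype.card ιv := by rw [card_odd_index]; omega
  have hpt : ∀ e : ιv → F₀, Cfsg.quadFormOdd m F₀ e = 0 → e ≠ 0 → ∃ c : F, g.val *ᵥ (i ∘ e) = c • (i ∘ e) := by
    intro e he he0
    obtain ⟨f, H⟩ := exists_hyp C₀ C₀.ndeg_top (U := ⊤) trivial he0 he
    obtain ⟨a, b, G⟩ := exists_hyp' C₀ (H.ndeg C₀ C₀.ndeg_top) (by
      have := H.le_finrank C₀; rw [finrank_top, finrank_fintype_fun_eq_card] at this; omega)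
    have hea : B₀ e a = 0 := (mem_perp2.mp G.memE).2.1
    have heb : B₀ e b = 0 := (mem_perp2.mp G.memF).2.1
    have step : ∀ a b : ιv → F₀, Cfsg.quadFormOdd m F₀ a = 0 → B₀ a b = 1 → B₀ e a = 0 → B₀ e b = 0 →
        ∃ α β : F, g.val *ᵥ (i ∘ e) = α • (i ∘ e) + β • (i ∘ a) := by
      intro a b ha hab hea heb
      obtain ⟨s, hs⟩ := exists_om C₀ h7 (sGL_mem_root (B := B₀) (U := ⊤) trivial trivial he hea)
      have heF : Qo (i ∘ e) = 0 := by rw [quad_map, he, map_zero]
      have heaF : B (i ∘ e) (i ∘ a) = 0 := by rw [polar_map C i C₀, hea, map_zero]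
      have hX : (om Qo (iOm C h2 i C₀ s)).val = (sGL Qo B (i ∘ e) (i ∘ a)).val := by
        refine Matrix.ext_of_mulVec_single fun k => ?_
        show (Matrix.GeneralLinearGroup.map i (om _ s)).val *ᵥ _ = _
        rw [← comp_single i k, map_vec, hs, sGL_act C₀ he hea, sGL_act C heF heaF, polar_map C i C₀,
          polar_map C i C₀, quad_map]
        funext j
        simp
      have hz : (om Qo (iOm C h2 i C₀ s)).val *ᵥ (-(i ∘ b)) - -(i ∘ b) = i ∘ e := by
        rw [hX, sGL_act C heF heaF, map_neg, map_neg, polar_map C i C₀, polar_map C i C₀, heb, hab, quad_map, ha]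
        simp
      have h1 : g.val *ᵥ (i ∘ e) = (sGL Qo B (i ∘ e) (i ∘ a)).val *ᵥ (g.val *ᵥ (-(i ∘ b))) - g.val *ᵥ (-(i ∘ b)) := by
        conv_lhs => rw [← hz, Matrix.mulVec_sub, ← mul_act, hg, mul_act, hX]
      rw [sGL_act C heF heaF, add_sub_assoc, add_sub_cancel_left] at h1
      exact ⟨_, _, h1.trans (by rw [sub_eq_neg_add, ← neg_smul])⟩
    obtain ⟨α, β, h1⟩ := step a b G.singE G.pair hea heb
    obtain ⟨α', β', h1'⟩ := step b a G.singF (G.pair' C₀) heb hea
    refine ⟨α, ?_⟩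
    have h3 := congrArg (fun v => B v (i ∘ b)) (h1.symm.trans h1')
    simp only [map_add, map_smul, LinearMap.add_apply, LinearMap.smul_apply, smul_eq_mul, polar_map C i C₀, heb,
      G.pair, C₀.self_zero G.singF, map_zero, map_one, mul_zero, mul_one, zero_add] at h3
    rw [h1, h3, zero_smul, add_zero]
  let E : Fin m → ιv → F₀ := fun k => Pi.single (.inr (.inl k)) 1
  let Fv : Fin m → ιv → F₀ := fun k => Pi.single (.inr (.inr k)) 1
  let U : ιv → F₀ := Pi.single (.inl ()) 1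
  have hEq : ∀ k, Cfsg.quadFormOdd m F₀ (E k) = 0 := fun k => by simp [E, Cfsg.quadFormOdd, Pi.single_apply]
  have hFq : ∀ k, Cfsg.quadFormOdd m F₀ (Fv k) = 0 := fun k => by simp [Fv, Cfsg.quadFormOdd, Pi.single_apply]
  choose dE hdE using fun k => hpt (E k) (hEq k) (Pi.single_ne_zero_iff.2 one_ne_zero)
  choose dF hdF using fun k => hpt (Fv k) (hFq k) (Pi.single_ne_zero_iff.2 one_ne_zero)
  have cmb : ∀ (x y : ιv) (c d : F), x ≠ y →
      Cfsg.quadFormOdd m F₀ (Pi.single x 1 + Pi.single y 1) = 0 →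
      g.val *ᵥ (Pi.single x 1) = c • Pi.single x 1 → g.val *ᵥ (Pi.single y 1) = d • Pi.single y 1 → c = d := by
    intro x y c d hxy hq hc hd
    obtain ⟨w, hw⟩ := hpt _ hq (fun h0 => by have := congrFun h0 x; simp [hxy] at this)
    rw [show i ∘ (Pi.single x 1 + Pi.single y 1 : ιv → F₀) = i ∘ Pi.single x 1 + i ∘ Pi.single y 1 from
      funext fun k => map_add i _ _, comp_single, comp_single, Matrix.mulVec_add, hc, hd] at hw
    have c1 := congrFun hw x
    have c2 := congrFun hw y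
    simp [hxy, hxy.symm] at c1 c2
    rw [c1, c2]
  simp only [E, Fv, comp_single] at hdE hdF
  have hEE : ∀ k l, dE k = dE l := fun k l => by
    rcases eq_or_ne k l with rfl | h
    · rfl
    · exact cmb _ _ _ _ (by simpa using h) (by
        simp [Cfsg.quadFormOdd, Pi.single_apply]) (hdE k) (hdE l)
  have hEF : ∀ k l, k ≠ l → dE k = dF l := fun k l h => cmb _ _ _ _ (by simp) (by
    simp [Cfsg.quadFormOdd, Pi.single_apply, add_mul, mul_add, h, h.symm]) (hdE k) (hdF l)
  let k₀ : Fin m := ⟨0, by omega⟩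
  let k₁ : Fin m := ⟨1, by omega⟩
  have hk : k₀ ≠ k₁ := by simp [k₀, k₁]
  set c := dE k₀
  have hFc : ∀ l, dF l = c := fun l => by
    rcases eq_or_ne k₀ l with rfl | h
    · rw [← hEF k₁ k₀ hk.symm]; exact hEE _ _
    · exact (hEF k₀ l h).symm
  obtain ⟨w₀, hw₀⟩ := hpt (U + E k₀ - Fv k₀) (by simp [U, E, Fv, Cfsg.quadFormOdd, Pi.single_apply, sub_mul, mul_sub])
    (fun h0 => by have := congrFun h0 (.inl ()); simp [U, E, Fv] at this)
  obtain ⟨w₁, hw₁⟩ := hpt (U + E k₁ - Fv k₁) (by simp [U, E, Fv, Cfsg.quadFormOdd, Pi.single_apply, sub_mul, mul_sub])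
    (fun h0 => by have := congrFun h0 (.inl ()); simp [U, E, Fv] at this)
  have hcomb : ∀ k, i ∘ (U + E k - Fv k) =
      (Pi.single (.inl ()) 1 : ιv → F) + Pi.single (.inr (.inl k)) 1 - Pi.single (.inr (.inr k)) 1 := fun k => by
    funext j
    simp [U, E, Fv, Pi.single_apply, apply_ite i]
  rw [hcomb, Matrix.mulVec_sub, Matrix.mulVec_add, hdE, hdF, hFc] at hw₀ hw₁
  rw [hEE k₁ k₀] at hw₁
  have hU : g.val *ᵥ (Pi.single (.inl ()) 1 : ιv → F) = c • Pi.single (.inl ()) 1 := by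
    have e0 : g.val *ᵥ (Pi.single (.inl ()) 1 : ιv → F) = w₀ • Pi.single (.inl ()) 1 +
        (w₀ - c) • Pi.single (.inr (.inl k₀)) 1 - (w₀ - c) • Pi.single (.inr (.inr k₀)) 1 := by
      linear_combination (norm := module) hw₀
    have e1 : g.val *ᵥ (Pi.single (.inl ()) 1 : ιv → F) = w₁ • Pi.single (.inl ()) 1 +
        (w₁ - c) • Pi.single (.inr (.inl k₁)) 1 - (w₁ - c) • Pi.single (.inr (.inr k₁)) 1 := by
      linear_combination (norm := module) hw₁
    have h3 := congrFun (e0.symm.trans e1) (.inr (.inl k₀))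
    simp [hk, hk.symm] at h3
    rw [e0, h3, sub_eq_zero.1 (show w₀ - c = 0 by rw [h3])]
    simp
  have hall : ∀ x : ιv, g.val *ᵥ (Pi.single x 1 : ιv → F) = c • Pi.single x 1 := by
    rintro (⟨⟩ | k | k)
    · exact hU
    · rw [hdE, hEE k k₀]
    · rw [hdF, hFc]
  have hc : c ≠ 0 := fun h0 => by
    have := act_injective g (a₁ := (Pi.single (.inl ()) 1 : ιv → F)) (a₂ := 0) (by simp [hall, h0])
    exact Pi.single_ne_zero_iff.2 one_ne_zero this
  exact ⟨Units.mk0 c hc, Units.ext (Matrix.ext_of_mulVec_single fun x => by rw [hall, sc_act]; rfl)⟩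

end Comm

include C h2 hm p

theorem mk_injective : Function.Injective (QuotientGroup.mk : ↥(Cfsg.Omega F Qo) → P) := by
  refine (Nat.bijective_iff_surjective_and_card _).2 ⟨QuotientGroup.mk_surjective, (card_pomega_odd C h2 hm p).symm⟩
    |>.1

theorem conj_injective : Function.Injective (MulAut.conj : P →* MulAut P) := by
  have h7 : 7 ≤ Fintype.card ιv := by rw [card_odd_index]; omega
  rw [injective_iff_map_eq_one]
  intro x hx
  obtain ⟨s, rfl⟩ := QuotientGroup.mk_surjective x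
  obtain ⟨A, hAs, hA⟩ := conj_mk_eq C h7 p s
  obtain ⟨c, hc⟩ := (innd_eq_one_iff' C h7 p).1 (hA.trans hx)
  refine (QuotientGroup.eq_one_iff s).2 (Subgroup.mem_center_iff.2 fun z => om_injective ?_)
  rw [map_mul, map_mul, ← hAs, hc, sc_comm]

variable {σ : F ≃+* F}

set_option maxHeartbeats 1600000 in
/-- An automorphism fixing `Ω_{2m+1}(q₀)` pointwise is a power of the field automorphism. -/
theorem mem_zpowers_of_fix [Fintype (AutPSL.fixedF σ)] {r : ℕ} (hr : r.Prime) (hσ : orderOf σ = r) {f : ℕ} (hf : 1 ≤ f) (hF : Fintype.card F = p ^ f)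
    {B₀ : LinearMap.BilinForm (AutPSL.fixedF σ) (Unit ⊕ (Fin m ⊕ Fin m) → AutPSL.fixedF σ)}
    (C₀ : Space (Cfsg.quadFormOdd m (AutPSL.fixedF σ)) B₀) [CharP (AutPSL.fixedF σ) p] {β : MulAut P}
    (h : ∀ s, β (QuotientGroup.mk (iOm C h2 (AutPSL.fixedF σ).subtype C₀ s)) =
      QuotientGroup.mk (iOm C h2 (AutPSL.fixedF σ).subtype C₀ s)) :
    ∃ k : ℤ, β = fld hQ σ ^ k := by
  classical
  have h7 : 7 ≤ Fintype.card ιv := by rw [card_odd_index]; omega
  haveI : Nonempty ιv := ⟨.inl ()⟩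
  set K := AutPSL.fixedF σ
  set ι₀ : K →+* F := K.subtype
  obtain ⟨A, τ, rfl⟩ := exists_decomp_std C h7 p (good_odd C) hQ β
  have hfix : ∀ s, A.1 * sm τ (om Qo (iOm C h2 ι₀ C₀ s)) * A.1⁻¹ = om Qo (iOm C h2 ι₀ C₀ s) := fun s => by
    obtain ⟨s', hs', e⟩ := innd_fld_mk hQ A τ (iOm C h2 ι₀ C₀ s)
    rw [← hs', mk_injective C h2 hm p (e.symm.trans (h s))]
  have hσfix : ∀ s, sm σ (om Qo (iOm C h2 ι₀ C₀ s)) = om Qo (iOm C h2 ι₀ C₀ s) := fun s =>
    Units.ext (Matrix.ext fun a b => (((om _ s) : GL ιv K).val a b).2)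
  have hcomm : ∀ y : F, σ (τ y) = τ (σ y) := fun y =>
    RingEquiv.congr_fun (AutPSL.ringEquiv_comm hf hF σ τ) y
  obtain ⟨c, hc⟩ := scalar_of_comm C h2 hm ι₀ C₀ (g := sm σ A.1 * A.1⁻¹) fun s => by
    have h1 := congrArg (sm σ) (hfix s)
    rw [map_mul, map_mul, map_inv, hσfix,
      show sm σ (sm τ (om Qo (iOm C h2 ι₀ C₀ s))) = sm τ (om Qo (iOm C h2 ι₀ C₀ s)) from by
        conv_rhs => rw [← hσfix s]
        exact Units.ext (Matrix.ext fun a b => hcomm _)] at h1
    have h2' : sm τ (om Qo (iOm C h2 ι₀ C₀ s)) = A.1⁻¹ * om Qo (iOm C h2 ι₀ C₀ s) * A.1 := by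
      conv_rhs => rw [← hfix s]
      group
    rw [h2'] at h1
    rw [← mul_inv_eq_iff_eq_mul]
    conv_rhs => rw [← h1]
    group
  obtain ⟨τ₀, hτ₀⟩ : ∃ τ₀ : K ≃+* K, ∀ y : K, ι₀ (τ₀ y) = τ y := by
    have hmem : ∀ (ρ : F ≃+* F), (∀ y, σ (ρ y) = ρ (σ y)) → ∀ y : K, σ (ρ y) = ρ y := fun ρ hρ y => by
      rw [hρ, show σ (y : F) = y from y.2]
    have hsymm : ∀ y, σ (τ.symm y) = τ.symm (σ y) := fun y =>
      τ.injective (by rw [← hcomm, RingEquiv.apply_symm_apply, RingEquiv.apply_symm_apply])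
    exact ⟨{ toFun := fun y => ⟨τ y, hmem τ hcomm y⟩
             invFun := fun y => ⟨τ.symm y, hmem τ.symm hsymm y⟩
             left_inv := fun y => Subtype.ext (τ.symm_apply_apply _)
             right_inv := fun y => Subtype.ext (τ.apply_symm_apply _)
             map_mul' := fun a b => Subtype.ext (map_mul τ _ _)
             map_add' := fun a b => Subtype.ext (map_add τ _ _) }, fun y => rfl⟩
  have hσA : sm σ A.1 = sc c * A.1 := by rw [← hc, inv_mul_cancel_right]
  haveI : Fact r.Prime := ⟨hr⟩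
  obtain ⟨d, G, hG, hAG⟩ := Descent.exists_fixed hσ A.1 hσA
  have hGmem : G ∈ Cfsg.Geo.quadSimilarityGroup (F := F) Qo := by
    obtain ⟨μ, hμ⟩ := A.2
    refine ⟨(d⁻¹) ^ 2 * μ, fun v => ?_⟩
    rw [show G = sc d⁻¹ * A.1 by rw [hAG, map_inv, inv_mul_cancel_left], mul_act, sc_act, C.smul, hμ, Units.val_mul,
      Units.val_pow_eq_pow_val, mul_assoc]
  have hGK : ∀ a b, G.val a b ∈ K := fun a b =>
    congrFun (congrFun (congrArg (fun x : GL ιv F => x.val) hG) a) b
  have hdet : IsUnit (Matrix.of fun a b => (⟨G.val a b, hGK a b⟩ : K)).det := by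
    rw [isUnit_iff_ne_zero]
    intro h0
    have h1 := congrArg ι₀ h0
    rw [map_zero, RingHom.map_det] at h1
    exact (Matrix.GeneralLinearGroup.det G).ne_zero h1
  set G₀ : GL ιv K := Matrix.GeneralLinearGroup.mk'' _ hdet with hG₀
  have hmapG : Matrix.GeneralLinearGroup.map ι₀ G₀ = G := Units.ext rfl
  obtain ⟨μ, hμ⟩ := hGmem
  have hG₀mem : G₀ ∈ Cfsg.Geo.quadSimilarityGroup (F := K) (Cfsg.quadFormOdd m K) := by
    set c₀ := Cfsg.quadFormOdd m K (G₀.val *ᵥ Pi.single (.inl ()) 1) with hc₀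
    have key : ∀ v, ι₀ (Cfsg.quadFormOdd m K (G₀.val *ᵥ v)) = μ * ι₀ (Cfsg.quadFormOdd m K v) := fun v => by
      rw [← quad_map, ← quad_map, ← hμ, ← map_vec, hmapG]
    have hic : ι₀ c₀ = μ := by rw [hc₀, key]; simp [Cfsg.quadFormOdd]
    have hne : c₀ ≠ 0 := fun h0 => μ.ne_zero (by rw [← hic, h0, map_zero])
    exact ⟨Units.mk0 c₀ hne, fun v => ι₀.injective (by rw [key, map_mul, Units.val_mk0, hic])⟩
  have h₀ : innd (⟨G₀, hG₀mem⟩ : ↥(Cfsg.Geo.quadSimilarityGroup (F := K) (Cfsg.quadFormOdd m K))) *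
      fld (stdForm_odd m) τ₀ = 1 := by
    refine MulEquiv.ext fun y => ?_
    obtain ⟨s, rfl⟩ := QuotientGroup.mk_surjective y
    obtain ⟨s', hs', e⟩ := innd_fld_mk (stdForm_odd m) ⟨G₀, hG₀mem⟩ τ₀ s
    rw [e, MulAut.one_apply]
    refine congrArg _ (om_injective (map_gl_injective ι₀ ?_))
    rw [hs', map_mul, map_mul, map_inv, hmapG,
      show Matrix.GeneralLinearGroup.map ι₀ (sm τ₀ (om _ s)) = sm τ (om Qo (iOm C h2 ι₀ C₀ s)) from
        Units.ext (Matrix.ext fun a b => hτ₀ _)]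
    refine Eq.trans ?_ (hfix s)
    rw [hAG]
    have hgrp : ∀ X : GL ιv F, sc d * G * X * (sc d * G)⁻¹ = G * X * G⁻¹ := fun X => by
      rw [show sc d * G * X * (sc d * G)⁻¹ = sc d * (G * X * G⁻¹) * (sc d)⁻¹ by group, sc_comm d, mul_inv_cancel_right]
    exact (hgrp _).symm
  obtain ⟨hi1, hτ1⟩ := innd_mul_fld_eq_one C₀ h7 p (stdForm_odd m) h₀
  obtain ⟨c', hc'⟩ := (innd_eq_one_iff' C₀ h7 p).1 hi1
  have hA : innd A = 1 := (innd_eq_one_iff' C h7 p).2 ⟨d * Units.map ι₀.toMonoidHom c', by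
    rw [hAG, ← hmapG, show G₀ = sc c' from hc', map_mul]
    exact congrArg (sc d * ·) (Units.ext (Matrix.ext fun a b => by
      simp [Matrix.diagonal_apply, apply_ite ι₀]))⟩
  rw [hA, one_mul]
  have hτ : ∀ y, σ y = y → τ y = y := fun y hy => by
    have := hτ₀ ⟨y, hy⟩
    rw [hτ1] at this
    exact this.symm
  haveI : Finite (F ≃+* F) := Finite.of_injective (fun σ => (σ : F → F)) fun a b h => RingEquiv.ext (congrFun h)
  let Gz := Subgroup.zpowers (σ : RingAut F)
  let τ' : F →ₐ[FixedPoints.subfield Gz F] F := ⟨τ.toRingHom, fun y => by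
    show τ (y : F) = y
    exact hτ y (y.2 ⟨σ, Subgroup.mem_zpowers _⟩)⟩
  obtain ⟨⟨_, k, rfl⟩, hg⟩ := (FixedPoints.toAlgHom_bijective Gz F).surjective τ'
  refine ⟨k, ?_⟩
  rw [← map_zpow]
  exact congrArg (fld hQ) (RingEquiv.ext fun x => (AlgHom.congr_fun hg x).symm)


omit [Fintype F] hm p [Fact p.Prime] [CharP F p] in
/-- An isometry with entries in the subfield descends. -/
theorem exists_iI {K : Subfield F} {B₀ : LinearMap.BilinForm K (Unit ⊕ (Fin m ⊕ Fin m) → K)}
    (C₀ : Space (Cfsg.quadFormOdd m K) B₀) {u : ↥(isometryGroup F Qo)} (hu : ∀ a b, (u : GL ιv F).val a b ∈ K) :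
    ∃ g, iI C h2 K.subtype C₀ g = u := by
  set M : Matrix ιv ιv K := Matrix.of fun a b => ⟨(u : GL ιv F).val a b, hu a b⟩
  have hdet : IsUnit M.det := by
    rw [isUnit_iff_ne_zero]
    intro h0
    have h1 := congrArg K.subtype h0
    rw [map_zero, RingHom.map_det] at h1
    exact (Matrix.GeneralLinearGroup.det (u : GL ιv F)).ne_zero h1
  have hg : Matrix.GeneralLinearGroup.map K.subtype (Matrix.GeneralLinearGroup.mk'' M hdet) = (u : GL ιv F) :=
    Units.ext rfl
  refine ⟨⟨Matrix.GeneralLinearGroup.mk'' M hdet, mem_iso.2 fun v => K.subtype.injective ?_⟩, Subtype.ext hg⟩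
  have h1 := mem_iso.1 u.2 (K.subtype ∘ v)
  rw [← hg, map_vec, quad_map, quad_map] at h1
  exact h1

theorem exists_conj_fld {ℓ : ℕ} [Fact ℓ.Prime] {x : MulAut P} (hord : orderOf x = ℓ)
    (hnot : ¬ Cfsg.IsInnerDiagonalAutPOmegaOdd m x) :
    ∃ (σ : F ≃+* F) (a : MulAut P), orderOf σ = ℓ ∧ x = a * fld hQ σ * a⁻¹ := by
  have h7 : 7 ≤ Fintype.card ιv := by rw [card_odd_index]; omega
  obtain ⟨A, σ, rfl⟩ := exists_decomp_std C h7 p (good_odd C) hQ x
  have hσ : σ ≠ 1 := fun h => hnot ⟨A.1, A.2, by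
    subst h
    rw [map_one, mul_one]
    exact isInduced_innd A⟩
  have hσp : orderOf σ = ℓ := by
    refine orderOf_eq_prime ?_ hσ
    obtain ⟨T, -, e⟩ := innd_fld_pow hQ σ A ℓ
    rw [← hord, pow_orderOf_eq_one, hord, eq_comm] at e
    exact (innd_mul_fld_eq_one C h7 p hQ e).2
  obtain ⟨h, -, e⟩ := field_coset C h2 hm p (Fact.out : ℓ.Prime) hσp A hord
  exact ⟨σ, h, hσp, e⟩

set_option maxHeartbeats 4000000 in
/-- **Failure of balance**. -/
theorem balance_iff {f : ℕ} (hf : 1 ≤ f) (hF : Fintype.card F = p ^ f) (A : Subgroup (MulAut P))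
    (hinn : ∀ k : P, MulAut.conj k ∈ A) {ℓ : ℕ} [Fact ℓ.Prime] {x : MulAut P}
    (hord : orderOf x = ℓ) {a : MulAut P} (hσ : orderOf σ = ℓ) (hx : x = a * fld hQ σ * a⁻¹) :
    Cfsg.pPrimeCore ℓ ↥(A ⊓ Subgroup.centralizer {x}) ≠ ⊥ ↔
      Nat.Coprime ℓ (Nat.card ↥(MonoidHom.eqLocus x.toMonoidHom (MonoidHom.id P))) := by
  classical
  have h7 : 7 ≤ Fintype.card ιv := by rw [card_odd_index]; omega
  set K₀ := AutPSL.fixedF σ with hK₀
  letI : Fintype K₀ := Fintype.ofFinite _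
  haveI hchar : CharP K₀ p := K₀.subtype.charP Subtype.val_injective p
  have h20 : (2 : K₀) ≠ 0 := fun h => h2 (by
    rw [← map_ofNat K₀.subtype 2, h, map_zero])
  obtain ⟨B₀, C₀⟩ := exists_space (Q := Cfsg.quadFormOdd m K₀) (isQuad_odd m h20)
  set ι₀ : K₀ →+* F := K₀.subtype
  haveI hsimp₀ := pomega_simple C₀ h7
  haveI : Finite (MulAut P) := Finite.of_injective (fun σ => (σ : P → P)) fun a b h => MulEquiv.ext (congrFun h)
  set Cx := A ⊓ Subgroup.centralizer {x} with hCx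
  set K := MonoidHom.eqLocus x.toMonoidHom (MonoidHom.id P) with hK
  have hcomm : ∀ (β : MulAut P) (k : P), β * MulAut.conj k * β⁻¹ = MulAut.conj (β k) := fun β k =>
    MulEquiv.ext fun y => by simp
  let c : ↥K →* ↥Cx := ((MulAut.conj : P →* MulAut P).comp K.subtype).codRestrict Cx fun k =>
    Subgroup.mem_inf.2 ⟨hinn _, Subgroup.mem_centralizer_singleton_iff.2 (by
      have hk : x k.1 = k.1 := k.2
      have h1 := hcomm x k.1
      rw [hk, mul_inv_eq_iff_eq_mul] at h1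
      exact h1.symm)⟩
  have hcinj : Function.Injective c := fun k l h =>
    Subtype.ext (conj_injective C h2 hm p (congrArg Subtype.val h))
  have hcn : ∀ (b : ↥Cx) (k : ↥K), ∃ k', b * c k * b⁻¹ = c k' := fun b k => by
    refine ⟨⟨b.1 k.1, ?_⟩, Subtype.ext (hcomm b.1 k.1)⟩
    show x (b.1 k.1) = b.1 k.1
    rw [← MulAut.mul_apply, ← Subgroup.mem_centralizer_singleton_iff.1 b.2.2, MulAut.mul_apply]
    exact congrArg b.1 k.2
  have hfldmk : ∀ t, ∃ t', om Qo t' = sm σ (om Qo t) ∧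
      fld hQ σ (QuotientGroup.mk t) = QuotientGroup.mk t' := fun t => by
    obtain ⟨t', h1, h2⟩ := innd_fld_mk hQ 1 σ t
    rw [map_one, one_mul] at h2
    exact ⟨t', by rw [h1]; simp, h2⟩
  let ψ : ↥(Cfsg.Omega K₀ (Cfsg.quadFormOdd m K₀)) →* ↥K :=
    (a.toMonoidHom.comp ((QuotientGroup.mk' (Subgroup.center ↥(Cfsg.Omega F Qo))).comp (iOm C h2 ι₀ C₀))).codRestrict K
      fun s => by
        obtain ⟨t', h1, h2'⟩ := hfldmk (iOm C h2 ι₀ C₀ s)
        rw [show t' = iOm C h2 ι₀ C₀ s from om_injective (h1.trans (Units.ext (Matrix.ext fun i j =>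
          (((om _ s) : GL ιv K₀).val i j).2)))] at h2'
        show x (a _) = a _
        rw [hx, MulAut.mul_apply, MulAut.mul_apply, MulAut.inv_def, MulEquiv.symm_apply_apply]
        exact congrArg a h2'
  have hψ : ∀ s, (ψ s).1 = a (QuotientGroup.mk (iOm C h2 ι₀ C₀ s)) := fun s => rfl
  have hψinj : Function.Injective ψ := fun s t h => om_injective (map_gl_injective ι₀
    (congrArg (om Qo) (mk_injective C h2 hm p (a.injective (congrArg Subtype.val h)))))
  have hdesc : ∀ k : ↥K, ∃ (t : ↥(Cfsg.Omega F Qo)) (g : ↥(isometryGroup K₀ (Cfsg.quadFormOdd m K₀))),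
      (k : P) = a (QuotientGroup.mk t) ∧ iI C h2 ι₀ C₀ g = (t : ↥(isometryGroup F Qo)) := by
    intro k
    obtain ⟨t, ht⟩ := QuotientGroup.mk_surjective (a⁻¹ k.1)
    have h2' : x k.1 = k.1 := k.2
    rw [hx, MulAut.mul_apply, MulAut.mul_apply, ← ht] at h2'
    obtain ⟨t', e1, e2⟩ := hfldmk t
    have ha : (k : P) = a (QuotientGroup.mk t) := by rw [ht, MulAut.inv_def, MulEquiv.apply_symm_apply]
    rw [e2, ha] at h2'
    have htt : t' = t := mk_injective C h2 hm p (a.injective h2')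
    rw [htt] at e1
    obtain ⟨g, hg⟩ := exists_iI C h2 (K := K₀) C₀ (u := (t : ↥(isometryGroup F Qo))) (fun i j =>
      (congrFun (congrFun (congrArg (fun y : GL ιv F => y.val) e1) i) j).symm)
    exact ⟨t, g, ha, hg⟩
  constructor
  · intro hne
    by_contra hdiv
    have hp : ℓ.Prime := Fact.out
    rw [hp.coprime_iff_not_dvd, not_not] at hdiv
    set M := Cfsg.pPrimeCore ℓ ↥Cx with hM
    haveI : M.Normal := by rw [hM]; infer_instance
    have hMp : ∀ m ∈ M, m ^ ℓ = 1 → m = 1 := fun y hy h1 => by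
      have h2 := orderOf_dvd_of_pow_eq_one h1
      have h3 := Subgroup.orderOf_dvd_natCard M hy
      exact orderOf_eq_one_iff.1 (Nat.eq_one_of_dvd_coprimes
        (Core.pPrimeCore_coprime ℓ ↥Cx).symm h2 h3)
    -- an element of order `ℓ` in `Ω_{2m+1}(q₀)`
    obtain ⟨s₀, hs₀, hs₀p⟩ : ∃ s : ↥(Cfsg.Omega K₀ (Cfsg.quadFormOdd m K₀)), s ≠ 1 ∧ s ^ ℓ = 1 := by
      rcases hp.eq_two_or_odd' with rfl | hodd
      · let v : ιv → K₀ := Pi.single (.inl ()) 1
        let k₀ : Fin m := ⟨0, by omega⟩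
        let w : ιv → K₀ := Pi.single (.inr (.inl k₀)) 1 + Pi.single (.inr (.inr k₀)) 1
        have hv : Cfsg.quadFormOdd m K₀ v = 1 := by simp [v, Cfsg.quadFormOdd, Pi.single_apply]
        have hw : Cfsg.quadFormOdd m K₀ w = 1 := by
          simp [w, Cfsg.quadFormOdd, Pi.single_apply, add_mul, mul_add]
        have hvw : B₀ w v = 0 := by
          rw [← C₀.polar, QuadraticMap.polar]
          simp [v, w, Cfsg.quadFormOdd, Pi.single_apply, add_mul, mul_add]
        have hv0 : Cfsg.quadFormOdd m K₀ v ≠ 0 := by rw [hv]; exact one_ne_zero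
        have hw0 : Cfsg.quadFormOdd m K₀ w ≠ 0 := by rw [hw]; exact one_ne_zero
        set g := rI C₀ v hv0 * rI C₀ w hw0 with hg
        have hgmem : g ∈ Cfsg.Omega K₀ (Cfsg.quadFormOdd m K₀) := by
          rw [mem_omega_iff C₀ h20 hm, hg, map_mul]
          refine Prod.ext ?_ ?_
          · show Matrix.GeneralLinearGroup.det _ * Matrix.GeneralLinearGroup.det _ = 1
            rw [show (isometryGroup K₀ _).subtype (rI C₀ v hv0) = ((rI C₀ v hv0).1) from rfl,
              show (isometryGroup K₀ _).subtype (rI C₀ w hw0) = ((rI C₀ w hw0).1) from rfl, det_rI C₀ hv0, det_rI C₀ hw0]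
            simp
          · show spin _ _ * spin _ _ = 1
            rw [spin_rI C₀ h20, spin_rI C₀ h20, hv, hw, if_pos IsSquare.one, neg_mul_neg, one_mul]
        refine ⟨⟨g, hgmem⟩, fun h0 => ?_, Subtype.ext ?_⟩
        · have h1 := congrArg (fun y : ↥(Cfsg.Omega K₀ (Cfsg.quadFormOdd m K₀)) => (om _ y).val *ᵥ v) h0
          simp only [map_one, Units.val_one, Matrix.one_mulVec] at h1
          change (rGL _ v * rGL _ w).val *ᵥ v = v at h1
          rw [mul_act, rGL_act C₀ hw0, rGL_act C₀ hv0, hw, hv, hvw] at h1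
          simp only [mul_zero, zero_smul, sub_zero] at h1
          rw [C₀.self, hv] at h1
          have := congrFun h1 (.inl ())
          simp [v] at this
          exact h20 this
        · show g ^ 2 = 1
          have hcom : rI C₀ v hv0 * rI C₀ w hw0 = rI C₀ w hw0 * rI C₀ v hv0 := by
            refine Subtype.ext (gl_ext fun z => ?_)
            have hwv : B₀ v w = 0 := (C₀.symm v w).trans hvw
            show (rGL _ v * rGL _ w).val *ᵥ z = (rGL _ w * rGL _ v).val *ᵥ z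
            rw [mul_act, mul_act, rGL_act C₀ hw0, rGL_act C₀ hv0, rGL_act C₀ hv0, rGL_act C₀ hw0]
            simp only [map_sub, map_smul, smul_eq_mul, hvw, hwv, mul_zero, sub_zero]
            abel
          rw [pow_two, hg]
          nth_rewrite 2 [hcom]
          rw [mul_assoc, ← mul_assoc (rI C₀ w hw0), rI_sq, one_mul, rI_sq]
      · obtain ⟨k, hk⟩ := exists_prime_orderOf_dvd_card' ℓ hdiv
        obtain ⟨t, g, hkt, hgt⟩ := hdesc k
        refine ⟨⟨g * g, (mem_omega_iff C₀ h20 hm).2 (spin_sq C₀ g)⟩, fun h0 => ?_, ?_⟩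
        · have hgg : g * g = 1 := congrArg Subtype.val h0
          have hk2 : k * k = 1 := Subtype.ext (by
            show (k : P) * k = 1
            rw [hkt, ← map_mul, ← QuotientGroup.mk_mul, show t * t = 1 from Subtype.ext (by
              rw [Subgroup.coe_mul, ← hgt, ← map_mul, hgg, map_one]; rfl), QuotientGroup.mk_one, map_one])
          rw [← pow_two, ← orderOf_dvd_iff_pow_eq_one, hk] at hk2
          obtain ⟨j, rfl⟩ := hodd
          have := Nat.le_of_dvd (by norm_num) hk2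
          have := hp.two_le
          omega
        · refine hψinj ?_
          rw [map_pow, map_one]
          have hks : ψ ⟨g * g, (mem_omega_iff C₀ h20 hm).2 (spin_sq C₀ g)⟩ = k * k := Subtype.ext (by
            rw [hψ, Subgroup.coe_mul, hkt, ← map_mul, ← QuotientGroup.mk_mul]
            refine congrArg a (congrArg QuotientGroup.mk (Subtype.ext ?_))
            show iI C h2 ι₀ C₀ (g * g) = _
            rw [map_mul, hgt]
            rfl)
          rw [hks, ← pow_two, ← pow_mul, mul_comm, pow_mul, ← hk, pow_orderOf_eq_one, one_pow]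
    -- `M` meets the image trivially
    let φ := c.comp ψ
    have htriv : ∀ s, φ s ∈ M → s = 1 := by
      haveI : IsSimpleGroup ↥(Cfsg.Omega K₀ (Cfsg.quadFormOdd m K₀)) :=
        (MulEquiv.ofBijective (QuotientGroup.mk' (Subgroup.center ↥(Cfsg.Omega K₀ (Cfsg.quadFormOdd m K₀))))
          ⟨mk_injective C₀ h20 hm p, QuotientGroup.mk_surjective⟩).isSimpleGroup
      haveI : (M.comap φ).Normal := Subgroup.Normal.comap inferInstance φ
      intro s hs
      rcases Subgroup.Normal.eq_bot_or_eq_top (H := M.comap φ) inferInstance with h | h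
      · exact (Subgroup.mem_bot).1 (h ▸ (Subgroup.mem_comap.2 hs))
      · exfalso
        have hs₀M : φ s₀ ∈ M := Subgroup.mem_comap.1 (h ▸ Subgroup.mem_top s₀)
        have h0 := hMp _ hs₀M (by rw [← map_pow, hs₀p, map_one])
        exact hs₀ (hψinj (hcinj (h0.trans (by simp))))
    -- elements commuting with the image
    have hcent : ∀ b : ↥Cx, (∀ s, b * φ s = φ s * b) → ∃ i : ℤ, b.1 = x ^ i := by
      intro b hb
      obtain ⟨i, hi⟩ := mem_zpowers_of_fix C h2 hm p (Fact.out : ℓ.Prime) hσ hf hF C₀ (β := a⁻¹ * b.1 * a) (fun s => by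
        rw [MulAut.mul_apply, MulAut.mul_apply, MulAut.inv_def, MulEquiv.symm_apply_eq]
        refine conj_injective C h2 hm p ?_
        rw [← hcomm, mul_inv_eq_iff_eq_mul]
        exact congrArg Subtype.val (hb s))
      exact ⟨i, by rw [hx, conj_zpow, ← hi]; group⟩
    have hpow : ∀ (b : ↥Cx) (i : ℤ), b.1 = x ^ i → b ^ ℓ = 1 := fun b i hi => Subtype.ext (by
      show b.1 ^ ℓ = 1
      rw [hi, ← zpow_natCast, ← _root_.zpow_mul, mul_comm, _root_.zpow_mul, zpow_natCast, ← hord, pow_orderOf_eq_one,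
        _root_.one_zpow])
    have hW : ∀ k, c k ∈ M → k = 1 := by
      intro k hk
      have hb : ∀ s, c k * φ s = φ s * c k := by
        intro s
        obtain ⟨t, g, hkt, hgt⟩ := hdesc k
        let s' : ↥(Cfsg.Omega K₀ (Cfsg.quadFormOdd m K₀)) :=
          ⟨g * s.1 * g⁻¹, (inferInstance : (commutator _).Normal).conj_mem _ s.2 g⟩
        have he : c k * φ s * (c k)⁻¹ = φ s' := by
          show c k * c (ψ s) * (c k)⁻¹ = c (ψ s')
          rw [← map_inv, ← map_mul, ← map_mul]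
          refine congrArg c (Subtype.ext ?_)
          show (k : P) * (ψ s).1 * (k : P)⁻¹ = (ψ s').1
          rw [hψ, hψ, hkt, ← map_inv, ← map_mul, ← map_mul, ← QuotientGroup.mk_inv, ← QuotientGroup.mk_mul,
            ← QuotientGroup.mk_mul]
          refine congrArg a (congrArg QuotientGroup.mk (Subtype.ext ?_))
          show (t : ↥(isometryGroup F Qo)) * iI C h2 ι₀ C₀ s.1 * (t : ↥(isometryGroup F Qo))⁻¹ =
            iI C h2 ι₀ C₀ (g * s.1 * g⁻¹)
          rw [map_mul, map_mul, map_inv, hgt]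
        have hmem : φ (s' * s⁻¹) ∈ M := by
          rw [map_mul, map_inv, ← he, mul_assoc (c k * φ s), mul_assoc (c k)]
          exact mul_mem hk (by
            rw [← mul_assoc]
            exact Subgroup.Normal.conj_mem inferInstance _ (inv_mem hk) _)
        rw [← mul_inv_eq_iff_eq_mul]
        exact he.trans (congrArg φ (mul_inv_eq_one.1 (htriv _ hmem)))
      obtain ⟨i, hi⟩ := hcent (c k) hb
      exact hcinj ((map_one c).symm ▸ hMp _ hk (hpow _ i hi))
    refine hne ((Subgroup.eq_bot_iff_forall _).2 fun b hb => ?_)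
    obtain ⟨i, hi⟩ := hcent b fun s => by
      obtain ⟨k', hk'⟩ := hcn b (ψ s)
      have : c (k' * (ψ s)⁻¹) ∈ M := by
        rw [map_mul, map_inv, ← hk', mul_assoc b, mul_assoc b]
        exact mul_mem hb ((inferInstance : M.Normal).conj_mem _ (inv_mem hb) (c (ψ s)))
      have h1 := hW _ this
      rw [mul_inv_eq_one] at h1
      rw [← mul_inv_eq_iff_eq_mul]
      exact hk'.trans (congrArg c h1)
    exact hMp b hb (hpow b i hi)
  · intro hcop hbot
    have hn : c.range.Normal := ⟨fun _ ⟨k, hk⟩ b => by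
      obtain ⟨k', hk'⟩ := hcn b k
      exact ⟨k', by rw [← hk, hk']⟩⟩
    have hle : c.range ≤ Cfsg.pPrimeCore ℓ ↥Cx := Core.le_pPrimeCore' hn (by
      rw [← Nat.card_congr (MonoidHom.ofInjective hcinj).toEquiv]
      exact hcop.symm)
    rw [hbot, le_bot_iff, MonoidHom.range_eq_bot_iff] at hle
    obtain ⟨y, hy⟩ := exists_ne (1 : Cfsg.POmega K₀ (Cfsg.quadFormOdd m K₀))
    obtain ⟨s, rfl⟩ := QuotientGroup.mk_surjective y
    refine hy ?_
    rw [show s = 1 from hψinj (hcinj (by rw [hle]; simp))]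
    rfl

end Odd

end Cfsg.Lib.Linear.AutPO
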