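import Cfsg.Agent.Lib.Linear.AutPO.OddBase

/-!
# Field automorphisms of prime order of `Ω_{2m+1}(q)`
-/

set_option autoImplicit false

namespace Cfsg.Lib.Linear.AutPO

open Module
open Cfsg.Lib.Linear.Orth
open Cfsg.Lib.Linear.Descent (sc sm tw sc_val sc_comm sm_sc sm_one sm_mul)
open scoped Matrix

set_option quotPrecheck false

section General

variable {ι : Type} [Fintype ι] [DecidableEq ι] {F : Type*} [Field F] [Finite F] {Q : (ι → F) → F}

local notation "GS" => ↥(Cfsg.Geo.quadSimilarityGroup (F := F) Q)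

/-- A field automorphism on similitudes. -/
noncomputable def smS (hQ : StdForm Q) (σ : F ≃+* F) : GS →* GS :=
  ((sm σ).comp (Cfsg.Geo.quadSimilarityGroup (F := F) Q).subtype).codRestrict _ fun g => by
    obtain ⟨A', h, -⟩ := fld_mul_innd hQ σ g
    have h' : A'.1 = sm σ g.1 := h.trans (Units.ext rfl)
    show sm σ g.1 ∈ _
    rw [← h']
    exact A'.2

theorem fld_mul_innd' (hQ : StdForm Q) (σ : F ≃+* F) (A : GS) :
    fld hQ σ * innd A = innd (smS hQ σ A) * fld hQ σ := by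
  obtain ⟨A', h, e⟩ := fld_mul_innd hQ σ A
  rw [e]
  exact congrArg (innd · * fld hQ σ) (Subtype.ext (h.trans (Units.ext rfl)))

theorem innd_fld_pow (hQ : StdForm Q) (σ : F ≃+* F) (A : GS) :
    ∀ k : ℕ, ∃ T : GS, T.1 = tw σ A.1 k ∧ (innd A * fld hQ σ) ^ k = innd T * fld hQ (σ ^ k) := by
  intro k
  induction k with
  | zero => exact ⟨1, by simp [tw], by simp⟩
  | succ k ih =>
    obtain ⟨T, hT, e⟩ := ih
    refine ⟨A * smS hQ σ T, by rw [tw, ← hT]; rfl, ?_⟩
    rw [pow_succ', e, pow_succ' σ, map_mul, map_mul (fld hQ), mul_assoc, ← mul_assoc (fld hQ σ), fld_mul_innd']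
    simp only [mul_assoc]

variable {B : LinearMap.BilinForm F (ι → F)} (C : Space Q B) (h7 : 7 ≤ Fintype.card ι) (p : ℕ) [Fact p.Prime]
  [CharP F p]

include C h7 p

theorem fld_injective (hQ : StdForm Q) : Function.Injective (fld hQ) := fun σ τ h =>
  (decomp_unique C h7 p hQ (A := 1) (A' := 1) (by rw [map_one, one_mul, one_mul]; exact h)).1

theorem innd_eq_one_iff' {A : GS} : innd A = 1 ↔ ∃ c : Fˣ, A.1 = sc c :=
  (innd_eq_one_iff C h7 p).trans eq_sc_iff

theorem innd_eq_innd {A A' : GS} : innd A = innd A' ↔ ∃ c : Fˣ, A.1 = sc c * A'.1 := by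
  rw [← mul_inv_eq_one, ← map_inv, ← map_mul, innd_eq_one_iff' C h7 p]
  simp only [Subgroup.coe_mul, Subgroup.coe_inv, mul_inv_eq_iff_eq_mul]

theorem commute_fld_iff (hQ : StdForm Q) (σ : F ≃+* F) (A : GS) :
    innd A * fld hQ σ = fld hQ σ * innd A ↔ ∃ c : Fˣ, sm σ A.1 = sc c * A.1 := by
  rw [fld_mul_innd', mul_left_inj, eq_comm, innd_eq_innd C h7 p]
  exact Iff.rfl

variable (hgood : 9 ≤ Fintype.card ι ∨ ∀ A : Submodule F (ι → F), (∀ v ∈ A, Q v = 0) → finrank F A ≤ 3)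

include hgood

theorem range_normal (hQ : StdForm Q) : (innd : GS →* MulAut (Cfsg.POmega F Q)).range.Normal := ⟨by
  rintro _ ⟨A, rfl⟩ β
  obtain ⟨A₁, σ, rfl⟩ := exists_decomp_std C h7 p hgood hQ β
  refine ⟨A₁ * smS hQ σ A * A₁⁻¹, ?_⟩
  rw [map_mul, map_mul, map_inv, _root_.mul_inv_rev,
    show innd A₁ * fld hQ σ * innd A = innd A₁ * (fld hQ σ * innd A) from mul_assoc _ _ _, fld_mul_innd']
  group⟩

end General

section Odd

variable {m : ℕ} {F : Type*} [Field F] [Fintype F] {B : LinearMap.BilinForm F (Unit ⊕ (Fin m ⊕ Fin m) → F)}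
  (C : Space (Cfsg.quadFormOdd m F) B) (h2 : (2 : F) ≠ 0) (hm : 3 ≤ m) (p : ℕ) [Fact p.Prime] [CharP F p]

local notation "ιv" => (Unit ⊕ (Fin m ⊕ Fin m))
local notation "Qo" => Cfsg.quadFormOdd m F
local notation "GS" => ↥(Cfsg.Geo.quadSimilarityGroup (F := F) Qo)
local notation "hQ" => stdForm_odd (F := F) m
local notation "R" => (innd : GS →* MulAut (Cfsg.POmega F Qo)).range

include C h2 hm p

set_option maxHeartbeats 1600000 in
/-- The elements of prime order in a coset `Inndiag · σ` are conjugate to `σ`. -/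
theorem field_coset {σ : F ≃+* F} {r : ℕ} (hr : r.Prime) (hσ : orderOf σ = r) (A : GS)
    (h : orderOf (innd A * fld hQ σ) = r) :
    Cfsg.IsConjUnder R (fld hQ σ) (innd A * fld hQ σ) := by
  have h7 : 7 ≤ Fintype.card ιv := by rw [card_odd_index]; omega
  haveI : Fact r.Prime := ⟨hr⟩
  haveI : Nonempty ιv := ⟨.inl ()⟩
  obtain ⟨T, hT, e⟩ := innd_fld_pow hQ σ A r
  rw [← h, pow_orderOf_eq_one, h, ← hσ, pow_orderOf_eq_one, map_one, mul_one, eq_comm,
    innd_eq_one_iff' C h7 p] at e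
  obtain ⟨c, hc⟩ := e
  obtain ⟨d, M, hM⟩ := Descent.exists_sc_mul hσ A.1 (c := c) (by rw [← hc, hT])
  set A' : GL ιv F := (sc d)⁻¹ * A.1 with hA'
  have hA'M : A' * sm σ M = M := by rw [hA', hM]; group
  obtain ⟨μ, hμ⟩ : ∃ μ : F, ∀ v, Qo (A'.val *ᵥ v) = μ * Qo v := by
    obtain ⟨c, hc⟩ := A.2
    refine ⟨((d⁻¹ : Fˣ) : F) ^ 2 * c, fun v => ?_⟩
    rw [hA', ← map_inv, mul_act, sc_act, C.smul, hc]
    ring
  have hmv : ∀ v : ιv → F, (sm σ M).val *ᵥ (σ ∘ v) = σ ∘ (M.val *ᵥ v) := fun v => map_vec σ.toRingHom M v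
  have hfix : ∀ v : ιv → F, σ ∘ v = v → Qo (M.val *ᵥ v) = μ * σ (Qo (M.val *ᵥ v)) := fun v hv => by
    conv_lhs => rw [← hA'M, mul_act, hμ, ← hv, hmv, stdForm_odd m σ]
  let K := AutPSL.fixedF σ
  let ι₀ : K →+* F := K.subtype
  have hsub : ∀ u : ιv → K, σ ∘ (ι₀ ∘ u) = ι₀ ∘ u := fun u => funext fun k => (u k).2
  obtain ⟨u₀, hu₀⟩ : ∃ u : ιv → K, Qo (M.val *ᵥ (ι₀ ∘ u)) ≠ 0 := by
    by_contra hc'
    push Not at hc'
    have hz : ∀ x y : ιv, B (M.val *ᵥ Pi.single x 1) (M.val *ᵥ Pi.single y 1) = 0 := fun x y => by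
      rw [← comp_single ι₀ x, ← comp_single ι₀ y, ← C.polar, QuadraticMap.polar, ← Matrix.mulVec_add,
        show ι₀ ∘ (Pi.single x 1 : ιv → K) + ι₀ ∘ (Pi.single y 1 : ιv → K) = ι₀ ∘ (Pi.single x 1 + Pi.single y 1) from
          funext fun k => (map_add ι₀ _ _).symm, hc', hc', hc']
      ring
    have hB : B.compl₁₂ M.val.mulVecLin M.val.mulVecLin = 0 :=
      LinearMap.ext_basis (Pi.basisFun F _) (Pi.basisFun F _) fun x y => by simpa using hz x y
    have h1 := LinearMap.congr_fun₂ hB ((M⁻¹).val *ᵥ Pi.single (.inl ()) 1) ((M⁻¹).val *ᵥ Pi.single (.inl ()) 1)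
    simp only [LinearMap.compl₁₂_apply, Matrix.mulVecLin_apply, act_inv, C.self, LinearMap.zero_apply] at h1
    simp [Cfsg.quadFormOdd, h2] at h1
  set q₀ := Qo (M.val *ᵥ (ι₀ ∘ u₀)) with hq₀
  have hpol : ∀ u v : ιv → K, B (M.val *ᵥ (ι₀ ∘ u)) (M.val *ᵥ (ι₀ ∘ v)) / (2 * q₀) ∈ K := fun u v => by
    rw [AutPSL.mem_fixedF, map_div₀, map_mul, map_ofNat]
    have e1 : B (M.val *ᵥ (ι₀ ∘ u)) (M.val *ᵥ (ι₀ ∘ v)) = μ * σ (B (M.val *ᵥ (ι₀ ∘ u)) (M.val *ᵥ (ι₀ ∘ v))) := by
      have hs : M.val *ᵥ (ι₀ ∘ u) + M.val *ᵥ (ι₀ ∘ v) = M.val *ᵥ (ι₀ ∘ (u + v)) := by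
        rw [← Matrix.mulVec_add]; exact congrArg _ (funext fun k => (map_add ι₀ _ _).symm)
      rw [← C.polar, QuadraticMap.polar, hs, map_sub, map_sub, mul_sub, mul_sub, ← hfix _ (hsub _), ← hfix _ (hsub _),
        ← hfix _ (hsub _)]
    have e2 : q₀ = μ * σ q₀ := hfix _ (hsub u₀)
    have hμ0 : μ ≠ 0 := fun h0 => hu₀ (by rw [e2, h0, zero_mul])
    conv_rhs => rw [e1, e2, show (2 : F) * (μ * σ q₀) = μ * (2 * σ q₀) by ring, mul_div_mul_left _ _ hμ0]
  let M₀ : Matrix ιv ιv K := Matrix.of fun x y => ⟨_, hpol (Pi.single x 1) (Pi.single y 1)⟩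
  let Q₀ : QuadraticForm K (ιv → K) := LinearMap.BilinMap.toQuadraticMap (Matrix.toBilin' M₀)
  have hM₀ : ∀ u v : ιv → K, ι₀ (Matrix.toBilin' M₀ u v) = B (M.val *ᵥ (ι₀ ∘ u)) (M.val *ᵥ (ι₀ ∘ v)) / (2 * q₀) := by
    intro u v
    rw [Matrix.toBilin'_apply]
    have hB := congrArg (fun Φ => Φ (ι₀ ∘ u) (ι₀ ∘ v))
      (Matrix.toBilin'_toMatrix' (B.compl₁₂ M.val.mulVecLin M.val.mulVecLin)).symm
    simp only [LinearMap.compl₁₂_apply, Matrix.mulVecLin_apply] at hB
    rw [hB, Matrix.toBilin'_apply]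
    simp only [map_sum, map_mul, Finset.sum_div, LinearMap.BilinForm.toMatrix'_apply, Function.comp_apply,
      LinearMap.compl₁₂_apply, Matrix.mulVecLin_apply]
    refine Finset.sum_congr rfl fun x _ => Finset.sum_congr rfl fun y _ => ?_
    show ι₀ (u x) * (B (M.val *ᵥ (ι₀ ∘ Pi.single x (1 : K))) (M.val *ᵥ (ι₀ ∘ Pi.single y (1 : K))) / (2 * q₀)) *
      ι₀ (v y) = _
    rw [comp_single, comp_single]
    ring
  have hpol₀ : ∀ u v : ιv → K,
      ι₀ (QuadraticMap.polar Q₀ u v) = B (M.val *ᵥ (ι₀ ∘ u)) (M.val *ᵥ (ι₀ ∘ v)) / q₀ := fun u v => by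
    show ι₀ (QuadraticMap.polar (fun w => Matrix.toBilin' M₀ w w) u v) = _
    simp only [QuadraticMap.polar, map_add, LinearMap.add_apply, map_sub, hM₀]
    rw [C.symm (M.val *ᵥ (ι₀ ∘ v)) (M.val *ᵥ (ι₀ ∘ u))]
    field_simp
    ring
  have hnd : (QuadraticMap.polarBilin Q₀).Nondegenerate := by
    refine LinearMap.BilinForm.Nondegenerate.ofSeparatingLeft fun u hu => ?_
    have hz : ∀ w, B (M.val *ᵥ (ι₀ ∘ u)) w = 0 := by
      have hb : (B (M.val *ᵥ (ι₀ ∘ u))).comp M.val.mulVecLin = 0 := (Pi.basisFun F ιv).ext fun y => by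
        have h1 := congrArg ι₀ (hu (Pi.single y 1))
        rw [QuadraticMap.polarBilin_apply_apply, hpol₀, map_zero, comp_single] at h1
        simpa using (div_eq_zero_iff.1 h1).resolve_right hu₀
      intro w
      simpa [act_inv] using LinearMap.congr_fun hb ((M⁻¹).val *ᵥ w)
    have h1 := act_injective M (a₁ := ι₀ ∘ u) (a₂ := 0) (by simpa using C.nondeg' hz)
    exact funext fun k => ι₀.injective ((congrFun h1 k).trans (map_zero ι₀).symm)
  obtain ⟨b, hb0, hb1, hb2, hb3, hb4⟩ := std_basis_odd (m := m) (by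
    rw [finrank_fintype_fun_eq_card, card_odd_index]) Q₀ hnd
  set a := Q₀ (b (.inl ())) with ha
  let w : ιv → ιv → K := Sum.elim (fun _ => b (.inl ()))
    (Sum.elim (fun k => a • b (.inr (.inl k))) fun k => b (.inr (.inr k)))
  let W : Matrix ιv ιv K := Matrix.of fun x y => w y x
  have hWs : ∀ y, (W.map ι₀) *ᵥ Pi.single y 1 = ι₀ ∘ w y := fun y => funext fun x => by
    simp [W, Matrix.mulVec_single_one]
  have hwp : ∀ x y, QuadraticMap.polar Q₀ (w x) (w y) = a * gram x y := by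
    intro x y
    rcases x with x | x | x <;> rcases y with y | y | y <;>
      simp only [w, Sum.elim_inl, Sum.elim_inr, gram, QuadraticMap.polar_smul_left, QuadraticMap.polar_smul_right,
        smul_eq_mul, QuadraticMap.polar_comm (⇑Q₀) (b (Sum.inr _)) (b (Sum.inl _)),
        (hb1 _).1, (hb1 _).2, (hb4 _ _).1, (hb4 _ _).2, hb3, mul_zero]
    · rw [QuadraticMap.polar_self, ← ha, two_nsmul]; ring
    · rw [QuadraticMap.polar_comm, hb3]
      rcases eq_or_ne x y with rfl | hne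
      · simp
      · simp [hne, hne.symm]
  have hgram : ∀ x y, B ((M.val * W.map ι₀) *ᵥ Pi.single x 1) ((M.val * W.map ι₀) *ᵥ Pi.single y 1) =
      q₀ * ι₀ a * gram x y := fun x y => by
    rw [← Matrix.mulVec_mulVec, ← Matrix.mulVec_mulVec, hWs, hWs]
    have h1 := hpol₀ (w x) (w y)
    rw [hwp, map_mul, eq_div_iff hu₀] at h1
    have hg : ι₀ (gram x y) = (gram x y : F) := by
      rcases x with x | x | x <;> rcases y with y | y | y <;> simp [gram, map_ofNat]
    rw [← h1, hg]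
    ring
  have hq := quad_of_gram C h2 hgram
  have ha0 : q₀ * ι₀ a ≠ 0 := mul_ne_zero hu₀ (fun h0 => hb0 (ι₀.injective (h0.trans (map_zero ι₀).symm)))
  have hW : IsUnit (W.map ι₀).det := by
    rw [isUnit_iff_ne_zero]
    intro h0
    obtain ⟨v, hv0, hv⟩ := Matrix.exists_mulVec_eq_zero_iff.2 h0
    refine hv0 (C.nondeg' fun u => ?_)
    have hB : B.compl₁₂ (M.val * W.map ι₀).mulVecLin (M.val * W.map ι₀).mulVecLin = (q₀ * ι₀ a) • B :=
      LinearMap.ext_basis (Pi.basisFun F _) (Pi.basisFun F _) fun x y => by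
        simp only [Pi.basisFun_apply, LinearMap.compl₁₂_apply, Matrix.mulVecLin_apply, LinearMap.smul_apply, smul_eq_mul, hgram,
          std_gram C]
    have h1 := LinearMap.congr_fun₂ hB v u
    simp only [LinearMap.compl₁₂_apply, Matrix.mulVecLin_apply, LinearMap.smul_apply, smul_eq_mul] at h1
    rw [← Matrix.mulVec_mulVec, hv, Matrix.mulVec_zero, map_zero, LinearMap.zero_apply] at h1
    exact (mul_eq_zero.1 h1.symm).resolve_left ha0
  set G : GL ιv F := M * Matrix.GeneralLinearGroup.mk'' _ hW with hG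
  have hGmem : G ∈ Cfsg.Geo.quadSimilarityGroup (F := F) Qo := ⟨Units.mk0 _ ha0, fun v => hq v⟩
  have hWfix : sm σ (Matrix.GeneralLinearGroup.mk'' _ hW) = Matrix.GeneralLinearGroup.mk'' _ hW :=
    Units.ext (Matrix.ext fun x y => (W x y).2)
  refine ⟨innd ⟨G, hGmem⟩, ⟨_, rfl⟩, ?_⟩
  rw [← map_inv, mul_assoc, fld_mul_innd', ← mul_assoc, ← map_mul]
  refine congrArg (· * fld hQ σ) ((innd_eq_innd C h7 p).2 ⟨d, ?_⟩)
  show A.1 = sc d * (G * sm σ G⁻¹)
  rw [hG, map_inv, map_mul, hWfix, _root_.mul_inv_rev, ← mul_assoc (M * _), mul_inv_cancel_right, hM]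

/-- A field automorphism is conjugate to a standard one. -/
theorem field_class {x : MulAut (Cfsg.POmega F Qo)} (hx : Cfsg.IsFieldAutClassPOmega Qo x) :
    ∃ (σ : F ≃+* F) (α : MulAut (Cfsg.POmega F Qo)), x = α * fld hQ σ * α⁻¹ ∧ orderOf σ = orderOf x := by
  have h7 : 7 ≤ Fintype.card ιv := by rw [card_odd_index]; omega
  obtain ⟨α, φ, σ, -, hφ, hconj⟩ := hx
  rw [isFieldAut_iff hQ] at hφ
  subst hφ
  have hx' : x = α⁻¹ * fld hQ σ * α⁻¹⁻¹ := by rw [← hconj]; group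
  exact ⟨σ, α⁻¹, hx', by rw [hx', AutPSL.orderOf_conj, orderOf_injective _ (fld_injective C h7 p hQ)]⟩

variable {F₀ : Type*} [Field F₀] [Fintype F₀]
  {B₀ : LinearMap.BilinForm F₀ (Unit ⊕ (Fin m ⊕ Fin m) → F₀)} (C₀ : Space (Cfsg.quadFormOdd m F₀) B₀)
  {σ : F ≃+* F} (i : F₀ →+* F) (hi : ∀ x, σ x = x ↔ ∃ y, i y = x) {r : ℕ} (hr : r.Prime) (hσ : orderOf σ = r)

local notation "GS₀" => ↥(Cfsg.Geo.quadSimilarityGroup (F := F₀) (Cfsg.quadFormOdd m F₀))
local notation "R₀" => (innd : GS₀ →* MulAut (Cfsg.POmega F₀ (Cfsg.quadFormOdd m F₀))).range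

include C₀ hi hr hσ

omit p [Fact p.Prime] [CharP F p] hm in
theorem exists_iG {A : GS} {c : Fˣ} (hA : sm σ A.1 = sc c * A.1) :
    ∃ (d : Fˣ) (g : GS₀), A.1 = sc d * (iG C h2 i C₀ g).1 := by
  haveI : Fact r.Prime := ⟨hr⟩
  haveI : Nonempty ιv := ⟨.inl ()⟩
  obtain ⟨d, G, hG, hAG⟩ := Descent.exists_fixed hσ A.1 hA
  have h : ∀ a b, ∃ y, i y = G.val a b := fun a b =>
    (hi _).1 (congrFun (congrFun (congrArg (fun x : GL ιv F => x.val) hG) a) b)
  choose N hN using h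
  have hdet : IsUnit (Matrix.of N).det := by
    rw [isUnit_iff_ne_zero]
    intro h0
    have h1 := congrArg i h0
    rw [map_zero, RingHom.map_det, show i.mapMatrix (Matrix.of N) = G.val from Matrix.ext hN] at h1
    exact (Matrix.GeneralLinearGroup.det G).ne_zero h1
  have hg : Matrix.GeneralLinearGroup.map i (Matrix.GeneralLinearGroup.mk'' _ hdet) = G :=
    Units.ext (Matrix.ext hN)
  obtain ⟨μ, hμ⟩ := A.2
  have key : ∀ v : ιv → F₀, i (Cfsg.quadFormOdd m F₀ ((Matrix.of N) *ᵥ v)) =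
      ((d⁻¹ : Fˣ) : F) ^ 2 * (μ * i (Cfsg.quadFormOdd m F₀ v)) := fun v => by
    rw [← quad_map, ← quad_map, ← hμ, ← C.smul, hAG, mul_act, sc_act, smul_smul, Units.inv_mul, one_smul, ← hg,
      map_vec]
    rfl
  set c₀ := Cfsg.quadFormOdd m F₀ ((Matrix.of N) *ᵥ Pi.single (.inl ()) 1) with hc₀
  have hic : i c₀ = ((d⁻¹ : Fˣ) : F) ^ 2 * μ := by rw [hc₀, key]; simp [Cfsg.quadFormOdd]
  have hc0 : c₀ ≠ 0 := fun h0 => by rw [h0, map_zero] at hic; simp at hic
  refine ⟨d, ⟨Matrix.GeneralLinearGroup.mk'' _ hdet, Units.mk0 c₀ hc0, fun v => i.injective ?_⟩, by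
    rw [hAG]; exact congrArg (sc d * ·) hg.symm⟩
  refine (key v).trans ?_
  rw [map_mul, Units.val_mk0, hic, mul_assoc]

variable [CharP F₀ p]

set_option maxHeartbeats 1600000 in
/-- The centraliser of a field automorphism in `Inndiag`. -/
theorem field_centralizer :
    Nonempty (↥(R ⊓ Subgroup.centralizer {fld hQ σ}) ≃* ↥R₀) := by
  have h7 : 7 ≤ Fintype.card ιv := by rw [card_odd_index]; omega
  let φ : GS₀ →* ↥(R ⊓ Subgroup.centralizer {fld hQ σ}) :=
    ((innd : GS →* MulAut (Cfsg.POmega F Qo)).comp (iG C h2 i C₀)).codRestrict _ fun g =>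
      Subgroup.mem_inf.2 ⟨⟨_, rfl⟩, Subgroup.mem_centralizer_singleton_iff.2
        ((commute_fld_iff C h7 p hQ σ _).2 ⟨1, by
          rw [map_one, one_mul]; exact Units.ext (Matrix.ext fun a b => (hi _).2 ⟨_, rfl⟩)⟩)⟩
  have hφ : Function.Surjective φ := by
    rintro ⟨_, ⟨A, rfl⟩, hA⟩
    obtain ⟨c, hc⟩ := (commute_fld_iff C h7 p hQ σ A).1 (Subgroup.mem_centralizer_singleton_iff.1 hA)
    obtain ⟨d, g, hg⟩ := exists_iG C h2 C₀ i hi hr hσ hc
    refine ⟨g, Subtype.ext ((innd_eq_innd C h7 p).2 ⟨d⁻¹, ?_⟩)⟩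
    rw [hg, ← mul_assoc, ← map_mul, inv_mul_cancel, map_one, one_mul]
  have hker : φ.ker = (innd : GS₀ →* MulAut (Cfsg.POmega F₀ (Cfsg.quadFormOdd m F₀))).ker := by
    ext g
    rw [MonoidHom.mem_ker, MonoidHom.mem_ker, Subtype.ext_iff]
    show innd (iG C h2 i C₀ g) = 1 ↔ _
    rw [innd_eq_one_iff' C h7 p, innd_eq_one_iff' C₀ h7 p]
    constructor
    · rintro ⟨c, hc⟩
      have h1 : ∀ a b, i (g.1.val a b) = (c : F) * if a = b then 1 else 0 := fun a b => by
        have := congrArg (fun x : GL ιv F => x.val a b) hc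
        refine this.trans ?_
        rw [sc_val]
        simp [Matrix.one_apply]
      have hne : g.1.val (.inl ()) (.inl ()) ≠ 0 := fun h0 => c.ne_zero (by
        simpa [h0] using (h1 (.inl ()) (.inl ())).symm)
      refine ⟨Units.mk0 _ hne, Units.ext (Matrix.ext fun a b => i.injective ?_)⟩
      rw [h1 a b, sc_val]
      simp [Matrix.one_apply, apply_ite i, h1 (.inl ()) (.inl ())]
    · rintro ⟨c, hc⟩
      refine ⟨Units.map i.toMonoidHom c, Units.ext (Matrix.ext fun a b => ?_)⟩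
      show i (g.1.val a b) = _
      rw [hc]
      simp [Matrix.diagonal_apply, apply_ite i]
  exact ⟨((QuotientGroup.quotientKerEquivOfSurjective φ hφ).symm.trans
    ((QuotientGroup.quotientMulEquivOfEq hker).trans (QuotientGroup.quotientKerEquivRange _)))⟩

omit p [Fact p.Prime] [CharP F p] [CharP F₀ p] hm in
theorem isSquare_map (α : F₀) : (r = 2 → IsSquare (i α)) ∧ (Odd r → IsSquare (i α) → IsSquare α) := by
  constructor
  · rintro rfl
    rcases eq_or_ne α 0 with rfl | hα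
    · rw [map_zero]; exact ⟨0, (mul_zero 0).symm⟩
    have h20 : (2 : F₀) ≠ 0 := fun h => h2 (by rw [← map_ofNat i 2, h, map_zero])
    have hc : Nat.card (AutPSL.fixedF σ) = Fintype.card F₀ := by
      rw [← Nat.card_eq_fintype_card]
      refine (Nat.card_eq_of_bijective (fun y : F₀ => (⟨i y, (hi _).2 ⟨y, rfl⟩⟩ : AutPSL.fixedF σ)) ⟨fun a b e =>
        i.injective (congrArg Subtype.val e), fun z => ?_⟩).symm
      obtain ⟨y, hy⟩ := (hi _).1 z.2
      exact ⟨y, Subtype.ext hy⟩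
    have hpow := AutPSL.card_fixedF_pow σ
    rw [hσ, hc] at hpow
    have hchar : ∀ (K : Type _) [Field K] [Fintype K], (2 : K) ≠ 0 → Odd (Fintype.card K) := fun K _ _ h =>
      Nat.odd_iff.2 (FiniteField.odd_card_of_char_ne_two fun hc => h (by
        haveI := ringChar.of_eq hc; exact CharTwo.two_eq_zero))
    obtain ⟨k, hk⟩ := hchar F₀ h20
    refine (FiniteField.isSquare_iff (fun hc => h2 ?_) (fun h0 => hα (i.injective (h0.trans (map_zero i).symm)))).2 ?_
    · haveI := ringChar.of_eq hc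
      exact CharTwo.two_eq_zero
    · have h1 : Fintype.card F / 2 = (Fintype.card F₀ - 1) * (k + 1) := by
        rw [← hpow, hk, Nat.add_sub_cancel, show (2 * k + 1) ^ 2 = 2 * (2 * k * (k + 1)) + 1 by ring]
        omega
      rw [h1, ← map_pow, pow_mul, FiniteField.pow_card_sub_one_eq_one α hα, one_pow, map_one]
  · rintro hodd ⟨y, hy⟩
    have hσy : σ y * σ y = y * y := by rw [← map_mul, ← hy, (hi _).2 ⟨α, rfl⟩]
    rcases mul_self_eq_mul_self_iff.1 hσy with h | h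
    · obtain ⟨z, hz⟩ := (hi _).1 h
      exact ⟨z, i.injective (by rw [map_mul, hz, hy])⟩
    · have hk : ∀ k : ℕ, (σ ^ k) y = (-1) ^ k * y := by
        intro k
        induction k with
        | zero => simp
        | succ k ih =>
          show (σ ^ k) (σ y) = _
          rw [h, map_neg, ih, pow_succ]
          ring
      have h1 := hk r
      rw [← hσ, pow_orderOf_eq_one, hσ, hodd.neg_one_pow] at h1
      have h1' : y = -1 * y := h1
      have : y = 0 := (mul_eq_zero.1 (show (2 : F) * y = 0 by linear_combination h1')).resolve_left h2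
      exact ⟨0, i.injective (by rw [hy, this, mul_zero, mul_zero, map_zero])⟩

set_option maxHeartbeats 1600000 in
/-- The number of `Ω`-classes in the class of a field automorphism. -/
theorem field_split :
    Cfsg.splitClassCount R (Cfsg.Inn (Cfsg.POmega F Qo)) (fld hQ σ) = if r = 2 then 2 else 1 := by
  classical
  have h7 : 7 ≤ Fintype.card ιv := by rw [card_odd_index]; omega
  haveI hInn : (Cfsg.Inn (Cfsg.POmega F Qo)).Normal := ⟨fun _ ⟨x, hx⟩ α => ⟨α x, MulEquiv.ext fun y => by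
    rw [← hx]; simp [MulAut.mul_apply]⟩⟩
  have hle : Cfsg.Inn (Cfsg.POmega F Qo) ≤ R := by
    rintro _ ⟨x, rfl⟩
    obtain ⟨s, rfl⟩ := QuotientGroup.mk_surjective x
    obtain ⟨A, -, hA⟩ := conj_mk_eq C h7 p s
    exact ⟨A, hA⟩
  have hnorm : ∀ A : GS, ∃ s : ↥(isometryGroup F Qo), (s : GL ιv F).val.det = 1 ∧ innd (toSim s) = innd A := by
    intro A
    obtain ⟨d, s, hs, hdet⟩ := exists_so C A
    exact ⟨s, hdet, (innd_eq_innd C h7 p).2 ⟨d, hs⟩⟩
  rcases hr.eq_two_or_odd' with rfl | hodd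
  · rw [if_pos rfl]
    let f : GS →* GS ⧸ (Cfsg.Inn (Cfsg.POmega F Qo)).comap (innd : GS →* MulAut (Cfsg.POmega F Qo)) :=
      QuotientGroup.mk' _
    rw [AutPSL.splitClassCount_eq innd (Cfsg.Inn _) hle (fld hQ σ) f (QuotientGroup.mk'_surjective _) (fun g => ?_),
      ← Subgroup.index_eq_card, Subgroup.index_comap]
    · have h := Subgroup.card_mul_index ((Cfsg.Inn (Cfsg.POmega F Qo)).subgroupOf R)
      rw [Nat.card_congr (Subgroup.subgroupOfEquivOfLe hle).toEquiv, card_range_innd_odd C h2 hm p] at h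
      have hinn : Nat.card (Cfsg.Inn (Cfsg.POmega F Qo)) = Nat.card (Cfsg.POmega F Qo) := by
        haveI := pomega_simple C h7
        refine (Nat.card_congr (MonoidHom.ofInjective (f := MulAut.conj) ?_).toEquiv).symm
        rw [injective_iff_map_eq_one]
        intro x hx
        obtain ⟨s, rfl⟩ := QuotientGroup.mk_surjective x
        obtain ⟨A, hAs, hA⟩ := conj_mk_eq C h7 p s
        obtain ⟨c, -, hc⟩ := (innd_eq_one_iff C h7 p).1 (hA.trans hx)
        refine (QuotientGroup.eq_one_iff s).2 (Subgroup.mem_center_iff.2 fun z => om_injective ?_)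
        rw [map_mul, map_mul, ← hAs]
        exact gl_ext fun v => by rw [mul_act, mul_act, hc, hc, Matrix.mulVec_smul]
      rw [hinn, mul_comm] at h
      exact Nat.eq_of_mul_eq_mul_right Nat.card_pos h
    · show (QuotientGroup.mk g : GS ⧸ _) = 1 ↔ _
      rw [QuotientGroup.eq_one_iff, Subgroup.mem_comap]
      refine ⟨fun hg => ⟨_, hg, 1, by simp, by simp⟩, ?_⟩
      rintro ⟨k, hk, c, hc, hg⟩
      rw [hg]
      refine mul_mem hk ?_
      obtain ⟨e, he⟩ := (commute_fld_iff C h7 p hQ σ c).1 hc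
      obtain ⟨d, g₀, hg₀⟩ := exists_iG C h2 C₀ i hi hr hσ he
      obtain ⟨d₀, s₀, hs₀, hdet₀⟩ := exists_so C₀ g₀
      have hinn' : innd c = innd (toSim (iI C h2 i C₀ s₀)) := (innd_eq_innd C h7 p).2
        ⟨d * (Units.map i.toMonoidHom d₀)⁻¹, by
          show c.1 = _ * Matrix.GeneralLinearGroup.map i (s₀ : GL ιv F₀)
          rw [hg₀, hs₀, map_mul, map_mul, map_inv, show Matrix.GeneralLinearGroup.map i (sc d₀ : GL ιv F₀) =
            sc (Units.map i.toMonoidHom d₀) from Units.ext (Matrix.ext fun a b => by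
              simp [Matrix.diagonal_apply, apply_ite i]), mul_assoc, inv_mul_cancel_left]
          rfl⟩
      rw [hinn', mem_inn_iff C h2 hm p (by
        show (i.mapMatrix (s₀ : GL ιv F₀).val).det = 1
        rw [← RingHom.map_det, hdet₀, map_one])]
      have h20 : (2 : F₀) ≠ 0 := fun h => h2 (by rw [← map_ofNat i 2, h, map_zero])
      have key : ∀ s : ↥(isometryGroup F₀ (Cfsg.quadFormOdd m F₀)),
          Units.map (Int.castRingHom F₀ : ℤ →* F₀) (spin Qo (iI C h2 i C₀ s)) =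
            Matrix.GeneralLinearGroup.det (s : GL ιv F₀) := by
        refine refl_induction C₀ (Or.inl (card_ne_two h20)) _ (by simp) fun v hv g hg => ?_
        rw [map_mul, map_mul, map_mul, hg, iI_rI C h2 i C₀ hv, spin_rI C h2, if_pos (by
          rw [quad_map]; exact (isSquare_map C h2 C₀ i hi hr hσ _).1 rfl), Subgroup.coe_mul, map_mul]
        refine congrArg (· * _) (Units.ext ?_)
        have h0 := (congrArg Units.val (det_rI C₀ hv)).symm
        rw [rI_val] at h0 ⊢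
        simpa using h0
      have h1 := key s₀
      rw [show Matrix.GeneralLinearGroup.det (s₀ : GL ιv F₀) = 1 from Units.ext hdet₀] at h1
      rcases Int.units_eq_one_or (spin Qo (iI C h2 i C₀ s₀)) with h | h
      · exact h
      · rw [h] at h1
        exact absurd (by simpa using congrArg Units.val h1 : (-1 : F₀) = 1) fun h' => h20 (by linear_combination -h')
  · rw [if_neg (by rintro rfl; exact absurd hodd (by decide))]
    rw [AutPSL.splitClassCount_eq innd (Cfsg.Inn _) hle (fld hQ σ) (1 : GS →* PUnit.{1}) (fun _ => ⟨1, rfl⟩) (fun g => ?_),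
      Nat.card_unique]
    refine iff_of_true rfl ?_
    obtain ⟨s, hdet, hs⟩ := hnorm g
    rcases Int.units_eq_one_or (spin Qo s) with h | h
    · exact ⟨_, (mem_inn_iff C h2 hm p hdet).2 h, 1, by simp, by rw [map_one, mul_one, hs]⟩
    have h20 : (2 : F₀) ≠ 0 := fun h => h2 (by rw [← map_ofNat i 2, h, map_zero])
    obtain ⟨α, hα⟩ := FiniteField.exists_nonsquare (F := F₀) (fun hc => h20 (by
      haveI := ringChar.of_eq hc; exact CharTwo.two_eq_zero))
    have hα0 : α ≠ 0 := fun h => hα (h ▸ ⟨0, (mul_zero 0).symm⟩)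
    obtain ⟨v0, hv0⟩ := exists_value C₀ h20 (by rw [card_odd_index]; omega) one_ne_zero
    obtain ⟨v1, hv1⟩ := exists_value C₀ h20 (by rw [card_odd_index]; omega) hα0
    have n0 : Cfsg.quadFormOdd m F₀ v0 ≠ 0 := by rw [hv0]; exact one_ne_zero
    have n1 : Cfsg.quadFormOdd m F₀ v1 ≠ 0 := by rw [hv1]; exact hα0
    set w := iI C h2 i C₀ (rI C₀ v0 n0 * rI C₀ v1 n1) with hw
    have hwdet : (w : GL ιv F).val.det = 1 := by
      rw [hw, map_mul, iI_rI C h2 i C₀ n0, iI_rI C h2 i C₀ n1, Subgroup.coe_mul, Units.val_mul, Matrix.det_mul,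
        rI_val, rI_val]
      have e : ∀ (v) (hv : Qo v ≠ 0), (rGL Qo v).val.det = -1 := fun v hv => congrArg Units.val (det_rI C hv)
      rw [e, e, neg_mul_neg, one_mul] <;> rw [quad_map] <;> simp [n0, n1]
    have hwspin : spin Qo w = -1 := by
      rw [hw, map_mul, map_mul, iI_rI C h2 i C₀ n0, iI_rI C h2 i C₀ n1, spin_rI C h2, spin_rI C h2,
        if_pos (by rw [quad_map, hv0, map_one]; exact IsSquare.one),
        if_neg (by rw [quad_map, hv1]; exact fun h => hα ((isSquare_map C h2 C₀ i hi hr hσ _).2 hodd h)), mul_one]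
    refine ⟨innd (toSim (s * w⁻¹)), (mem_inn_iff C h2 hm p ?_).2 (by rw [map_mul, map_inv, h, hwspin]; rfl),
      toSim w, (commute_fld_iff C h7 p hQ σ _).2 ⟨1, ?_⟩, ?_⟩
    · show ((s : GL ιv F) * (w : GL ιv F)⁻¹).val.det = 1
      have : ((w : GL ιv F)⁻¹).val.det = 1 := by
        have := congrArg (fun x : GL ιv F => x.val.det) (inv_mul_cancel (w : GL ιv F))
        simpa [Matrix.det_mul, hwdet] using this
      rw [Units.val_mul, Matrix.det_mul, hdet, this, one_mul]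
    · rw [map_one, one_mul]
      exact Units.ext (Matrix.ext fun a b => (hi _).2 ⟨_, rfl⟩)
    · rw [← map_mul, ← map_mul, inv_mul_cancel_right, hs]

end Odd

end Cfsg.Lib.Linear.AutPO
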