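import Cfsg.Agent.Lib.Linear.OrthParity
import Cfsg.Agent.Lib.Linear.OrthSpinor
import Cfsg.Agent.Lib.Linear.OrthForms
import Cfsg.Agent.Lib.Linear.AutPO.Std
import Cfsg.Prelude.Def_LieTypeDatum

/-!
# The class-preserving similitudes of a split and of a minus-type form

The sign with which an isometry moves the two families of half-dimensional totally singular subspaces.
-/

set_option autoImplicit false

namespace Cfsg.Lib.Linear.AutPO

open Module
open Cfsg.Lib.Linear.Orth
open scoped Matrix

set_option quotPrecheck false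

section Split

variable {ι : Type} [Fintype ι] [DecidableEq ι] {F : Type*} [Field F] [Fintype F]
  {Q : (ι → F) → F} {B : LinearMap.BilinForm F (ι → F)} (C : Space Q B)

include C

theorem isHalf_of_max {U : Submodule F (ι → F)} (hU : Cfsg.IsMaxTotallySingular Q U)
    (hex : ∃ A : Submodule F (ι → F), IsHalf Q A) : IsHalf Q U := by
  obtain ⟨A, hA⟩ := hex
  have hts : ∀ x ∈ U, Q x = 0 := hU.1
  refine ⟨hts, ?_⟩
  have h1 := ts_bound C hts
  have h2 := hA.2
  by_contra hne
  obtain ⟨a, haA, haU, hperp⟩ := exists_mem_perp C hA (W := U) (by omega)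
  have hW : ∀ x ∈ U ⊔ Submodule.span F {a}, Q x = 0 := by
    intro x hx
    obtain ⟨u, hu, z, hz, rfl⟩ := Submodule.mem_sup.1 hx
    obtain ⟨t, rfl⟩ := Submodule.mem_span_singleton.1 hz
    rw [C.add, hts u hu, C.smul, hA.1 a haA, map_smul, hperp u hu]
    simp
  exact haU (hU.2 _ hW le_sup_left ▸ Submodule.mem_sup_right (Submodule.mem_span_singleton_self a))

theorem max_of_isHalf {A : Submodule F (ι → F)} (hA : IsHalf Q A) : Cfsg.IsMaxTotallySingular Q A :=
  ⟨hA.1, fun W hW hle => le_antisymm (fun x hx => hA.perp_mem C fun a ha => ts_orth C hW (hle ha) hx) hle⟩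

/-- A character which is `-1` on reflections gives the action on the two families. -/
theorem parity_sign (h : Fintype.card F ≠ 2 ∨ Fintype.card ι ≠ 4) (χ : ↥(isometryGroup F Q) →* ℤˣ)
    (hχ : ∀ v (hv : Q v ≠ 0), χ (rI C v hv) = -1) (g : ↥(isometryGroup F Q)) :
    ∀ A D : Submodule F (ι → F), IsHalf Q A → IsHalf Q D →
      (-1 : ℤˣ) ^ finrank F (A ⊓ img (g : GL ι F) D : Submodule F (ι → F)) =
        χ g * (-1 : ℤˣ) ^ finrank F (A ⊓ D : Submodule F (ι → F)) := by
  refine refl_induction C h (fun g : ↥(isometryGroup F Q) => ∀ A D : Submodule F (ι → F), IsHalf Q A → IsHalf Q D →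
      (-1 : ℤˣ) ^ finrank F (A ⊓ img (g : GL ι F) D : Submodule F (ι → F)) =
        χ g * (-1 : ℤˣ) ^ finrank F (A ⊓ D : Submodule F (ι → F))) ?_ ?_ g
  · intro A D _ _
    rw [map_one, one_mul, OneMemClass.coe_one, img_one]
  · intro v hv g hg A D hA hD
    rw [Subgroup.coe_mul, img_mul, map_mul, hχ v hv, mul_assoc, ← hg A D hA hD, rI_val]
    have hflip := parity_flip C hA (hD.img g.2) hv
    set x := finrank F (A ⊓ img (g : GL ι F) D : Submodule F (ι → F))
    set y := finrank F (A ⊓ img (rGL Q v) (img (g : GL ι F) D) : Submodule F (ι → F))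
    rcases Nat.even_or_odd x with hx | hx
    · have hy : Odd y := Nat.odd_iff.2 (by have := Nat.even_iff.1 hx; omega)
      rw [hy.neg_one_pow, hx.neg_one_pow, mul_one]
    · have hy : Even y := Nat.even_iff.2 (by have := Nat.odd_iff.1 hx; omega)
      rw [hy.neg_one_pow, hx.neg_one_pow, neg_mul_neg, one_mul]

/-- A scalar times an isometry preserves the two families iff the character is trivial on it. -/
theorem preserves_iff (h : Fintype.card F ≠ 2 ∨ Fintype.card ι ≠ 4) (χ : ↥(isometryGroup F Q) →* ℤˣ)
    (hχ : ∀ v (hv : Q v ≠ 0), χ (rI C v hv) = -1) (hex : ∃ A : Submodule F (ι → F), IsHalf Q A)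
    {G : GL ι F} {d : F} (hd : d ≠ 0) {g : ↥(isometryGroup F Q)}
    (hG : ∀ x, G.val *ᵥ x = d • ((g : GL ι F).val *ᵥ x)) :
    Cfsg.PreservesSingularClasses Q G.val ↔ χ g = 1 := by
  have himg : ∀ U : Submodule F (ι → F), Cfsg.imageSubmodule G.val U = img (g : GL ι F) U := by
    intro U
    refine SetLike.ext fun x => ?_
    show x ∈ U.map (Matrix.toLin' G.val) ↔ x ∈ U.map (Matrix.mulVecLin (g : GL ι F).val)
    simp only [Submodule.mem_map, Matrix.toLin'_apply, Matrix.mulVecLin_apply]
    constructor
    · rintro ⟨u, hu, rfl⟩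
      exact ⟨d • u, U.smul_mem d hu, by rw [hG, Matrix.mulVec_smul]⟩
    · rintro ⟨u, hu, rfl⟩
      exact ⟨d⁻¹ • u, U.smul_mem _ hu, by rw [hG, Matrix.mulVec_smul, smul_inv_smul₀ hd]⟩
  have key : ∀ U : Submodule F (ι → F), IsHalf Q U →
      (Cfsg.SameParityClass U (Cfsg.imageSubmodule G.val U) ↔ χ g = 1) := by
    intro U hU
    rw [himg, Cfsg.SameParityClass, Nat.even_sub (Submodule.finrank_mono inf_le_left)]
    have h1 := parity_sign C h χ hχ g U U hU hU
    rw [inf_idem] at h1
    set x := finrank F U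
    set y := finrank F (U ⊓ img (g : GL ι F) U : Submodule F (ι → F))
    rcases Int.units_eq_one_or (χ g) with e | e <;> rcases Nat.even_or_odd x with hx | hx <;>
      rcases Nat.even_or_odd y with hy | hy <;>
      rw [e, hx.neg_one_pow, hy.neg_one_pow] at h1 <;>
      first
        | exact absurd h1 (by decide)
        | exact iff_of_true (iff_of_true hy hx) e
        | exact iff_of_true (iff_of_false (Nat.not_even_iff_odd.2 hy) (Nat.not_even_iff_odd.2 hx)) e
        | exact iff_of_true (iff_of_true hx hy) e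
        | exact iff_of_true (iff_of_false (Nat.not_even_iff_odd.2 hx) (Nat.not_even_iff_odd.2 hy)) e
        | exact iff_of_false (fun h => Nat.not_even_iff_odd.2 hy (h.1 hx)) (by rw [e]; decide)
        | exact iff_of_false (fun h => Nat.not_even_iff_odd.2 hy (h.2 hx)) (by rw [e]; decide)
        | exact iff_of_false (fun h => Nat.not_even_iff_odd.2 hx (h.1 hy)) (by rw [e]; decide)
        | exact iff_of_false (fun h => Nat.not_even_iff_odd.2 hx (h.2 hy)) (by rw [e]; decide)
  constructor
  · intro hp
    obtain ⟨A, hA⟩ := hex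
    exact (key A hA).1 (hp A (max_of_isHalf C hA))
  · intro hχ1 U hU
    exact (key U (isHalf_of_max C hU hex)).2 hχ1

/-- In odd characteristic the character is the determinant. -/
theorem exists_det_sign (h2 : (2 : F) ≠ 0) :
    ∃ χ : ↥(isometryGroup F Q) →* ℤˣ, (∀ v (hv : Q v ≠ 0), χ (rI C v hv) = -1) ∧
      ∀ g : ↥(isometryGroup F Q), χ g = 1 ↔ (g : GL ι F).val.det = 1 := by
  classical
  have hne : (-1 : F) ≠ 1 := fun h => h2 (by linear_combination -h)
  let χ : ↥(isometryGroup F Q) →* ℤˣ := MonoidHom.mk' (fun g => if (g : GL ι F).val.det = 1 then 1 else -1)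
    fun a b => by
      simp only [Subgroup.coe_mul, Units.val_mul, Matrix.det_mul]
      rcases det_sq C a.2 with ha | ha <;> rcases det_sq C b.2 with hb | hb <;> rw [ha, hb] <;> simp [hne]
  refine ⟨χ, fun v hv => ?_, fun g => ?_⟩
  · show (if _ then (1 : ℤˣ) else -1) = -1
    rw [rI_val, rGL_det C hv, if_neg hne]
  · show (if _ then (1 : ℤˣ) else -1) = 1 ↔ _
    split_ifs with hg <;> simp [hg]

end Split

section Minus

variable {m : ℕ}

local notation "ιm" => ((Fin m ⊕ Fin m) ⊕ Fin 2)

theorem exists_space_disc {F : Type*} [Field F] (a b : F) (hd : a ^ 2 - 4 * b ≠ 0) :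
    ∃ B : LinearMap.BilinForm F (ιm → F), Space (Cfsg.quadFormMinus m F a b) B := by
  classical
  refine ⟨LinearMap.mk₂ F (fun u v =>
      (∑ i, (u (.inl (.inl i)) * v (.inl (.inr i)) + u (.inl (.inr i)) * v (.inl (.inl i)))) +
        (2 * u (.inr 0) * v (.inr 0) + a * u (.inr 0) * v (.inr 1) + a * u (.inr 1) * v (.inr 0) +
          2 * b * u (.inr 1) * v (.inr 1)))
    (fun p r c => by
      simp only [Pi.add_apply, add_mul, mul_add, Finset.sum_add_distrib]; ring)
    (fun r p c => by
      simp only [Pi.smul_apply, smul_eq_mul, mul_add, Finset.mul_sum]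
      congr 1
      · exact Finset.sum_congr rfl fun i _ => by ring
      · ring)
    (fun p r c => by
      simp only [Pi.add_apply, add_mul, mul_add, Finset.sum_add_distrib]; ring)
    (fun r p c => by
      simp only [Pi.smul_apply, smul_eq_mul, mul_add, Finset.mul_sum]
      congr 1
      · exact Finset.sum_congr rfl fun i _ => by ring
      · ring),
    fun c v => ?_, fun u v => ?_, fun v hv => funext fun j => ?_⟩
  · simp only [Cfsg.quadFormMinus, Pi.smul_apply, smul_eq_mul, Finset.mul_sum, mul_add]
    congr 1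
    · exact Finset.sum_congr rfl fun i _ => by ring
    · ring
  · simp only [QuadraticMap.polar, Cfsg.quadFormMinus, Pi.add_apply, LinearMap.mk₂_apply]
    have : ∀ i : Fin m, (u (.inl (.inl i)) + v (.inl (.inl i))) * (u (.inl (.inr i)) + v (.inl (.inr i)))
        = u (.inl (.inl i)) * u (.inl (.inr i)) + v (.inl (.inl i)) * v (.inl (.inr i)) +
          (u (.inl (.inl i)) * v (.inl (.inr i)) + u (.inl (.inr i)) * v (.inl (.inl i))) :=
      fun i => by ring
    simp only [this, Finset.sum_add_distrib]
    ring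
  rcases j with (j | j) | j
  · simpa [Pi.single_apply] using hv (Pi.single (.inl (.inr j)) 1)
  · simpa [Pi.single_apply] using hv (Pi.single (.inl (.inl j)) 1)
  have h0 := hv (Pi.single (.inr 0) 1)
  have h1 := hv (Pi.single (.inr 1) 1)
  simp [Pi.single_apply] at h0 h1
  set x := v (.inr 0)
  set y := v (.inr 1)
  suffices hxy : x = 0 ∧ y = 0 by fin_cases j; exacts [hxy.1, hxy.2]
  have hx : (a ^ 2 - 4 * b) * x = 0 := by linear_combination a * h1 - 2 * b * h0
  have hy : (a ^ 2 - 4 * b) * y = 0 := by linear_combination a * h0 - 2 * h1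
  exact ⟨(mul_eq_zero.1 hx).resolve_left hd, (mul_eq_zero.1 hy).resolve_left hd⟩

variable {F : Type*} [Field F] [Fintype F] {a b : F}
  (hab : ∀ z₁ z₂ : F, z₁ ^ 2 + a * z₁ * z₂ + b * z₂ ^ 2 = 0 → z₁ = 0 ∧ z₂ = 0)

include hab

theorem disc_ne : a ^ 2 - 4 * b ≠ 0 := by
  intro h
  by_cases h2 : (2 : F) = 0
  · haveI : CharP F 2 := CharTwo.of_one_ne_zero_of_two_eq_zero one_ne_zero h2
    have ha : a = 0 := by
      have : a ^ 2 = 0 := by linear_combination h + 2 * b * h2
      exact pow_eq_zero_iff two_ne_zero |>.1 this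
    obtain ⟨r, hr⟩ := FiniteField.isSquare_of_char_two (ringChar.eq F 2) b
    exact one_ne_zero (hab r 1 (by rw [ha, hr]; linear_combination (r * r) * h2)).2
  · exact one_ne_zero (hab (-a / 2) 1 (by field_simp; linear_combination (-1 : F) * h)).2

/-- A quadratic extension contains the roots. -/
theorem exists_root_quadratic {K : Type*} [Field K] [Fintype K] [Algebra F K] (hK : finrank F K = 2) :
    ∃ θ : K, θ ^ 2 + algebraMap F K a * θ + algebraMap F K b = 0 := by
  classical
  let h : Polynomial F := Polynomial.X ^ 2 + Polynomial.C a * Polynomial.X + Polynomial.C b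
  have hdeg : h.natDegree = 2 := by unfold h; compute_degree!
  have hirr : Irreducible h := by
    rw [Polynomial.irreducible_iff_roots_eq_zero_of_degree_le_three (by omega) (by omega)]
    refine Multiset.eq_zero_of_forall_notMem fun x hx => one_ne_zero (hab x 1 ?_).2
    have := (Polynomial.mem_roots'.1 hx).2
    simp only [h, Polynomial.IsRoot, Polynomial.eval_add, Polynomial.eval_pow, Polynomial.eval_X, Polynomial.eval_mul,
      Polynomial.eval_C] at this
    linear_combination this
  haveI := Fact.mk hirr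
  have hcard : Fintype.card K = Fintype.card F ^ 2 := by
    have := Module.card_eq_pow_finrank (K := F) (V := K)
    rwa [hK] at this
  haveI := (AdjoinRoot.powerBasis hirr.ne_zero).finite
  haveI : Finite (AdjoinRoot h) := Module.finite_of_finite F
  letI := Fintype.ofFinite (AdjoinRoot h)
  have hcard' : Fintype.card (AdjoinRoot h) = Fintype.card F ^ 2 := by
    have := Module.card_eq_pow_finrank (K := F) (V := AdjoinRoot h)
    rwa [(AdjoinRoot.powerBasis hirr.ne_zero).finrank, AdjoinRoot.powerBasis_dim, hdeg] at this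
  have hdvd : h ∣ Polynomial.X ^ (Fintype.card F ^ 2) - Polynomial.X := by
    rw [← AdjoinRoot.mk_eq_zero, map_sub, map_pow, AdjoinRoot.mk_X, ← hcard', FiniteField.pow_card, sub_self]
  have hsplit : ((Polynomial.X ^ (Fintype.card F ^ 2) - Polynomial.X : Polynomial F).map (algebraMap F K)).Splits := by
    simp only [Polynomial.map_sub, Polynomial.map_pow, Polynomial.map_X, ← hcard]
    rw [Polynomial.splits_iff_card_roots, FiniteField.roots_X_pow_card_sub_X]
    rw [FiniteField.X_pow_card_sub_X_natDegree_eq K Fintype.one_lt_card]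
    rfl
  have hne : (Polynomial.X ^ (Fintype.card F ^ 2) - Polynomial.X : Polynomial F).map (algebraMap F K) ≠ 0 := by
    rw [Polynomial.map_ne_zero_iff (algebraMap F K).injective]
    exact FiniteField.X_pow_card_sub_X_ne_zero F (Nat.one_lt_pow two_ne_zero Fintype.one_lt_card)
  have hs := hsplit.of_dvd hne (Polynomial.map_dvd (algebraMap F K) hdvd)
  obtain ⟨θ, hθ⟩ := hs.exists_eval_eq_zero (by
    rw [Polynomial.degree_map, Polynomial.degree_eq_natDegree hirr.ne_zero, hdeg]; decide)
  exact ⟨θ, by simpa [h] using hθ⟩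

/-- Over a quadratic extension the form splits. -/
theorem exists_half {K : Type*} [Field K] [Fintype K] [Algebra F K] (hK : finrank F K = 2) :
    ∃ A : Submodule K (ιm → K), IsHalf (Cfsg.quadFormMinus m K (algebraMap F K a) (algebraMap F K b)) A := by
  classical
  obtain ⟨θ, hθ⟩ := exists_root_quadratic hab hK
  let L : ((Fin m → K) × K) →ₗ[K] (ιm → K) :=
    { toFun := fun z => Sum.elim (Sum.elim z.1 0) ![z.2 * θ, z.2]
      map_add' := fun z w => by
        funext j; rcases j with (j | j) | j <;> first | (fin_cases j <;> simp [add_mul]) | simp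
      map_smul' := fun c z => by
        funext j; rcases j with (j | j) | j <;> first | (fin_cases j <;> simp [mul_assoc]) | simp }
  have hinj : Function.Injective L := fun z w e => Prod.ext
    (funext fun i => by simpa [L] using congrFun e (.inl (.inl i)))
    (by simpa [L] using congrFun e (.inr 1))
  refine ⟨LinearMap.range L, fun x hx => ?_, ?_⟩
  · obtain ⟨⟨v, t⟩, rfl⟩ := hx
    simp [L, Cfsg.quadFormMinus]
    linear_combination t ^ 2 * hθ
  · rw [LinearMap.finrank_range_of_inj hinj, Module.finrank_prod, Module.finrank_fintype_fun_eq_card,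
      Module.finrank_self, Fintype.card_fin]
    simp only [Fintype.card_sum, Fintype.card_fin]
    ring

omit [Fintype F] in
theorem quad_algebraMap {K : Type*} [Field K] [Algebra F K] (v : ιm → F) :
    Cfsg.quadFormMinus m K (algebraMap F K a) (algebraMap F K b) (algebraMap F K ∘ v) =
      algebraMap F K (Cfsg.quadFormMinus m F a b v) := by
  simp [Cfsg.quadFormMinus, map_sum]

end Minus

end Cfsg.Lib.Linear.AutPO
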