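import Cfsg.Agent.Lib.Linear.AutPO.PlusDiag
import Cfsg.Agent.Lib.Linear.AutPO.MinusDescent
import Cfsg.Agent.Lib.Linear.AutPO.OddField

/-!
# Field automorphisms twisted by a rational involutive similitude

The standard elements `innd R · σ` for the split form, where `R` is either trivial or the reflection interchanging the
last hyperbolic pair.
-/

set_option autoImplicit false

namespace Cfsg.Lib.Linear.AutPO

open Module
open Cfsg.Lib.Linear.Orth
open Cfsg.Lib.Linear.Descent (sc sm tw sc_val sc_comm sm_sc sm_one sm_mul)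
open scoped Matrix

set_option quotPrecheck false

variable {m : ℕ} {F : Type*} [Field F] [Fintype F]

local notation "ιp" => (Fin m ⊕ Fin m)
local notation "Qp" => Cfsg.quadFormPlus m F
local notation "GS" => ↥(Cfsg.Geo.quadSimilarityGroup (F := F) Qp)
local notation "P" => Cfsg.POmega F Qp
local notation "D" => Cfsg.inndiagPOmegaPlus m F
local notation "hQ" => (stdForm_plus : StdForm (Cfsg.quadFormPlus m F))

variable (hm : 4 ≤ m) (p : ℕ) [Fact p.Prime] [CharP F p] {B : LinearMap.BilinForm F (Fin m ⊕ Fin m → F)}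
  (C : Space (Cfsg.quadFormPlus m F) B)

omit [Fintype F] in
theorem smS_val [Finite F] (σ : F ≃+* F) (A : GS) : (smS hQ σ A).1 = sm σ A.1 := rfl

include hm C p

theorem plus_diag_or_refl (A : GS) {v : ιp → F} (hv : Qp v ≠ 0) :
    innd A ∈ D ∨ innd (A * isoSim (rI C v hv)) ∈ D := by
  have hcard : Fintype.card ιp = 2 * m := plus_card
  obtain ⟨c, hc⟩ := A.2
  by_cases h2 : (2 : F) = 0
  · obtain ⟨d, hd⟩ : IsSquare (c : F) := FiniteField.isSquare_of_char_two
      (ringChar.eq_iff.2 (CharTwo.of_one_ne_zero_of_two_eq_zero one_ne_zero h2)) _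
    have hd0 : d ≠ 0 := fun h => c.ne_zero (by rw [hd, h, mul_zero])
    let s : ↥(isometryGroup F Qp) := ⟨sc (Units.mk0 d hd0)⁻¹ * A.1, mem_iso.2 fun x => by
      rw [mul_act, sc_act, C.smul, hc, Units.val_inv_eq_inv_val, Units.val_mk0, hd]
      field_simp⟩
    have hAs : A.1 = sc (Units.mk0 d hd0) * (s : GL ιp F) := by
      show _ = sc _ * (sc _⁻¹ * A.1)
      rw [← mul_assoc, ← map_mul, mul_inv_cancel, map_one, one_mul]
    obtain ⟨δ, hδ, hδΩ⟩ := Cfsg.Lib.H3.omega_char_two C h2 (by omega) (Or.inr (by omega))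
    rcases Int.units_eq_one_or (δ s) with h | h
    · exact Or.inl ((plus_diag_iff_omega hm p C h2 hAs).2 ((hδΩ s).2 h))
    · refine Or.inr ((plus_diag_iff_omega hm p C h2 (s := s * rI C v hv) (d := Units.mk0 d hd0) ?_).2 ((hδΩ _).2 (by
        rw [map_mul, h, hδ v hv, neg_mul_neg, one_mul])))
      rw [Subgroup.coe_mul, Subgroup.coe_mul, ← mul_assoc, ← hAs]
      rfl
  · rcases det_eq_or C hcard hc with h | h
    · exact Or.inl ((plus_diag_iff_det hm p C h2 hc).2 h)
    · refine Or.inr ((plus_diag_iff_det hm p C h2 (c := (c : F)) fun x => ?_).2 ?_)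
      · rw [Subgroup.coe_mul, mul_act, hc]
        exact congrArg _ (mem_iso.1 (rI C v hv).2 x)
      · rw [Subgroup.coe_mul, Units.val_mul, Matrix.det_mul, h]
        show -(c : F) ^ m * (rGL Qp v).val.det = _
        rw [rGL_det C hv]
        ring

theorem plus_refl_not_diag {v : ιp → F} (hv : Qp v ≠ 0) : innd (isoSim (rI C v hv)) ∉ D := by
  have hcard : Fintype.card ιp = 2 * m := plus_card
  intro h
  by_cases h2 : (2 : F) = 0
  · obtain ⟨δ, hδ, hδΩ⟩ := Cfsg.Lib.H3.omega_char_two C h2 (by omega) (Or.inr (by omega))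
    have h1 := (hδΩ _).1 ((plus_diag_iff_omega hm p C h2 (s := rI C v hv) (d := 1) (by rw [map_one, one_mul]; rfl)).1 h)
    rw [hδ v hv] at h1
    exact absurd h1 (by decide)
  · have h1 := (plus_diag_iff_det hm p C h2 (A := isoSim (rI C v hv)) (c := 1)
      fun x => by rw [one_mul]; exact mem_iso.1 (rI C v hv).2 x).1 h
    change (rGL Qp v).val.det = _ at h1
    rw [rGL_det C hv, one_pow] at h1
    exact h2 (by linear_combination -h1)

theorem plus_inn_of_omega {s : ↥(isometryGroup F Qp)} (hs : s ∈ Cfsg.Omega F Qp) :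
    innd (isoSim s) ∈ Cfsg.Inn P := by
  obtain ⟨A, hA, hA'⟩ := conj_mk_eq C (by simp only [Fintype.card_sum, Fintype.card_fin]; omega) p ⟨s, hs⟩
  exact ⟨_, hA'.symm.trans (congrArg innd (Subtype.ext hA))⟩

theorem plus_inn_le : Cfsg.Inn P ≤ D := by
  rintro _ ⟨x, rfl⟩
  obtain ⟨t, rfl⟩ := QuotientGroup.mk_surjective x
  have h7 : 7 ≤ Fintype.card ιp := by simp only [Fintype.card_sum, Fintype.card_fin]; omega
  obtain ⟨A, hA, hA'⟩ := conj_mk_eq C h7 p t
  rw [← hA']
  by_cases h2 : (2 : F) = 0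
  · exact (plus_diag_iff_omega hm p C h2 (s := (t : ↥(isometryGroup F Qp))) (d := 1)
      (by rw [hA, map_one, one_mul]; rfl)).2 t.2
  · refine (plus_diag_iff_det hm p C h2 (c := 1) fun v => by rw [one_mul, hA]; exact mem_iso.1 (om_mem t) v).2 ?_
    rw [one_pow, hA]
    exact congrArg Units.val (congrArg Prod.fst (Abelianization.commutator_subset_ker (detSpin Qp) t.2))

variable {σ : F ≃+* F} {R : ↥(Cfsg.Geo.quadSimilarityGroup (F := F) (Cfsg.quadFormPlus m F))}
  (hR : sm σ R.1 = R.1) (hR2 : R.1 * R.1 = 1)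

include hR hR2

/-- Commuting with a twisted field automorphism. -/
theorem commute_twist_iff (A : GS) :
    innd A * (innd R * fld hQ σ) = innd R * fld hQ σ * innd A ↔
      ∃ c : Fˣ, R.1 * sm σ A.1 * R.1 = sc c * A.1 := by
  have h7 : 7 ≤ Fintype.card ιp := by simp only [Fintype.card_sum, Fintype.card_fin]; omega
  rw [mul_assoc (innd R) (fld hQ σ), fld_mul_innd', ← mul_assoc, ← mul_assoc, ← map_mul, ← map_mul, mul_left_inj,
    eq_comm, innd_eq_innd C h7 p]
  refine exists_congr fun c => ?_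
  rw [Subgroup.coe_mul, Subgroup.coe_mul, smS_val, ← mul_assoc]
  constructor <;> intro h
  · rw [h, mul_assoc, hR2, mul_one]
  · rw [← h, mul_assoc _ R.1 R.1, hR2, mul_one]

/-- Conjugating a twisted field automorphism. -/
theorem conj_twist (H : GS) :
    innd H * (innd R * fld hQ σ) * (innd H)⁻¹ = innd (H * R * smS hQ σ H⁻¹) * fld hQ σ := by
  rw [← map_inv, map_mul, map_mul, ← mul_assoc (innd H), mul_assoc _ (fld hQ σ), fld_mul_innd', ← mul_assoc]

end Cfsg.Lib.Linear.AutPO
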