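import Cfsg.Agent.Lib.Linear.AutPO.BalanceInvPM
import Cfsg.Agent.Lib.Linear.AutPO.BalanceInvQuad
import Cfsg.Agent.Lib.Linear.AutPO.MinusBalanceInv
import Cfsg.Agent.Lib.Linear.AutPO.PlusTwist

/-!
# Balance for the involutions of `PΩ⁺` outside the inner-diagonal group

An involution induced by a similitude outside the inner-diagonal group, all commuting automorphisms being induced by
semisimilarities, has a centraliser without core of odd order.
-/

set_option autoImplicit false

namespace Cfsg.Lib.Linear.AutPO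

open Module Polynomial
open Cfsg.Lib.Linear.Orth
open Cfsg.Lib.Linear.Descent (sc sm tw sc_val sc_comm sm_one)
open Cfsg.Lib.Linear.Balance
open scoped Matrix

set_option quotPrecheck false

variable {m : ℕ} {F : Type*} [Field F] [Fintype F] (hm : 4 ≤ m) (p : ℕ) [Fact p.Prime] [CharP F p] (h2 : (2 : F) ≠ 0)

local notation "ιp" => (Fin m ⊕ Fin m)
local notation "Qp" => Cfsg.quadFormPlus m F
local notation "GS" => ↥(Cfsg.Geo.quadSimilarityGroup (F := F) Qp)
local notation "P" => Cfsg.POmega F Qp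
local notation "D" => Cfsg.inndiagPOmegaPlus m F

include hm p h2

set_option maxHeartbeats 1600000 in
/-- **No core for the involutions outside the inner-diagonal group.** -/
theorem plus_inv_core_eq_bot (A : Subgroup (MulAut P)) (hinn : ∀ k : P, MulAut.conj k ∈ A) (g₀ : GS)
    (hord : orderOf (innd g₀) = 2) (hnot : innd g₀ ∉ D)
    (hdecA : ∀ b : MulAut P, b * innd g₀ = innd g₀ * b →
      ∃ (h : GL ιp F) (τ : F ≃+* F) (hs : Cfsg.IsSemisimilarityPair Qp h τ), b = semiAut hs) :
    Cfsg.pPrimeCore 2 ↥(A ⊓ Subgroup.centralizer {innd g₀}) = ⊥ := by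
  classical
  obtain ⟨B, C⟩ := exists_space_plus (F := F) m
  have hcard : Fintype.card ιp = 2 * m := plus_card
  have h7 : 7 ≤ Fintype.card ιp := by omega
  haveI : Nonempty ιp := Fintype.card_pos_iff.1 (by omega)
  obtain ⟨c₀, hc₀⟩ := g₀.2
  obtain ⟨d, hd⟩ : ∃ d : Fˣ, g₀.1 * g₀.1 = sc d := (innd_eq_sc C h7 p (A := g₀ * g₀)).1 (by
    rw [map_mul, ← pow_two]
    have h := pow_orderOf_eq_one (innd g₀)
    rwa [hord] at h)
  have hdv : ∀ v, g₀.1.val *ᵥ (g₀.1.val *ᵥ v) = (d : F) • v := fun v => by rw [← mul_act, hd, sc_act]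
  obtain ⟨v₀, hv₀⟩ := Cfsg.Lib.H3.exists_nonsing_vec C (by omega)
  have hcd : (c₀ : F) = d ∨ (c₀ : F) = -d := by
    refine mul_self_eq_mul_self_iff.1 (mul_right_cancel₀ hv₀ ?_)
    rw [mul_assoc, ← hc₀, ← hc₀, hdv, C.smul]
    ring
  by_cases hsq : IsSquare (d : F)
  · obtain ⟨e, he⟩ := hsq
    have he0 : e ≠ 0 := fun h => d.ne_zero (by rw [he, h, mul_zero])
    obtain ⟨z, hz⟩ : ∃ z : GS, z.1 = sc (Units.mk0 e he0)⁻¹ * g₀.1 :=
      ⟨⟨_, (Units.mk0 e he0)⁻¹ ^ 2 * c₀, fun v => by
        rw [mul_act, sc_act, C.smul, hc₀, Units.val_mul, Units.val_pow_eq_pow_val, mul_assoc]⟩, rfl⟩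
    have hzz : z.1 * z.1 = 1 := gl_ext fun v => by
      simp only [hz, mul_act, sc_act, Matrix.mulVec_smul, hdv, smul_smul, Units.val_inv_eq_inv_val, Units.val_mk0,
        Units.val_one, Matrix.one_mulVec, he]
      field_simp
      simp
    have hinnd : innd z = innd g₀ := (innd_eq_innd_sc C h7 p).2 ⟨_, hz⟩
    have hzq : ∀ v, Qp (z.1.val *ᵥ v) = (c₀ : F) / d * Qp v := fun v => by
      rw [hz, mul_act, sc_act, C.smul, hc₀, Units.val_inv_eq_inv_val, Units.val_mk0, he]
      field_simp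
    rw [← hinnd] at hord hnot hdecA ⊢
    rcases hcd with hc | hc
    swap
    · exfalso
      have hneg : ∀ v, Qp (z.1.val *ᵥ v) = -Qp v := fun v => by
        rw [hzq, hc, neg_div, div_self d.ne_zero, neg_one_mul]
      have h0 : ∀ v, z.1.val *ᵥ v = v ∨ z.1.val *ᵥ v = -v → Qp v = 0 := fun v hv => by
        have h := hneg v
        have h' : (2 : F) * Qp v = 0 := by
          rcases hv with hv | hv <;> rw [hv] at h
          · linear_combination h
          · rw [C.neg] at h
            linear_combination h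
        exact (mul_eq_zero.1 h').resolve_left h2
      have h1 := ts_bound C (A := fixW z.1) fun v hv => h0 v (Or.inl (mem_fixW.1 hv))
      have h3 := ts_bound C (A := fixW (sc (-1) * z.1)) fun v hv => h0 v (Or.inr (mem_fixW_neg.1 hv))
      have h4 := finrank_fixW_add hzz h2
      refine hnot ((plus_diag_iff_det hm p C h2 (A := z) (c := -1) fun v => by rw [hneg, neg_one_mul]).2 ?_)
      rw [det_of_fixW hzz h2, show finrank F (fixW (sc (-1) * z.1)) = m by omega]
    have hiso : z.1 ∈ isometryGroup F Qp := mem_iso.2 fun v => by rw [hzq, hc, div_self d.ne_zero, one_mul]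
    have hdet : z.1.val.det = -1 := by
      rcases det_eq_or C hcard (A := z.1) (c := 1) (fun v => by rw [one_mul]; exact mem_iso.1 hiso v) with h | h
      · exact absurd ((plus_diag_iff_det hm p C h2 (c := 1) fun v => by rw [one_mul]; exact mem_iso.1 hiso v).2 h) hnot
      · rw [h, one_pow]
    have hodd : Odd (finrank F (fixW (sc (-1) * z.1))) := by
      by_contra hev
      rw [det_of_fixW hzz h2, (Nat.not_odd_iff_even.1 hev).neg_one_pow] at hdet
      exact h2 (by linear_combination hdet)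
    have hsum := finrank_fixW_add hzz h2
    have hodd' : Odd (finrank F (fixW z.1)) := by
      obtain ⟨k, hk⟩ := hodd
      exact ⟨m - k - 1, by omega⟩
    have hzz' := neg_sq_one hzz
    have hiso' : sc (-1) * z.1 ∈ isometryGroup F Qp := mem_iso.2 fun v => by
      rw [neg_act, C.neg, mem_iso.1 hiso]
    have hneg2 : sc (-1) * (sc (-1) * z.1) = z.1 := by
      rw [← mul_assoc, ← map_mul, neg_mul_neg, one_mul, map_one, one_mul]
    have hcase : ∀ W : Submodule F (ιp → F), Odd (finrank F W) → finrank F W = 1 ∨ 3 ≤ finrank F W := fun W hW => by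
      obtain ⟨k, hk⟩ := hW
      omega
    have hcm : ∀ u : GL ιp F, u * z.1 = z.1 * u → u * (sc (-1) * z.1) = sc (-1) * z.1 * u := fun u hu => by
      rw [← mul_assoc, ← sc_comm, mul_assoc, hu, mul_assoc]
    have hcm' : ∀ u : GL ιp F, u * (sc (-1) * z.1) = sc (-1) * z.1 * u → u * z.1 = z.1 * u := fun u hu => by
      rw [← mul_assoc, ← sc_comm, mul_assoc, mul_assoc] at hu
      exact mul_left_cancel hu
    have hsplit : ∀ (u : GL ιp F) (x y : F), (∀ v ∈ fixW z.1, u.val *ᵥ v = x • v) →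
        (∀ v ∈ fixW (sc (-1) * z.1), u.val *ᵥ v = y • v) →
        (x = y → ∀ v, u.val *ᵥ v = x • v) ∧ (y = -x → ∀ v, u.val *ᵥ v = x • (z.1.val *ᵥ v)) := by
      intro u x y hx hy
      have hdec : ∀ v, ∃ w ∈ fixW z.1, ∃ w' ∈ fixW (sc (-1) * z.1), v = w + w' := fun v => by
        obtain ⟨w, hw, w', hw', e⟩ := Submodule.mem_sup.1 (show v ∈ fixW z.1 ⊔ fixW (sc (-1) * z.1) by
          rw [(isCompl_fixW hzz h2).sup_eq_top]; trivial)
        exact ⟨w, hw, w', hw', e.symm⟩
      constructor <;> intro hxy v <;> obtain ⟨w, hw, w', hw', rfl⟩ := hdec v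
      · rw [Matrix.mulVec_add, hx w hw, hy w' hw', hxy, smul_add]
      · rw [Matrix.mulVec_add, hx w hw, hy w' hw', hxy, Matrix.mulVec_add, mem_fixW.1 hw, mem_fixW_neg.1 hw',
          smul_add, smul_neg, neg_smul]
    refine inv_core_eq_bot' C h2 h7 p A hinn z hord (fun M hM hn ho u hu => ?_) (fun h τ hs hcomm hfix => ?_)
      hdecA
    · obtain ⟨x, hx1, hx⟩ := scal_fixW hzz h2 C hiso (hcase _ hodd') M hM hn ho hu
      obtain ⟨y, hy1, hy⟩ := scal_fixW hzz' h2 C hiso' (hcase _ hodd) M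
        (fun u hu => ⟨(hM u hu).1, hcm u (hM u hu).2⟩) (fun v hv hvz => hn v hv (hcm' v hvz)) ho hu
      obtain ⟨k, ⟨j, rfl⟩, c, hc⟩ := ho u hu
      have hpow : ∀ (W : Submodule F (ιp → F)) (t : F), t * t = 1 → (∀ v ∈ W, u.val *ᵥ v = t • v) → finrank F W ≠ 0 →
          t = c := by
        intro W t ht1 ht hW
        obtain ⟨v, hv, hv0⟩ := (Submodule.ne_bot_iff W).1 fun h => hW (by rw [h, finrank_bot])
        have hk : ∀ i : ℕ, (u ^ i).val *ᵥ v = t ^ i • v := fun i => by
          induction i with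
          | zero => simp
          | succ i ih => rw [pow_succ', mul_act, ih, Matrix.mulVec_smul, ht v hv, smul_smul, pow_succ]
        have h1 := hk (2 * j + 1)
        rw [hc, sc_act, pow_succ, pow_mul, sq, ht1, one_pow, one_mul] at h1
        exact (smul_left_injective F hv0 h1).symm
      have hxy : x = y := (hpow _ x hx1 hx (by rintro h; rw [h] at hodd'; exact absurd hodd' (by decide))).trans
        (hpow _ y hy1 hy (by rintro h; rw [h] at hodd; exact absurd hodd (by decide))).symm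
      exact eq_sc_of_smul ((hsplit u x y hx hy).1 hxy)
    · have hfix' : ∀ U ∈ isometryGroup F Qp, U * (sc (-1) * z.1) = sc (-1) * z.1 * U → U ^ p = 1 →
          semiGL h τ U = U := fun U hU hUz => hfix U hU (hcm' U hUz)
      have hbig : 3 ≤ finrank F (fixW z.1) ∨ 3 ≤ finrank F (fixW (sc (-1) * z.1)) := by omega
      obtain rfl : τ = 1 := hbig.elim (fun h' => (lin_fixW hzz h2 C hiso p h' hs hfix).1)
        (fun h' => (lin_fixW hzz' h2 C hiso' p h' hs hfix').1)
      obtain ⟨μ, hμ⟩ := id hs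
      have hμ' : ∀ v, Qp (h.val *ᵥ v) = (μ : F) * Qp v := hμ
      have hnz : ∀ (W : Submodule F (ιp → F)) (t : F), (∀ v ∈ W, h.val *ᵥ v = t • v) → 3 ≤ finrank F W → t ≠ 0 := by
        intro W t ht hW h0
        obtain ⟨v, hv, hv0⟩ := (Submodule.ne_bot_iff W).1 fun h => by rw [h, finrank_bot] at hW; omega
        exact hv0 (act_injective h (a₁ := v) (a₂ := 0) (by simp [ht v hv, h0]))
      have hone : ∀ (W : Submodule F (ιp → F)), finrank F W = 1 → (∀ v ∈ W, h.val *ᵥ v ∈ W) →
          ∃ t : F, ∀ v ∈ W, h.val *ᵥ v = t • v := by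
        intro W hW hinv
        obtain ⟨⟨e, he⟩, he0, hspan⟩ := finrank_eq_one_iff'.1 hW
        obtain ⟨t, ht⟩ := hspan ⟨_, hinv e he⟩
        refine ⟨t, fun v hv => ?_⟩
        obtain ⟨k, hk⟩ := hspan ⟨v, hv⟩
        have hk' : k • e = v := congrArg Subtype.val hk
        have ht' : t • e = h.val *ᵥ e := congrArg Subtype.val ht
        rw [← hk', Matrix.mulVec_smul, ← ht', smul_comm]
      obtain ⟨x, y, hx, hy⟩ : ∃ x y : F, (∀ v ∈ fixW z.1, h.val *ᵥ v = x • v) ∧
          ∀ v ∈ fixW (sc (-1) * z.1), h.val *ᵥ v = y • v := by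
        rcases hcase _ hodd' with h1 | h1 <;> rcases hcase _ hodd with h3 | h3
        · omega
        · obtain ⟨y, hy⟩ := (lin_fixW hzz' h2 C hiso' p h3 hs hfix').2
          obtain ⟨x, hx⟩ := hone _ h1 fun v hv => fixW_invariant hzz h2 C hiso hμ' (hnz _ y hy h3) hy hv
          exact ⟨x, y, hx, hy⟩
        · obtain ⟨x, hx⟩ := (lin_fixW hzz h2 C hiso p h1 hs hfix).2
          obtain ⟨y, hy⟩ := hone _ h3 fun v hv => fixW_invariant hzz' h2 C hiso' hμ' (hnz _ x hx h1)
            (by rw [hneg2]; exact hx) hv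
          exact ⟨x, y, hx, hy⟩
        · obtain ⟨x, hx⟩ := (lin_fixW hzz h2 C hiso p h1 hs hfix).2
          obtain ⟨y, hy⟩ := (lin_fixW hzz' h2 C hiso' p h3 hs hfix').2
          exact ⟨x, y, hx, hy⟩
      have hsq : ∀ (g : GL ιp F) (hg : g * g = 1) (hgi : g ∈ isometryGroup F Qp) (t : F),
          (∀ v ∈ fixW g, h.val *ᵥ v = t • v) → finrank F (fixW g) ≠ 0 → t * t = μ := by
        intro g hg hgi t ht hW
        obtain ⟨w, hw⟩ := (rformW hg h2 C hgi).exists_aniso h2 (by
          haveI : Nontrivial (fixW g) := Module.nontrivial_of_finrank_pos (R := F) (by omega)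
          exact exists_ne 0)
        have hq : Qp w.1 ≠ 0 := fun h0 => hw (by show B w.1 w.1 = 0; rw [C.self, h0, mul_zero])
        have h1 := hμ' w.1
        rw [ht w.1 w.2, C.smul, sq] at h1
        exact mul_right_cancel₀ hq h1
      have hxx := hsq z.1 hzz hiso x hx (by rintro h; rw [h] at hodd'; exact absurd hodd' (by decide))
      have hyy := hsq _ hzz' hiso' y hy (by rintro h; rw [h] at hodd; exact absurd hodd (by decide))
      refine semiAut_of_scalar C h7 p hs z ?_
      rcases mul_self_eq_mul_self_iff.1 (hyy.trans hxx.symm) with e | e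
      · exact Or.inl (eq_sc_of_smul ((hsplit h x y hx hy).1 e.symm))
      · have hx0 : x ≠ 0 := fun h0 => μ.ne_zero (by rw [← hxx, h0, mul_zero])
        exact Or.inr ⟨Units.mk0 x hx0, gl_ext fun v => by rw [(hsplit h x y hx hy).2 e, mul_act, sc_act]; rfl⟩
  · obtain ⟨K, iK, iA, s, iM, iT, hss, hdec, hact, hlift, hdet2, hdet⟩ := exists_quad_data hsq hdv
    rcases hcd with hc | hc
    swap
    · exfalso
      refine hnot ((plus_diag_iff_det hm p C h2 hc₀).2 ?_)
      rw [hdet m hcard, hc]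
    have hgm : ∀ v, Qp (g₀.1.val *ᵥ v) = (d : F) * Qp v := fun v => by rw [hc₀, hc]
    refine inv_core_eq_bot' C h2 h7 p A hinn g₀ hord (fun M hM hn ho u hu => ?_) (fun h τ hs hcomm hfix => ?_)
      hdecA
    · exact scal_quad C h2 hsq hdv hgm hss hdec hact h7 M hM hn ho hu
    · obtain ⟨c, hc'⟩ := semi_comm C h7 p hs g₀ hcomm
      have hτd : (c : F) * c * d = τ d := by
        obtain ⟨i⟩ : Nonempty ιp := Fintype.card_pos_iff.1 (by omega)
        set v := (Pi.single i 1 : ιp → F)
        have h1 := hc' (g₀.1.val *ᵥ v)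
        rw [hdv, hc' v, show τ ∘ ((d : F) • v) = τ d • (τ ∘ v) from funext fun j => map_mul τ _ _, Matrix.mulVec_smul,
          Matrix.mulVec_smul, hdv, smul_smul, smul_smul] at h1
        refine (smul_left_injective F ?_ h1).symm
        intro h0
        have h3 := act_injective h (a₁ := τ ∘ v) (a₂ := 0) (h0.trans (Matrix.mulVec_zero _).symm)
        have := congrFun h3 i
        simp [v] at this
      obtain ⟨τ', hτa, hτs⟩ := hlift c τ hτd
      obtain ⟨rfl, hh⟩ := lin_quad C h2 hsq hdv hgm hss hdec hact h7 p hs c.ne_zero hc' τ' hτa hτs hfix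
      exact semiAut_of_scalar C h7 p hs g₀ hh

end Cfsg.Lib.Linear.AutPO
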