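import Cfsg.Agent.Lib.Linear.AutPO.PlusCoset

/-!
# Normal forms of the field and graph-field automorphisms of `PΩ⁺`
-/

set_option autoImplicit false

namespace Cfsg.Lib.Linear.AutPO

open Module
open Cfsg.Lib.Linear.Orth
open Cfsg.Lib.Linear.Descent (sc sm tw sc_val sc_comm sm_sc sm_one sm_mul)
open scoped Matrix

set_option quotPrecheck false

section General

variable {m : ℕ} {F : Type*} [Field F] [Fintype F] (hm : 4 ≤ m) (p : ℕ) [Fact p.Prime] [CharP F p]
  {B : LinearMap.BilinForm F (Fin m ⊕ Fin m → F)} (C : Space (Cfsg.quadFormPlus m F) B)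

local notation "ιp" => (Fin m ⊕ Fin m)
local notation "Qp" => Cfsg.quadFormPlus m F
local notation "GS" => ↥(Cfsg.Geo.quadSimilarityGroup (F := F) Qp)
local notation "P" => Cfsg.POmega F Qp
local notation "D" => Cfsg.inndiagPOmegaPlus m F
local notation "hQ" => (stdForm_plus : StdForm (Cfsg.quadFormPlus m F))

include hm C p

set_option maxHeartbeats 800000 in
/-- The field automorphisms respect the inner-diagonal group. -/
theorem fld_norm (σ : F ≃+* F) {A : GS} (h : innd A ∈ D) : innd (smS hQ σ A) ∈ D := by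
  obtain ⟨c, hc⟩ := A.2
  by_cases h2 : (2 : F) = 0
  · obtain ⟨d, hd⟩ : IsSquare (c : F) := FiniteField.isSquare_of_char_two
      (ringChar.eq_iff.2 (CharTwo.of_one_ne_zero_of_two_eq_zero one_ne_zero h2)) _
    have hd0 : d ≠ 0 := fun h => c.ne_zero (by rw [hd, h, mul_zero])
    let s : ↥(isometryGroup F Qp) := ⟨sc (Units.mk0 d hd0)⁻¹ * A.1, mem_iso.2 fun x => by
      rw [mul_act, sc_act, C.smul, hc, Units.val_inv_eq_inv_val, Units.val_mk0, hd]
      field_simp⟩
    have hAs : A.1 = sc (Units.mk0 d hd0) * (s : GL ιp F) := by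
      show _ = sc _ * (sc _⁻¹ * A.1)
      rw [← mul_assoc, ← map_mul, mul_inv_cancel, map_one, one_mul]
    have hs := (plus_diag_iff_omega hm p C h2 hAs).1 h
    set t := semiOmega (isSemi_fld hQ σ) ⟨s, hs⟩ with ht
    have ht' : om Qp t = sm σ (s : GL ιp F) := by
      rw [ht]
      refine (semiOmega_coe (isSemi_fld hQ σ) ⟨s, hs⟩).trans (Units.ext ?_)
      rw [semiGL_val]
      simp [Descent.sm_val]
    refine (plus_diag_iff_omega hm p C h2 (s := (t : ↥(isometryGroup F Qp)))
      (d := Units.map σ.toRingHom.toMonoidHom (Units.mk0 d hd0)) ?_).2 t.2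
    rw [smS_val, hAs, map_mul, sm_sc]
    exact congrArg (_ * ·) ht'.symm
  · refine (plus_diag_iff_det hm p C h2 (c := σ c) fun v => ?_).2 ?_
    · obtain ⟨u, rfl⟩ : ∃ u : ιp → F, σ ∘ u = v := ⟨σ.symm ∘ v, funext fun i => σ.apply_symm_apply _⟩
      rw [smS_val, ← sm_eq, map_act, stdForm_plus σ, hc, map_mul, stdForm_plus σ]
    · rw [smS_val, ← map_pow, ← (plus_diag_iff_det hm p C h2 hc).1 h]
      exact (RingHom.map_det σ.toRingHom A.1.val).symm

/-- The inner-diagonal group is normal in the group of similitudes. -/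
theorem diag_conj (A : GS) {X : GS} (h : innd X ∈ D) : innd A * innd X * (innd A)⁻¹ ∈ D := by
  obtain ⟨v, hv⟩ := Cfsg.Lib.H3.exists_nonsing_vec C (by simp only [Fintype.card_sum, Fintype.card_fin]; omega)
  set R := innd (isoSim (rI C v hv)) with hR
  have hRR : R * R = 1 := by rw [hR, ← map_mul, ← map_mul, rI_sq, map_one, map_one]
  have hRnot : R ∉ D := plus_refl_not_diag hm p C hv
  have key : ∀ Y, innd Y ∈ D → R * innd Y * R ∈ D := fun Y hY => by
    rcases plus_diag_or_refl hm p C (isoSim (rI C v hv) * Y * isoSim (rI C v hv)) hv with h | h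
    · rwa [map_mul, map_mul] at h
    · exfalso
      rw [map_mul, map_mul, map_mul, mul_assoc, hRR, mul_one] at h
      exact hRnot ((Subgroup.mul_mem_cancel_right _ hY).1 h)
  rcases plus_diag_or_refl hm p C A hv with h' | h'
  · exact mul_mem (mul_mem h' h) (inv_mem h')
  · rw [map_mul] at h'
    have := mul_mem (mul_mem h' (key X h)) (inv_mem h')
    rw [_root_.mul_inv_rev] at this
    convert this using 1
    rw [show R⁻¹ = R from inv_eq_of_mul_eq_one_right hRR]
    simp only [mul_assoc]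
    rw [← mul_assoc R R, hRR, one_mul, ← mul_assoc R R, hRR, one_mul]

theorem plus_normal (hgood : 9 ≤ Fintype.card ιp ∨ ∀ A : Submodule F (ιp → F), (∀ v ∈ A, Qp v = 0) → finrank F A ≤ 3) :
    (D).Normal := ⟨fun β hβ γ => by
  have h7 : 7 ≤ Fintype.card ιp := by simp only [Fintype.card_sum, Fintype.card_fin]; omega
  obtain ⟨X, rfl⟩ := inndiag_plus_le_range hm p C hβ
  obtain ⟨A, σ, rfl⟩ := exists_decomp_std C h7 p hgood hQ γ
  have e : innd A * fld hQ σ * innd X * (innd A * fld hQ σ)⁻¹ = innd A * innd (smS hQ σ X) * (innd A)⁻¹ := by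
    rw [mul_assoc (innd A), fld_mul_innd']
    group
  rw [e]
  exact diag_conj hm p C A (fld_norm hm p C σ hβ)⟩

/-- An element of prime order in a coset of field type. -/
theorem orderOf_field {σ : F ≃+* F} (hσ : σ ≠ 1) {X : GS} {r : ℕ} (hr : r.Prime)
    (h : orderOf (innd X * fld hQ σ) = r) : orderOf σ = r := by
  have h7 : 7 ≤ Fintype.card ιp := by simp only [Fintype.card_sum, Fintype.card_fin]; omega
  haveI : Fact r.Prime := ⟨hr⟩
  refine orderOf_eq_prime ?_ hσ
  obtain ⟨T, -, e⟩ := innd_fld_pow hQ σ X r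
  rw [← h, pow_orderOf_eq_one, h, eq_comm] at e
  exact (innd_mul_fld_eq_one C h7 p hQ e).2

end General

section Classes

variable {n : ℕ} {F : Type*} [Field F] [Fintype F]

local notation "ιp" => (Fin (n + 1) ⊕ Fin (n + 1))
local notation "Qp" => Cfsg.quadFormPlus (n + 1) F
local notation "GS" => ↥(Cfsg.Geo.quadSimilarityGroup (F := F) Qp)
local notation "P" => Cfsg.POmega F Qp
local notation "D" => Cfsg.inndiagPOmegaPlus (n + 1) F
local notation "hQ" => (stdForm_plus : StdForm (Cfsg.quadFormPlus (n + 1) F))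

variable (hn : 3 ≤ n) (p : ℕ) [Fact p.Prime] [CharP F p]
  {B : LinearMap.BilinForm F (Fin (n + 1) ⊕ Fin (n + 1) → F)} (C : Space (Cfsg.quadFormPlus (n + 1) F) B)

include hn p C

/-- Field type and graph-field type do not mix. -/
theorem parity_left {σ : F ≃+* F} {X H : GS} (hH : innd H ∈ D)
    (e : innd X * fld hQ σ = innd H * fld hQ σ * (innd H)⁻¹) : innd X ∈ D := by
  have h4 : 4 ≤ n + 1 := by omega
  rw [← map_inv, mul_assoc, fld_mul_innd', ← mul_assoc, mul_left_inj] at e
  rw [e]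
  exact mul_mem hH (fld_norm h4 p C σ (by rw [map_inv]; exact inv_mem hH))

theorem parity_right {σ : F ≃+* F} {X H : GS} (hH : innd H ∈ D)
    (e : innd X * fld hQ σ = innd H * (innd (swapS C) * fld hQ σ) * (innd H)⁻¹) : innd X ∉ D := by
  have h4 : 4 ≤ n + 1 := by omega
  intro hX
  rw [← map_inv, mul_assoc, mul_assoc (innd (swapS C)), fld_mul_innd', ← mul_assoc (innd (swapS C)), ← mul_assoc,
    mul_left_inj] at e
  rw [e, ← mul_assoc, Subgroup.mul_mem_cancel_right _ (fld_norm h4 p C σ (by rw [map_inv]; exact inv_mem hH)),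
    Subgroup.mul_mem_cancel_left _ hH] at hX
  exact plus_refl_not_diag h4 p C swapV_ne hX

/-- A field automorphism of prime order is conjugate to a standard one. -/
theorem plus_field_class {x : MulAut P} (hx : Cfsg.IsFieldAutClassPOmega Qp x) {r : ℕ} (hr : r.Prime)
    (hxr : orderOf x = r) :
    ∃ (σ : F ≃+* F) (α : MulAut P), orderOf σ = r ∧ x = α * fld hQ σ * α⁻¹ := by
  obtain ⟨α, φ, σ, hσ, hφ, hconj⟩ := hx
  rw [isFieldAut_iff hQ] at hφ
  subst hφ
  have hx' : x = α⁻¹ * fld hQ σ * α⁻¹⁻¹ := by rw [← hconj]; group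
  refine ⟨σ, α⁻¹, ?_, hx'⟩
  refine orderOf_field (by omega) p C (X := 1) hσ hr ?_
  rw [map_one, one_mul, ← hxr, hx', AutPSL.orderOf_conj]

/-- A graph-field automorphism of prime order is conjugate to the standard one, and has order two. -/
theorem plus_graph_class {x : MulAut P} (hx : Cfsg.IsGraphFieldAutClassPOmegaPlus (n + 1) x) {r : ℕ} (hr : r.Prime)
    (hxr : orderOf x = r) :
    r = 2 ∧ ∃ (σ : F ≃+* F) (α : MulAut P), orderOf σ = 2 ∧ x = α * (innd (swapS C) * fld hQ σ) * α⁻¹ := by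
  obtain ⟨α, γ, φ, σ, v, g, hσ, hv, -, hg, hγ, hφ, hconj⟩ := hx
  rw [isFieldAut_iff hQ] at hφ
  subst hφ
  have hgR : g = (rI C v hv : GL ιp F) := Units.ext (by rw [hg, rI_val, rGL_val C hv])
  subst hgR
  rw [eq_semiAut (isSemi_sim (isoSim (rI C v hv))) hγ, ← innd_eq] at hconj
  have ho : orderOf (innd (isoSim (rI C v hv)) * fld hQ σ) = r := by
    rw [← hxr, ← hconj, AutPSL.orderOf_conj]
  have hor := orderOf_field (by omega) p C hσ hr ho
  have hpow : (innd (isoSim (rI C v hv)) * fld hQ σ) ^ r = 1 := by rw [← ho, pow_orderOf_eq_one]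
  rcases plus_coset C σ hn p hr hor _ hpow with ⟨H, hH, e⟩ | ⟨hr2, H, hH, e⟩
  · exact absurd (parity_left hn p C hH e) (plus_refl_not_diag (by omega) p C hv)
  · refine ⟨hr2, σ, α⁻¹ * innd H, hor.trans hr2, ?_⟩
    rw [e] at hconj
    rw [show x = α⁻¹ * (α * x * α⁻¹) * α by group, hconj]
    group

set_option maxHeartbeats 800000 in
/-- The elements of prime order in a coset. -/
theorem plus_coset_conj {σ : F ≃+* F} {r : ℕ} (hr : r.Prime) (hσ : orderOf σ = r) {A : GS} (hA : innd A ∈ D)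
    (S : GS) (hS : S = 1 ∨ S = swapS C) (h : orderOf (innd A * (innd S * fld hQ σ)) = r) :
    Cfsg.IsConjUnder D (innd S * fld hQ σ) (innd A * (innd S * fld hQ σ)) := by
  have hpow : (innd (A * S) * fld hQ σ) ^ r = 1 := by rw [map_mul, mul_assoc, ← h, pow_orderOf_eq_one]
  rcases plus_coset C σ hn p hr hσ _ hpow with ⟨H, hH, e⟩ | ⟨-, H, hH, e⟩
  · rcases hS with rfl | rfl
    · exact ⟨_, hH, by rw [map_one, one_mul, ← e, map_mul, map_one, mul_one]⟩
    · have := parity_left hn p C hH e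
      rw [map_mul, Subgroup.mul_mem_cancel_left _ hA] at this
      exact absurd this (plus_refl_not_diag (by omega) p C swapV_ne)
  · rcases hS with rfl | rfl
    · exact absurd (by rw [mul_one]; exact hA) (parity_right hn p C hH e)
    · exact ⟨_, hH, by rw [← e, map_mul, mul_assoc]⟩

end Classes

end Cfsg.Lib.Linear.AutPO
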