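import Cfsg.Agent.Lib.Linear.AutPO.FrameBalance
import Cfsg.Agent.Lib.Linear.AutPO.PlusBalanceInv
import Cfsg.Agent.Lib.Linear.AutPO.PlusMain

/-!
# Balance for the automorphisms of `PΩ⁺` induced by semisimilarities

For an automorphism of prime order outside the inner-diagonal group induced by a semisimilarity, local balance fails exactly
for the field automorphisms with number of fixed points prime to the order, provided the automorphisms centralising it and a
rational subgroup are induced by semisimilarities.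
-/

set_option autoImplicit false

namespace Cfsg.Lib.Linear.AutPO

open Module
open Cfsg.Lib.Linear.Orth
open Cfsg.Lib.Linear.Descent (sc sm tw sc_val sc_comm sm_sc sm_one sm_mul)
open scoped Matrix

set_option quotPrecheck false

/-- Replacing an automorphism by a conjugate. -/
theorem balance_of_conj {K : Type*} [Group K] [Finite K] {ℓ : ℕ} (A : Subgroup (MulAut K)) {x a y : MulAut K}
    (e : x = a * y * a⁻¹) :
    (Cfsg.pPrimeCore ℓ ↥(A ⊓ Subgroup.centralizer {x}) = ⊥ ↔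
      Cfsg.pPrimeCore ℓ ↥(A.map (MulAut.conj a⁻¹).toMonoidHom ⊓ Subgroup.centralizer {y}) = ⊥) ∧
      Nat.card ↥(MonoidHom.eqLocus x.toMonoidHom (MonoidHom.id K)) =
        Nat.card ↥(MonoidHom.eqLocus y.toMonoidHom (MonoidHom.id K)) := by
  subst e
  refine ⟨?_, Balance.card_fixed_conj y a⟩
  rw [← Balance.core_conj A (a * y * a⁻¹) a⁻¹, show a⁻¹ * (a * y * a⁻¹) * a⁻¹⁻¹ = y by group]

variable {n : ℕ} {F : Type*} [Field F] [Fintype F] (hn : 3 ≤ n) (p : ℕ) [Fact p.Prime] [CharP F p]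

local notation "ιp" => (Fin (n + 1) ⊕ Fin (n + 1))
local notation "Qp" => Cfsg.quadFormPlus (n + 1) F
local notation "GS" => ↥(Cfsg.Geo.quadSimilarityGroup (F := F) Qp)
local notation "P" => Cfsg.POmega F Qp
local notation "D" => Cfsg.inndiagPOmegaPlus (n + 1) F
local notation "hQ" => (stdForm_plus : StdForm (Cfsg.quadFormPlus (n + 1) F))

/-- An automorphism is induced by a semisimilarity. -/
def IsSemiAut {ι : Type} [Fintype ι] [DecidableEq ι] {F : Type*} [Field F] [Finite F] (Q : (ι → F) → F)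
    (b : MulAut (Cfsg.POmega F Q)) : Prop :=
  ∃ (h : GL ι F) (τ : F ≃+* F) (hs : Cfsg.IsSemisimilarityPair Q h τ), b = semiAut hs

/-- The automorphisms centralising the rational points of a standard field automorphism are semisimilarities. -/
def RatDec (n : ℕ) (F : Type*) [Field F] [Fintype F] : Prop :=
  ∀ (σ : F ≃+* F) (ψ : ↥(Cfsg.Omega (AutPSL.fixedF σ) (Cfsg.quadFormPlus (n + 1) (AutPSL.fixedF σ))) →*
      Cfsg.POmega F (Cfsg.quadFormPlus (n + 1) F)),
    (∀ s, ∃ t : ↥(Cfsg.Omega F (Cfsg.quadFormPlus (n + 1) F)), ψ s = QuotientGroup.mk t ∧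
      om (Cfsg.quadFormPlus (n + 1) F) t =
        Matrix.GeneralLinearGroup.map (AutPSL.fixedF σ).subtype (om (Cfsg.quadFormPlus (n + 1) (AutPSL.fixedF σ)) s)) →
    ∀ b : MulAut (Cfsg.POmega F (Cfsg.quadFormPlus (n + 1) F)), (∀ s, b (ψ s) = ψ s) →
      IsSemiAut (Cfsg.quadFormPlus (n + 1) F) b

/-- The automorphisms centralising an element outside the inner-diagonal group are semisimilarities. -/
def TwistDec (n : ℕ) (F : Type*) [Field F] [Fintype F] : Prop :=
  ∀ (σ : F ≃+* F) (X : ↥(Cfsg.Geo.quadSimilarityGroup (F := F) (Cfsg.quadFormPlus (n + 1) F))),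
    innd X ∉ Cfsg.inndiagPOmegaPlus (n + 1) F →
    ∀ b : MulAut (Cfsg.POmega F (Cfsg.quadFormPlus (n + 1) F)),
      b * (innd X * fld (stdForm_plus : StdForm (Cfsg.quadFormPlus (n + 1) F)) σ) =
        innd X * fld (stdForm_plus : StdForm (Cfsg.quadFormPlus (n + 1) F)) σ * b →
      IsSemiAut (Cfsg.quadFormPlus (n + 1) F) b

include hn p

set_option maxHeartbeats 8000000 in
/-- **Balance for a standard field automorphism.** -/
theorem plus_field_balance {σ : F ≃+* F} {ℓ : ℕ} [Fact ℓ.Prime] (hσ : orderOf σ = ℓ) (hℓp : ℓ ≠ p) :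
    (∀ A : Subgroup (MulAut P), (∀ k : P, MulAut.conj k ∈ A) → RatDec n F →
      (Cfsg.pPrimeCore ℓ ↥(A ⊓ Subgroup.centralizer {fld hQ σ}) ≠ ⊥ ↔
        Nat.Coprime ℓ (Nat.card ↥(MonoidHom.eqLocus (fld hQ σ).toMonoidHom (MonoidHom.id P))))) ∧
    (ℓ = 2 → ¬ Nat.Coprime ℓ (Nat.card ↥(MonoidHom.eqLocus (fld hQ σ).toMonoidHom (MonoidHom.id P)))) := by
  classical
  letI : Fintype (AutPSL.fixedF σ) := Fintype.ofFinite _
  obtain ⟨B, C⟩ := exists_space_plus (F := F) (n + 1)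
  obtain ⟨B₀, C₀⟩ := exists_space_plus (F := AutPSL.fixedF σ) (n + 1)
  have h7 : 7 ≤ Fintype.card ιp := by simp only [Fintype.card_sum, Fintype.card_fin]; omega
  have hQ0 : ∀ v : ιp → AutPSL.fixedF σ, Qp ((AutPSL.fixedF σ).subtype ∘ v) =
      (AutPSL.fixedF σ).subtype (Cfsg.quadFormPlus (n + 1) (AutPSL.fixedF σ) v) := fun v => plus_map _ v
  have hM : ∀ v, Qp ((1 : GL ιp F).val *ᵥ v) = Qp v := fun v => by rw [Units.val_one, Matrix.one_mulVec]
  have hg : (1 : GL ιp F) = 1 * (sm σ (1 : GL ιp F))⁻¹ := by rw [map_one, inv_one, mul_one]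
  have hord : semiAut (isSemi_fld hQ σ) ^ ℓ = 1 := by
    rw [← fld_eq hQ, ← map_pow, ← hσ, pow_orderOf_eq_one, map_one]
  refine ⟨fun A hinn hdec => ?_, fun h => ?_⟩
  · rw [fld_eq]
    refine frameGen_balance C C C₀ hQ0 hM hg (isSemi_fld hQ σ) h7 p ℓ hσ hord hℓp A hinn fun ψ hψ b _ hb => ?_
    refine hdec σ ψ (fun s => ?_) b hb
    obtain ⟨t, ht, htv⟩ := hψ s
    exact ⟨t, ht, by simpa using htv⟩
  · subst h
    rw [fld_eq]
    exact frameGen_even C C C₀ hQ0 hM hg (isSemi_fld hQ σ) h7 p fun h => hℓp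
      (((Nat.prime_dvd_prime_iff_eq (Fact.out : p.Prime) Nat.prime_two).1
        ((CharP.cast_eq_zero_iff F p 2).1 (by exact_mod_cast h)))).symm

set_option maxHeartbeats 8000000 in
/-- **No core for the standard graph-field involution.** -/
theorem plus_swap_core {σ : F ≃+* F} (hσ : orderOf σ = 2) (h2 : (2 : F) ≠ 0)
    {B : LinearMap.BilinForm F (ιp → F)} (C : Space Qp B) (A : Subgroup (MulAut P)) (hinn : ∀ k : P, MulAut.conj k ∈ A)
    (hdec : ∀ b : MulAut P, b * (innd (swapS C) * fld hQ σ) = innd (swapS C) * fld hQ σ * b → IsSemiAut Qp b) :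
    Cfsg.pPrimeCore 2 ↥(A ⊓ Subgroup.centralizer {innd (swapS C) * fld hQ σ}) = ⊥ := by
  classical
  haveI : Fact (Nat.Prime 2) := ⟨Nat.prime_two⟩
  letI : Fintype (AutPSL.fixedF σ) := Fintype.ofFinite _
  have h7 : 7 ≤ Fintype.card ιp := by simp only [Fintype.card_sum, Fintype.card_fin]; omega
  obtain ⟨θ, hθ⟩ : ∃ θ, σ θ ≠ θ := by
    by_contra h
    push Not at h
    rw [show σ = 1 from RingEquiv.ext h, orderOf_one] at hσ
    exact absurd hσ (by norm_num)
  have hinv : σ (σ θ) = θ := by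
    have h := pow_orderOf_eq_one σ
    rw [hσ, sq] at h
    exact DFunLike.congr_fun h θ
  let a₀ : AutPSL.fixedF σ := ⟨-(θ + σ θ), show σ _ = _ by rw [map_neg, map_add, hinv, add_comm]; rfl⟩
  let b₀ : AutPSL.fixedF σ := ⟨θ * σ θ, show σ _ = _ by rw [map_mul, hinv, mul_comm]; rfl⟩
  obtain ⟨G, hGq, hGc⟩ := exists_splitG (n := n) (F := F) (Ne.symm hθ)
  have hGS : G * (sm σ G)⁻¹ = (swapS C).1 := mul_inv_eq_iff_eq_mul.2 (swap_twist C σ hGc hinv).symm
  have hdisc : (-(θ + σ θ)) ^ 2 - 4 * (θ * σ θ) ≠ 0 := by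
    rw [show (-(θ + σ θ)) ^ 2 - 4 * (θ * σ θ) = (θ - σ θ) ^ 2 by ring]
    exact pow_ne_zero 2 (sub_ne_zero.2 (Ne.symm hθ))
  obtain ⟨B', C'⟩ := exists_space_twQ n (-(θ + σ θ)) (θ * σ θ) hdisc
  obtain ⟨B₀, C₀⟩ := exists_space_twQ n a₀ b₀ fun h => hdisc (by
    have := congrArg (AutPSL.fixedF σ).subtype h
    simp only [map_sub, map_pow, map_mul, map_ofNat, map_zero] at this
    exact this)
  have hQ0 : ∀ v : ιp → AutPSL.fixedF σ, twQ n (-(θ + σ θ)) (θ * σ θ) ((AutPSL.fixedF σ).subtype ∘ v) =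
      (AutPSL.fixedF σ).subtype (twQ n a₀ b₀ v) := fun v => by
    simp [twQ_apply, map_sum, a₀, b₀]
  have hx : Cfsg.IsSemisimilarityPair Qp (swapS C).1 σ := by
    obtain ⟨c, hc⟩ := (swapS C).2
    exact ⟨c, fun v => (hc _).trans (congrArg ((c : F) * ·) (stdForm_plus σ v))⟩
  have hxe : innd (swapS C) * fld hQ σ = semiAut hx := (semiAut_eq_mul hQ hx).symm
  rw [hxe] at hdec ⊢
  have hord : semiAut hx ^ 2 = 1 := by
    rw [← hxe, ← orderOf_swap_twist C σ hn p Nat.prime_two hσ rfl, pow_orderOf_eq_one]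
  obtain ⟨ψ, hψfix, hψ, hnorm⟩ := exists_frameHom C C' C₀ hQ0 hGq hGS.symm hx h7 p
  obtain ⟨s₀, hs₀⟩ := frameHom_invol C C' C₀ hQ0 hGq hGS.symm h7 p h2 hψ
  exact frameGen_core_eq_bot C C' C₀ hQ0 hGq hGS.symm hx h7 p 2 A hinn hψfix hψ hnorm hs₀ hord
    fun b hb _ => hdec b hb

set_option maxHeartbeats 8000000 in
/-- **Balance for an automorphism induced by a semisimilarity.** -/
theorem plus_balance_semi {ℓ : ℕ} [Fact ℓ.Prime] (hℓp : ℓ ≠ p) (A : Subgroup (MulAut P))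
    (hinn : ∀ k : P, MulAut.conj k ∈ A) (X : GS) (σ : F ≃+* F) (hord : orderOf (innd X * fld hQ σ) = ℓ)
    (hnot : innd X * fld hQ σ ∉ D) (hrat : RatDec n F) (htw : TwistDec n F) :
    Cfsg.pPrimeCore ℓ ↥(A ⊓ Subgroup.centralizer {innd X * fld hQ σ}) ≠ ⊥ ↔
      (Cfsg.IsFieldAutClassPOmega Qp (innd X * fld hQ σ) ∧
        Nat.Coprime ℓ (Nat.card ↥(MonoidHom.eqLocus (innd X * fld hQ σ).toMonoidHom (MonoidHom.id P)))) := by
  classical
  have hℓ : ℓ.Prime := Fact.out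
  obtain ⟨B, C⟩ := exists_space_plus (F := F) (n + 1)
  haveI : Finite P := inferInstanceAs (Finite (_ ⧸ _))
  have h4 : 4 ≤ n + 1 := by omega
  have h2of : ℓ = 2 → (2 : F) ≠ 0 := fun hl h => hℓp (hl.trans
    ((Nat.prime_dvd_prime_iff_eq (Fact.out : p.Prime) Nat.prime_two).1
      ((CharP.cast_eq_zero_iff F p 2).1 (by exact_mod_cast h))).symm)
  have hfalse : ℓ = 2 → ¬ (Cfsg.IsFieldAutClassPOmega Qp (innd X * fld hQ σ) ∧
      Nat.Coprime ℓ (Nat.card ↥(MonoidHom.eqLocus (innd X * fld hQ σ).toMonoidHom (MonoidHom.id P)))) := by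
    rintro hl ⟨hc, hcop⟩
    obtain ⟨τ, α, hτ, hxe⟩ := plus_field_class hn p C hc hℓ hord
    rw [hxe, Balance.card_fixed_conj] at hcop
    exact (plus_field_balance hn p hτ hℓp).2 hl hcop
  by_cases hσ1 : σ = 1
  · subst hσ1
    rw [map_one, mul_one] at hord hnot hfalse ⊢
    obtain ⟨v, hv⟩ := Cfsg.Lib.H3.exists_nonsing_vec C (by simp only [Fintype.card_sum, Fintype.card_fin]; omega)
    have hsq : innd X * innd X ∈ D := by
      have h1 := (plus_diag_or_refl h4 p C X hv).resolve_left hnot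
      have h1' := (plus_diag_or_refl h4 p C X⁻¹ hv).resolve_left fun h => hnot (by
        rw [map_inv] at h; exact inv_mem_iff.1 h)
      have := mul_mem h1 (inv_mem h1')
      simp only [map_mul, map_inv] at this
      convert this using 1
      group
    have hp2 : ℓ = 2 := hℓ.eq_two_or_odd'.resolve_right fun ⟨k, hk⟩ => hnot (by
      have e : innd X = ((innd X * innd X) ^ k)⁻¹ := eq_inv_of_mul_eq_one_left (by
        rw [← pow_two, ← pow_mul, ← pow_succ', ← hk, ← hord, pow_orderOf_eq_one])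
      rw [e]
      exact inv_mem (pow_mem hsq k))
    refine iff_of_false (not_not.2 ?_) (hfalse hp2)
    subst hp2
    exact plus_inv_core_eq_bot h4 p (h2of rfl) A hinn X hord hnot fun b hb =>
      htw 1 X hnot b (by rw [map_one, mul_one]; exact hb)
  have hor : orderOf σ = ℓ := orderOf_field h4 p C hσ1 hℓ hord
  rcases plus_coset C σ hn p hℓ hor X (by rw [← hord, pow_orderOf_eq_one]) with ⟨H, -, e⟩ | ⟨hr, H, -, e⟩
  · obtain ⟨hcore, hcard⟩ := balance_of_conj (ℓ := ℓ) A e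
    have key := (plus_field_balance hn p hor hℓp).1 (A.map (MulAut.conj (innd H)⁻¹).toMonoidHom)
      (Balance.inn_map A hinn _) hrat
    refine ⟨fun h => ⟨⟨(innd H)⁻¹, fld hQ σ, σ, fun h' => hσ1 (RingEquiv.ext fun x => RingEquiv.congr_fun h' x),
      (isFieldAut_iff hQ).2 rfl, ?_⟩, hcard.symm ▸ key.1 fun h' => h (hcore.2 h')⟩, fun h hc => ?_⟩
    · rw [inv_inv, e]; group
    · exact key.2 (hcard ▸ h.2) (hcore.1 hc)
  · obtain ⟨hcore, -⟩ := balance_of_conj (ℓ := ℓ) A e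
    refine iff_of_false (fun h => h (hcore.2 ?_)) (hfalse hr)
    subst hr
    have h2F : (2 : F) ≠ 0 := h2of rfl
    have hsd : ∀ b : MulAut P, b * (innd (swapS C) * fld hQ σ) = innd (swapS C) * fld hQ σ * b → IsSemiAut Qp b :=
      htw σ (swapS C) (plus_refl_not_diag h4 p C swapV_ne)
    have key := plus_swap_core hn p hor h2F C (A.map (MulAut.conj (innd H)⁻¹).toMonoidHom)
      (Balance.inn_map A hinn (innd H)⁻¹) hsd
    exact key

end Cfsg.Lib.Linear.AutPO
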