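import Cfsg.Agent.Lib.Linear.AutPO.PlusDescent

/-!
# The elements of prime order in the coset of a field automorphism of `PΩ⁺`

Each is conjugate under the inner-diagonal group to the field automorphism, or, for order two, to the standard
graph-field automorphism.
-/

set_option autoImplicit false

namespace Cfsg.Lib.Linear.AutPO

open Module
open Cfsg.Lib.Linear.Orth
open Cfsg.Lib.Linear.Descent (sc sm tw sc_val sc_comm sm_sc sm_one sm_mul)
open scoped Matrix

set_option quotPrecheck false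

variable {n : ℕ} {F : Type*} [Field F] [Fintype F]

local notation "ιp" => (Fin (n + 1) ⊕ Fin (n + 1))
local notation "Qp" => Cfsg.quadFormPlus (n + 1) F
local notation "GS" => ↥(Cfsg.Geo.quadSimilarityGroup (F := F) Qp)
local notation "P" => Cfsg.POmega F Qp
local notation "D" => Cfsg.inndiagPOmegaPlus (n + 1) F
local notation "hQ" => (stdForm_plus : StdForm (Cfsg.quadFormPlus (n + 1) F))

omit [Fintype F] in
theorem swapV_ne :
    Qp (Pi.single (.inl (Fin.last n)) 1 - Pi.single (.inr (Fin.last n)) 1) ≠ 0 := by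
  simp [Cfsg.quadFormPlus, Pi.single_apply]

/-- The reflection interchanging the last hyperbolic pair, as a similitude. -/
noncomputable def swapS {B : LinearMap.BilinForm F (Fin (n + 1) ⊕ Fin (n + 1) → F)}
    (C : Space (Cfsg.quadFormPlus (n + 1) F) B) : GS :=
  isoSim (rI C _ swapV_ne)

variable {B : LinearMap.BilinForm F (Fin (n + 1) ⊕ Fin (n + 1) → F)}
  (C : Space (Cfsg.quadFormPlus (n + 1) F) B) (σ : F ≃+* F)

include C

theorem swap_fix : sm σ (swapS C).1 = (swapS C).1 := by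
  have h1 := rI_ext σ.toRingHom C C (fun v => stdForm_plus σ v)
    (v := Pi.single (.inl (Fin.last n)) 1 - Pi.single (.inr (Fin.last n)) 1) swapV_ne
  refine (Eq.trans (Units.ext rfl) h1).trans ?_
  show rGL Qp _ = rGL Qp _
  congr 1
  funext k
  simp only [Function.comp_apply, Pi.sub_apply, Pi.single_apply]
  split_ifs <;> simp

theorem swap_sq : (swapS C).1 * (swapS C).1 = 1 := congrArg Subtype.val (rI_sq C swapV_ne)

theorem swap_twist {G : GL ιp F} {θ : F}
    (hG : ∀ v, (∀ i : Fin n, (G.val *ᵥ v) (.inl i.castSucc) = v (.inl i.castSucc) ∧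
          (G.val *ᵥ v) (.inr i.castSucc) = v (.inr i.castSucc)) ∧
        (G.val *ᵥ v) (.inl (Fin.last n)) = v (.inl (Fin.last n)) - θ * v (.inr (Fin.last n)) ∧
        (G.val *ᵥ v) (.inr (Fin.last n)) = v (.inl (Fin.last n)) - σ θ * v (.inr (Fin.last n)))
    (hθ : σ (σ θ) = θ) : (swapS C).1 * sm σ G = G := by
  refine gl_ext fun x => ?_
  obtain ⟨y, rfl⟩ : ∃ y, σ ∘ y = x := ⟨σ.symm ∘ x, funext fun k => σ.apply_symm_apply _⟩
  rw [mul_act, ← sm_eq, map_act]
  obtain ⟨hv, hR⟩ := exists_swapR C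
  obtain ⟨h1, h2, h3⟩ := hR (σ ∘ (G.val *ᵥ y))
  obtain ⟨g1, g2, g3⟩ := hG y
  obtain ⟨g1', g2', g3'⟩ := hG (σ ∘ y)
  funext k
  show ((rI C _ hv : GL ιp F).val *ᵥ (σ ∘ (G.val *ᵥ y))) k = _
  rcases k with k | k <;> refine Fin.lastCases ?_ (fun i => ?_) k
  · rw [h2, g2', Function.comp_apply, g3, map_sub, map_mul, hθ]; rfl
  · rw [(h1 i).1, (g1' i).1, Function.comp_apply, (g1 i).1]; rfl
  · rw [h3, g3', Function.comp_apply, g2, map_sub, map_mul]; rfl
  · rw [(h1 i).2, (g1' i).2, Function.comp_apply, (g1 i).2]; rfl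

variable (hn : 3 ≤ n) (p : ℕ) [Fact p.Prime] [CharP F p] {r : ℕ} (hr : r.Prime) (hσ : orderOf σ = r)

include hn p hr hσ

theorem orderOf_swap_twist (h2 : r = 2) : orderOf (innd (swapS C) * fld hQ σ) = 2 := by
  subst h2
  have h7 : 7 ≤ Fintype.card ιp := by simp only [Fintype.card_sum, Fintype.card_fin]; omega
  haveI : Fact (Nat.Prime 2) := ⟨Nat.prime_two⟩
  refine orderOf_eq_prime ?_ fun h => ?_
  · obtain ⟨T, hT, e⟩ := innd_fld_pow hQ σ (swapS C) 2
    have hσ2 : σ ^ 2 = 1 := by rw [← hσ, pow_orderOf_eq_one]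
    have hT1 : T = 1 := Subtype.ext (by
      rw [hT]
      simp only [tw, sm_one, map_mul, map_one, mul_one, swap_fix, swap_sq]
      rfl)
    rw [e, hσ2, hT1, map_one, map_one, one_mul]
  · have := (innd_mul_fld_eq_one C h7 p hQ h).2
    rw [this, orderOf_one] at hσ
    omega

set_option maxHeartbeats 1600000 in
/-- **The coset of a field automorphism.** -/
theorem plus_coset (X : GS) (h : (innd X * fld hQ σ) ^ r = 1) :
    (∃ H : GS, innd H ∈ D ∧ innd X * fld hQ σ = innd H * fld hQ σ * (innd H)⁻¹) ∨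
      (r = 2 ∧ ∃ H : GS, innd H ∈ D ∧
        innd X * fld hQ σ = innd H * (innd (swapS C) * fld hQ σ) * (innd H)⁻¹) := by
  classical
  have h7 : 7 ≤ Fintype.card ιp := by simp only [Fintype.card_sum, Fintype.card_fin]; omega
  haveI : Fact r.Prime := ⟨hr⟩
  obtain ⟨T, hT, e⟩ := innd_fld_pow hQ σ X r
  rw [h, ← hσ, pow_orderOf_eq_one, map_one, mul_one, eq_comm, innd_eq_one_iff' C h7 p] at e
  obtain ⟨c', hc'⟩ := e
  obtain ⟨d, N, hN⟩ := Descent.exists_sc_mul hσ X.1 (c := c') (by rw [← hc', hT])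
  obtain ⟨cx, hcx⟩ := X.2
  have hfix : ∀ v, σ ∘ v = v → Qp (N.val *ᵥ v) = (((d⁻¹ : Fˣ) : F) ^ 2 * cx) * σ (Qp (N.val *ᵥ v)) := by
    intro v hv
    have hmv : (sm σ N).val *ᵥ v = σ ∘ (N.val *ᵥ v) := by
      conv_lhs => rw [← hv]
      rw [← sm_eq, map_act]
    have h1 : X.1.val *ᵥ (σ ∘ (N.val *ᵥ v)) = (d : F) • (N.val *ᵥ v) := by
      rw [hN, mul_act, sc_act, mul_act, ← hmv, inv_act]
    have h2 := hcx (σ ∘ (N.val *ᵥ v))
    rw [h1, C.smul, stdForm_plus σ] at h2
    rw [mul_assoc, ← h2, ← mul_assoc, ← mul_pow, Units.inv_mul, one_pow, one_mul]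
  set R := swapS C with hRdef
  have hRfix : sm σ R.1 = R.1 := swap_fix C σ
  have hR2 : R.1 * R.1 = 1 := swap_sq C
  -- a similitude carrying one of the two standard elements to the given one
  obtain ⟨S, hS, H, hH⟩ : ∃ S : GS, ((S = 1) ∨ (r = 2 ∧ S = R)) ∧ ∃ H : GS,
      X.1 = sc d * (H.1 * S.1 * (sm σ H.1)⁻¹) := by
    obtain ⟨W, c, hW, hq | ⟨ζ, hζfix, hζ, hq⟩⟩ := plus_descent N _ hfix
    · refine ⟨1, Or.inl rfl, ⟨N * W, c, hq⟩, ?_⟩
      rw [hN, OneMemClass.coe_one, mul_one, map_mul, hW]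
      group
    by_cases hroot : ∃ θ : F, θ ^ 2 + θ + ζ = 0
    · obtain ⟨θ, hθ⟩ := hroot
      have hne : σ θ ≠ θ := fun h => hζ θ h hθ
      have hσθ : σ θ = -1 - θ := by
        have h1 : σ θ ^ 2 + σ θ + ζ = 0 := by
          have := congrArg σ hθ
          rwa [map_add, map_add, map_pow, hζfix, map_zero] at this
        rcases mul_eq_zero.1 (show (σ θ - θ) * (σ θ + θ + 1) = 0 by linear_combination h1 - hθ) with h | h
        · exact absurd (sub_eq_zero.1 h) hne
        · linear_combination h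
      have hσ2 : σ (σ θ) = θ := by rw [hσθ, map_sub, map_neg, map_one, hσθ]; ring
      have hr2 : r = 2 := by
        refine hr.eq_two_or_odd'.resolve_right fun ⟨k, hk⟩ => hne ?_
        have h1 : (σ ^ r) θ = θ := by rw [← hσ, pow_orderOf_eq_one]; rfl
        have h2 : ∀ j, (σ ^ (2 * j)) θ = θ := fun j => by
          induction j with
          | zero => rfl
          | succ j ih =>
            rw [mul_add, pow_add]
            show (σ ^ (2 * j)) ((σ ^ 2) θ) = θ
            rw [sq]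
            show (σ ^ (2 * j)) (σ (σ θ)) = θ
            rw [hσ2, ih]
        rw [hk, pow_succ'] at h1
        have h3 : σ ((σ ^ (2 * k)) θ) = θ := h1
        rwa [h2] at h3
      obtain ⟨G, hG, hGact⟩ := exists_splitG (n := n) (θ := θ) (θ' := σ θ) (Ne.symm hne)
      have hfrm : twQ n (1 : F) ζ = twQ n (-(θ + σ θ)) (θ * σ θ) := by
        rw [show (-(θ + σ θ)) = (1 : F) by rw [hσθ]; ring, show θ * σ θ = ζ by rw [hσθ]; linear_combination (-1 : F) * hθ]
      refine ⟨R, Or.inr ⟨hr2, rfl⟩, ⟨N * W * G⁻¹, c, fun v => ?_⟩, ?_⟩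
      · rw [mul_act, hq, hfrm, ← hG, act_inv]
      · have hGR : G * (sm σ G)⁻¹ = R.1 := by
          rw [mul_inv_eq_iff_eq_mul]
          exact (swap_twist C σ hGact hσ2).symm
        rw [hN]
        show sc d * (N * (sm σ N)⁻¹) = sc d * (N * W * G⁻¹ * R.1 * (sm σ (N * W * G⁻¹))⁻¹)
        rw [← hGR, map_mul, map_mul, map_inv, hW]
        group
    · exfalso
      push Not at hroot
      have hab : ∀ z₁ z₂ : F, z₁ ^ 2 + 1 * z₁ * z₂ + ζ * z₂ ^ 2 = 0 → z₁ = 0 ∧ z₂ = 0 := by
        intro z₁ z₂ h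
        by_cases hz : z₂ = 0
        · subst hz
          exact ⟨pow_eq_zero_iff two_ne_zero |>.1 (by linear_combination h), rfl⟩
        · exact absurd (show (z₁ / z₂) ^ 2 + z₁ / z₂ + ζ = 0 by field_simp; linear_combination h) (hroot _)
      obtain ⟨Bm, Cm⟩ := exists_space_minus (F := F) n 1 ζ hab
      obtain ⟨A, hA⟩ := plus_half (m := n + 1) (F := F)
      let L : (ιp → F) →ₗ[F] ((Fin n ⊕ Fin n) ⊕ Fin 2 → F) :=
        (LinearMap.funLeft F F (idxE n).symm).comp (Matrix.mulVecLin ((N * W)⁻¹).val)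
      have hL : Function.Injective L := fun u v e => by
        refine act_injective ((N * W)⁻¹) (funext fun k => ?_)
        simpa [L, LinearMap.funLeft_apply] using congrFun e (idxE n k)
      have hts : ∀ v ∈ A.map L, Cfsg.quadFormMinus n F 1 ζ v = 0 := by
        rintro _ ⟨u, hu, rfl⟩
        have h1 := hq (((N * W)⁻¹).val *ᵥ u)
        rw [act_inv, hA.1 u hu, eq_comm, mul_eq_zero, or_iff_right c.ne_zero] at h1
        exact h1
      have h := minus_ts_bound hab Cm hts
      rw [← (Submodule.equivMapOfInjective L hL A).finrank_eq] at h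
      have := hA.2
      rw [plus_card] at this
      omega
  have hSfix : sm σ S.1 = S.1 := by
    rcases hS with rfl | ⟨-, rfl⟩
    · rw [OneMemClass.coe_one, map_one]
    · exact hRfix
  have hS2 : S.1 * S.1 = 1 := by
    rcases hS with rfl | ⟨-, rfl⟩
    · rw [OneMemClass.coe_one, one_mul]
    · exact hR2
  have hSR : R.1 * S.1 * R.1 = S.1 := by
    rcases hS with rfl | ⟨-, rfl⟩
    · rw [OneMemClass.coe_one, mul_one, hR2]
    · rw [hR2, one_mul]
  have hRinv : R.1⁻¹ = R.1 := inv_eq_of_mul_eq_one_right hR2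
  obtain ⟨H', hH', hX⟩ : ∃ H' : GS, innd H' ∈ D ∧ X.1 = sc d * (H'.1 * S.1 * (sm σ H'.1)⁻¹) := by
    rcases plus_diag_or_refl (m := n + 1) (by omega) p C H (v := Pi.single (.inl (Fin.last n)) 1 - Pi.single (.inr (Fin.last n)) 1)
      swapV_ne with h | h
    · exact ⟨H, h, hH⟩
    · refine ⟨H * R, h, ?_⟩
      rw [hH, Subgroup.coe_mul, map_mul, hRfix, _root_.mul_inv_rev, hRinv]
      refine congrArg (sc d * ·) ?_
      calc H.1 * S.1 * (sm σ H.1)⁻¹ = H.1 * (R.1 * S.1 * R.1) * (sm σ H.1)⁻¹ := by rw [hSR]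
        _ = _ := by simp only [mul_assoc]
  have key : innd X * fld hQ σ = innd H' * (innd S * fld hQ σ) * (innd H')⁻¹ := by
    rw [conj_twist (m := n + 1) (by omega) p C hSfix hS2]
    refine congrArg (· * fld hQ σ) ((innd_eq_innd C h7 p).2 ⟨d, ?_⟩)
    rw [hX, Subgroup.coe_mul, Subgroup.coe_mul, smS_val, Subgroup.coe_inv, map_inv]
  rcases hS with rfl | ⟨hr2, rfl⟩
  · left
    rw [map_one, one_mul] at key
    exact ⟨H', hH', key⟩
  · exact Or.inr ⟨hr2, H', hH', key⟩

end Cfsg.Lib.Linear.AutPO
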