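import Cfsg.Agent.Lib.Linear.AutPO.PlusTwist

/-!
# Descent for the split form: the split and the twisted rational structures
-/

set_option autoImplicit false

namespace Cfsg.Lib.Linear.AutPO

open Module
open Cfsg.Lib.Linear.Orth
open Cfsg.Lib.Linear.Descent (sc sm tw sc_val sc_comm sm_sc sm_one sm_mul)
open scoped Matrix

set_option quotPrecheck false

section Index

variable (n : ℕ)

/-- The last hyperbolic pair becomes the binary part. -/
def idxE : Fin (n + 1) ⊕ Fin (n + 1) ≃ (Fin n ⊕ Fin n) ⊕ Fin 2 where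
  toFun := Sum.elim (Fin.lastCases (.inr 0) fun i => .inl (.inl i)) (Fin.lastCases (.inr 1) fun i => .inl (.inr i))
  invFun := Sum.elim (Sum.elim (fun i => .inl i.castSucc) fun i => .inr i.castSucc) ![.inl (Fin.last n), .inr (Fin.last n)]
  left_inv := by
    rintro (k | k) <;> refine Fin.lastCases ?_ (fun i => ?_) k <;> simp
  right_inv := by
    rintro ((i | i) | k)
    · simp
    · simp
    · obtain rfl | rfl := (by omega : k = 0 ∨ k = 1) <;> simp

variable {F : Type*} [Field F]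

/-- The twisted form, on the coordinates of the split one. -/
def twQ (a b : F) (v : Fin (n + 1) ⊕ Fin (n + 1) → F) : F :=
  Cfsg.quadFormMinus n F a b (v ∘ (idxE n).symm)

theorem twQ_apply (a b : F) (v : Fin (n + 1) ⊕ Fin (n + 1) → F) :
    twQ n a b v = (∑ i : Fin n, v (.inl i.castSucc) * v (.inr i.castSucc)) + v (.inl (Fin.last n)) ^ 2 +
      a * v (.inl (Fin.last n)) * v (.inr (Fin.last n)) + b * v (.inr (Fin.last n)) ^ 2 := by
  simp [twQ, Cfsg.quadFormMinus, idxE]
  ring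

theorem exists_space_twQ (a b : F) (hd : a ^ 2 - 4 * b ≠ 0) :
    ∃ B : LinearMap.BilinForm F (Fin (n + 1) ⊕ Fin (n + 1) → F), Space (twQ n a b) B := by
  obtain ⟨B, C⟩ := exists_space_disc (m := n) a b hd
  let L := LinearMap.funLeft F F (idxE n).symm
  refine ⟨B.compl₁₂ L L, fun c v => ?_, fun u v => ?_, fun v hv => ?_⟩
  · exact C.smul c (v ∘ (idxE n).symm)
  · show _ = B (u ∘ (idxE n).symm) (v ∘ (idxE n).symm)
    rw [← C.polar]
    rfl
  · have h1 : v ∘ (idxE n).symm = 0 := C.nondeg _ fun u => by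
      have := hv (u ∘ idxE n)
      have e : L (u ∘ idxE n) = u := funext fun k => by simp [L, LinearMap.funLeft_apply]
      simp only [LinearMap.compl₁₂_apply, e] at this
      exact this
    funext k
    simpa using congrFun h1 (idxE n k)

end Index

variable {n : ℕ} {F : Type*} [Field F] [Fintype F]

local notation "ιp" => (Fin (n + 1) ⊕ Fin (n + 1))
local notation "ι'" => ((Fin n ⊕ Fin n) ⊕ Fin 2)
local notation "Qp" => Cfsg.quadFormPlus (n + 1) F

omit [Fintype F] in
/-- Over the field containing the roots the twisted form is the split one. -/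
theorem exists_splitG {θ θ' : F} (hne : θ ≠ θ') :
    ∃ G : GL ιp F, (∀ v, Qp (G.val *ᵥ v) = twQ n (-(θ + θ')) (θ * θ') v) ∧
      ∀ v, (∀ i : Fin n, (G.val *ᵥ v) (.inl i.castSucc) = v (.inl i.castSucc) ∧
          (G.val *ᵥ v) (.inr i.castSucc) = v (.inr i.castSucc)) ∧
        (G.val *ᵥ v) (.inl (Fin.last n)) = v (.inl (Fin.last n)) - θ * v (.inr (Fin.last n)) ∧
        (G.val *ᵥ v) (.inr (Fin.last n)) = v (.inl (Fin.last n)) - θ' * v (.inr (Fin.last n)) := by
  classical
  let L : (ιp → F) →ₗ[F] (ιp → F) :=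
    { toFun := fun v => Sum.elim
        (Fin.lastCases (v (.inl (Fin.last n)) - θ * v (.inr (Fin.last n))) fun i => v (.inl i.castSucc))
        (Fin.lastCases (v (.inl (Fin.last n)) - θ' * v (.inr (Fin.last n))) fun i => v (.inr i.castSucc))
      map_add' := fun v w => by
        funext k; rcases k with k | k <;> refine Fin.lastCases ?_ (fun i => ?_) k <;> simp <;> ring
      map_smul' := fun c v => by
        funext k; rcases k with k | k <;> refine Fin.lastCases ?_ (fun i => ?_) k <;> simp <;> ring }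
  have hL : ∀ v, L.toMatrix' *ᵥ v = L v := fun v => LinearMap.toMatrix'_mulVec L v
  have hu : IsUnit (LinearMap.toMatrix' L).det := by
    rw [isUnit_iff_ne_zero]
    intro h0
    obtain ⟨v, hv0, hv⟩ := Matrix.exists_mulVec_eq_zero_iff.2 h0
    rw [hL] at hv
    have h1 := congrFun hv (.inl (Fin.last n))
    have h2 := congrFun hv (.inr (Fin.last n))
    simp [L] at h1 h2
    have hy : v (.inr (Fin.last n)) = 0 :=
      (mul_eq_zero.1 (show (θ - θ') * v (.inr (Fin.last n)) = 0 by linear_combination h2 - h1)).resolve_left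
        (sub_ne_zero.2 hne)
    refine hv0 (funext fun k => ?_)
    rcases k with k | k <;> refine Fin.lastCases ?_ (fun i => ?_) k
    · rw [hy, mul_zero, sub_zero] at h1; exact h1
    · simpa [L] using congrFun hv (.inl i.castSucc)
    · exact hy
    · simpa [L] using congrFun hv (.inr i.castSucc)
  refine ⟨Matrix.GeneralLinearGroup.mk'' _ hu, fun v => ?_, fun v => ?_⟩
  · show Qp (LinearMap.toMatrix' L *ᵥ v) = _
    rw [hL, twQ_apply, Cfsg.quadFormPlus, Fin.sum_univ_castSucc]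
    simp [L]
    ring
  · show (∀ i : Fin n, (LinearMap.toMatrix' L *ᵥ v) _ = _ ∧ (LinearMap.toMatrix' L *ᵥ v) _ = _) ∧ _ ∧ _
    rw [hL]
    simp [L]

/-- The reflection interchanging the last hyperbolic pair. -/
theorem exists_swapR {B : LinearMap.BilinForm F (Fin (n + 1) ⊕ Fin (n + 1) → F)}
    (C : Space (Cfsg.quadFormPlus (n + 1) F) B) :
    ∃ hv : Qp (Pi.single (.inl (Fin.last n)) 1 - Pi.single (.inr (Fin.last n)) 1) ≠ 0,
      ∀ x : ιp → F,
        (∀ i : Fin n, ((rI C _ hv : GL ιp F).val *ᵥ x) (.inl i.castSucc) = x (.inl i.castSucc) ∧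
          ((rI C _ hv : GL ιp F).val *ᵥ x) (.inr i.castSucc) = x (.inr i.castSucc)) ∧
        ((rI C _ hv : GL ιp F).val *ᵥ x) (.inl (Fin.last n)) = x (.inr (Fin.last n)) ∧
        ((rI C _ hv : GL ιp F).val *ᵥ x) (.inr (Fin.last n)) = x (.inl (Fin.last n)) := by
  classical
  set v : ιp → F := Pi.single (.inl (Fin.last n)) 1 - Pi.single (.inr (Fin.last n)) 1 with hv
  have hQv : Qp v = -1 := by simp [hv, Cfsg.quadFormPlus, Pi.single_apply]
  have hB : ∀ x, B v x = x (.inr (Fin.last n)) - x (.inl (Fin.last n)) := fun x => by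
    rw [← C.polar, polar_plus_apply]
    simp [hv, Pi.single_apply, Finset.sum_add_distrib]
    ring
  refine ⟨by rw [hQv]; simp, fun x => ?_⟩
  rw [rI_val, rGL_act C (by rw [hQv]; simp), hQv, hB]
  simp [hv, Pi.single_apply, Fin.castSucc_ne_last]

/-- A split basis carries the form to the standard one. -/
theorem plus_table {Q₀ : (ιp → F) → F} {B₀ : LinearMap.BilinForm F (ιp → F)} (C₀ : Space Q₀ B₀)
    (W : Matrix ιp ιp F) (w : ιp → ιp → F) (hW : ∀ k, W *ᵥ Pi.single k 1 = w k)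
    (h1 : ∀ i, Q₀ (w (.inl i)) = 0 ∧ Q₀ (w (.inr i)) = 0)
    (h2 : ∀ i j, QuadraticMap.polar Q₀ (w (.inl i)) (w (.inr j)) = if i = j then 1 else 0)
    (h3 : ∀ i j, QuadraticMap.polar Q₀ (w (.inl i)) (w (.inl j)) = 0 ∧ QuadraticMap.polar Q₀ (w (.inr i)) (w (.inr j)) = 0)
    (v : ιp → F) : Q₀ (W *ᵥ v) = Qp v := by
  obtain ⟨B, C⟩ := exists_space_plus (F := F) (n + 1)
  have := quad_ext C C₀ W 1 (fun k => ?_) (fun k l => ?_) v
  · rw [one_mul] at this
    exact this
  · rw [hW, one_mul]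
    rcases k with k | k
    · rw [(h1 k).1]; simp [Cfsg.quadFormPlus, Pi.single_apply]
    · rw [(h1 k).2]; simp [Cfsg.quadFormPlus, Pi.single_apply]
  · rw [hW, hW, one_mul]
    rcases k with k | k <;> rcases l with l | l
    · rw [(h3 k l).1, polar_plus_apply]; simp [Pi.single_apply]
    · rw [h2, polar_plus_apply]
      rcases eq_or_ne k l with rfl | h
      · simp [Pi.single_apply]
      · simp [Pi.single_apply, h, h.symm]
    · rw [QuadraticMap.polar_comm, h2, polar_plus_apply]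
      rcases eq_or_ne k l with rfl | h
      · simp [Pi.single_apply]
      · simp [Pi.single_apply, h, h.symm]
    · rw [(h3 k l).2, polar_plus_apply]; simp [Pi.single_apply]

set_option maxHeartbeats 1600000 in
/-- **Descent.** -/
theorem plus_descent {σ : F ≃+* F} (N : GL ιp F) (μ : F)
    (hN : ∀ v, σ ∘ v = v → Qp (N.val *ᵥ v) = μ * σ (Qp (N.val *ᵥ v))) :
    ∃ (W : GL ιp F) (c : Fˣ), sm σ W = W ∧
      ((∀ v, Qp ((N * W).val *ᵥ v) = c * Qp v) ∨
        ∃ ζ : F, σ ζ = ζ ∧ (∀ t, σ t = t → t ^ 2 + t + ζ ≠ 0) ∧ ∀ v, Qp ((N * W).val *ᵥ v) = c * twQ n 1 ζ v) := by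
  classical
  obtain ⟨B, C⟩ := exists_space_plus (F := F) (n + 1)
  set Qm := Qp with hQm
  let K := AutPSL.fixedF σ
  letI := Fintype.ofFinite K
  let ι₀ : K →+* F := K.subtype
  have hsub : ∀ u : ιp → K, σ ∘ (ι₀ ∘ u) = ι₀ ∘ u := fun u => funext fun k => (u k).2
  have hadd : ∀ u v : ιp → K, ι₀ ∘ (u + v) = ι₀ ∘ u + ι₀ ∘ v := fun u v => funext fun k => map_add ι₀ _ _
  have hsmul : ∀ (t : K) (u : ιp → K), ι₀ ∘ (t • u) = ι₀ t • (ι₀ ∘ u) := fun t u =>
    funext fun k => map_mul ι₀ _ _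
  obtain ⟨u₀, hu₀⟩ : ∃ u : ιp → K, Qm (N.val *ᵥ (ι₀ ∘ u)) ≠ 0 := by
    by_contra hc'
    push Not at hc'
    obtain ⟨v, hv⟩ := Cfsg.Lib.H3.exists_nonsing_vec C (by simp; omega)
    refine hv ?_
    obtain ⟨w, rfl⟩ : ∃ w, N.val *ᵥ w = v := ⟨(N⁻¹).val *ᵥ v, act_inv _ _⟩
    rw [quad_ext C C N.val 0 (fun i => by rw [zero_mul, ← comp_single ι₀ i, hc'])
      (fun i j => by
        rw [zero_mul, QuadraticMap.polar, ← Matrix.mulVec_add, ← comp_single ι₀ i, ← comp_single ι₀ j, ← hadd, hc', hc', hc']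
        ring) w, zero_mul]
  set q₀ := Qm (N.val *ᵥ (ι₀ ∘ u₀)) with hq₀
  have hmem : ∀ u : ιp → K, Qm (N.val *ᵥ (ι₀ ∘ u)) / q₀ ∈ K := fun u => by
    rw [AutPSL.mem_fixedF, map_div₀]
    have e1 := hN _ (hsub u)
    have e2 : q₀ = μ * σ q₀ := hN _ (hsub u₀)
    have hμ0 : μ ≠ 0 := fun h0 => hu₀ (by rw [e2, h0, zero_mul])
    conv_rhs => rw [e1, e2, mul_div_mul_left _ _ hμ0]
  let f : (ιp → K) → K := fun u => ⟨_, hmem u⟩
  have hf : ∀ u, ι₀ (f u) = Qm (N.val *ᵥ (ι₀ ∘ u)) / q₀ := fun u => rfl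
  have hfp : ∀ u v, ι₀ (QuadraticMap.polar f u v) = B (N.val *ᵥ (ι₀ ∘ u)) (N.val *ᵥ (ι₀ ∘ v)) / q₀ := fun u v => by
    rw [QuadraticMap.polar, map_sub, map_sub, hf, hf, hf, hadd, Matrix.mulVec_add, C.add]
    ring
  let Q₀ : QuadraticForm K (ιp → K) := QuadraticMap.ofPolar f
    (fun t u => ι₀.injective (by
      rw [smul_eq_mul, map_mul, map_mul, hf, hf, hsmul, Matrix.mulVec_smul, C.smul]; ring))
    (fun u u' v => ι₀.injective (by
      rw [map_add ι₀, hfp, hfp, hfp, hadd, Matrix.mulVec_add, map_add B, LinearMap.add_apply, add_div]))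
    (fun t u v => ι₀.injective (by
      rw [smul_eq_mul, map_mul, hfp, hfp, hsmul, Matrix.mulVec_smul, map_smul B, LinearMap.smul_apply, smul_eq_mul,
        mul_div_assoc]))
  have hnd : (QuadraticMap.polarBilin Q₀).Nondegenerate := by
    refine LinearMap.BilinForm.Nondegenerate.ofSeparatingLeft fun u hu => ?_
    have hz : ∀ w, B (N.val *ᵥ (ι₀ ∘ u)) w = 0 := by
      have hb : (B (N.val *ᵥ (ι₀ ∘ u))).comp N.val.mulVecLin = 0 := (Pi.basisFun F ιp).ext fun y => by
        have h1 := congrArg ι₀ (hu (Pi.single y 1))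
        rw [QuadraticMap.polarBilin_apply_apply, show (⇑Q₀ : (ιp → K) → K) = f from rfl, hfp, map_zero, comp_single] at h1
        simpa using (div_eq_zero_iff.1 h1).resolve_right hu₀
      intro w
      simpa [act_inv] using LinearMap.congr_fun hb ((N⁻¹).val *ᵥ w)
    have h1 := act_injective N (a₁ := ι₀ ∘ u) (a₂ := 0) (by simpa using C.nondeg' hz)
    exact funext fun k => ι₀.injective ((congrFun h1 k).trans (map_zero ι₀).symm)
  have C₀ := space_of_quadraticForm Q₀ hnd
  have hdim : finrank K (ιp → K) = 2 * (n + 1) := by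
    rw [finrank_fintype_fun_eq_card, plus_card]
  -- the rational basis gives the change of variables
  have lift : ∀ (W₀ : GL ιp K) (R₀ : (ιp → K) → K) (R : (ιp → F) → F) (BR : LinearMap.BilinForm F (ιp → F)),
      Space R BR → (∀ v, f (W₀.val *ᵥ v) = R₀ v) → (∀ v, R (ι₀ ∘ v) = ι₀ (R₀ v)) →
      ∀ v, Qm ((N * Matrix.GeneralLinearGroup.map ι₀ W₀).val *ᵥ v) = q₀ * R v := by
    intro W₀ R₀ R BR CR h1 h2
    have key : ∀ v : ιp → K, Qm ((N * Matrix.GeneralLinearGroup.map ι₀ W₀).val *ᵥ (ι₀ ∘ v)) = q₀ * R (ι₀ ∘ v) := fun v => by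
      rw [mul_act, map_vec, h2, ← h1, hf]
      field_simp
    refine quad_ext CR C _ q₀ (fun i => ?_) (fun i j => ?_)
    · rw [← comp_single ι₀ i]; exact key _
    · rw [QuadraticMap.polar, QuadraticMap.polar, ← Matrix.mulVec_add, ← comp_single ι₀ i, ← comp_single ι₀ j, ← hadd,
        key, key, key]
      ring
  rcases std_basis_even (by omega) hdim Q₀ hnd with ⟨bs, hb1, hb2, hb3⟩ | ⟨bs, ζ, hζ, hb1, hb2, hb3, hb4, hb5, hb6, hb7⟩
  · let W₁ : Matrix ιp ιp K := (Pi.basisFun K ιp).toMatrix bs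
    have hW₁ : IsUnit W₁.det := by
      haveI := (Pi.basisFun K ιp).invertibleToMatrix bs
      exact (Matrix.isUnit_iff_isUnit_det W₁).1 (isUnit_of_invertible W₁)
    have hW₁s : ∀ k, W₁ *ᵥ Pi.single k 1 = bs k := fun k => by
      rw [Matrix.mulVec_single_one]
      funext i
      simp [W₁, Module.Basis.toMatrix_apply]
    refine ⟨Matrix.GeneralLinearGroup.map ι₀ (Matrix.GeneralLinearGroup.mk'' W₁ hW₁), Units.mk0 q₀ hu₀,
      Units.ext (Matrix.ext fun x y => (W₁ x y).2), Or.inl ?_⟩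
    exact lift _ (Cfsg.quadFormPlus (n + 1) K) Qm B C (plus_table C₀ W₁ (fun k => bs k) hW₁s hb1 hb2 hb3)
      fun v => plus_map ι₀ v
  · let bs' := bs.reindex (idxE n).symm
    let W₁ : Matrix ιp ιp K := (Pi.basisFun K ιp).toMatrix bs'
    have hW₁ : IsUnit W₁.det := by
      haveI := (Pi.basisFun K ιp).invertibleToMatrix bs'
      exact (Matrix.isUnit_iff_isUnit_det W₁).1 (isUnit_of_invertible W₁)
    have hW₁s : ∀ k, W₁ *ᵥ Pi.single k 1 = bs (idxE n k) := fun k => by
      rw [Matrix.mulVec_single_one]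
      funext i
      simp [W₁, bs', Module.Basis.toMatrix_apply]
    have hd : (1 : K) ^ 2 - 4 * ζ ≠ 0 := fun h => by
      by_cases h2 : (2 : K) = 0
      · exact one_ne_zero (show (1 : K) = 0 by linear_combination h + 2 * ζ * h2)
      · exact hζ (-1 / 2) (by field_simp; linear_combination (-1 : K) * h)
    obtain ⟨Bζ, Cζ⟩ := exists_space_disc (m := n) (1 : K) ζ hd
    -- the same form on the coordinates of the binary part
    let Lp : (ι' → K) →ₗ[K] (ιp → K) := LinearMap.funLeft K K (idxE n)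
    let Q' : QuadraticForm K (ι' → K) := Q₀.comp Lp
    have hnd' : (QuadraticMap.polarBilin Q').Nondegenerate := by
      refine LinearMap.BilinForm.Nondegenerate.ofSeparatingLeft fun u hu => ?_
      have h1 : Lp u = 0 := hnd.1 (Lp u) fun w => by
        have := hu (w ∘ (idxE n).symm)
        rw [QuadraticMap.polarBilin_apply_apply] at this ⊢
        simp only [QuadraticMap.polar, Q', QuadraticMap.comp_apply, map_add] at this
        rwa [show Lp (w ∘ (idxE n).symm) = w from funext fun k => by simp [Lp, LinearMap.funLeft_apply]] at this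
      funext k
      simpa [Lp, LinearMap.funLeft_apply] using congrFun h1 ((idxE n).symm k)
    let W₂ : Matrix ι' ι' K := Matrix.of fun x y => bs y ((idxE n).symm x)
    have hW₂ : ∀ k, W₂ *ᵥ Pi.single k 1 = bs k ∘ (idxE n).symm := fun k => by
      rw [Matrix.mulVec_single_one]
      funext i
      simp [W₂]
    have hL : ∀ k, Lp (bs k ∘ (idxE n).symm) = bs k := fun k => funext fun l => by simp [Lp, LinearMap.funLeft_apply]
    have hQ' : ∀ k, Q' (bs k ∘ (idxE n).symm) = Q₀ (bs k) := fun k => congrArg Q₀ (hL k)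
    have hP' : ∀ k l, QuadraticMap.polar Q' (bs k ∘ (idxE n).symm) (bs l ∘ (idxE n).symm) =
        QuadraticMap.polar Q₀ (bs k) (bs l) := fun k l => by
      simp only [QuadraticMap.polar, Q', QuadraticMap.comp_apply, map_add, hL]
    have htab := minus_table Cζ (space_of_quadraticForm Q' hnd') W₂ (fun k => bs k ∘ (idxE n).symm) hW₂
      (fun i => by rw [hQ', hQ']; exact hb1 i) (fun i j => by rw [hP']; exact hb2 i j)
      (fun i j => by rw [hP', hP']; exact hb3 i j) (fun i k => by rw [hP', hP']; exact hb4 i k)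
      (by rw [hQ']; exact hb5) (by rw [hP']; exact hb6) (by rw [hQ']; exact hb7)
    refine ⟨Matrix.GeneralLinearGroup.map ι₀ (Matrix.GeneralLinearGroup.mk'' W₁ hW₁), Units.mk0 q₀ hu₀,
      Units.ext (Matrix.ext fun x y => (W₁ x y).2), Or.inr ⟨ι₀ ζ, ζ.2, fun t ht h => hζ ⟨t, ht⟩ (Subtype.ext h), ?_⟩⟩
    obtain ⟨BR, CR⟩ := exists_space_twQ n (1 : F) (ι₀ ζ) (by
      rw [← map_one ι₀, ← map_ofNat ι₀ 4, ← map_pow, ← map_mul, ← map_sub, map_ne_zero]; exact hd)
    refine lift _ (twQ n 1 ζ) (twQ n 1 (ι₀ ζ)) BR CR (fun v => ?_) fun v => ?_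
    · refine Eq.trans ?_ (htab (v ∘ (idxE n).symm))
      show f (W₁ *ᵥ v) = f (Lp (W₂ *ᵥ (v ∘ (idxE n).symm)))
      refine congrArg f (funext fun x => ?_)
      simp only [Lp, LinearMap.funLeft_apply, Matrix.mulVec, dotProduct, W₂, W₁, Matrix.of_apply, Function.comp_apply]
      refine Fintype.sum_equiv (idxE n) _ _ fun y => ?_
      simp [bs', Module.Basis.toMatrix_apply]
    · show Cfsg.quadFormMinus n F 1 (ι₀ ζ) (ι₀ ∘ (v ∘ (idxE n).symm)) = _
      rw [← map_one ι₀, minus_map]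
      rfl

end Cfsg.Lib.Linear.AutPO
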