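import Cfsg.Agent.Lib.Linear.AutPO.PlusTorus

/-!
# Field automorphisms of prime order of `PΩ⁺`: centraliser and splitting
-/

set_option autoImplicit false

namespace Cfsg.Lib.Linear.AutPO

open Module
open Cfsg.Lib.Linear.Orth
open Cfsg.Lib.Linear.Descent (sc sm tw sc_val sc_comm sm_sc sm_one sm_mul)
open scoped Matrix

set_option quotPrecheck false

variable {m : ℕ} {F : Type*} [Field F] [Fintype F]

local notation "ιp" => (Fin m ⊕ Fin m)
local notation "Qp" => Cfsg.quadFormPlus m F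
local notation "GS" => ↥(Cfsg.Geo.quadSimilarityGroup (F := F) Qp)
local notation "P" => Cfsg.POmega F Qp
local notation "D" => Cfsg.inndiagPOmegaPlus m F
local notation "hQ" => (stdForm_plus : StdForm (Cfsg.quadFormPlus m F))

variable (hm : 4 ≤ m) (p : ℕ) [Fact p.Prime] [CharP F p] {B : LinearMap.BilinForm F (Fin m ⊕ Fin m → F)}
  (C : Space (Cfsg.quadFormPlus m F) B) {σ : F ≃+* F} {r : ℕ} (hr : r.Prime) (hσ : orderOf σ = r)
  {F₀ : Type*} [Field F₀] [Fintype F₀] (i : F₀ →+* F) (hi : ∀ x, σ x = x ↔ ∃ y, i y = x)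

include hm p C hr hσ i hi

set_option maxHeartbeats 1600000 in
/-- The centraliser and the splitting of a standard field automorphism. -/
theorem plus_field_auto : Nonempty (↥(D ⊓ Subgroup.centralizer {fld hQ σ}) ≃* ↥(Cfsg.inndiagPOmegaPlus m F₀)) ∧
    (Odd r ∨ (2 : F) = 0 → Cfsg.splitClassCount D (Cfsg.Inn P) (fld hQ σ) = 1) ∧
    (r = 2 ∧ (2 : F) ≠ 0 → (Odd m ∧ Fintype.card F₀ % 4 = 1 → Cfsg.splitClassCount D (Cfsg.Inn P) (fld hQ σ) = 2) ∧
      (¬ (Odd m ∧ Fintype.card F₀ % 4 = 1) → Cfsg.splitClassCount D (Cfsg.Inn P) (fld hQ σ) = 4)) := by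
  classical
  obtain ⟨B₀, C₀⟩ := exists_space_plus (F := F₀) m
  haveI : CharP F₀ p := (i.charP_iff i.injective p).2 inferInstance
  have hone : fld hQ σ = innd (1 : GS) * fld hQ σ := by rw [map_one, one_mul]
  have hS1 : sm σ (1 : GS).1 = (1 : GS).1 := map_one _
  have hS2 : (1 : GS).1 * (1 : GS).1 = 1 := one_mul _
  have hQF : ∀ v : ιp → F₀, Qp (i ∘ v) = i (Cfsg.quadFormPlus m F₀ v) := fun v => plus_map i v
  have hG : ∀ v, Qp ((1 : GL ιp F).val *ᵥ v) = Qp (v ∘ (Equiv.refl ιp).symm) := fun v => by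
    rw [Units.val_one, Matrix.one_mulVec]; rfl
  have hGS : (1 : GS).1 * sm σ (1 : GL ιp F) = 1 := by rw [map_one]; exact one_mul _
  have hor := fun g v (hv : Cfsg.quadFormPlus m F₀ v ≠ 0) => plus_diag_or_refl hm p C₀ g hv
  have hodd₀ : (2 : F₀) ≠ 0 → ∀ (g : ↥(Cfsg.Geo.quadSimilarityGroup (F := F₀) (Cfsg.quadFormPlus m F₀))) (c : F₀),
      (∀ v, Cfsg.quadFormPlus m F₀ (g.1.val *ᵥ v) = c * Cfsg.quadFormPlus m F₀ v) →
      innd g ∈ Cfsg.inndiagPOmegaPlus m F₀ → g.1.val.det = c ^ m :=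
    fun h20 g c hc hg => (plus_diag_iff_det hm p C₀ h20 hc).1 hg
  have htwo₀ : (2 : F₀) = 0 → ∀ g : ↥(Cfsg.Geo.quadSimilarityGroup (F := F₀) (Cfsg.quadFormPlus m F₀)),
      innd g ∈ Cfsg.inndiagPOmegaPlus m F₀ →
      ∃ (d : F₀ˣ) (s : ↥(isometryGroup F₀ (Cfsg.quadFormPlus m F₀))),
        s ∈ Cfsg.Omega F₀ (Cfsg.quadFormPlus m F₀) ∧ g.1 = sc d * (s : GL _ F₀) := by
    intro h20 g hg
    have h7 : 7 ≤ Fintype.card ιp := by simp only [Fintype.card_sum, Fintype.card_fin]; omega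
    obtain ⟨x, hx⟩ := plus_diag_two hm p C₀ h20 hg
    obtain ⟨t, rfl⟩ := QuotientGroup.mk_surjective x
    obtain ⟨A, hA, hA'⟩ := conj_mk_eq C₀ h7 p t
    obtain ⟨d, hd⟩ := (innd_eq_innd_sc C₀ h7 p).1 (hx.symm.trans hA'.symm)
    exact ⟨d, _, t.2, by rw [hd, hA]; rfl⟩
  obtain ⟨Φ, hΦ, -⟩ := exists_plus_emb i (Equiv.refl ιp) C₀ C hQF hG
  rw [hone]
  refine ⟨?_, fun h => ?_, fun ⟨hr2, h2⟩ => ?_⟩
  · exact plus_centralizer hm p C hr hσ hS1 hS2 i hi (Equiv.refl ιp) C₀ C hQF hG (Cfsg.inndiagPOmegaPlus m F₀) hor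
      hodd₀ htwo₀ hGS (by simp only [Fintype.card_sum, Fintype.card_fin]; omega) (inndiag_plus_le_range hm p C₀)
  · by_cases h2 : (2 : F) = 0
    · exact plus_split_two_char hm p C h2 _
    · exact plus_split_odd hm p C hr hσ hS1 hS2 i hi (Equiv.refl ιp) C₀ C hQF hG hGS hΦ
        (Cfsg.inndiagPOmegaPlus m F₀) hor hodd₀ htwo₀ (h.resolve_right h2) h2
        (fun c hc => Cfsg.Lib.H3.InndiagMod.exists_sim_plus (by omega) hc)
  subst hr2
  obtain ⟨α, d, hα, hd, hdsq⟩ := exists_root_nonsquare h2 i hi hσ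
  have hneg : IsSquare (-1 : F) := by rw [← map_one i, ← map_neg]; exact isSquare_rat i hi hσ _
  obtain ⟨T, hT, hTm, hTD, hTI⟩ := exists_torus hm p C h2 hneg d fun _ => d⁻¹
  have hTl : ∀ v k, (T.1.val *ᵥ v) (.inl k) = v (.inl k) ∧ (T.1.val *ᵥ v) (.inr k) = i α * v (.inr k) := fun v k => by
    rw [hT, mul_act, sc_act, Pi.smul_apply, Pi.smul_apply, (lev_dUnit_act _ v k).1, (lev_dUnit_act _ v k).2,
      smul_eq_mul, smul_eq_mul, ← hd]
    constructor <;> simp [sq, mul_assoc]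
  have hTfix : (1 : GS).1 * sm σ T.1 * (1 : GS).1 = T.1 := by
    show 1 * sm σ T.1 * 1 = T.1
    rw [one_mul, mul_one]
    refine gl_ext fun x => ?_
    obtain ⟨z, rfl⟩ : ∃ z, σ ∘ z = x := ⟨σ.symm ∘ x, funext fun k => σ.apply_symm_apply _⟩
    rw [← sm_eq, map_act]
    funext k
    rcases k with k | k
    · rw [Function.comp_apply, (hTl _ _).1, (hTl _ _).1]; rfl
    · rw [Function.comp_apply, (hTl _ _).2, (hTl _ _).2, map_mul, (hi _).2 ⟨α, rfl⟩]; rfl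
  obtain ⟨hyes, hno⟩ := plus_split_invol hm p C Nat.prime_two hσ hS1 hS2 i hi (Equiv.refl ιp) C₀ C hQF hG
    hGS hΦ (Cfsg.inndiagPOmegaPlus m F₀) hor hodd₀ htwo₀ rfl h2 hα hTfix (fun v => by rw [hTm, hd]) hTD
  have hiff : innd T ∈ Cfsg.Inn P ↔ ¬ (Odd m ∧ Fintype.card F₀ % 4 = 1) := by
    have hodd := FiniteField.odd_card_of_char_ne_two (F := F₀) (fun hc => h2 (by
      have : (2 : F₀) = 0 := by haveI := ringChar.of_eq hc; exact CharTwo.two_eq_zero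
      rw [← map_ofNat i 2, this, map_zero]))
    rw [hTI, Finset.prod_const, Finset.card_univ, Fintype.card_fin, isSquare_pow_iff h2 (Units.ne_zero _),
      Units.val_inv_eq_inv_val, isSquare_inv, hdsq, not_and_or, Nat.not_odd_iff_even]
    exact or_congr_right (by omega)
  exact ⟨fun h => hno fun h' => hiff.1 h' h, fun h => hyes (hiff.2 h)⟩

end Cfsg.Lib.Linear.AutPO
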