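import Cfsg.Agent.Lib.Linear.AutPO.PlusMain

/-!
# Rational frames of twisted field automorphisms of `PΩ⁺`

A frame carries a form over the fixed field to the split form, intertwining the Galois action with the twisted one.
-/

set_option autoImplicit false

namespace Cfsg.Lib.Linear.AutPO

open Module
open Cfsg.Lib.Linear.Orth
open Cfsg.Lib.Linear.Descent (sc sm tw sc_val sc_comm sm_sc sm_one sm_mul)
open scoped Matrix

set_option quotPrecheck false

section Reindex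

variable {ι κ : Type} [Fintype ι] [DecidableEq ι] [Fintype κ] [DecidableEq κ] {F : Type*} [Field F]

/-- Renaming the coordinates. -/
def reGL (e : ι ≃ κ) : GL κ F →* GL ι F := Units.map (Matrix.reindexAlgEquiv F F e.symm).toMonoidHom

theorem reGL_apply (e : ι ≃ κ) (M : GL κ F) (i j : ι) : (reGL e M).val i j = M.val (e i) (e j) := by
  simp [reGL]

theorem reGL_act (e : ι ≃ κ) (M : GL κ F) (v : ι → F) :
    (reGL e M).val *ᵥ v = (M.val *ᵥ (v ∘ e.symm)) ∘ e := by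
  funext i
  simp only [Matrix.mulVec, dotProduct, reGL_apply, Function.comp_apply]
  exact Fintype.sum_equiv e _ _ fun j => by simp

theorem reGL_injective (e : ι ≃ κ) : Function.Injective (reGL (F := F) e) := fun M N h =>
  Units.ext (Matrix.ext fun x y => by
    have := congrArg (fun u : GL ι F => u.val (e.symm x) (e.symm y)) h
    simpa [reGL_apply] using this)

theorem reGL_sc (e : ι ≃ κ) (c : Fˣ) : reGL e (sc c : GL κ F) = sc c :=
  Units.ext (Matrix.ext fun i j => by simp [reGL_apply, Matrix.diagonal_apply])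

theorem reGL_reGL_symm (e : ι ≃ κ) (M : GL ι F) : reGL e (reGL e.symm M) = M :=
  Units.ext (Matrix.ext fun i j => by simp [reGL_apply])

theorem sm_reGL (e : ι ≃ κ) (σ : F ≃+* F) (M : GL κ F) : sm σ (reGL e M) = reGL e (sm σ M) :=
  Units.ext (Matrix.ext fun i j => by simp [reGL_apply, Descent.sm_val])

end Reindex

variable {m : ℕ} {F : Type*} [Field F] [Fintype F]

local notation "ιp" => (Fin m ⊕ Fin m)
local notation "Qp" => Cfsg.quadFormPlus m F
local notation "GS" => ↥(Cfsg.Geo.quadSimilarityGroup (F := F) Qp)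
local notation "P" => Cfsg.POmega F Qp
local notation "D" => Cfsg.inndiagPOmegaPlus m F
local notation "hQ" => (stdForm_plus : StdForm (Cfsg.quadFormPlus m F))

variable (hm : 4 ≤ m) (p : ℕ) [Fact p.Prime] [CharP F p] {B : LinearMap.BilinForm F (Fin m ⊕ Fin m → F)}
  (C : Space (Cfsg.quadFormPlus m F) B) {σ : F ≃+* F} {r : ℕ} (hr : r.Prime) (hσ : orderOf σ = r)
  {S : ↥(Cfsg.Geo.quadSimilarityGroup (F := F) (Cfsg.quadFormPlus m F))} (hS : sm σ S.1 = S.1) (hS2 : S.1 * S.1 = 1)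
  {F₀ : Type*} [Field F₀] [Fintype F₀] (i : F₀ →+* F) (hi : ∀ x, σ x = x ↔ ∃ y, i y = x)
  {κ : Type} [Fintype κ] [DecidableEq κ] (e : Fin m ⊕ Fin m ≃ κ)
  {Q₀ : (κ → F₀) → F₀} {B₀ : LinearMap.BilinForm F₀ (κ → F₀)} (C₀ : Space Q₀ B₀)
  {QF : (κ → F) → F} {BF : LinearMap.BilinForm F (κ → F)} (CF : Space QF BF) (hQF : ∀ v, QF (i ∘ v) = i (Q₀ v))
  {G : GL (Fin m ⊕ Fin m) F} (hG : ∀ v, Cfsg.quadFormPlus m F (G.val *ᵥ v) = QF (v ∘ e.symm))

local notation "GS₀" => ↥(Cfsg.Geo.quadSimilarityGroup (F := F₀) Q₀)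
local notation "P₀" => Cfsg.POmega F₀ Q₀

include C₀ CF hQF hG

omit [Fintype F] [Fintype F₀] in
/-- The rational similitudes inside the split ones. -/
theorem exists_plus_emb : ∃ Φ : GS₀ →* GS,
    (∀ g, (Φ g).1 = G * reGL e (Matrix.GeneralLinearGroup.map i g.1) * G⁻¹) ∧
    ∀ (g : GS₀) (c : F₀), (∀ v, Q₀ (g.1.val *ᵥ v) = c * Q₀ v) → ∀ v, Qp ((Φ g).1.val *ᵥ v) = i c * Qp v := by
  have key : ∀ (g : GL κ F₀) (c : F₀), (∀ v, Q₀ (g.val *ᵥ v) = c * Q₀ v) →
      ∀ v, Qp ((G * reGL e (Matrix.GeneralLinearGroup.map i g) * G⁻¹).val *ᵥ v) = i c * Qp v := fun g c hc v => by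
    obtain ⟨u, rfl⟩ : ∃ u, G.val *ᵥ u = v := ⟨(G⁻¹).val *ᵥ v, act_inv _ _⟩
    rw [mul_act, mul_act, inv_act, hG, hG, reGL_act, Function.comp_assoc, Equiv.self_comp_symm, Function.comp_id,
      sim_ext i C₀ CF hQF hc]
  refine ⟨MonoidHom.mk' (fun g => ⟨G * reGL e (Matrix.GeneralLinearGroup.map i g.1) * G⁻¹,
    Units.map i.toMonoidHom g.2.choose, fun v => key g.1 _ g.2.choose_spec v⟩) fun g g' => Subtype.ext ?_,
    fun g => rfl, fun g c hc v => key g.1 c hc v⟩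
  show G * reGL e (Matrix.GeneralLinearGroup.map i (g.1 * g'.1)) * G⁻¹ = _
  rw [map_mul, map_mul]
  simp [mul_assoc]

variable {Φ : ↥(Cfsg.Geo.quadSimilarityGroup (F := F₀) Q₀) →*
    ↥(Cfsg.Geo.quadSimilarityGroup (F := F) (Cfsg.quadFormPlus m F))}
  (hΦ : ∀ g, (Φ g).1 = G * reGL e (Matrix.GeneralLinearGroup.map i g.1) * G⁻¹)

include hΦ C

omit [Fintype F] [Fintype F₀] in
theorem plus_emb_rI {v : κ → F₀} (hv : Q₀ v ≠ 0) :
    ∃ (w : ιp → F) (hw : Qp w ≠ 0), Qp w = i (Q₀ v) ∧ Φ (isoSim (rI C₀ v hv)) = isoSim (rI C w hw) := by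
  have hcomp : ((i ∘ v) ∘ e) ∘ e.symm = i ∘ v := by
    rw [Function.comp_assoc, Equiv.self_comp_symm, Function.comp_id]
  have hw : Qp (G.val *ᵥ ((i ∘ v) ∘ e)) = i (Q₀ v) := by rw [hG, hcomp, hQF]
  have hw0 : Qp (G.val *ᵥ ((i ∘ v) ∘ e)) ≠ 0 := by
    rw [hw]; exact fun h => hv (i.injective (h.trans (map_zero i).symm))
  refine ⟨_, hw0, hw, Subtype.ext (gl_ext fun x => ?_)⟩
  obtain ⟨y, rfl⟩ : ∃ y, G.val *ᵥ y = x := ⟨(G⁻¹).val *ᵥ x, act_inv _ _⟩
  rw [hΦ]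
  show (G * reGL e (Matrix.GeneralLinearGroup.map i (rI C₀ v hv : GL κ F₀)) * G⁻¹).val *ᵥ (G.val *ᵥ y) =
    (rGL Qp (G.val *ᵥ ((i ∘ v) ∘ e))).val *ᵥ (G.val *ᵥ y)
  have hB : B (G.val *ᵥ ((i ∘ v) ∘ e)) (G.val *ᵥ y) = BF (i ∘ v) (y ∘ e.symm) := by
    rw [← C.polar, ← CF.polar, QuadraticMap.polar, QuadraticMap.polar, ← Matrix.mulVec_add, hG, hG, hG, Pi.add_comp,
      hcomp]
  rw [mul_act, mul_act, inv_act, reGL_act, rI_ext i C₀ CF hQF hv, rI_val, rGL_act CF, rGL_act C hw0, hw, hQF, hB,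
    ← Matrix.mulVec_smul, ← Matrix.mulVec_sub]
  · congr 1
    funext k
    simp
  · rw [hQF]; exact fun h => hv (i.injective (h.trans (map_zero i).symm))

variable (D₀ : Subgroup (MulAut (Cfsg.POmega F₀ Q₀)))
  (hor : ∀ (g : ↥(Cfsg.Geo.quadSimilarityGroup (F := F₀) Q₀)) (v : κ → F₀) (hv : Q₀ v ≠ 0),
    innd g ∈ D₀ ∨ innd (g * isoSim (rI C₀ v hv)) ∈ D₀)
  (hodd₀ : (2 : F₀) ≠ 0 → ∀ (g : ↥(Cfsg.Geo.quadSimilarityGroup (F := F₀) Q₀)) (c : F₀),
    (∀ v, Q₀ (g.1.val *ᵥ v) = c * Q₀ v) → innd g ∈ D₀ → g.1.val.det = c ^ m)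
  (htwo₀ : (2 : F₀) = 0 → ∀ g : ↥(Cfsg.Geo.quadSimilarityGroup (F := F₀) Q₀), innd g ∈ D₀ →
    ∃ (d : F₀ˣ) (s : ↥(isometryGroup F₀ Q₀)), s ∈ Cfsg.Omega F₀ Q₀ ∧ g.1 = sc d * (s : GL κ F₀))

include hm p hor hodd₀ htwo₀

set_option maxHeartbeats 800000 in
theorem plus_emb_diag (g : GS₀) : innd (Φ g) ∈ D ↔ innd g ∈ D₀ := by
  have fwd : ∀ g : GS₀, innd g ∈ D₀ → innd (Φ g) ∈ D := by
    intro g hg
    have hmap : ∀ (g : GS₀) (c : F₀), (∀ v, Q₀ (g.1.val *ᵥ v) = c * Q₀ v) →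
        ∀ v, Qp ((Φ g).1.val *ᵥ v) = i c * Qp v := fun g c hc v => by
      obtain ⟨u, rfl⟩ : ∃ u, G.val *ᵥ u = v := ⟨(G⁻¹).val *ᵥ v, act_inv _ _⟩
      rw [hΦ, mul_act, mul_act, inv_act, hG, hG, reGL_act, Function.comp_assoc, Equiv.self_comp_symm,
        Function.comp_id, sim_ext i C₀ CF hQF hc]
    by_cases h2 : (2 : F) = 0
    · have h20 : (2 : F₀) = 0 := i.injective (by rw [map_ofNat, map_zero, h2])
      obtain ⟨d, t, ht, hd⟩ := htwo₀ h20 g hg
      let E : ↥(isometryGroup F₀ Q₀) →* ↥(isometryGroup F Qp) :=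
        MonoidHom.mk' (fun s => ⟨(Φ (isoSim s)).1, mem_iso.2 fun v => by
          rw [hmap (isoSim s) 1 (fun v => by rw [one_mul]; exact mem_iso.1 s.2 v), map_one, one_mul]⟩)
          fun s t => Subtype.ext (by
            show (Φ (isoSim (s * t))).1 = (Φ (isoSim s) * Φ (isoSim t)).1
            rw [map_mul, map_mul])
      have hΩ : E t ∈ Cfsg.Omega F Qp := by
        have : (commutator ↥(isometryGroup F₀ Q₀)).map E ≤ commutator ↥(isometryGroup F Qp) := by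
          rw [_root_.commutator_def, Subgroup.map_commutator]
          exact Subgroup.commutator_mono le_top le_top
        exact this ⟨_, ht, rfl⟩
      refine (plus_diag_iff_omega hm p C h2 (d := Units.map i.toMonoidHom d) ?_).2 hΩ
      show (Φ g).1 = _ * (Φ (isoSim t)).1
      rw [hΦ, hΦ, hd, map_mul, show Matrix.GeneralLinearGroup.map i (sc d : GL κ F₀) =
        sc (Units.map i.toMonoidHom d) from Units.ext (Matrix.ext fun x y => by
          simp [Matrix.diagonal_apply, apply_ite i]), map_mul, reGL_sc, ← mul_assoc G, ← sc_comm _ G]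
      simp only [mul_assoc]
      rfl
    · have h20 : (2 : F₀) ≠ 0 := fun h => h2 (by rw [← map_ofNat i 2, h, map_zero])
      obtain ⟨c, hc⟩ := g.2
      refine (plus_diag_iff_det hm p C h2 (c := i c) (hmap g c hc)).2 ?_
      have e' : Matrix.GeneralLinearGroup.det (Φ g).1 =
          Matrix.GeneralLinearGroup.det (reGL e (Matrix.GeneralLinearGroup.map i g.1)) := by
        rw [hΦ]; simp
      refine (congrArg Units.val e').trans ?_
      rw [← map_pow, ← hodd₀ h20 g c hc hg]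
      show ((reGL e (Matrix.GeneralLinearGroup.map i g.1)).val).det = _
      rw [show (reGL e (Matrix.GeneralLinearGroup.map i g.1)).val =
          (Matrix.GeneralLinearGroup.map i g.1).val.submatrix e e from Matrix.ext fun x y => reGL_apply e _ x y,
        Matrix.det_submatrix_equiv_self]
      exact (RingHom.map_det i g.1.val).symm
  refine ⟨fun h => ?_, fwd g⟩
  have hnon : ∃ v, Q₀ v ≠ 0 := Cfsg.Lib.H3.exists_nonsing_vec C₀ (by
    rw [← Fintype.card_congr e, Fintype.card_sum, Fintype.card_fin]; omega)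
  obtain ⟨v, hv⟩ := hnon
  rcases hor g v hv with h' | h'
  · exact h'
  · exfalso
    obtain ⟨w, hw, -, ew⟩ := plus_emb_rI C i e C₀ CF hQF hG hΦ hv
    have h1 := fwd _ h'
    rw [map_mul, map_mul, ew, Subgroup.mul_mem_cancel_left _ h] at h1
    exact plus_refl_not_diag hm p C hw h1

omit p hor hodd₀ htwo₀

variable (hGS : S.1 * sm σ G = G)

include hS2 hi hGS

omit [Fintype F] [Fintype F₀] [CharP F p] [Fact p.Prime] hm C in
/-- The image is fixed by the twisted action. -/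
theorem plus_emb_fix (g : GS₀) : S.1 * sm σ (Φ g).1 * S.1 = (Φ g).1 := by
  have hfix : sm σ (Matrix.GeneralLinearGroup.map i g.1) = Matrix.GeneralLinearGroup.map i g.1 :=
    Units.ext (Matrix.ext fun x y => (hi _).2 ⟨_, rfl⟩)
  have hSG : (sm σ G)⁻¹ * S.1 = G⁻¹ := by
    refine eq_inv_of_mul_eq_one_right ?_
    calc G * ((sm σ G)⁻¹ * S.1) = S.1 * sm σ G * ((sm σ G)⁻¹ * S.1) := by rw [hGS]
      _ = S.1 * S.1 := by group
      _ = 1 := hS2
  rw [hΦ, map_mul, map_mul, map_inv, sm_reGL, hfix, ← mul_assoc, ← mul_assoc, hGS, mul_assoc _ (sm σ G)⁻¹, hSG]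

omit [Fintype F₀] [CharP F p] [Fact p.Prime] in
/-- Every similitude fixed by the twisted action is rational. -/
theorem plus_emb_exact {A : GS} (hA : S.1 * sm σ A.1 * S.1 = A.1) : ∃ g : GS₀, A = Φ g := by
  have hSG : sm σ G = S.1 * G := by
    calc sm σ G = S.1 * S.1 * sm σ G := by rw [hS2, one_mul]
      _ = _ := by rw [mul_assoc, hGS]
  obtain ⟨Y, hY⟩ : ∃ Y : GL κ F, reGL e Y = G⁻¹ * A.1 * G := ⟨reGL e.symm (G⁻¹ * A.1 * G), reGL_reGL_symm e _⟩
  have hYfix : sm σ Y = Y := reGL_injective e (by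
    rw [← sm_reGL, hY, map_mul, map_mul, map_inv, hSG]
    calc (S.1 * G)⁻¹ * sm σ A.1 * (S.1 * G) = G⁻¹ * (S.1⁻¹ * sm σ A.1 * S.1) * G := by group
      _ = _ := by rw [inv_eq_of_mul_eq_one_right hS2, hA])
  have h : ∀ x y, ∃ z, i z = Y.val x y := fun x y =>
    (hi _).1 (congrFun (congrFun (congrArg (fun u : GL κ F => u.val) hYfix) x) y)
  choose N hN using h
  have hdet : IsUnit (Matrix.of N).det := by
    rw [isUnit_iff_ne_zero]
    intro h0
    have h1 := congrArg i h0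
    rw [map_zero, RingHom.map_det, show i.mapMatrix (Matrix.of N) = Y.val from Matrix.ext hN] at h1
    exact (Matrix.GeneralLinearGroup.det Y).ne_zero h1
  have hg : Matrix.GeneralLinearGroup.map i (Matrix.GeneralLinearGroup.mk'' _ hdet) = Y :=
    Units.ext (Matrix.ext hN)
  obtain ⟨μ, hμ⟩ := A.2
  have key : ∀ v : κ → F₀, i (Q₀ ((Matrix.of N) *ᵥ v)) = μ * i (Q₀ v) := fun v => by
    rw [← hQF, ← hQF, show i ∘ ((Matrix.of N) *ᵥ v) = Y.val *ᵥ (i ∘ v) by rw [← hg, map_vec]; rfl]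
    have h1 := hμ (G.val *ᵥ ((i ∘ v) ∘ e))
    rw [show A.1.val *ᵥ (G.val *ᵥ ((i ∘ v) ∘ e)) = G.val *ᵥ ((reGL e Y).val *ᵥ ((i ∘ v) ∘ e)) by
      rw [hY, mul_act, mul_act, act_inv], hG, hG, reGL_act] at h1
    simpa [Function.comp_assoc] using h1
  obtain ⟨v, hv⟩ : ∃ v, Q₀ v ≠ 0 := by
    by_contra hall
    push Not at hall
    obtain ⟨w, hw⟩ := Cfsg.Lib.H3.exists_nonsing_vec C (by
      rw [Fintype.card_sum, Fintype.card_fin]; omega)
    refine hw ?_
    obtain ⟨u, rfl⟩ : ∃ u, G.val *ᵥ u = w := ⟨(G⁻¹).val *ᵥ w, act_inv _ _⟩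
    rw [hG]
    have := quad_ext CF CF (1 : Matrix κ κ F) 0 (fun k => by
        rw [Matrix.one_mulVec, zero_mul, ← comp_single i k, hQF, hall, map_zero])
      (fun k l => by
        rw [Matrix.one_mulVec, Matrix.one_mulVec, zero_mul, QuadraticMap.polar, ← comp_single i k, ← comp_single i l,
          show i ∘ Pi.single k 1 + i ∘ Pi.single l 1 = i ∘ (Pi.single k 1 + Pi.single l 1 : κ → F₀) from
            funext fun j => (map_add i _ _).symm, hQF, hQF, hQF, hall, hall, hall, map_zero, sub_zero, sub_zero])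
      (u ∘ e.symm)
    simpa using this
  obtain ⟨c, hic⟩ : ∃ c, i c = (μ : F) := ⟨Q₀ ((Matrix.of N) *ᵥ v) / Q₀ v, by
    rw [map_div₀, key, mul_div_assoc, div_self fun h => hv (i.injective (h.trans (map_zero i).symm)), mul_one]⟩
  have hc0 : c ≠ 0 := fun h0 => μ.ne_zero (by rw [← hic, h0, map_zero])
  refine ⟨⟨Matrix.GeneralLinearGroup.mk'' _ hdet, Units.mk0 c hc0, fun v => i.injective ?_⟩, Subtype.ext ?_⟩
  · rw [map_mul, Units.val_mk0, hic]
    exact key v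
  · rw [hΦ, hg, hY]
    group

include hr hσ

omit [CharP F p] [Fact p.Prime] in
theorem plus_emb_surj {A : GS} {c : Fˣ} (hc : S.1 * sm σ A.1 * S.1 = sc c * A.1) :
    ∃ (d : Fˣ) (g : GS₀), A.1 = sc d * (Φ g).1 := by
  haveI : Fact r.Prime := ⟨hr⟩
  have hcomm : G⁻¹ * A.1 * G = G⁻¹ * A.1 * G := rfl
  have hSG : sm σ G = S.1 * G := by
    calc sm σ G = S.1 * S.1 * sm σ G := by rw [hS2, one_mul]
      _ = _ := by rw [mul_assoc, hGS]
  have h1 : sm σ (G⁻¹ * A.1 * G) = sc c * (G⁻¹ * A.1 * G) := by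
    rw [map_mul, map_mul, map_inv, hSG]
    calc (S.1 * G)⁻¹ * sm σ A.1 * (S.1 * G) = G⁻¹ * (S.1⁻¹ * sm σ A.1 * S.1) * G := by group
      _ = G⁻¹ * (sc c * A.1) * G := by rw [inv_eq_of_mul_eq_one_right hS2, hc]
      _ = _ := by rw [← mul_assoc G⁻¹ (sc c), ← sc_comm c G⁻¹]; simp only [mul_assoc]
  haveI : Nonempty ιp := ⟨.inl ⟨0, by omega⟩⟩
  obtain ⟨d, Y, hY, hAY⟩ := Descent.exists_fixed hσ (G⁻¹ * A.1 * G) h1
  have hA' : G * Y * G⁻¹ = sc d⁻¹ * A.1 := by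
    have h2 : A.1 = sc d * (G * Y * G⁻¹) := by
      rw [show A.1 = G * (G⁻¹ * A.1 * G) * G⁻¹ by group, hAY, ← mul_assoc G (sc d), ← sc_comm d G]
      simp only [mul_assoc]
    rw [h2, ← mul_assoc, ← map_mul, inv_mul_cancel, map_one, one_mul]
  obtain ⟨μ, hμ⟩ := A.2
  let A₁ : GS := ⟨G * Y * G⁻¹, d⁻¹ ^ 2 * μ, fun v => by
    rw [hA', mul_act, sc_act, C.smul, hμ, Units.val_mul, Units.val_pow_eq_pow_val]; ring⟩
  obtain ⟨g, hg⟩ := plus_emb_exact hm C hS2 i hi e C₀ CF hQF hG hΦ hGS (A := A₁) (by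
    show S.1 * sm σ (G * Y * G⁻¹) * S.1 = G * Y * G⁻¹
    rw [map_mul, map_mul, map_inv, hY, hSG, _root_.mul_inv_rev, inv_eq_of_mul_eq_one_right hS2]
    calc S.1 * (S.1 * G * Y * (G⁻¹ * S.1)) * S.1 = (S.1 * S.1) * G * Y * G⁻¹ * (S.1 * S.1) := by simp only [mul_assoc]
      _ = _ := by rw [hS2, one_mul, mul_one])
  refine ⟨d, g, ?_⟩
  rw [← hg]
  show A.1 = sc d * (G * Y * G⁻¹)
  rw [hA', ← mul_assoc, ← map_mul, mul_inv_cancel, map_one, one_mul]

include p hS hor hodd₀ htwo₀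

set_option maxHeartbeats 1600000 in
omit hΦ in
/-- The centraliser of a twisted field automorphism in the inner-diagonal group. -/
theorem plus_centralizer [CharP F₀ p] (h7 : 7 ≤ Fintype.card κ)
    (hle : D₀ ≤ (innd : GS₀ →* MulAut P₀).range) :
    Nonempty (↥(D ⊓ Subgroup.centralizer {innd S * fld hQ σ}) ≃* ↥D₀) := by
  have h7' : 7 ≤ Fintype.card ιp := by rwa [Fintype.card_congr e]
  obtain ⟨Φ, hΦ, -⟩ := exists_plus_emb i e C₀ CF hQF hG
  let H : Subgroup GS₀ := (D₀).comap (innd : GS₀ →* MulAut P₀)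
  let φ : ↥H →* ↥(D ⊓ Subgroup.centralizer {innd S * fld hQ σ}) :=
    (((innd : GS →* MulAut P).comp Φ).comp H.subtype).codRestrict _ fun g =>
      Subgroup.mem_inf.2 ⟨(plus_emb_diag hm p C i e C₀ CF hQF hG hΦ D₀ hor hodd₀ htwo₀ g.1).2 g.2,
        Subgroup.mem_centralizer_singleton_iff.2 ((commute_twist_iff hm p C hS hS2 _).2 ⟨1, by
          rw [map_one, one_mul]; exact plus_emb_fix hS2 i hi e C₀ CF hQF hG hΦ hGS g.1⟩)⟩
  have hφ : Function.Surjective φ := by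
    rintro ⟨β, hβ, hc⟩
    obtain ⟨A, rfl⟩ := inndiag_plus_le_range hm p C hβ
    obtain ⟨c, hc'⟩ := (commute_twist_iff hm p C hS hS2 A).1 (Subgroup.mem_centralizer_singleton_iff.1 hc)
    obtain ⟨d, g, hg⟩ := plus_emb_surj hm C hr hσ hS2 i hi e C₀ CF hQF hG hΦ hGS hc'
    have e' : innd (Φ g) = innd A := ((innd_eq_innd_sc C h7' p).2 ⟨d, hg⟩).symm
    exact ⟨⟨g, (plus_emb_diag hm p C i e C₀ CF hQF hG hΦ D₀ hor hodd₀ htwo₀ g).1 (e' ▸ hβ)⟩, Subtype.ext e'⟩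
  let ψ : ↥H →* ↥D₀ := ((innd : GS₀ →* MulAut P₀).comp H.subtype).codRestrict _ fun g => g.2
  have hψ : Function.Surjective ψ := by
    rintro ⟨β, hβ⟩
    obtain ⟨g, rfl⟩ := hle hβ
    exact ⟨⟨g, hβ⟩, rfl⟩
  have hker : φ.ker = ψ.ker := by
    ext g
    rw [MonoidHom.mem_ker, MonoidHom.mem_ker, Subtype.ext_iff, Subtype.ext_iff]
    show innd (Φ g.1) = 1 ↔ innd g.1 = 1
    rw [innd_eq_sc C h7' p, innd_eq_sc C₀ h7 p, hΦ]
    haveI : Nonempty κ := Fintype.card_pos_iff.1 (by omega)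
    obtain ⟨k⟩ := (inferInstance : Nonempty κ)
    constructor
    · rintro ⟨c, hc⟩
      have hc' : Matrix.GeneralLinearGroup.map i g.1.1 = sc c := reGL_injective e (by
        rw [reGL_sc, show reGL e (Matrix.GeneralLinearGroup.map i g.1.1) =
          G⁻¹ * (G * reGL e (Matrix.GeneralLinearGroup.map i g.1.1) * G⁻¹) * G by group, hc, ← sc_comm c G⁻¹]
        group)
      have h1 : ∀ x y, i (g.1.1.val x y) = (c : F) * if x = y then 1 else 0 := fun x y => by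
        refine (congrArg (fun u : GL κ F => u.val x y) hc').trans ?_
        rw [sc_val]
        simp [Matrix.one_apply]
      have hne : g.1.1.val k k ≠ 0 := fun h0 => c.ne_zero (by simpa [h0] using (h1 k k).symm)
      refine ⟨Units.mk0 _ hne, Units.ext (Matrix.ext fun x y => i.injective ?_)⟩
      rw [h1 x y, sc_val]
      simp [Matrix.one_apply, apply_ite i, h1 k k]
    · rintro ⟨c, hc⟩
      refine ⟨Units.map i.toMonoidHom c, ?_⟩
      rw [hc, show Matrix.GeneralLinearGroup.map i (sc c : GL κ F₀) = sc (Units.map i.toMonoidHom c) from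
        Units.ext (Matrix.ext fun x y => by simp [Matrix.diagonal_apply, apply_ite i]), reGL_sc, ← sc_comm _ G]
      group
  exact ⟨((QuotientGroup.quotientKerEquivOfSurjective φ hφ).symm.trans
    ((QuotientGroup.quotientMulEquivOfEq hker).trans (QuotientGroup.quotientKerEquivOfSurjective ψ hψ)))⟩

end Cfsg.Lib.Linear.AutPO
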