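import Cfsg.Agent.Lib.Linear.AutPO.PlusTorus
import Cfsg.Agent.Lib.Linear.AutPO.MinusField

/-!
# Involutory graph-field automorphisms of `PΩ⁺`
-/

set_option autoImplicit false

namespace Cfsg.Lib.Linear.AutPO

open Module
open Cfsg.Lib.Linear.Orth
open Cfsg.Lib.Linear.Descent (sc sm tw sc_val sc_comm sm_sc sm_one sm_mul)
open scoped Matrix

set_option quotPrecheck false

variable {n : ℕ} {F : Type*} [Field F] [Fintype F]

local notation "ιp" => (Fin (n + 1) ⊕ Fin (n + 1))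
local notation "Qp" => Cfsg.quadFormPlus (n + 1) F
local notation "GS" => ↥(Cfsg.Geo.quadSimilarityGroup (F := F) Qp)
local notation "P" => Cfsg.POmega F Qp
local notation "D" => Cfsg.inndiagPOmegaPlus (n + 1) F
local notation "hQ" => (stdForm_plus : StdForm (Cfsg.quadFormPlus (n + 1) F))

variable (hn : 3 ≤ n) (p : ℕ) [Fact p.Prime] [CharP F p]
  {B : LinearMap.BilinForm F (Fin (n + 1) ⊕ Fin (n + 1) → F)} (C : Space (Cfsg.quadFormPlus (n + 1) F) B)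
  {σ : F ≃+* F} (hσ : orderOf σ = 2) {F₀ : Type*} [Field F₀] [Fintype F₀] (i : F₀ →+* F)
  (hi : ∀ x, σ x = x ↔ ∃ y, i y = x)

include hn p C hσ hi

set_option maxHeartbeats 1600000 in
/-- The centraliser and the splitting of the standard graph-field involution. -/
theorem plus_graph_invol : ∃ a₀ b₀ : F₀, (∀ z₁ z₂ : F₀, z₁ ^ 2 + a₀ * z₁ * z₂ + b₀ * z₂ ^ 2 = 0 → z₁ = 0 ∧ z₂ = 0) ∧
    Nonempty (↥(D ⊓ Subgroup.centralizer {innd (swapS C) * fld hQ σ}) ≃* ↥(Cfsg.inndiagPOmegaMinus n F₀ a₀ b₀)) ∧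
    ((2 : F) ≠ 0 → (Odd (n + 1) ∧ Fintype.card F₀ % 4 = 1 →
      Cfsg.splitClassCount D (Cfsg.Inn P) (innd (swapS C) * fld hQ σ) = 4) ∧
      (¬ (Odd (n + 1) ∧ Fintype.card F₀ % 4 = 1) →
      Cfsg.splitClassCount D (Cfsg.Inn P) (innd (swapS C) * fld hQ σ) = 2)) := by
  classical
  have h4 : 4 ≤ n + 1 := by omega
  obtain ⟨θ, hθ⟩ : ∃ θ, σ θ ≠ θ := by
    by_contra h
    push Not at h
    rw [show σ = 1 from RingEquiv.ext h, orderOf_one] at hσ
    exact absurd hσ (by norm_num)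
  have hinv : σ (σ θ) = θ := by
    have h := pow_orderOf_eq_one σ
    rw [hσ, sq] at h
    exact DFunLike.congr_fun h θ
  obtain ⟨a₀, ha₀⟩ := (hi (-(θ + σ θ))).1 (by rw [map_neg, map_add, hinv, add_comm])
  obtain ⟨b₀, hb₀⟩ := (hi (θ * σ θ)).1 (by rw [map_mul, hinv, mul_comm])
  have hab₀ : ∀ z₁ z₂ : F₀, z₁ ^ 2 + a₀ * z₁ * z₂ + b₀ * z₂ ^ 2 = 0 → z₁ = 0 ∧ z₂ = 0 := by
    intro z₁ z₂ h
    have h' : (i z₁ - θ * i z₂) * (i z₁ - σ θ * i z₂) = 0 := by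
      have := congrArg i h
      simp only [map_add, map_mul, map_pow, map_zero, ha₀, hb₀] at this
      linear_combination this
    by_cases h20 : z₂ = 0
    · refine ⟨?_, h20⟩
      rw [h20] at h'
      simpa using h'
    exfalso
    have hfix : ∀ y : F, i z₁ - y * i z₂ = 0 → σ y = y := fun y hy => by
      refine (hi y).2 ⟨z₁ / z₂, ?_⟩
      rw [map_div₀, div_eq_iff (fun h0 => h20 (i.injective (h0.trans (map_zero i).symm)))]
      exact sub_eq_zero.1 hy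
    rcases mul_eq_zero.1 h' with h1 | h1
    · exact hθ (hfix θ h1)
    · have := hfix _ h1
      rw [hinv] at this
      exact hθ this.symm
  obtain ⟨G, hGq, hGc⟩ := exists_splitG (n := n) (F := F) (Ne.symm hθ)
  have hGS : (swapS C).1 * sm σ G = G := swap_twist C σ hGc hinv
  obtain ⟨B₀, C₀⟩ := exists_space_minus (F := F₀) n a₀ b₀ hab₀
  obtain ⟨BF, CF⟩ := exists_space_disc (m := n) (i a₀) (i b₀) (by
    rw [ha₀, hb₀, show (-(θ + σ θ)) ^ 2 - 4 * (θ * σ θ) = (θ - σ θ) ^ 2 by ring]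
    exact pow_ne_zero 2 (sub_ne_zero.2 (Ne.symm hθ)))
  have hQF : ∀ v : (Fin n ⊕ Fin n) ⊕ Fin 2 → F₀, Cfsg.quadFormMinus n F (i a₀) (i b₀) (i ∘ v) =
      i (Cfsg.quadFormMinus n F₀ a₀ b₀ v) := fun v => minus_map i a₀ b₀ v
  have hG : ∀ v, Qp (G.val *ᵥ v) = Cfsg.quadFormMinus n F (i a₀) (i b₀) (v ∘ (idxE n).symm) := fun v => by
    rw [hGq, ha₀, hb₀]; rfl
  haveI : CharP F₀ p := (i.charP_iff i.injective p).2 inferInstance
  have hor := fun g v (hv : Cfsg.quadFormMinus n F₀ a₀ b₀ v ≠ 0) => diag_or_refl hab₀ hn p C₀ g hv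
  have hodd₀ : (2 : F₀) ≠ 0 → ∀ (g : ↥(Cfsg.Geo.quadSimilarityGroup (F := F₀) (Cfsg.quadFormMinus n F₀ a₀ b₀))) (c : F₀),
      (∀ v, Cfsg.quadFormMinus n F₀ a₀ b₀ (g.1.val *ᵥ v) = c * Cfsg.quadFormMinus n F₀ a₀ b₀ v) →
      innd g ∈ Cfsg.inndiagPOmegaMinus n F₀ a₀ b₀ → g.1.val.det = c ^ (n + 1) :=
    fun h20 g c hc hg => (diag_iff_det hab₀ hn p h20 hc).1 hg
  have htwo₀ : (2 : F₀) = 0 → ∀ g : ↥(Cfsg.Geo.quadSimilarityGroup (F := F₀) (Cfsg.quadFormMinus n F₀ a₀ b₀)),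
      innd g ∈ Cfsg.inndiagPOmegaMinus n F₀ a₀ b₀ →
      ∃ (d : F₀ˣ) (s : ↥(isometryGroup F₀ (Cfsg.quadFormMinus n F₀ a₀ b₀))),
        s ∈ Cfsg.Omega F₀ (Cfsg.quadFormMinus n F₀ a₀ b₀) ∧ g.1 = sc d * (s : GL _ F₀) := by
    intro h20 g hg
    have h7 : 7 ≤ Fintype.card ((Fin n ⊕ Fin n) ⊕ Fin 2) := by simp only [Fintype.card_sum, Fintype.card_fin]; omega
    rw [inndiag_two hab₀ hn p h20] at hg
    obtain ⟨x, hx⟩ := hg
    obtain ⟨t, rfl⟩ := QuotientGroup.mk_surjective x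
    obtain ⟨A, hA, hA'⟩ := conj_mk_eq C₀ h7 p t
    obtain ⟨d, hd⟩ := (innd_eq_innd_sc C₀ h7 p).1 (hx.symm.trans hA'.symm)
    exact ⟨d, _, t.2, by rw [hd, hA]; rfl⟩
  refine ⟨a₀, b₀, hab₀, ?_, fun h2 => ?_⟩
  · exact plus_centralizer h4 p C Nat.prime_two hσ (swap_fix C σ) (swap_sq C) i hi (idxE n) C₀ CF hQF hG
      (Cfsg.inndiagPOmegaMinus n F₀ a₀ b₀) hor hodd₀ htwo₀ hGS
      (by simp only [Fintype.card_sum, Fintype.card_fin]; omega) (inndiag_le_range hab₀ hn p)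
  obtain ⟨Φ, hΦ, -⟩ := exists_plus_emb i (idxE n) C₀ CF hQF hG
  obtain ⟨α, d, hα, hd, hdsq⟩ := exists_root_nonsquare h2 i hi hσ
  have hα0 : α ≠ 0 := fun h => hα (h ▸ ⟨0, (mul_zero 0).symm⟩)
  have hiα : i α ≠ 0 := fun h => hα0 (i.injective (h.trans (map_zero i).symm))
  obtain ⟨lam, hlam⟩ := Cfsg.Lib.Linear.Descent.exists_norm hσ hiα ((hi _).2 ⟨α, rfl⟩)
  have hlam0 : lam ≠ 0 := fun h => hiα (by rw [← hlam, h, zero_mul])
  have hlamsq : ¬ IsSquare lam := by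
    rintro ⟨y, rfl⟩
    have hinv' : ∀ x, σ (σ x) = x := fun x => by
      have h := pow_orderOf_eq_one σ
      rw [hσ, sq] at h
      exact DFunLike.congr_fun h x
    obtain ⟨z, hz⟩ := (hi (y * σ y)).1 (by rw [map_mul, hinv', mul_comm])
    exact hα ⟨z, i.injective (by rw [map_mul, hz, ← hlam, map_mul]; ring)⟩
  have hneg : IsSquare (-1 : F) := by rw [← map_one i, ← map_neg]; exact isSquare_rat i hi hσ _
  let u : Fin (n + 1) → Fˣ := Fin.lastCases (Units.mk0 lam hlam0 * d⁻¹) fun _ => d⁻¹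
  obtain ⟨T, hT, hTm, hTD, hTI⟩ := exists_torus h4 p C h2 hneg d u
  have hTl : ∀ v k, (T.1.val *ᵥ v) (.inl k) = d * (u k : F) * v (.inl k) ∧
      (T.1.val *ᵥ v) (.inr k) = d * ((u k)⁻¹ : Fˣ) * v (.inr k) := fun v k => by
    rw [hT, mul_act, sc_act, Pi.smul_apply, Pi.smul_apply, (lev_dUnit_act u v k).1, (lev_dUnit_act u v k).2,
      smul_eq_mul, smul_eq_mul, mul_assoc, mul_assoc]
    exact ⟨rfl, rfl⟩
  have hdd : (d : F) * d = i α := by rw [← sq]; exact hd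
  have hσlam : i α / lam = σ lam := by rw [← hlam, mul_div_cancel_left₀ _ hlam0]
  have hinvlam : σ (σ lam) = lam := by
    have h := pow_orderOf_eq_one σ
    rw [hσ, sq] at h
    exact DFunLike.congr_fun h lam
  have e1 : ∀ k : Fin n, (d : F) * (u k.castSucc : F) = 1 ∧ (d : F) * ((u k.castSucc)⁻¹ : Fˣ) = i α := fun k => by
    simp [u, hdd]
  have e2 : (d : F) * (u (Fin.last n) : F) = lam ∧ (d : F) * ((u (Fin.last n))⁻¹ : Fˣ) = σ lam := by
    rw [← hσlam, ← hdd]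
    simp only [u, Fin.lastCases_last, Units.val_mul, Units.val_mk0, Units.val_inv_eq_inv_val, _root_.mul_inv_rev,
      inv_inv]
    constructor <;> field_simp
  have hTfix : (swapS C).1 * sm σ T.1 * (swapS C).1 = T.1 := by
    refine gl_ext fun x => ?_
    obtain ⟨hv, hR⟩ := exists_swapR C
    have hRS : (swapS C).1 = (rI C _ hv : GL ιp F) := rfl
    rw [hRS, mul_act, mul_act]
    obtain ⟨g1, g2, g3⟩ := hR x
    set y := (rI C _ hv : GL ιp F).val *ᵥ x with hy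
    obtain ⟨z, hz⟩ : ∃ z, σ ∘ z = y := ⟨σ.symm ∘ y, funext fun k => σ.apply_symm_apply _⟩
    rw [← hz, ← sm_eq, map_act]
    obtain ⟨h1, h2', h3⟩ := hR (σ ∘ (T.1.val *ᵥ z))
    funext k
    rcases k with k | k <;> refine Fin.lastCases ?_ (fun j => ?_) k
    · rw [h2', Function.comp_apply, (hTl z _).2, (hTl x _).1, e2.1, e2.2, map_mul, hinvlam,
        show σ (z (.inr (Fin.last n))) = y (.inr (Fin.last n)) from congrFun hz _, g3]
    · rw [(h1 j).1, Function.comp_apply, (hTl z _).1, (hTl x _).1, (e1 j).1, map_mul, map_one,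
        show σ (z (.inl j.castSucc)) = y (.inl j.castSucc) from congrFun hz _, (g1 j).1]
    · rw [h3, Function.comp_apply, (hTl z _).1, (hTl x _).2, e2.1, e2.2, map_mul,
        show σ (z (.inl (Fin.last n))) = y (.inl (Fin.last n)) from congrFun hz _, g2]
    · rw [(h1 j).2, Function.comp_apply, (hTl z _).2, (hTl x _).2, (e1 j).2, map_mul, (hi _).2 ⟨α, rfl⟩,
        show σ (z (.inr j.castSucc)) = y (.inr j.castSucc) from congrFun hz _, (g1 j).2]
  obtain ⟨hyes, hno⟩ := plus_split_invol h4 p C Nat.prime_two hσ (swap_fix C σ) (swap_sq C) i hi (idxE n) C₀ CF hQF hG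
    hGS hΦ (Cfsg.inndiagPOmegaMinus n F₀ a₀ b₀) hor hodd₀ htwo₀ rfl h2 hα hTfix (fun v => by rw [hTm, hd]) hTD
  have hiff : innd T ∈ Cfsg.Inn P ↔ Odd (n + 1) ∧ Fintype.card F₀ % 4 = 1 := by
    have hprod : (∏ k, (u k : F)) = lam * ((d⁻¹ : Fˣ) : F) ^ (n + 1) := by
      rw [Fin.prod_univ_castSucc]
      simp [u, pow_succ]
      ring
    have h4' : Fintype.card F₀ % 4 = 1 ↔ ¬ Fintype.card F₀ % 4 = 3 := by
      have := FiniteField.odd_card_of_char_ne_two (F := F₀) (fun hc => h2 (by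
        have : (2 : F₀) = 0 := by haveI := ringChar.of_eq hc; exact CharTwo.two_eq_zero
        rw [← map_ofNat i 2, this, map_zero]))
      omega
    have hd2 : IsSquare ((d⁻¹ : Fˣ) : F) ↔ IsSquare (d : F) := by rw [Units.val_inv_eq_inv_val, isSquare_inv]
    rw [hTI, hprod, h4', ← hdsq, ← hd2, ← Nat.not_even_iff_odd, ← not_or, ← isSquare_pow_iff h2 (Units.ne_zero _)]
    constructor
    · rintro ⟨a, ha⟩ ⟨b, hb⟩
      exact hlamsq ⟨a / b, by
        rw [div_mul_div_comm, ← ha, ← hb, mul_div_cancel_right₀]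
        exact pow_ne_zero _ (Units.ne_zero _)⟩
    · intro h
      rw [← quadraticChar_one_iff_isSquare (mul_ne_zero hlam0 (pow_ne_zero _ (Units.ne_zero _))), map_mul,
        quadraticChar_neg_one_iff_not_isSquare.mpr hlamsq, quadraticChar_neg_one_iff_not_isSquare.mpr h]
      norm_num
  exact ⟨fun h => hyes (hiff.2 h), fun h => hno fun h' => h (hiff.1 h')⟩

end Cfsg.Lib.Linear.AutPO
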