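import Cfsg.Agent.Lib.Linear.AutPO.PlusMain
import Cfsg.Agent.Lib.Linear.AutPO.MinusOut
import Cfsg.Agent.Lib.H3.InndiagShapes
import Cfsg.Agent.S0790
import Cfsg.Agent.Lib.Chev.AutOut

/-!
# The outer automorphism group of `PΩ⁺_{2m}(q)`, `m ≥ 5`
-/

set_option autoImplicit false

namespace Cfsg.Lib.Linear.AutPO

open Module
open Cfsg.Lib.Linear.Orth
open Cfsg.Lib.Linear.Descent (sc sm tw sc_val sc_comm sm_sc sm_one sm_mul)
open scoped Matrix

set_option quotPrecheck false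
set_option synthInstance.maxHeartbeats 400000
set_option maxHeartbeats 1600000

section Abstract

/-- A complement centralising a normal subgroup generated by `s`, `t` and a small central subgroup. -/
theorem exists_centralizing {G : Type*} [Group G] (N Z : Subgroup G) {φ s t : G} {f : ℕ}
    (hφ : φ ^ f = 1) (hs : s ∈ N) (hs2 : s * s = 1) (hsφ : φ * s = s * φ)
    (hZc : ∀ z ∈ Z, ∀ g : G, g * z = z * g) (hZ : ∀ x ∈ Z, ∀ y ∈ Z, x ≠ 1 → y ≠ 1 → x = y)
    (hZ2 : ∀ x ∈ Z, x * x = 1)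
    (hgen : N ≤ Subgroup.closure ({s, t} ∪ (Z : Set G))) (hφt : φ * t * φ⁻¹ * t⁻¹ ∈ Z)
    (hst : s * t * s⁻¹ * t⁻¹ ∈ Z) (hne : s * t * s⁻¹ * t⁻¹ = 1 → ∀ z ∈ Z, z = 1) :
    ∃ ψ : G, ψ ^ f = 1 ∧ ψ * φ⁻¹ ∈ N ∧ ∀ x ∈ N, ψ * x = x * ψ := by
  have key : ∀ ψ : G, ψ * s = s * ψ → ψ * t = t * ψ → ∀ x ∈ N, ψ * x = x * ψ := fun ψ h1 h2 x hx => by
    have hsub : Subgroup.closure ({s, t} ∪ (Z : Set G)) ≤ Subgroup.centralizer {ψ} := by
      rw [Subgroup.closure_le]
      rintro y (hy | hy)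
      · rcases hy with rfl | rfl <;> exact Subgroup.mem_centralizer_singleton_iff.2 (by first | exact h1.symm | exact h2.symm)
      · exact Subgroup.mem_centralizer_singleton_iff.2 (hZc y hy ψ).symm
    exact (Subgroup.mem_centralizer_singleton_iff.1 (hsub (hgen hx))).symm
  set z1 := φ * t * φ⁻¹ * t⁻¹ with hz1
  have e1 : φ * t * φ⁻¹ = z1 * t := by rw [hz1]; group
  by_cases h : z1 = 1
  · refine ⟨φ, hφ, by rw [mul_inv_cancel]; exact one_mem _, key φ hsφ ?_⟩
    rw [h, one_mul, mul_inv_eq_iff_eq_mul] at e1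
    exact e1
  set z2 := s * t * s⁻¹ * t⁻¹ with hz2
  have e2 : s * t * s⁻¹ = z2 * t := by rw [hz2]; group
  have hz : z1 = z2 := hZ _ hφt _ hst h fun hh => h (hne hh _ hφt)
  have hf : Even f := by
    rw [← Nat.not_odd_iff_even]
    intro hodd
    have hk : ∀ k : ℕ, φ ^ k * t * (φ ^ k)⁻¹ = z1 ^ k * t := by
      intro k
      induction k with
      | zero => simp
      | succ k ih =>
        rw [pow_succ', show φ * φ ^ k * t * (φ * φ ^ k)⁻¹ = φ * (φ ^ k * t * (φ ^ k)⁻¹) * φ⁻¹ by group, ih,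
          show φ * (z1 ^ k * t) * φ⁻¹ = φ * z1 ^ k * t * φ⁻¹ by group, hZc _ (pow_mem hφt k) φ,
          show z1 ^ k * φ * t * φ⁻¹ = z1 ^ k * (φ * t * φ⁻¹) by group, e1, pow_succ]
        group
    have := hk f
    rw [hφ, inv_one, one_mul, mul_one, eq_comm, mul_eq_right] at this
    obtain ⟨j, rfl⟩ := hodd
    rw [pow_succ, pow_mul, sq, hZ2 _ hφt, one_pow, one_mul] at this
    exact h this
  refine ⟨s * φ, ?_, by rwa [mul_inv_cancel_right], key _ ?_ ?_⟩
  · obtain ⟨j, rfl⟩ := hf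
    rw [(Commute.mul_pow (hsφ.symm : Commute s φ)), hφ, mul_one, ← two_mul, pow_mul, sq, hs2, one_pow]
  · rw [mul_assoc, hsφ]
  · rw [← mul_inv_eq_iff_eq_mul, show s * φ * t * (s * φ)⁻¹ = s * (φ * t * φ⁻¹) * s⁻¹ by group, e1,
      show s * (z1 * t) * s⁻¹ = s * z1 * t * s⁻¹ by group, hZc _ hφt s,
      show z1 * s * t * s⁻¹ = z1 * (s * t * s⁻¹) by group, e2, ← hz, ← mul_assoc, hZ2 _ hφt, one_mul]

/-- A group with a centralised normal kernel and a cyclic quotient of the same order is a direct product. -/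
theorem prod_of_centralizing {G K : Type*} [Group G] [Group K] [Finite G] (π : G →* K) {f : ℕ} (hf : 1 ≤ f)
    (hcard : Nat.card G = Nat.card π.ker * f) {ψ : G} (hψ : ψ ^ f = 1) (hord : orderOf (π ψ) = f)
    (hc : ∀ x ∈ π.ker, ψ * x = x * ψ) : Nonempty (G ≃* ↥π.ker × Multiplicative (ZMod f)) := by
  have hψo : orderOf ψ = f := Nat.dvd_antisymm (orderOf_dvd_of_pow_eq_one hψ) (hord ▸ orderOf_map_dvd π ψ)
  let Θ : ↥π.ker × Subgroup.zpowers ψ →* G :=
    MonoidHom.noncommCoprod π.ker.subtype (Subgroup.zpowers ψ).subtype fun x y => by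
      obtain ⟨j, hj⟩ := y.2
      show Commute (x : G) (y : G)
      rw [← hj]
      exact Commute.zpow_right (hc x x.2).symm j
  have hinj : Function.Injective Θ := by
    rw [injective_iff_map_eq_one]
    rintro ⟨⟨x, hx⟩, ⟨y, j, rfl⟩⟩ h
    change x * ψ ^ j = 1 at h
    have h1 := congrArg π h
    rw [map_mul, MonoidHom.mem_ker.1 hx, one_mul, map_zpow, map_one, ← orderOf_dvd_iff_zpow_eq_one, hord] at h1
    have h2 : ψ ^ j = 1 := orderOf_dvd_iff_zpow_eq_one.1 (hψo.symm ▸ h1)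
    rw [h2, mul_one] at h
    exact Prod.ext (Subtype.ext h) (Subtype.ext h2)
  have hbij : Function.Bijective Θ := (Nat.bijective_iff_injective_and_card Θ).2 ⟨hinj, by
    rw [Nat.card_prod, Nat.card_zpowers, hψo, hcard]⟩
  haveI : NeZero f := ⟨by omega⟩
  exact ⟨(MulEquiv.ofBijective Θ hbij).symm.trans (MulEquiv.prodCongr (MulEquiv.refl _)
    (mulEquivOfCyclicCardEq (by rw [Nat.card_zpowers, hψo, Nat.card_congr Multiplicative.toAdd, Nat.card_zmod])))⟩

/-- A normal subgroup with at most one non-trivial element is central of exponent two. -/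
theorem central_of_unique {G : Type*} [Group G] (Z : Subgroup G) (hN : Z.Normal)
    (h : ∀ x ∈ Z, ∀ y ∈ Z, x ≠ 1 → y ≠ 1 → x = y) :
    (∀ z ∈ Z, ∀ g : G, g * z = z * g) ∧ ∀ x ∈ Z, x * x = 1 := by
  refine ⟨fun z hz g => ?_, fun x hx => ?_⟩
  · rcases eq_or_ne z 1 with rfl | h1
    · rw [mul_one, one_mul]
    exact mul_inv_eq_iff_eq_mul.1 (h _ (hN.conj_mem z hz g) _ hz (fun e => h1 (conj_eq_one_iff.1 e)) h1)
  · by_contra e
    have hx1 : x ≠ 1 := fun e' => e (by rw [e', one_mul])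
    exact hx1 (mul_eq_right.1 (h _ (mul_mem hx hx) _ hx e hx1))

theorem map_comm4 {G H : Type*} [Group G] [Group H] (q : G →* H) (a b : G) :
    q (a * b * a⁻¹ * b⁻¹) = q a * q b * (q a)⁻¹ * (q b)⁻¹ := by simp

theorem comm_of_eq_one {G : Type*} [Group G] {a b : G} (h : a * b * a⁻¹ * b⁻¹ = 1) : a * b = b * a := by
  rwa [mul_inv_eq_one, mul_inv_eq_iff_eq_mul] at h

/-- A subgroup of order two has one non-trivial element. -/
theorem eq_of_card_two {G : Type*} [Group G] (N : Subgroup G) (h : Nat.card N = 2) {a b : G} (ha : a ∈ N) (hb : b ∈ N)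
    (ha1 : a ≠ 1) (hb1 : b ≠ 1) : a = b := by
  obtain ⟨x, y, hxy, huniv⟩ := Nat.card_eq_two_iff.1 h
  have hcases : ∀ c : N, c = x ∨ c = y := fun c => by
    have : c ∈ ({x, y} : Set N) := huniv ▸ Set.mem_univ c
    simpa using this
  have h1a : (⟨a, ha⟩ : N) ≠ 1 := fun e => ha1 (congrArg Subtype.val e)
  have h1b : (⟨b, hb⟩ : N) ≠ 1 := fun e => hb1 (congrArg Subtype.val e)
  rcases hcases ⟨a, ha⟩ with e | e <;> rcases hcases ⟨b, hb⟩ with e' | e' <;> rcases hcases 1 with e'' | e''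
  all_goals first
    | exact congrArg Subtype.val (e.trans e'.symm)
    | exact absurd (e.trans e''.symm) h1a
    | exact absurd (e'.trans e''.symm) h1b

/-- Commuting generators give a commutative subgroup. -/
theorem commute_closure {G : Type*} [Group G] (Z : Subgroup G) {s t : G}
    (hst : s * t = t * s) (hZc : ∀ z ∈ Z, ∀ g : G, g * z = z * g) {x y : G}
    (hx : x ∈ Subgroup.closure ({s, t} ∪ (Z : Set G))) (hy : y ∈ Subgroup.closure ({s, t} ∪ (Z : Set G))) :
    x * y = y * x := by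
  have hcl : ∀ w : G, (∀ u ∈ ({s, t} ∪ (Z : Set G)), w * u = u * w) →
      ∀ x ∈ Subgroup.closure ({s, t} ∪ (Z : Set G)), w * x = x * w := fun w hw x hx =>
    ((Subgroup.mem_centralizer_singleton_iff.1 ((Subgroup.closure_le (Subgroup.centralizer {w})).2
      (fun u hu => Subgroup.mem_centralizer_singleton_iff.2 (hw u hu).symm) hx))).symm
  refine hcl x (fun u hu => ?_) y hy
  refine (hcl u (fun v hv => ?_) x hx).symm
  rcases hu with (rfl | rfl) | hu
  · rcases hv with (rfl | rfl) | hv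
    · rfl
    · exact hst
    · exact hZc v hv _
  · rcases hv with (rfl | rfl) | hv
    · exact hst.symm
    · rfl
    · exact hZc v hv _
  · exact (hZc u hu v).symm

end Abstract

variable {n : ℕ} {F : Type*} [Field F] [Fintype F]

local notation "ιp" => (Fin (n + 1) ⊕ Fin (n + 1))
local notation "Qp" => Cfsg.quadFormPlus (n + 1) F
local notation "GS" => ↥(Cfsg.Geo.quadSimilarityGroup (F := F) Qp)
local notation "P" => Cfsg.POmega F Qp
local notation "R" => (innd : GS →* MulAut P).range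
local notation "hQ" => (stdForm_plus : StdForm (Cfsg.quadFormPlus (n + 1) F))

variable (hn : 4 ≤ n) (p : ℕ) [Fact p.Prime] [CharP F p] {f : ℕ} (hf : 1 ≤ f) (hF : Fintype.card F = p ^ f)

include hn p hf hF

/-- The indices. -/
theorem plus_relIndex_range :
    (Cfsg.Inn P).relIndex R = if p = 2 then 2 else if Odd (n + 1) ∧ p ^ f % 4 = 3 then 4 else 8 := by
  obtain ⟨B, C⟩ := exists_space_plus (F := F) (n + 1)
  have hcard : Fintype.card ιp = 2 * (n + 1) := plus_card
  have h7 : 7 ≤ Fintype.card ιp := by omega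
  have hpos : 0 < Nat.card (Cfsg.Inn P) := Nat.card_pos
  by_cases hp : p = 2
  · rw [if_pos hp]
    subst hp
    have h := Subgroup.card_mul_index ((Cfsg.Inn P).subgroupOf R)
    rw [Nat.card_congr (Subgroup.subgroupOfEquivOfLe (inn_le_range (Q := Qp))).toEquiv,
      (card_range_two C h7 2 CharTwo.two_eq_zero).1, ← card_inn C h7 2, mul_comm 2] at h
    exact Nat.eq_of_mul_eq_mul_left hpos h
  rw [if_neg hp]
  have h2 : (2 : F) ≠ 0 := fun h => hp (((Nat.prime_dvd_prime_iff_eq (Fact.out : p.Prime) Nat.prime_two).1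
    ((CharP.cast_eq_zero_iff F p 2).1 (by exact_mod_cast h))))
  have hodd : Odd (p ^ f) := ((Fact.out : p.Prime).odd_of_ne_two hp).pow
  have hsim := fun c (hc : c ≠ 0) => Cfsg.Lib.H3.InndiagMod.exists_sim_plus (F := F) (m := n + 1) (by omega) hc
  obtain ⟨hA, hB⟩ := Cfsg.Lib.H3.InndiagMod.relIndex_inn_map C h7 p hcard h2 hsim
  obtain ⟨φ, hφ, hker⟩ := Cfsg.Lib.H3.pgo_mod_pso C h2 hcard h7 hsim
  have h4 : (Cfsg.psoAut F Qp).relIndex (Cfsg.pgoAut F Qp) = 4 := by
    rw [Subgroup.relIndex, ← hker, Subgroup.index_ker, MonoidHom.range_eq_top.2 hφ, Subgroup.card_top,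
      Nat.card_congr Multiplicative.toAdd, Nat.card_prod, Nat.card_zmod]
  rw [range_eq_pgo, ← Subgroup.relIndex_mul_relIndex _ _ _ ((inn_le_soImage C).trans_eq soImage_eq_pso)
    (by rw [← soImage_eq_pso, ← range_eq_pgo]; exact soImage_le_range), h4]
  obtain ⟨iA, iB⟩ := Cfsg.Lib.H3.inn_relIndex_pso C h2 ⟨n + 1, by omega⟩ h7
  have hi := Cfsg.Agent.S0790.result hF hodd (n + 1) (by omega)
  rw [(Cfsg.Agent.S0790.sign_pow (p ^ f) (n + 1) hodd).1] at hi
  by_cases hc : Odd (n + 1) ∧ p ^ f % 4 = 3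
  · rw [if_pos hc, iB fun hg => hi.1 hg ⟨hc.2, hc.1⟩]
  · rw [if_neg hc, iA (hi.2 fun h => hc ⟨h.2, h.1⟩)]

theorem plus_card_mulAut : Nat.card (MulAut P) =
    (if p = 2 then 2 else if Odd (n + 1) ∧ p ^ f % 4 = 3 then 4 else 8) * f * Nat.card P := by
  obtain ⟨B, C⟩ := exists_space_plus (F := F) (n + 1)
  have h7 : 7 ≤ Fintype.card ιp := by simp only [Fintype.card_sum, Fintype.card_fin]; omega
  rw [card_mulAut_std C h7 p (plus_good (by omega)) hQ, card_gal p hf hF]
  have h' := Subgroup.card_mul_index ((Cfsg.Inn P).subgroupOf R)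
  rw [Nat.card_congr (Subgroup.subgroupOfEquivOfLe (inn_le_range (Q := Qp))).toEquiv, card_inn C h7 p,
    show ((Cfsg.Inn P).subgroupOf R).index = _ from plus_relIndex_range hn p hf hF] at h'
  rw [← h']
  ring

omit hf hF in
/-- The rotations are normal in the automorphism group. -/
theorem plus_soImage_normal : (soImage : Subgroup (MulAut P)).Normal := ⟨fun β hβ γ => by
  obtain ⟨B, C⟩ := exists_space_plus (F := F) (n + 1)
  have hcard : Fintype.card ιp = 2 * (n + 1) := plus_card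
  have h7 : 7 ≤ Fintype.card ιp := by omega
  obtain ⟨u, hu, rfl⟩ := mem_soImage.1 hβ
  obtain ⟨A, τ, rfl⟩ := exists_decomp_std C h7 p (plus_good (by omega)) hQ γ
  have hu' : innd (smS hQ τ (isoSim u)) ∈ (soImage (Q := Qp)) := by
    refine innd_mem_soImage C h7 p hcard (d := 1) (fun v => ?_) ?_
    · obtain ⟨w, rfl⟩ : ∃ w : ιp → F, τ ∘ w = v := ⟨τ.symm ∘ v, funext fun i => τ.apply_symm_apply _⟩
      rw [smS_val, ← sm_eq, map_act, Units.val_one, one_pow, one_mul, stdForm_plus τ, stdForm_plus τ]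
      exact congrArg τ (mem_iso.1 u.2 w)
    · rw [smS_val, Units.val_one, one_pow, one_pow]
      show (sm τ (u : GL ιp F)).val.det = 1
      rw [Descent.sm_val]
      exact ((RingHom.map_det τ.toRingHom _).symm.trans (by rw [hu, map_one]))
  rw [show innd A * fld hQ τ * innd (isoSim u) * (innd A * fld hQ τ)⁻¹ =
    (innd A * innd (smS hQ τ (isoSim u)) * (innd A)⁻¹ * (innd (smS hQ τ (isoSim u)))⁻¹) *
      innd (smS hQ τ (isoSim u)) by
    rw [mul_assoc (innd A) (fld hQ τ), fld_mul_innd']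
    group]
  exact mul_mem (comm_mem_soImage C h7 p hcard A _) hu'⟩

omit hf hF in
/-- Square-multiplier similitudes are rotations up to the reflection. -/
theorem plus_sq_cases {B : LinearMap.BilinForm F (ιp → F)} (C : Space Qp B) {X : GS} {c : F}
    (hc : ∀ v, Qp (X.1.val *ᵥ v) = c * Qp v) (hcs : IsSquare c) :
    innd X ∈ (soImage : Subgroup (MulAut P)) ∨ innd X * innd (swapS C) ∈ (soImage : Subgroup (MulAut P)) := by
  have hcard : Fintype.card ιp = 2 * (n + 1) := plus_card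
  have h7 : 7 ≤ Fintype.card ιp := by omega
  obtain ⟨d, hd⟩ := hcs
  obtain ⟨c', hc'⟩ := X.2
  have hd0 : d ≠ 0 := fun h => c'.ne_zero (by
    rw [← Cfsg.Lib.H3.InndiagMod.mult_unique C h7 hc hc', hd, h, mul_zero])
  have hc2 : ∀ v, Qp (X.1.val *ᵥ v) = ((Units.mk0 d hd0 : Fˣ) : F) ^ 2 * Qp v := fun v => by
    rw [hc, hd, Units.val_mk0, sq]
  rcases det_eq_or C hcard hc2 with h | h
  · exact Or.inl (innd_mem_soImage C h7 p hcard hc2 h)
  · refine Or.inr ?_
    rw [← map_mul]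
    refine innd_mem_soImage C h7 p hcard (d := Units.mk0 d hd0) (fun v => ?_) ?_
    · rw [Subgroup.coe_mul, mul_act, hc2]
      exact congrArg _ (mem_iso.1 (rI C _ swapV_ne).2 v)
    · rw [Subgroup.coe_mul, Units.val_mul, Matrix.det_mul, h]
      show -_ * (rGL Qp _).val.det = _
      rw [rGL_det C swapV_ne]
      ring

omit hf hF in
/-- The rotations give at most one non-trivial outer class. -/
theorem plus_so_unique (h2 : (2 : F) ≠ 0) : ∀ x ∈ Subgroup.map (QuotientGroup.mk' (Cfsg.Inn P) : MulAut P →* Cfsg.Out P) soImage,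
    ∀ y ∈ Subgroup.map (QuotientGroup.mk' (Cfsg.Inn P) : MulAut P →* Cfsg.Out P) soImage, x ≠ 1 → y ≠ 1 → x = y := by
  obtain ⟨B, C⟩ := exists_space_plus (F := F) (n + 1)
  have h7 : 7 ≤ Fintype.card ιp := by simp only [Fintype.card_sum, Fintype.card_fin]; omega
  intro x hx y hy hx1 hy1
  obtain ⟨a, ha, rfl⟩ := Subgroup.mem_map.1 hx
  obtain ⟨b, hb, rfl⟩ := Subgroup.mem_map.1 hy
  obtain ⟨u, hu, rfl⟩ := mem_soImage.1 ha
  obtain ⟨w, hw, rfl⟩ := mem_soImage.1 hb
  have hsp : ∀ u : ↥(isometryGroup F Qp), (u : GL ιp F).val.det = 1 → innd (isoSim u) ∉ Cfsg.Inn P → spin Qp u = -1 :=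
    fun u hu hne => (Int.units_eq_one_or _).resolve_left fun h => hne
      (Cfsg.Lib.H3.InndiagMod.inner_of_omega C h7 p h2 hu h)
  refine QuotientGroup.eq.2 ?_
  rw [← map_inv, ← map_inv, ← map_mul, ← map_mul]
  refine Cfsg.Lib.H3.InndiagMod.inner_of_omega C h7 p h2 ?_ (by
    rw [map_mul, map_inv, hsp u hu (fun h => hx1 ((QuotientGroup.eq_one_iff _).2 h)),
      hsp w hw (fun h => hy1 ((QuotientGroup.eq_one_iff _).2 h))]
    rfl)
  have e : Matrix.GeneralLinearGroup.det ((u⁻¹ * w : ↥(isometryGroup F Qp)) : GL ιp F) = 1 := by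
    rw [Subgroup.coe_mul, Subgroup.coe_inv, map_mul, map_inv,
      show Matrix.GeneralLinearGroup.det (u : GL ιp F) = 1 from Units.ext hu,
      show Matrix.GeneralLinearGroup.det (w : GL ιp F) = 1 from Units.ext hw]
    simp
  exact congrArg Units.val e

local notation "qq" => (QuotientGroup.mk' (Cfsg.Inn P) : MulAut P →* Cfsg.Out P)

omit hf hF in
/-- The conformal part is generated by the swap, a nonsquare similitude and the rotations. -/
theorem plus_conf_gen {B : LinearMap.BilinForm F (ιp → F)} (C : Space Qp B) {T : GS} {α : F} (hα : ¬ IsSquare α)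
    (hT : ∀ v, Qp (T.1.val *ᵥ v) = α * Qp v) :
    Subgroup.map qq R ≤ Subgroup.closure ({qq (innd (swapS C)), qq (innd T)} ∪
      ((Subgroup.map qq (soImage (Q := Qp)) : Subgroup (Cfsg.Out P)) : Set (Cfsg.Out P))) := by
  classical
  have hα0 : α ≠ 0 := fun h => hα (h ▸ ⟨0, (mul_zero 0).symm⟩)
  have m1 : qq (innd (swapS C)) ∈ Subgroup.closure ({qq (innd (swapS C)), qq (innd T)} ∪
      ((Subgroup.map qq (soImage (Q := Qp)) : Subgroup (Cfsg.Out P)) : Set (Cfsg.Out P))) :=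
    Subgroup.subset_closure (Or.inl (Set.mem_insert _ _))
  have m2 : qq (innd T) ∈ Subgroup.closure ({qq (innd (swapS C)), qq (innd T)} ∪
      ((Subgroup.map qq (soImage (Q := Qp)) : Subgroup (Cfsg.Out P)) : Set (Cfsg.Out P))) :=
    Subgroup.subset_closure (Or.inl (Set.mem_insert_of_mem _ (Set.mem_singleton _)))
  intro z hz
  obtain ⟨β, hβ, rfl⟩ := Subgroup.mem_map.1 hz
  obtain ⟨A, rfl⟩ := MonoidHom.mem_range.1 hβ
  have hsq_case : ∀ (X : GS) (c : F), (∀ v, Qp (X.1.val *ᵥ v) = c * Qp v) → IsSquare c →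
      qq (innd X) ∈ Subgroup.closure ({qq (innd (swapS C)), qq (innd T)} ∪
        ((Subgroup.map qq (soImage (Q := Qp)) : Subgroup (Cfsg.Out P)) : Set (Cfsg.Out P))) := by
    intro X c hc hcs
    rcases plus_sq_cases hn p C hc hcs with h | h
    · exact Subgroup.subset_closure (Or.inr (Subgroup.mem_map.2 ⟨_, h, rfl⟩))
    · have h' : qq (innd X * innd (swapS C)) ∈ Subgroup.closure ({qq (innd (swapS C)), qq (innd T)} ∪
            ((Subgroup.map qq (soImage (Q := Qp)) : Subgroup (Cfsg.Out P)) : Set (Cfsg.Out P))) :=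
        Subgroup.subset_closure (Or.inr (Subgroup.mem_map.2 ⟨_, h, rfl⟩))
      rw [map_mul] at h'
      exact (Subgroup.mul_mem_cancel_right _ m1).1 h'
  obtain ⟨c, hc⟩ := A.2
  by_cases hcs : IsSquare (c : F)
  · exact hsq_case A c hc hcs
  have h := hsq_case (A * T) ((c : F) * α) (fun v => by rw [Subgroup.coe_mul, mul_act, hc, hT, mul_assoc]) (by
    rw [← quadraticChar_one_iff_isSquare (mul_ne_zero c.ne_zero hα0), map_mul,
      quadraticChar_neg_one_iff_not_isSquare.mpr hcs, quadraticChar_neg_one_iff_not_isSquare.mpr hα]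
    norm_num)
  rw [map_mul, map_mul] at h
  exact (Subgroup.mul_mem_cancel_right _ m2).1 h

omit hf hF in
/-- If the generators commute there are no outer rotations. -/
theorem plus_comm_absurd {B : LinearMap.BilinForm F (ιp → F)} (C : Space Qp B) (h2 : (2 : F) ≠ 0) {T : GS} {α : F}
    (hα : ¬ IsSquare α) (hT : ∀ v, Qp (T.1.val *ᵥ v) = α * Qp v)
    (hst : qq (innd (swapS C)) * qq (innd T) = qq (innd T) * qq (innd (swapS C))) :
    ∀ z ∈ Subgroup.map qq (soImage (Q := Qp)), z = 1 := by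
  have hcard : Fintype.card ιp = 2 * (n + 1) := plus_card
  have h7 : 7 ≤ Fintype.card ιp := by omega
  intro z hz
  obtain ⟨a, ha, rfl⟩ := Subgroup.mem_map.1 hz
  by_contra hz1
  have hsim := fun c (hc : c ≠ 0) => Cfsg.Lib.H3.InndiagMod.exists_sim_plus (F := F) (m := n + 1) (by omega) hc
  have hzm : ∃ g : ↥(isometryGroup F Qp), g ∈ Cfsg.Omega F Qp ∧ (g : GL ιp F).val = -1 := by
    by_contra hno
    have h1 := (Cfsg.Lib.H3.inn_relIndex_pso C h2 ⟨n + 1, by omega⟩ h7).2 hno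
    rw [Subgroup.relIndex_eq_one, ← soImage_eq_pso] at h1
    exact hz1 ((QuotientGroup.eq_one_iff a).2 (h1 ha))
  obtain ⟨χ, hχ, hχk⟩ := Cfsg.Lib.H3.InndiagMod.pgo_dihedral C h7 p hcard h2 hsim hzm
  obtain ⟨x, hx⟩ := hχ (DihedralGroup.r 1)
  obtain ⟨y, hy⟩ := hχ (DihedralGroup.sr 0)
  have hmemN : ∀ z : ↥(Cfsg.pgoAut F Qp), qq (z : MulAut P) ∈ Subgroup.map qq R := fun z =>
    Subgroup.mem_map.2 ⟨z.1, by rw [range_eq_pgo]; exact z.2, rfl⟩
  have hZc := (central_of_unique _ ((plus_soImage_normal (n := n) (F := F) hn p).map qq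
    (QuotientGroup.mk'_surjective _)) (plus_so_unique hn p h2)).1
  have hxy : x * y * x⁻¹ * y⁻¹ ∈ (Cfsg.Inn P).subgroupOf (Cfsg.pgoAut F Qp) := by
    rw [Subgroup.mem_subgroupOf]
    refine (QuotientGroup.eq_one_iff _).1 ?_
    show qq _ = 1
    simp only [Subgroup.coe_mul, Subgroup.coe_inv, map_mul, map_inv]
    rw [commute_closure _ hst hZc (plus_conf_gen hn p C hα hT (hmemN x)) (plus_conf_gen hn p C hα hT (hmemN y))]
    group
  rw [← hχk, MonoidHom.mem_ker, map_mul, map_mul, map_mul, map_inv, map_inv, hx, hy] at hxy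
  exact absurd hxy (by decide)

/-- The Frobenius class and the swap class. -/
theorem plus_frob_swap {B : LinearMap.BilinForm F (ιp → F)} (C : Space Qp B) :
    (qq (fld hQ (frobF p))) ^ f = 1 ∧ qq (innd (swapS C)) * qq (innd (swapS C)) = 1 ∧
      qq (fld hQ (frobF p)) * qq (innd (swapS C)) = qq (innd (swapS C)) * qq (fld hQ (frobF p)) := by
  refine ⟨?_, ?_, ?_⟩
  · rw [← map_pow, ← map_pow, show (frobF p ^ f : F ≃+* F) = 1 by
      rw [← orderOf_frobF (F := F) p hf hF, pow_orderOf_eq_one], map_one, map_one]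
  · rw [← map_mul qq, ← map_mul, show swapS C * swapS C = 1 from Subtype.ext (swap_sq C), map_one, map_one]
  · rw [← map_mul qq, ← map_mul qq, fld_mul_innd',
      show smS hQ (frobF p) (swapS C) = swapS C from Subtype.ext (by rw [smS_val]; exact swap_fix C _)]

/-- In characteristic two the conformal part has order two. -/
theorem plus_conf_two (hp : p = 2) : Nat.card (Subgroup.map qq R) = 2 := by
  rw [← Subgroup.relIndex_ker, QuotientGroup.ker_mk', plus_relIndex_range hn p hf hF, if_pos hp]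

omit hf hF in
/-- In characteristic two the swap is an outer class. -/
theorem plus_swap_ne {B : LinearMap.BilinForm F (ιp → F)} (C : Space Qp B) (hp : p = 2) :
    qq (innd (swapS C)) ≠ 1 := by
  have h7 : 7 ≤ Fintype.card ιp := by simp only [Fintype.card_sum, Fintype.card_fin]; omega
  have h2 : (2 : F) = 0 := by
    subst hp
    exact CharTwo.two_eq_zero
  exact fun h => (card_range_two C h7 p h2).2 _ swapV_ne ((QuotientGroup.eq_one_iff _).1 h)

/-- A lift of the Frobenius centralising the conformal part. -/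
theorem plus_exists_lift :
    ∃ ψ : Cfsg.Out P, ψ ^ f = 1 ∧ ψ * (qq (fld hQ (frobF p)))⁻¹ ∈ Subgroup.map qq R ∧
      ∀ x ∈ Subgroup.map qq R, ψ * x = x * ψ := by
  obtain ⟨B, C⟩ := exists_space_plus (F := F) (n + 1)
  have hcard : Fintype.card ιp = 2 * (n + 1) := plus_card
  have h7 : 7 ≤ Fintype.card ιp := by omega
  obtain ⟨hφf, hs2, hsφ⟩ := plus_frob_swap hn p hf hF C
  by_cases hp : p = 2
  · refine ⟨qq (fld hQ (frobF p)), hφf, by rw [mul_inv_cancel]; exact one_mem _, fun z hz => ?_⟩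
    by_cases hz1 : z = 1
    · rw [hz1, mul_one, one_mul]
    · rw [eq_of_card_two _ (plus_conf_two hn p hf hF hp) hz (Subgroup.mem_map.2 ⟨_, ⟨_, rfl⟩, rfl⟩) hz1
        (plus_swap_ne hn p C hp)]
      exact hsφ
  have h2 : (2 : F) ≠ 0 := fun h => hp (((Nat.prime_dvd_prime_iff_eq (Fact.out : p.Prime) Nat.prime_two).1
    ((CharP.cast_eq_zero_iff F p 2).1 (by exact_mod_cast h))))
  obtain ⟨k, hk⟩ := (Fact.out : p.Prime).odd_of_ne_two hp
  have hsq : ∀ x, frobF (F := F) p x = x ^ (2 * k + 1) := fun x => by rw [frobF_apply, hk]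
  obtain ⟨α, hα⟩ := FiniteField.exists_nonsquare (F := F) (fun hc => h2 (by
    haveI := ringChar.of_eq hc; exact CharTwo.two_eq_zero))
  have hα0 : α ≠ 0 := fun h => hα (h ▸ ⟨0, (mul_zero 0).symm⟩)
  obtain ⟨g₁, hg₁⟩ := Cfsg.Lib.H3.InndiagMod.exists_sim_plus (F := F) (m := n + 1) (by omega) hα0
  obtain ⟨T, hT⟩ : ∃ T : GS, ∀ v, Qp (T.1.val *ᵥ v) = α * Qp v := ⟨⟨g₁, Units.mk0 α hα0, hg₁⟩, hg₁⟩
  obtain ⟨hZc, hZsq⟩ := central_of_unique _ ((plus_soImage_normal (n := n) (F := F) hn p).map qq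
    (QuotientGroup.mk'_surjective _)) (plus_so_unique hn p h2)
  have hc1 : fld hQ (frobF p) * innd T * (fld hQ (frobF p))⁻¹ * (innd T)⁻¹ ∈ (soImage (Q := Qp)) :=
    semi_comm_mem_soImage C h7 p hcard (isSemi_fld hQ (frobF p)) hsq T
  have hc2 := comm_mem_soImage C h7 p hcard (swapS C) T
  refine exists_centralizing (Subgroup.map qq R) (Subgroup.map qq (soImage (Q := Qp))) hφf
    (Subgroup.mem_map.2 ⟨_, ⟨_, rfl⟩, rfl⟩) hs2 hsφ hZc (plus_so_unique hn p h2) hZsq
    (plus_conf_gen hn p C hα hT)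
    (Subgroup.mem_map.2 ⟨_, hc1, map_comm4 _ _ _⟩)
    (Subgroup.mem_map.2 ⟨_, hc2, map_comm4 _ _ _⟩)
    fun hne => plus_comm_absurd hn p C h2 hα hT (comm_of_eq_one hne)

/-- The outer automorphism group is the conformal part times the field part. -/
theorem plus_out_prod :
    Nonempty (Cfsg.Out P ≃* (↥R ⧸ (Cfsg.Inn P).subgroupOf R) × Multiplicative (ZMod f)) := by
  classical
  obtain ⟨B, C⟩ := exists_space_plus (F := F) (n + 1)
  have h7 : 7 ≤ Fintype.card ιp := by simp only [Fintype.card_sum, Fintype.card_fin]; omega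
  obtain ⟨π, hπ, hker⟩ := exists_galOf C h7 p (plus_good (F := F) (m := n + 1) (by omega))
  have hle : Cfsg.Inn P ≤ π.ker := hker ▸ inn_le_range
  let πb : Cfsg.Out P →* (F ≃+* F) := QuotientGroup.lift (Cfsg.Inn P) π hle
  let ρ : ↥R →* Cfsg.Out P := (QuotientGroup.mk' (Cfsg.Inn P)).comp (R).subtype
  have hρr : ρ.range = Subgroup.map (QuotientGroup.mk' (Cfsg.Inn P)) R := by
    rw [MonoidHom.range_comp, Subgroup.range_subtype]
  have hρk : ρ.ker = (Cfsg.Inn P).subgroupOf R := by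
    ext x
    rw [MonoidHom.mem_ker, Subgroup.mem_subgroupOf]
    exact QuotientGroup.eq_one_iff _
  have hNker : πb.ker = ρ.range := by
    rw [hρr]
    show (QuotientGroup.lift (Cfsg.Inn P) π hle).ker = _
    rw [QuotientGroup.ker_lift, hker]
  let eN : (↥R ⧸ (Cfsg.Inn P).subgroupOf R) ≃* ↥πb.ker :=
    ((QuotientGroup.quotientMulEquivOfEq hρk.symm).trans (QuotientGroup.quotientKerEquivRange ρ)).trans
      (MulEquiv.subgroupCongr hNker.symm)
  have hcardOut : Nat.card (Cfsg.Out P) = Nat.card ↥πb.ker * f := by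
    rw [← Nat.card_congr eN.toEquiv]
    show _ = (Cfsg.Inn P).relIndex R * f
    have h := Subgroup.card_eq_card_quotient_mul_card_subgroup (Cfsg.Inn P)
    rw [card_inn C h7 p, plus_card_mulAut hn p hf hF] at h
    rw [plus_relIndex_range hn p hf hF]
    exact (Nat.eq_of_mul_eq_mul_right Nat.card_pos h).symm
  obtain ⟨ψ, hψf, hψφ, hψc⟩ := plus_exists_lift hn p hf hF
  rw [← hρr, ← hNker] at hψφ hψc
  have hψo : orderOf (πb ψ) = f := by
    have h1 : πb (ψ * (QuotientGroup.mk (fld hQ (frobF p)))⁻¹) = 1 := MonoidHom.mem_ker.1 hψφ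
    rw [map_mul, map_inv, mul_inv_eq_one] at h1
    rw [h1, show πb (QuotientGroup.mk (fld hQ (frobF p))) = π (fld hQ (frobF p)) from rfl, fld_eq, hπ,
      orderOf_frobF p hf hF]
  obtain ⟨E⟩ := prod_of_centralizing πb hf hcardOut hψf hψo hψc
  exact ⟨E.trans (MulEquiv.prodCongr eN.symm (MulEquiv.refl _))⟩

end Cfsg.Lib.Linear.AutPO
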