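import Cfsg.Agent.Lib.Linear.AutPO.PlusFrame
import Cfsg.Agent.Lib.H3.InndiagShapes
import Cfsg.Agent.Lib.Chev.AutOut
import Cfsg.Agent.Lib.Linear.AutPSp.FieldCases

/-!
# Field and graph-field automorphisms of `PΩ⁺`: conjugacy and the splitting of classes
-/

set_option autoImplicit false

namespace Cfsg.Lib.Linear.AutPO

open Module
open Cfsg.Lib.Linear.Orth
open Cfsg.Lib.Linear.Descent (sc sm tw sc_val sc_comm sm_sc sm_one sm_mul)
open scoped Matrix

set_option quotPrecheck false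

section Std

variable {n : ℕ} {F : Type*} [Field F] [Fintype F]

local notation "ιp" => (Fin (n + 1) ⊕ Fin (n + 1))
local notation "Qp" => Cfsg.quadFormPlus (n + 1) F
local notation "GS" => ↥(Cfsg.Geo.quadSimilarityGroup (F := F) Qp)
local notation "P" => Cfsg.POmega F Qp
local notation "D" => Cfsg.inndiagPOmegaPlus (n + 1) F
local notation "hQ" => (stdForm_plus : StdForm (Cfsg.quadFormPlus (n + 1) F))

variable (hn : 4 ≤ n) (p : ℕ) [Fact p.Prime] [CharP F p]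
  {B : LinearMap.BilinForm F (Fin (n + 1) ⊕ Fin (n + 1) → F)} (C : Space (Cfsg.quadFormPlus (n + 1) F) B)

include hn p C

set_option maxHeartbeats 1600000 in
/-- The conjugates of a standard twisted field automorphism are conjugate under the inner-diagonal group. -/
theorem plus_conj_std (σ : F ≃+* F) (S : GS) (hS : S = 1 ∨ S = swapS C) (α : MulAut P) :
    Cfsg.IsConjUnder D (innd S * fld hQ σ) (α * (innd S * fld hQ σ) * α⁻¹) := by
  have h4 : 4 ≤ n + 1 := by omega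
  have h7 : 7 ≤ Fintype.card ιp := by simp only [Fintype.card_sum, Fintype.card_fin]; omega
  obtain ⟨A, τ, rfl⟩ := exists_decomp_std C h7 p (plus_good (by omega)) hQ α
  have hcomm : τ * σ = σ * τ := by
    obtain ⟨g, hg⟩ := (Cfsg.Lib.Chev.isCyclic_ringAut_field F).exists_generator
    obtain ⟨i, rfl⟩ := hg τ
    obtain ⟨j, rfl⟩ := hg σ
    exact zpow_mul_comm g i j
  have hSτ : smS hQ τ S = S := by
    rcases hS with rfl | rfl
    · exact Subtype.ext (by rw [smS_val]; exact map_one _)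
    · exact Subtype.ext (by rw [smS_val]; exact swap_fix C τ)
  have ht : fld hQ τ * (innd S * fld hQ σ) = innd S * fld hQ σ * fld hQ τ := by
    rw [← mul_assoc, fld_mul_innd', hSτ, mul_assoc, mul_assoc, ← map_mul, ← map_mul, hcomm]
  have hR : innd (swapS C) * (innd S * fld hQ σ) = innd S * fld hQ σ * innd (swapS C) := by
    rw [mul_assoc (innd S), fld_mul_innd', ← mul_assoc, ← mul_assoc, ← map_mul, ← map_mul,
      show smS hQ σ (swapS C) = swapS C from Subtype.ext (by rw [smS_val]; exact swap_fix C σ)]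
    rcases hS with rfl | rfl
    · rw [mul_one, one_mul]
    · rfl
  have e : innd A * fld hQ τ * (innd S * fld hQ σ) * (innd A * fld hQ τ)⁻¹ =
      innd A * (innd S * fld hQ σ) * (innd A)⁻¹ := by
    rw [mul_assoc (innd A), ht]
    group
  rw [e]
  rcases plus_diag_or_refl h4 p C A (swapV_ne (n := n) (F := F)) with h | h
  · exact ⟨_, h, rfl⟩
  · refine ⟨_, h, ?_⟩
    rw [show isoSim (rI C _ (swapV_ne (n := n) (F := F))) = swapS C from rfl, map_mul, mul_assoc (innd A) (innd (swapS C)),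
      hR]
    group

end Std

section NoSplit

variable {m : ℕ} {F : Type*} [Field F] [Fintype F] (hm : 4 ≤ m) (p : ℕ) [Fact p.Prime] [CharP F p]
  {B : LinearMap.BilinForm F (Fin m ⊕ Fin m → F)} (C : Space (Cfsg.quadFormPlus m F) B)

local notation "ιp" => (Fin m ⊕ Fin m)
local notation "Qp" => Cfsg.quadFormPlus m F
local notation "GS" => ↥(Cfsg.Geo.quadSimilarityGroup (F := F) Qp)
local notation "P" => Cfsg.POmega F Qp
local notation "D" => Cfsg.inndiagPOmegaPlus m F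

include hm p C

/-- The inner-diagonal group is inner in characteristic two. -/
theorem plus_diag_two (h2 : (2 : F) = 0) : D ≤ Cfsg.Inn P := by
  intro β hβ
  obtain ⟨A, rfl⟩ := inndiag_plus_le_range hm p C hβ
  obtain ⟨c, hc⟩ := A.2
  obtain ⟨d, hd⟩ : IsSquare (c : F) := FiniteField.isSquare_of_char_two
    (ringChar.eq_iff.2 (CharTwo.of_one_ne_zero_of_two_eq_zero one_ne_zero h2)) _
  have hd0 : d ≠ 0 := fun h => c.ne_zero (by rw [hd, h, mul_zero])
  let s : ↥(isometryGroup F Qp) := ⟨sc (Units.mk0 d hd0)⁻¹ * A.1, mem_iso.2 fun x => by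
    rw [mul_act, sc_act, C.smul, hc, Units.val_inv_eq_inv_val, Units.val_mk0, hd]
    field_simp⟩
  have hAs : A.1 = sc (Units.mk0 d hd0) * (s : GL ιp F) := by
    show _ = sc _ * (sc _⁻¹ * A.1)
    rw [← mul_assoc, ← map_mul, mul_inv_cancel, map_one, one_mul]
  have h := plus_inn_of_omega hm p C ((plus_diag_iff_omega hm p C h2 hAs).1 hβ)
  rwa [(innd_eq_innd_sc C (A := A) (A' := isoSim s) (by simp only [Fintype.card_sum, Fintype.card_fin]; omega) p).2
    ⟨_, hAs⟩]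

theorem plus_split_two_char (h2 : (2 : F) = 0) (x : MulAut P) : Cfsg.splitClassCount D (Cfsg.Inn P) x = 1 := by
  classical
  rw [← Subgroup.range_subtype (D),
    AutPSL.splitClassCount_eq (D).subtype (Cfsg.Inn P) (by rw [Subgroup.range_subtype]; exact plus_inn_le hm p C)
      x (1 : ↥(D) →* PUnit.{1}) (fun _ => ⟨1, rfl⟩)
      (fun g => iff_of_true rfl ⟨g.1, plus_diag_two hm p C h2 g.2, 1, by simp, by simp⟩), Nat.card_unique]

variable (h2 : (2 : F) ≠ 0)

include h2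

/-- A similitude in the inner-diagonal group with square multiplier acts as a rotation. -/
theorem plus_sq_soImage {A : GS} {c : F} (hc : ∀ v, Qp (A.1.val *ᵥ v) = c * Qp v) (hA : innd A ∈ D)
    (hsq : IsSquare c) : innd A ∈ (soImage : Subgroup (MulAut P)) := by
  obtain ⟨d, hd⟩ := hsq
  have h7 : 7 ≤ Fintype.card ιp := by simp only [Fintype.card_sum, Fintype.card_fin]; omega
  obtain ⟨c', hc'⟩ := A.2
  have hd0 : d ≠ 0 := fun h => c'.ne_zero (by
    rw [← Cfsg.Lib.H3.InndiagMod.mult_unique C h7 hc hc', hd, h, mul_zero])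
  have hc2 : ∀ v, Qp (A.1.val *ᵥ v) = ((Units.mk0 d hd0 : Fˣ) : F) ^ 2 * Qp v := fun v => by
    rw [hc, hd, Units.val_mk0, sq]
  exact innd_mem_soImage C h7 p (plus_card) hc2 ((plus_diag_iff_det hm p C h2 hc2).1 hA)

theorem plus_soImage_le : (soImage : Subgroup (MulAut P)) ≤ D := by
  rw [Cfsg.Lib.H3.InndiagMod.inndiag_plus_eq h2]
  exact Cfsg.Lib.H3.InndiagMod.soImage_le_map C (by simp only [Fintype.card_sum, Fintype.card_fin]; omega) p plus_card h2

/-- The rotations form at most two cosets of the inner automorphisms. -/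
theorem plus_soImage_cases {u : ↥(isometryGroup F Qp)} (hu : (u : GL ιp F).val.det = 1) (hus : spin Qp u = -1)
    {β : MulAut P} (hβ : β ∈ (soImage : Subgroup (MulAut P))) :
    β ∈ Cfsg.Inn P ∨ β * innd (isoSim u) ∈ Cfsg.Inn P := by
  have h7 : 7 ≤ Fintype.card ιp := by simp only [Fintype.card_sum, Fintype.card_fin]; omega
  obtain ⟨s, hs, rfl⟩ := mem_soImage.1 hβ
  rcases Int.units_eq_one_or (spin Qp s) with h | h
  · exact Or.inl (Cfsg.Lib.H3.InndiagMod.inner_of_omega C h7 p h2 hs h)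
  · refine Or.inr ?_
    rw [← map_mul, ← map_mul]
    refine Cfsg.Lib.H3.InndiagMod.inner_of_omega C h7 p h2 ?_ (by rw [map_mul, h, hus, neg_mul_neg, one_mul])
    rw [Subgroup.coe_mul, Units.val_mul, Matrix.det_mul, hs, hu, one_mul]

theorem plus_relIndex (hneg : IsSquare (-1 : F)) :
    (Cfsg.Inn P).relIndex D = 4 ∧ (soImage : Subgroup (MulAut P)).relIndex D = 2 := by
  have h7 : 7 ≤ Fintype.card ιp := by simp only [Fintype.card_sum, Fintype.card_fin]; omega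
  have hsim : ∀ c : F, c ≠ 0 → ∃ g : GL ιp F, ∀ v, Qp (g.val *ᵥ v) = c * Qp v :=
    fun c hc => Cfsg.Lib.H3.InndiagMod.exists_sim_plus (by omega) hc
  have hz : ∃ g : ↥(isometryGroup F Qp), g ∈ Cfsg.Omega F Qp ∧ (g : GL ιp F).val = -1 := by
    refine ⟨lev m (dUnit fun _ => (-1 : Fˣ)), (lev_mem_omega_iff (by omega) (Or.inr (by omega)) _).2 ?_, ?_⟩
    · simp only [dUnit, Matrix.det_diagonal, Finset.prod_const, Finset.card_univ, Fintype.card_fin]
      obtain ⟨e, he⟩ := hneg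
      exact ⟨e ^ m, by rw [← mul_pow, ← he]; simp⟩
    · rw [lev_val]
      refine Matrix.ext fun x y => ?_
      rcases x with x | x <;> rcases y with y | y <;>
        simp [dUnit, Matrix.diagonal_apply, Matrix.one_apply, apply_ite (Neg.neg : F → F)]
      all_goals rw [eq_comm (a := y)]
  rw [Cfsg.Lib.H3.InndiagMod.inndiag_plus_eq h2]
  exact ⟨((Cfsg.Lib.H3.InndiagMod.relIndex_inn_map C h7 p plus_card h2 hsim).1 hz).1,
    (Cfsg.Lib.H3.InndiagMod.relIndex_map C h7 p plus_card h2 hsim).1⟩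

end NoSplit

section Rat

variable {F : Type*} [Field F] [Fintype F] {F₀ : Type*} [Field F₀] [Fintype F₀] (i : F₀ →+* F) {σ : F ≃+* F}
  (hi : ∀ x, σ x = x ↔ ∃ y, i y = x) (hσ : orderOf σ = 2)

include hi hσ

/-- The quadratic extension has square order. -/
theorem card_of_invol : Fintype.card F = Fintype.card F₀ ^ 2 := by
  rw [← AutPSL.card_fixedF_pow σ, hσ, ← Nat.card_eq_fintype_card (α := F₀)]
  refine congrArg (· ^ 2) (Nat.card_congr (Equiv.ofBijective
    (fun y => (⟨i y, AutPSL.mem_fixedF.2 ((hi _).2 ⟨y, rfl⟩)⟩ : AutPSL.fixedF σ))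
    ⟨fun a b h => i.injective (congrArg Subtype.val h), fun x => ?_⟩)).symm
  obtain ⟨y, hy⟩ := (hi _).1 (AutPSL.mem_fixedF.1 x.2)
  exact ⟨y, Subtype.ext hy⟩

/-- The elements of the fixed field are squares. -/
theorem isSquare_rat (c : F₀) : IsSquare (i c) := by
  by_cases hc : c = 0
  · rw [hc, map_zero]; exact IsSquare.zero
  by_cases h2 : ringChar F = 2
  · exact FiniteField.isSquare_of_char_two h2 _
  rw [FiniteField.isSquare_iff h2 (fun h => hc (i.injective (h.trans (map_zero i).symm))), ← map_pow,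
    card_of_invol i hi hσ]
  have hodd : Fintype.card F₀ % 2 = 1 := FiniteField.odd_card_of_char_ne_two (fun h => h2 (by
    haveI := ringChar.charP F₀
    haveI : CharP F (ringChar F₀) := (i.charP_iff i.injective _).1 inferInstance
    rw [ringChar.eq F (ringChar F₀), h]))
  obtain ⟨s, hs⟩ : ∃ s, Fintype.card F₀ = 2 * s + 1 := ⟨Fintype.card F₀ / 2, by omega⟩
  have : Fintype.card F₀ ^ 2 / 2 = (Fintype.card F₀ - 1) * (s + 1) := by
    rw [hs, Nat.add_sub_cancel, show (2 * s + 1) ^ 2 = 1 + 2 * (2 * s * (s + 1)) by ring,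
      Nat.add_mul_div_left _ _ two_pos]
    omega
  rw [this, pow_mul, FiniteField.pow_card_sub_one_eq_one c hc, one_pow, map_one]

end Rat

section Frame

variable {m : ℕ} {F : Type*} [Field F] [Fintype F]

local notation "ιp" => (Fin m ⊕ Fin m)
local notation "Qp" => Cfsg.quadFormPlus m F
local notation "GS" => ↥(Cfsg.Geo.quadSimilarityGroup (F := F) Qp)
local notation "P" => Cfsg.POmega F Qp
local notation "D" => Cfsg.inndiagPOmegaPlus m F
local notation "hQ" => (stdForm_plus : StdForm (Cfsg.quadFormPlus m F))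

variable (hm : 4 ≤ m) (p : ℕ) [Fact p.Prime] [CharP F p] {B : LinearMap.BilinForm F (Fin m ⊕ Fin m → F)}
  (C : Space (Cfsg.quadFormPlus m F) B) {σ : F ≃+* F} {r : ℕ} (hr : r.Prime) (hσ : orderOf σ = r)
  {S : ↥(Cfsg.Geo.quadSimilarityGroup (F := F) (Cfsg.quadFormPlus m F))} (hS : sm σ S.1 = S.1) (hS2 : S.1 * S.1 = 1)
  {F₀ : Type*} [Field F₀] [Fintype F₀] (i : F₀ →+* F) (hi : ∀ x, σ x = x ↔ ∃ y, i y = x)
  {κ : Type} [Fintype κ] [DecidableEq κ] (e : Fin m ⊕ Fin m ≃ κ)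
  {Q₀ : (κ → F₀) → F₀} {B₀ : LinearMap.BilinForm F₀ (κ → F₀)} (C₀ : Space Q₀ B₀)
  {QF : (κ → F) → F} {BF : LinearMap.BilinForm F (κ → F)} (CF : Space QF BF) (hQF : ∀ v, QF (i ∘ v) = i (Q₀ v))
  {G : GL (Fin m ⊕ Fin m) F} (hG : ∀ v, Cfsg.quadFormPlus m F (G.val *ᵥ v) = QF (v ∘ e.symm))
  (hGS : S.1 * sm σ G = G) {Φ : ↥(Cfsg.Geo.quadSimilarityGroup (F := F₀) Q₀) →*
    ↥(Cfsg.Geo.quadSimilarityGroup (F := F) (Cfsg.quadFormPlus m F))}
  (hΦ : ∀ g, (Φ g).1 = G * reGL e (Matrix.GeneralLinearGroup.map i g.1) * G⁻¹)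
  (D₀ : Subgroup (MulAut (Cfsg.POmega F₀ Q₀)))
  (hor : ∀ (g : ↥(Cfsg.Geo.quadSimilarityGroup (F := F₀) Q₀)) (v : κ → F₀) (hv : Q₀ v ≠ 0),
    innd g ∈ D₀ ∨ innd (g * isoSim (rI C₀ v hv)) ∈ D₀)
  (hodd₀ : (2 : F₀) ≠ 0 → ∀ (g : ↥(Cfsg.Geo.quadSimilarityGroup (F := F₀) Q₀)) (c : F₀),
    (∀ v, Q₀ (g.1.val *ᵥ v) = c * Q₀ v) → innd g ∈ D₀ → g.1.val.det = c ^ m)
  (htwo₀ : (2 : F₀) = 0 → ∀ g : ↥(Cfsg.Geo.quadSimilarityGroup (F := F₀) Q₀), innd g ∈ D₀ →
    ∃ (d : F₀ˣ) (s : ↥(isometryGroup F₀ Q₀)), s ∈ Cfsg.Omega F₀ Q₀ ∧ g.1 = sc d * (s : GL κ F₀))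

local notation "GS₀" => ↥(Cfsg.Geo.quadSimilarityGroup (F := F₀) Q₀)
local notation "O₀" => ↥(isometryGroup F₀ Q₀)

include C C₀ CF hQF hG hΦ

omit [Fintype F] [Fintype F₀] [CharP F p] [Fact p.Prime] in
theorem plus_emb_mult {g : GS₀} {c : F₀} (hc : ∀ v, Q₀ (g.1.val *ᵥ v) = c * Q₀ v) (v : ιp → F) :
    Qp ((Φ g).1.val *ᵥ v) = i c * Qp v := by
  obtain ⟨u, rfl⟩ : ∃ u, G.val *ᵥ u = v := ⟨(G⁻¹).val *ᵥ v, act_inv _ _⟩
  rw [hΦ, mul_act, mul_act, inv_act, hG, hG, reGL_act, Function.comp_assoc, Equiv.self_comp_symm,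
    Function.comp_id, sim_ext i C₀ CF hQF hc]

omit [Fintype F] [Fintype F₀] [CharP F p] [Fact p.Prime] in
/-- The rational isometries. -/
theorem exists_plus_isoEmb : ∃ E : O₀ →* ↥(isometryGroup F Qp), (∀ s, Φ (isoSim s) = isoSim (E s)) ∧
    ∀ s, (E s : GL ιp F).val.det = i (s : GL κ F₀).val.det := by
  let E : O₀ →* ↥(isometryGroup F Qp) :=
    MonoidHom.mk' (fun s => ⟨(Φ (isoSim s)).1, mem_iso.2 fun v => by
      rw [plus_emb_mult C i e C₀ CF hQF hG hΦ (g := isoSim s) (c := 1)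
        (fun v => by rw [one_mul]; exact mem_iso.1 s.2 v), map_one, one_mul]⟩)
      fun s t => Subtype.ext (by
        show (Φ (isoSim (s * t))).1 = (Φ (isoSim s) * Φ (isoSim t)).1
        rw [map_mul, map_mul])
  refine ⟨E, fun s => Subtype.ext rfl, fun s => ?_⟩
  have e' : Matrix.GeneralLinearGroup.det (Φ (isoSim s)).1 =
      Matrix.GeneralLinearGroup.det (reGL e (Matrix.GeneralLinearGroup.map i (isoSim s).1)) := by
    rw [hΦ]; simp
  refine (congrArg Units.val e').trans ?_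
  show ((reGL e (Matrix.GeneralLinearGroup.map i (s : GL κ F₀))).val).det = _
  rw [show (reGL e (Matrix.GeneralLinearGroup.map i (s : GL κ F₀))).val =
      (Matrix.GeneralLinearGroup.map i (s : GL κ F₀)).val.submatrix e e from Matrix.ext fun x y => reGL_apply e _ x y,
    Matrix.det_submatrix_equiv_self]
  exact (RingHom.map_det i (s : GL κ F₀).val).symm

include hm p hor hodd₀ htwo₀

/-- A rational similitude of any multiplier inside the inner-diagonal group. -/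
theorem exists_rat_mult (hsim : ∀ c : F₀, c ≠ 0 → ∃ g : GL κ F₀, ∀ v, Q₀ (g.val *ᵥ v) = c * Q₀ v) {c : F₀}
    (hc : c ≠ 0) : ∃ g : GS₀, innd g ∈ D₀ ∧ ∀ v, Q₀ (g.1.val *ᵥ v) = c * Q₀ v := by
  obtain ⟨g, hg⟩ := hsim c hc
  obtain ⟨v, hv⟩ := Cfsg.Lib.H3.exists_nonsing_vec C₀ (by
    rw [← Fintype.card_congr e, Fintype.card_sum, Fintype.card_fin]; omega)
  rcases hor ⟨g, Units.mk0 c hc, hg⟩ v hv with h | h
  · exact ⟨_, h, hg⟩
  · exact ⟨_, h, fun x => by
      rw [Subgroup.coe_mul, mul_act]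
      exact (hg _).trans (congrArg _ (mem_iso.1 (rI C₀ v hv).2 x))⟩

include hi hS hS2 hGS

theorem plus_emb_comm (g : GS₀) : innd (Φ g) * (innd S * fld hQ σ) = innd S * fld hQ σ * innd (Φ g) :=
  (commute_twist_iff hm p C hS hS2 _).2 ⟨1, by
    rw [map_one, one_mul]; exact plus_emb_fix hS2 i hi e C₀ CF hQF hG hΦ hGS g⟩

include hr hσ

set_option maxHeartbeats 1600000 in
/-- For odd order the class does not split. -/
theorem plus_split_odd (hodd : Odd r) (h2 : (2 : F) ≠ 0)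
    (hsim : ∀ c : F₀, c ≠ 0 → ∃ g : GL κ F₀, ∀ v, Q₀ (g.val *ᵥ v) = c * Q₀ v) :
    Cfsg.splitClassCount D (Cfsg.Inn P) (innd S * fld hQ σ) = 1 := by
  classical
  have h7 : 7 ≤ Fintype.card ιp := by simp only [Fintype.card_sum, Fintype.card_fin]; omega
  have hκ : Fintype.card κ = 2 * m := (Fintype.card_congr e).symm.trans plus_card
  have h20 : (2 : F₀) ≠ 0 := fun h => h2 (by rw [← map_ofNat i 2, h, map_zero])
  obtain ⟨α, hα⟩ := FiniteField.exists_nonsquare (F := F₀) (fun hc => h20 (by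
    haveI := ringChar.of_eq hc; exact CharTwo.two_eq_zero))
  have hα0 : α ≠ 0 := fun h => hα (h ▸ ⟨0, (mul_zero 0).symm⟩)
  have hiα0 : i α ≠ 0 := fun h => hα0 (i.injective (h.trans (map_zero i).symm))
  have hiα : ¬ IsSquare (i α) := by
    rintro ⟨y, hy⟩
    obtain ⟨z, hz⟩ := (hi _).1 (isSquare_fixed h2 hσ hodd (y := y) (by rw [← hy]; exact (hi _).2 ⟨α, rfl⟩))
    exact hα ⟨z, i.injective (by rw [map_mul, hz, hy])⟩
  obtain ⟨E, hE, hEdet⟩ := exists_plus_isoEmb C i e C₀ CF hQF hG hΦ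
  obtain ⟨v0, hv0⟩ := exists_value C₀ h20 (by omega) one_ne_zero
  obtain ⟨v1, hv1⟩ := exists_value C₀ h20 (by omega) hα0
  have n0 : Q₀ v0 ≠ 0 := by rw [hv0]; exact one_ne_zero
  have n1 : Q₀ v1 ≠ 0 := by rw [hv1]; exact hα0
  have hEr : ∀ (v : κ → F₀) (hv : Q₀ v ≠ 0), spin Qp (E (rI C₀ v hv)) = if IsSquare (i (Q₀ v)) then -1 else 1 := by
    intro v hv
    obtain ⟨w, hw, hwq, ew⟩ := plus_emb_rI C i e C₀ CF hQF hG hΦ hv
    have : E (rI C₀ v hv) = rI C w hw := Subtype.ext (congrArg (fun X : GS => X.1) ((hE _).symm.trans ew))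
    rw [this, spin_rI C h2, hwq]
  obtain ⟨g₁, hg₁D, hg₁⟩ := exists_rat_mult hm p C i e C₀ CF hQF hG hΦ D₀ hor hodd₀ htwo₀ hsim hα0
  have hdet2 : (((rI C₀ v0 n0 * rI C₀ v1 n1 : O₀)) : GL κ F₀).val.det = 1 := by
    rw [Subgroup.coe_mul, Units.val_mul, Matrix.det_mul, rI_val, rI_val, rGL_det C₀ n0, rGL_det C₀ n1]
    ring
  rw [← Subgroup.range_subtype (D),
    AutPSL.splitClassCount_eq (D).subtype (Cfsg.Inn P) (by rw [Subgroup.range_subtype]; exact plus_inn_le hm p C)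
      _ (1 : ↥(D) →* PUnit.{1}) (fun _ => ⟨1, rfl⟩) (fun g => iff_of_true rfl ?_), Nat.card_unique]
  obtain ⟨β, hβ⟩ := g
  obtain ⟨A, rfl⟩ := inndiag_plus_le_range hm p C hβ
  suffices hs : ∃ g₀ : GS₀, innd (Φ g₀) ∈ D ∧ innd A * (innd (Φ g₀))⁻¹ ∈ Cfsg.Inn P by
    obtain ⟨g₀, hg₀, hk⟩ := hs
    refine ⟨_, hk, ⟨innd (Φ g₀), hg₀⟩,
      plus_emb_comm hm p C hS hS2 i hi e C₀ CF hQF hG hGS hΦ D₀ hor hodd₀ htwo₀ g₀, ?_⟩
    show innd A = innd A * (innd (Φ g₀))⁻¹ * innd (Φ g₀)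
    group
  have hu : innd (Φ (isoSim (rI C₀ v0 n0 * rI C₀ v1 n1))) ∈ D := by
    rw [hE]
    exact plus_soImage_le hm p C h2 (mem_soImage.2 ⟨_, by rw [hEdet, hdet2, map_one], rfl⟩)
  have hsq : ∀ (X : GS) (c : F), (∀ v, Qp (X.1.val *ᵥ v) = c * Qp v) → innd X ∈ D → IsSquare c →
      ∃ g₀ : GS₀, innd (Φ g₀) ∈ D ∧ innd X * innd (Φ g₀) ∈ Cfsg.Inn P := by
    intro X c hc hX hcs
    rcases plus_soImage_cases hm p C h2 (u := E (rI C₀ v0 n0 * rI C₀ v1 n1)) (by rw [hEdet, hdet2, map_one])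
      (by rw [map_mul, map_mul, hEr, hEr, hv0, hv1, map_one, if_pos IsSquare.one, if_neg hiα, mul_one])
      (plus_sq_soImage hm p C h2 hc hX hcs) with h | h
    · exact ⟨1, by rw [map_one, map_one]; exact one_mem _, by rwa [map_one, map_one, mul_one]⟩
    · exact ⟨_, hu, by rwa [hE]⟩
  obtain ⟨c, hc⟩ := A.2
  suffices hs : ∃ g₀ : GS₀, innd (Φ g₀) ∈ D ∧ innd A * innd (Φ g₀) ∈ Cfsg.Inn P by
    obtain ⟨g₀, hg₀, hk⟩ := hs
    exact ⟨g₀⁻¹, by rw [map_inv, map_inv]; exact inv_mem hg₀, by rwa [map_inv, map_inv, inv_inv]⟩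
  by_cases hcs : IsSquare (c : F)
  · exact hsq A c hc hβ hcs
  have hD1 := (plus_emb_diag hm p C i e C₀ CF hQF hG hΦ D₀ hor hodd₀ htwo₀ g₁).2 hg₁D
  obtain ⟨g₀, hg₀, hk⟩ := hsq (A * Φ g₁) ((c : F) * i α) (fun v => by
      rw [Subgroup.coe_mul, mul_act, hc, plus_emb_mult C i e C₀ CF hQF hG hΦ hg₁, mul_assoc])
    (by rw [map_mul]; exact mul_mem hβ hD1) (by
      rw [← quadraticChar_one_iff_isSquare (mul_ne_zero c.ne_zero hiα0), map_mul,
        quadraticChar_neg_one_iff_not_isSquare.mpr hcs, quadraticChar_neg_one_iff_not_isSquare.mpr hiα]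
      norm_num)
  refine ⟨g₁ * g₀, ?_, ?_⟩
  · rw [map_mul, map_mul]; exact mul_mem hD1 hg₀
  · rw [map_mul, map_mul, ← mul_assoc]; rwa [map_mul] at hk

set_option maxHeartbeats 1600000 in
/-- For order two the class splits into two or four classes. -/
theorem plus_split_invol (hr2 : r = 2) (h2 : (2 : F) ≠ 0) {T : GS} {α : F₀} (hα : ¬ IsSquare α)
    (hT : S.1 * sm σ T.1 * S.1 = T.1) (hTm : ∀ v, Qp (T.1.val *ᵥ v) = i α * Qp v) (hTD : innd T ∈ D) :
    (innd T ∈ Cfsg.Inn P → Cfsg.splitClassCount D (Cfsg.Inn P) (innd S * fld hQ σ) = 4) ∧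
      (innd T ∉ Cfsg.Inn P → Cfsg.splitClassCount D (Cfsg.Inn P) (innd S * fld hQ σ) = 2) := by
  classical
  subst hr2
  have h7 : 7 ≤ Fintype.card ιp := by simp only [Fintype.card_sum, Fintype.card_fin]; omega
  have hκ : Fintype.card κ = 2 * m := (Fintype.card_congr e).symm.trans plus_card
  have h20 : (2 : F₀) ≠ 0 := fun h => h2 (by rw [← map_ofNat i 2, h, map_zero])
  have hα0 : α ≠ 0 := fun h => hα (h ▸ ⟨0, (mul_zero 0).symm⟩)
  have hsq0 : ∀ c : F₀, IsSquare (i c) := fun c => by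
    exact isSquare_rat i hi hσ c
  have hneg : IsSquare (-1 : F) := by rw [← map_one i, ← map_neg]; exact hsq0 _
  obtain ⟨hI4, hI2⟩ := plus_relIndex hm p C h2 hneg
  obtain ⟨E, hE, hEdet⟩ := exists_plus_isoEmb C i e C₀ CF hQF hG hΦ
  have hEinn : ∀ s : O₀, (s : GL κ F₀).val.det = 1 → innd (isoSim (E s)) ∈ Cfsg.Inn P := by
    intro s hs
    refine Cfsg.Lib.H3.InndiagMod.inner_of_omega C h7 p h2 (by rw [hEdet, hs, map_one]) ?_
    have hcomm : ∀ t ∈ commutator O₀, spin Qp (E t) = 1 := fun t ht =>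
      Abelianization.commutator_subset_ker ((spin Qp).comp E) ht
    have hker : ∀ t : O₀, (t : GL κ F₀).val.det = 1 → spin Q₀ t = 1 → spin Qp (E t) = 1 := fun t h1 h2' =>
      hcomm t (by
        rw [(omega_odd C₀ h20 (by omega)).1, MonoidHom.mem_ker]
        exact Prod.ext (Units.ext h1) h2')
    rcases Int.units_eq_one_or (spin Q₀ s) with h | h
    · exact hker s hs h
    · obtain ⟨v0, hv0⟩ := exists_value C₀ h20 (by omega) one_ne_zero
      obtain ⟨v1, hv1⟩ := exists_value C₀ h20 (by omega) hα0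
      have n0 : Q₀ v0 ≠ 0 := by rw [hv0]; exact one_ne_zero
      have n1 : Q₀ v1 ≠ 0 := by rw [hv1]; exact hα0
      have hEr : ∀ (v : κ → F₀) (hv : Q₀ v ≠ 0), spin Qp (E (rI C₀ v hv)) = -1 := by
        intro v hv
        obtain ⟨w, hw, hwq, ew⟩ := plus_emb_rI C i e C₀ CF hQF hG hΦ hv
        have : E (rI C₀ v hv) = rI C w hw := Subtype.ext (congrArg (fun X : GS => X.1) ((hE _).symm.trans ew))
        rw [this, spin_rI C h2, hwq, if_pos (hsq0 _)]
      have h1 := hker (s * (rI C₀ v0 n0 * rI C₀ v1 n1))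
        (by
          rw [Subgroup.coe_mul, Subgroup.coe_mul, Units.val_mul, Units.val_mul, Matrix.det_mul, Matrix.det_mul, hs,
            rI_val, rI_val, rGL_det C₀ n0, rGL_det C₀ n1]
          ring)
        (by rw [map_mul, map_mul, spin_rI C₀ h20, spin_rI C₀ h20, hv0, hv1, if_pos IsSquare.one, if_neg hα, h]; rfl)
      simpa [hEr] using h1
  have hrat : ∀ (g : GS₀) (c : F₀), (∀ v, Q₀ (g.1.val *ᵥ v) = c * Q₀ v) → innd g ∈ D₀ → IsSquare c →
      innd (Φ g) ∈ Cfsg.Inn P := by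
    intro g c hc hg hcs
    obtain ⟨d, hd⟩ := hcs
    obtain ⟨c', hc'⟩ := g.2
    have hd0 : d ≠ 0 := fun h => c'.ne_zero (by
      rw [← Cfsg.Lib.H3.InndiagMod.mult_unique C₀ (by omega) hc hc', hd, h, mul_zero])
    let s : O₀ := ⟨sc (Units.mk0 d hd0)⁻¹ * g.1, mem_iso.2 fun x => by
      rw [mul_act, sc_act, C₀.smul, hc, Units.val_inv_eq_inv_val, Units.val_mk0, hd]
      field_simp⟩
    have hs : (s : GL κ F₀).val.det = 1 := by
      show (sc (Units.mk0 d hd0)⁻¹ * g.1).val.det = 1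
      rw [Units.val_mul, sc_val, Matrix.smul_mul, Matrix.one_mul, Matrix.det_smul, hodd₀ h20 g c hc hg, hκ, hd,
        Units.val_inv_eq_inv_val, Units.val_mk0, pow_mul, ← mul_pow]
      field_simp
      simp
    have hgs : g.1 = sc (Units.mk0 d hd0) * (s : GL κ F₀) := by
      show _ = sc _ * (sc _⁻¹ * g.1)
      rw [← mul_assoc, ← map_mul, mul_inv_cancel, map_one, one_mul]
    rw [(innd_eq_innd_sc C h7 p).2 ⟨Units.map i.toMonoidHom (Units.mk0 d hd0), ?_⟩]
    · exact hEinn s hs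
    · show (Φ g).1 = _ * (isoSim (E s)).1
      rw [← hE, hΦ, hΦ, hgs, map_mul, show Matrix.GeneralLinearGroup.map i (sc (Units.mk0 d hd0) : GL κ F₀) =
        sc (Units.map i.toMonoidHom (Units.mk0 d hd0)) from Units.ext (Matrix.ext fun x y => by
          simp [Matrix.diagonal_apply, apply_ite i]), map_mul, reGL_sc, ← mul_assoc G, ← sc_comm _ G]
      simp only [mul_assoc]
      rfl
  obtain ⟨g₁, rfl⟩ := plus_emb_exact hm C hS2 i hi e C₀ CF hQF hG hΦ hGS hT
  have hg₁D := (plus_emb_diag hm p C i e C₀ CF hQF hG hΦ D₀ hor hodd₀ htwo₀ g₁).1 hTD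
  have hg₁ : ∀ v, Q₀ (g₁.1.val *ᵥ v) = α * Q₀ v := by
    obtain ⟨c, hc⟩ := g₁.2
    have := Cfsg.Lib.H3.InndiagMod.mult_unique C h7 hTm (plus_emb_mult C i e C₀ CF hQF hG hΦ hc)
    intro v
    rw [hc, i.injective this]
  have key : ∀ A : GS, innd A ∈ D → innd A * (innd S * fld hQ σ) = innd S * fld hQ σ * innd A →
      innd A ∈ Cfsg.Inn P ∨ innd A * innd (Φ g₁) ∈ Cfsg.Inn P := by
    intro A hA hcomm
    obtain ⟨c, hc⟩ := (commute_twist_iff hm p C hS hS2 A).1 hcomm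
    obtain ⟨d, g, hg⟩ := plus_emb_surj hm C hr hσ hS2 i hi e C₀ CF hQF hG hΦ hGS hc
    rw [(innd_eq_innd_sc C h7 p).2 ⟨d, hg⟩] at hA ⊢
    have hgD := (plus_emb_diag hm p C i e C₀ CF hQF hG hΦ D₀ hor hodd₀ htwo₀ g).1 hA
    obtain ⟨μ, hμ⟩ := g.2
    by_cases hμs : IsSquare (μ : F₀)
    · exact Or.inl (hrat g μ hμ hgD hμs)
    · refine Or.inr ?_
      rw [← map_mul, ← map_mul]
      refine hrat (g * g₁) ((μ : F₀) * α) (fun v => by rw [Subgroup.coe_mul, mul_act, hμ, hg₁, mul_assoc])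
        (by rw [map_mul]; exact mul_mem hgD hg₁D) ?_
      rw [← quadraticChar_one_iff_isSquare (mul_ne_zero μ.ne_zero hα0), map_mul,
        quadraticChar_neg_one_iff_not_isSquare.mpr hμs, quadraticChar_neg_one_iff_not_isSquare.mpr hα]
      norm_num
  have hcommT := plus_emb_comm hm p C hS hS2 i hi e C₀ CF hQF hG hGS hΦ D₀ hor hodd₀ htwo₀ g₁
  refine ⟨fun hTI => ?_, fun hTI => ?_⟩
  · rw [← Subgroup.range_subtype (D), AutPSL.splitClassCount_eq (D).subtype (Cfsg.Inn P)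
      (by rw [Subgroup.range_subtype]; exact plus_inn_le hm p C) _
      (QuotientGroup.mk' ((Cfsg.Inn P).subgroupOf D)) (QuotientGroup.mk'_surjective _) (fun g => ?_)]
    · exact hI4
    rw [QuotientGroup.mk'_apply, QuotientGroup.eq_one_iff, Subgroup.mem_subgroupOf]
    refine ⟨fun h => ⟨g.1, h, 1, by simp, by simp⟩, ?_⟩
    rintro ⟨k, hk, ⟨c, hcD⟩, hc, he⟩
    obtain ⟨A, rfl⟩ := inndiag_plus_le_range hm p C hcD
    change g.1 = k * innd A at he
    rw [he]
    refine mul_mem hk ?_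
    rcases key A hcD hc with h | h
    · exact h
    · exact (Subgroup.mul_mem_cancel_right _ hTI).1 h
  · have hTso : innd (Φ g₁) ∈ (soImage : Subgroup (MulAut P)) :=
      plus_sq_soImage hm p C h2 hTm hTD (hsq0 α)
    obtain ⟨u, hu, hue⟩ := mem_soImage.1 hTso
    have hus : spin Qp u = -1 := by
      rcases Int.units_eq_one_or (spin Qp u) with h | h
      · exact absurd (hue ▸ Cfsg.Lib.H3.InndiagMod.inner_of_omega C h7 p h2 hu h) hTI
      · exact h
    haveI : ((soImage : Subgroup (MulAut P)).subgroupOf D).Normal := Subgroup.normal_of_index_eq_two hI2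
    rw [← Subgroup.range_subtype (D), AutPSL.splitClassCount_eq (D).subtype (Cfsg.Inn P)
      (by rw [Subgroup.range_subtype]; exact plus_inn_le hm p C) _
      (QuotientGroup.mk' ((soImage : Subgroup (MulAut P)).subgroupOf D)) (QuotientGroup.mk'_surjective _) (fun g => ?_)]
    · exact hI2
    rw [QuotientGroup.mk'_apply, QuotientGroup.eq_one_iff, Subgroup.mem_subgroupOf]
    refine ⟨fun h => ?_, ?_⟩
    · rcases plus_soImage_cases hm p C h2 hu hus h with h' | h'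
      · exact ⟨g.1, h', 1, by simp, by simp⟩
      · rw [hue] at h'
        refine ⟨_, h', ⟨(innd (Φ g₁))⁻¹, inv_mem hTD⟩, (Commute.inv_left hcommT), ?_⟩
        show g.1 = g.1 * innd (Φ g₁) * (innd (Φ g₁))⁻¹
        group
    rintro ⟨k, hk, ⟨c, hcD⟩, hc, he⟩
    obtain ⟨A, rfl⟩ := inndiag_plus_le_range hm p C hcD
    change g.1 = k * innd A at he
    rw [he]
    refine mul_mem (inn_le_soImage C hk) ?_
    rcases key A hcD hc with h | h
    · exact inn_le_soImage C h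
    · exact (Subgroup.mul_mem_cancel_right _ hTso).1 (inn_le_soImage C h)

end Frame

end Cfsg.Lib.Linear.AutPO
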