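import Cfsg.Agent.Lib.Linear.OrthSplit
import Cfsg.Agent.Lib.Linear.OrthStdBasis

/-!
# The fundamental theorem of geometry of an orthogonal polar space

A map of the singular vectors of a non-degenerate quadratic space of dimension at least seven which keeps
perpendicularity and is onto up to scalars is, up to scalars, a semisimilarity.  The vectors not perpendicular
to a fixed singular point are the affine space of the perpendicular complement of a hyperbolic pair; the induced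
map of this affine space moves every singular line to a parallel one, hence is additive.
-/

set_option autoImplicit false

namespace Cfsg.Lib.Linear.AutPO

open Module
open Cfsg.Lib.Linear.Orth
open scoped Matrix

variable {ι : Type} [Fintype ι] [DecidableEq ι] {F : Type*} [Field F]
  {Q : (ι → F) → F} {B : LinearMap.BilinForm F (ι → F)}

/-- A map of singular vectors keeping perpendicularity and onto up to scalars. -/
structure PolarMap (Q : (ι → F) → F) (B : LinearMap.BilinForm F (ι → F))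
    (φ : (ι → F) → ι → F) : Prop where
  sing : ∀ x, x ≠ 0 → Q x = 0 → φ x ≠ 0 ∧ Q (φ x) = 0
  perp : ∀ x y, x ≠ 0 → Q x = 0 → y ≠ 0 → Q y = 0 → (B x y = 0 ↔ B (φ x) (φ y) = 0)
  surj : ∀ z, z ≠ 0 → Q z = 0 → ∃ x, x ≠ 0 ∧ Q x = 0 ∧ ∃ c : F, φ x = c • z

/-- The component in the complement of the hyperbolic pair `(e, f)`. -/
def prj (B : LinearMap.BilinForm F (ι → F)) (e f : ι → F) : (ι → F) →ₗ[F] ι → F :=
  LinearMap.id - (B f).smulRight e - (B e).smulRight f

theorem prj_apply (e f x : ι → F) : prj B e f x = x - B f x • e - B e x • f := rfl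

/-- The singular vector at `w` of the affine space opposite `e`. -/
def aff (Q : (ι → F) → F) (e f w : ι → F) : ι → F := f + w - Q w • e

section Pair

variable (C : Space Q B) {e f : ι → F} (H : Hyp Q B ⊤ e f)

include C H

theorem prj_mem (x : ι → F) : prj B e f x ∈ perp2 B ⊤ e f := H.proj C trivial

theorem Q_decomp (x : ι → F) : Q x = Q (prj B e f x) + B f x * B e x := by
  conv_lhs => rw [show x = prj B e f x + B f x • e + B e x • f by rw [prj_apply]; abel]
  exact Q_hyp C H (prj_mem C H x) _ _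

variable {w : ι → F} (hw : w ∈ perp2 B ⊤ e f)

include hw

theorem B_aff : B e (aff Q e f w) = 1 := by
  simp [aff, H.pair, (mem_perp2.mp hw).2.1, C.self_zero H.singE]

theorem Bf_aff : B f (aff Q e f w) = -Q w := by
  simp [aff, H.pair' C, (mem_perp2.mp hw).2.2, C.self_zero H.singF]

theorem prj_aff : prj B e f (aff Q e f w) = w := by
  rw [prj_apply, B_aff C H hw, Bf_aff C H hw, aff]; module

theorem Q_aff : Q (aff Q e f w) = 0 := by
  rw [Q_decomp C H, prj_aff C H hw, B_aff C H hw, Bf_aff C H hw]; ring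

theorem aff_ne : aff Q e f w ≠ 0 := fun h => by
  have := B_aff C H hw; rw [h, map_zero] at this; exact zero_ne_one this

end Pair

section Ann

variable [Finite F] (C : Space Q B) (h7 : 7 ≤ Fintype.card ι)

include C h7

/-- The vectors perpendicular to all singular vectors perpendicular to a singular point. -/
theorem ann_one {x z : ι → F} (hx0 : x ≠ 0) (hx : Q x = 0)
    (h : ∀ u, Q u = 0 → B x u = 0 → B z u = 0) : z ∈ Submodule.span F {x} := by
  obtain ⟨f, H⟩ := exists_hyp C C.ndeg_top (U := ⊤) trivial hx0 hx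
  have hzx : B x z = 0 := by rw [C.symm]; exact h x hx (C.self_zero hx)
  set W := perp2 B ⊤ x f with hW
  have hW3 : 3 ≤ finrank F W := by
    have := H.le_finrank C; rw [finrank_top, finrank_fintype_fun_eq_card, ← hW] at this; omega
  have hker : W ≤ LinearMap.ker (B z) := (span_sing C (H.ndeg C C.ndeg_top) hW3).trans
    (Submodule.span_le.mpr fun u hu => LinearMap.mem_ker.mpr (h u hu.2 (mem_perp2.mp hu.1).2.1))
  have h0 : z - B f z • x - B x z • f = 0 := H.ndeg C C.ndeg_top _ (H.proj C trivial) fun y hy => by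
    obtain ⟨-, hxy, hfy⟩ := mem_perp2.mp hy
    simp [LinearMap.mem_ker.mp (hker hy), hxy, hfy]
  rw [hzx, zero_smul, sub_zero, sub_eq_zero] at h0
  exact Submodule.mem_span_singleton.mpr ⟨_, h0.symm⟩

/-- The vectors perpendicular to all singular vectors perpendicular to a singular line. -/
theorem ann_two {x y z : ι → F} (hx0 : x ≠ 0) (hx : Q x = 0) (hy : Q y = 0) (hxy : B x y = 0)
    (h : ∀ u, Q u = 0 → B x u = 0 → B y u = 0 → B z u = 0) : z ∈ Submodule.span F {x, y} := by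
  by_cases hdep : y ∈ Submodule.span F {x}
  · obtain ⟨c, rfl⟩ := Submodule.mem_span_singleton.mp hdep
    exact Submodule.span_mono (by simp) (ann_one C h7 hx0 hx fun u hu hxu =>
      h u hu hxu (by rw [map_smul, LinearMap.smul_apply, hxu, smul_zero]))
  obtain ⟨f, H⟩ := exists_hyp C C.ndeg_top (U := ⊤) trivial hx0 hx
  have hzx : B x z = 0 := by
    rw [C.symm]; exact h x hx (C.self_zero hx) (by rw [C.symm, hxy])
  have hzy : B y z = 0 := by rw [C.symm]; exact h y hy hxy (C.self_zero hy)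
  set W := perp2 B ⊤ x f with hW
  have hy0 : prj B x f y = y - B f y • x := by rw [prj_apply, hxy]; simp
  have hy0m : y - B f y • x ∈ W := hy0 ▸ prj_mem C H y
  have hy00 : y - B f y • x ≠ 0 := fun h0 =>
    hdep (Submodule.mem_span_singleton.mpr ⟨B f y, (sub_eq_zero.mp h0).symm⟩)
  obtain ⟨g, G⟩ := exists_hyp C (H.ndeg C C.ndeg_top) hy0m hy00 (by
    have := Q_decomp C H y
    rw [hy, hy0, hxy, mul_zero, add_zero] at this
    exact this.symm)
  set W2 := perp2 B W (y - B f y • x) g with hW2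
  have hW3 : 3 ≤ finrank F W2 := by
    have h1 := H.le_finrank C
    have h2 := G.le_finrank C
    rw [finrank_top, finrank_fintype_fun_eq_card, ← hW] at h1
    rw [← hW2, ← hW] at h2
    omega
  have hker : W2 ≤ LinearMap.ker (B z) := (span_sing C (G.ndeg C (H.ndeg C C.ndeg_top)) hW3).trans
    (Submodule.span_le.mpr fun u hu => by
      obtain ⟨huW, huy, -⟩ := mem_perp2.mp hu.1
      obtain ⟨-, hux, -⟩ := mem_perp2.mp huW
      refine LinearMap.mem_ker.mpr (h u hu.2 hux ?_)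
      simpa [hux] using huy)
  have hz' : z - B f z • x - B x z • f ∈ W := H.proj C trivial
  set z' := z - B f z • x - B x z • f with hz'def
  have h0 : z' - B g z' • (y - B f y • x) - B (y - B f y • x) z' • g = 0 :=
    G.ndeg C (H.ndeg C C.ndeg_top) _ (G.proj C hz') fun u hu => by
      obtain ⟨huW, huy, hug⟩ := mem_perp2.mp hu
      obtain ⟨-, hux, hfu⟩ := mem_perp2.mp huW
      rw [map_sub, map_sub, map_smul, map_smul, LinearMap.sub_apply, LinearMap.sub_apply,
        LinearMap.smul_apply, LinearMap.smul_apply, huy, hug, hz'def]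
      simp [LinearMap.mem_ker.mp (hker hu), hux, hfu]
  have h1 : B (y - B f y • x) z' = 0 := by
    obtain ⟨-, hax, hfa⟩ := mem_perp2.mp hy0m
    rw [hz'def, map_sub, map_sub, map_smul, map_smul, C.symm _ x, hax, C.symm _ f, hfa]
    simp [hzx, hzy]
  rw [h1, zero_smul, sub_zero, hz'def, hzx, zero_smul, sub_zero, sub_eq_zero, sub_eq_iff_eq_add] at h0
  rw [h0]
  exact Submodule.add_mem _ (Submodule.smul_mem _ _ (Submodule.sub_mem _
    (Submodule.subset_span (by simp)) (Submodule.smul_mem _ _ (Submodule.subset_span (by simp)))))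
    (Submodule.smul_mem _ _ (Submodule.subset_span (by simp)))

end Ann

namespace PolarMap

variable [Finite F] {φ : (ι → F) → ι → F} (P : PolarMap Q B φ) (C : Space Q B)
  (h7 : 7 ≤ Fintype.card ι)

include P C h7

theorem inj {x y : ι → F} (hx0 : x ≠ 0) (hx : Q x = 0) (hy0 : y ≠ 0) (hy : Q y = 0)
    (h : φ y ∈ Submodule.span F {φ x}) : y ∈ Submodule.span F {x} := by
  obtain ⟨c, hc⟩ := Submodule.mem_span_singleton.mp h
  refine ann_one C h7 hx0 hx fun u hu hxu => ?_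
  rcases eq_or_ne u 0 with rfl | hu0
  · simp
  rw [P.perp y u hy0 hy hu0 hu, ← hc, map_smul, LinearMap.smul_apply,
    (P.perp x u hx0 hx hu0 hu).1 hxu, smul_zero]

theorem line {x y z : ι → F} (hx0 : x ≠ 0) (hx : Q x = 0) (hy0 : y ≠ 0) (hy : Q y = 0)
    (hxy : B x y = 0) (hz0 : z ≠ 0) (hz : z ∈ Submodule.span F {x, y}) :
    φ z ∈ Submodule.span F {φ x, φ y} := by
  obtain ⟨a, b, rfl⟩ := Submodule.mem_span_pair.mp hz
  have hQz : Q (a • x + b • y) = 0 := by rw [C.smul_add, hx, hy, hxy]; ring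
  refine ann_two C h7 (P.sing x hx0 hx).1 (P.sing x hx0 hx).2 (P.sing y hy0 hy).2
    ((P.perp x y hx0 hx hy0 hy).1 hxy) fun u hu hxu hyu => ?_
  rcases eq_or_ne u 0 with rfl | hu0
  · simp
  obtain ⟨v, hv0, hv, c, hc⟩ := P.surj u hu0 hu
  have hc0 : c ≠ 0 := fun h => (P.sing v hv0 hv).1 (by rw [hc, h, zero_smul])
  have h1 : B x v = 0 := (P.perp x v hx0 hx hv0 hv).2 (by rw [hc, map_smul, hxu, smul_zero])
  have h2 : B y v = 0 := (P.perp y v hy0 hy hv0 hv).2 (by rw [hc, map_smul, hyu, smul_zero])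
  have h3 := (P.perp _ v hz0 hQz hv0 hv).1 (by simp [h1, h2])
  rw [hc, map_smul, smul_eq_mul, mul_eq_zero] at h3
  exact h3.resolve_left hc0

theorem map_smul' {x : ι → F} (hx0 : x ≠ 0) (hx : Q x = 0) {a : F} (ha : a ≠ 0) :
    φ (a • x) ∈ Submodule.span F {φ x} := by
  have h := P.line C h7 hx0 hx hx0 hx (C.self_zero hx) (z := a • x) (smul_ne_zero ha hx0)
    (Submodule.smul_mem _ _ (Submodule.subset_span (by simp)))
  rwa [Set.pair_eq_singleton] at h

variable {e f e' f' : ι → F} (H : Hyp Q B ⊤ e f) (H' : Hyp Q B ⊤ e' f') (he : φ e = e')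
  (hf : ∃ c : F, f' = c • φ f)

include H H' he

theorem B_phi_ne {x : ι → F} (hx0 : x ≠ 0) (hx : Q x = 0) (hex : B e x ≠ 0) :
    B e' (φ x) ≠ 0 := by
  have he0 : e ≠ 0 := fun h => by simpa [h] using H.pair
  rw [← he, ne_eq, ← P.perp e x he0 H.singE hx0 hx]
  exact hex

omit he h7 P in
theorem normal_form {y : ι → F} (hy : Q y = 0) (hey : B e' y ≠ 0) :
    (B e' y)⁻¹ • y = aff Q e' f' (prj B e' f' ((B e' y)⁻¹ • y)) := by
  set z := (B e' y)⁻¹ • y with hz
  have hez : B e' z = 1 := by rw [hz, map_smul, smul_eq_mul, inv_mul_cancel₀ hey]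
  have hQz : Q z = 0 := by rw [hz, C.smul, hy, mul_zero]
  have h := Q_decomp C H' z
  rw [hQz, hez, mul_one] at h
  rw [aff, show Q (prj B e' f' z) = -B f' z by linear_combination -h, prj_apply, hez]
  module

/-- The induced map of the affine space. -/
theorem exists_psi (hf : ∃ c : F, f' = c • φ f) :
    ∃ ψ : (ι → F) → ι → F, ψ 0 = 0 ∧ ∀ w ∈ perp2 B ⊤ e f, ψ w ∈ perp2 B ⊤ e' f' ∧
      ∃ c : F, c ≠ 0 ∧ φ (aff Q e f w) = c • aff Q e' f' (ψ w) := by
  refine ⟨fun w => prj B e' f' ((B e' (φ (aff Q e f w)))⁻¹ • φ (aff Q e f w)), ?_,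
    fun w hw => ?_⟩
  · obtain ⟨c, hc⟩ := hf
    have hf0 : f ≠ 0 := fun h => by simpa [h] using H.pair
    have hef := P.B_phi_ne C h7 H H' he hf0 H.singF (by rw [H.pair]; exact one_ne_zero)
    have h1 := H'.pair
    rw [hc, map_smul, smul_eq_mul] at h1
    have hc1 : (B e' (φ f))⁻¹ = c := inv_eq_of_mul_eq_one_left h1
    show prj B e' f' ((B e' (φ (aff Q e f 0)))⁻¹ • φ (aff Q e f 0)) = 0
    rw [show aff Q e f 0 = f by simp [aff, C.zero], hc1, ← hc, prj_apply, C.self_zero H'.singF,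
      H'.pair]
    simp
  · have hne := P.B_phi_ne C h7 H H' he (aff_ne C H hw) (Q_aff C H hw)
      (by rw [B_aff C H hw]; exact one_ne_zero)
    refine ⟨prj_mem C H' _, B e' (φ (aff Q e f w)), hne, ?_⟩
    rw [← normal_form C H H' (P.sing _ (aff_ne C H hw) (Q_aff C H hw)).2 hne, smul_smul,
      mul_inv_cancel₀ hne, one_smul]

end PolarMap

/-- The data of the induced affine map. -/
structure AffData (Q : (ι → F) → F) (B : LinearMap.BilinForm F (ι → F)) (φ : (ι → F) → ι → F)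
    (e f e' f' : ι → F) (ψ : (ι → F) → ι → F) : Prop where
  P : PolarMap Q B φ
  C : Space Q B
  h7 : 7 ≤ Fintype.card ι
  H : Hyp Q B ⊤ e f
  H' : Hyp Q B ⊤ e' f'
  he : φ e = e'
  zero : ψ 0 = 0
  spec : ∀ w ∈ perp2 B ⊤ e f, ψ w ∈ perp2 B ⊤ e' f' ∧
    ∃ c : F, c ≠ 0 ∧ φ (aff Q e f w) = c • aff Q e' f' (ψ w)

namespace AffData

variable [Finite F] {φ ψ : (ι → F) → ι → F} {e f e' f' : ι → F} (D : AffData Q B φ e f e' f' ψ)

local notation "W" => perp2 B ⊤ e f

include D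

theorem inj {v w : ι → F} (hv : v ∈ perp2 B ⊤ e f) (hw : w ∈ perp2 B ⊤ e f) (h : ψ v = ψ w) :
    v = w := by
  obtain ⟨-, c, hc, hcv⟩ := D.spec v hv
  obtain ⟨-, d, hd, hdw⟩ := D.spec w hw
  have := D.P.inj D.C D.h7 (aff_ne D.C D.H hv) (Q_aff D.C D.H hv) (aff_ne D.C D.H hw) (Q_aff D.C D.H hw)
    (Submodule.mem_span_singleton.mpr ⟨d * c⁻¹, by rw [hcv, hdw, h, smul_smul, mul_assoc,
      inv_mul_cancel₀ hc, mul_one]⟩)
  obtain ⟨k, hk⟩ := Submodule.mem_span_singleton.mp this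
  have h1 := congrArg (B e) hk
  rw [map_smul, B_aff D.C D.H hv, B_aff D.C D.H hw, smul_eq_mul, mul_one] at h1
  rw [h1, one_smul] at hk
  rw [← prj_aff D.C D.H hv, hk, prj_aff D.C D.H hw]

/-- A singular direction at `w` and at the origin. -/
theorem diff {w s : ι → F} (hw : w ∈ perp2 B ⊤ e f) (hs : s ∈ perp2 B ⊤ e f) (hQs : Q s = 0)
    (hs0 : s ≠ 0) : ∃ b : F, b ≠ 0 ∧ φ (s - B w s • e) =
      b • (aff Q e' f' (ψ (w + s)) - aff Q e' f' (ψ w)) := by
  obtain ⟨C, H, H'⟩ : Space Q B ∧ Hyp Q B ⊤ e f ∧ Hyp Q B ⊤ e' f' := ⟨D.C, D.H, D.H'⟩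
  have hws := Submodule.add_mem _ hw hs
  obtain ⟨hm1, c, hc, hcw⟩ := D.spec w hw
  obtain ⟨hm2, d, hd, hdw⟩ := D.spec (w + s) hws
  have hu : s - B w s • e = aff Q e f (w + s) - aff Q e f w := by
    simp only [aff, C.add, hQs, add_zero]; module
  have hperp : B (aff Q e f w) (aff Q e f (w + s)) = 0 := by
    have h := Q_aff C H hws
    have h' : aff Q e f (w + s) = aff Q e f w + (s - B w s • e) := by rw [hu]; abel
    obtain ⟨-, hes, -⟩ := mem_perp2.mp hs
    rw [h', C.add, Q_aff C H hw, zero_add, sub_eq_add_neg, ← neg_smul, C.add, hQs, C.smul,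
      H.singE, map_smul, C.symm s e, hes] at h
    simp only [mul_zero, smul_zero, add_zero, zero_add] at h
    rw [h', map_add, C.self_zero (Q_aff C H hw), zero_add, sub_eq_add_neg, ← neg_smul]
    exact h
  have hu0 : s - B w s • e ≠ 0 := fun h0 => hs0 (by
    have := congrArg (prj B e f) h0
    rw [map_sub, map_smul, map_zero, show prj B e f e = 0 by
      simp [prj_apply, C.self_zero H.singE, H.pair' C], smul_zero, sub_zero] at this
    obtain ⟨-, hes, hfs⟩ := mem_perp2.mp hs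
    simpa [prj_apply, hes, hfs] using this)
  have hQu : Q (s - B w s • e) = 0 := by
    rw [sub_eq_add_neg, ← neg_smul, C.add, hQs, C.smul, H.singE, map_smul, C.symm s e,
      (mem_perp2.mp hs).2.1]
    simp
  have hmem := D.P.line C D.h7 (aff_ne C H hw) (Q_aff C H hw) (aff_ne C H hws) (Q_aff C H hws)
    hperp hu0 (by
      rw [hu]
      exact Submodule.sub_mem _ (Submodule.subset_span (by simp)) (Submodule.subset_span (by simp)))
  obtain ⟨α, β, hab⟩ := Submodule.mem_span_pair.mp hmem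
  rw [hcw, hdw, smul_smul, smul_smul] at hab
  have he0 : e ≠ 0 := fun h => by simpa [h] using H.pair
  have h0 : B e' (φ (s - B w s • e)) = 0 := by
    rw [← D.he, ← D.P.perp e _ he0 H.singE hu0 hQu]
    simp [(mem_perp2.mp hs).2.1, C.self_zero H.singE]
  rw [← hab, map_add, map_smul, map_smul, B_aff C H' hm1, B_aff C H' hm2, smul_eq_mul,
    smul_eq_mul, mul_one, mul_one] at h0
  have hab' : φ (s - B w s • e) =
      (β * d) • (aff Q e' f' (ψ (w + s)) - aff Q e' f' (ψ w)) := by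
    rw [← hab, show α * c = -(β * d) by linear_combination h0, smul_sub, neg_smul]; abel
  refine ⟨β * d, fun h => (D.P.sing _ hu0 hQu).1 (by rw [hab', h, zero_smul]), hab'⟩

theorem sing {s : ι → F} (hs : s ∈ perp2 B ⊤ e f) (hQs : Q s = 0) : Q (ψ s) = 0 := by
  rcases eq_or_ne s 0 with rfl | hs0
  · rw [D.zero, D.C.zero]
  obtain ⟨C, H, H'⟩ : Space Q B ∧ Hyp Q B ⊤ e f ∧ Hyp Q B ⊤ e' f' := ⟨D.C, D.H, D.H'⟩
  have h0 := Submodule.zero_mem (perp2 B ⊤ e f)
  obtain ⟨hm0, c, hc, hc0⟩ := D.spec 0 h0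
  obtain ⟨hm, d, hd, hds⟩ := D.spec s hs
  have hfe : aff Q e f 0 = f := by simp [aff, C.zero]
  have hfe' : aff Q e' f' 0 = f' := by simp [aff, C.zero]
  have h1 := (D.P.perp _ _ (aff_ne C H h0) (Q_aff C H h0) (aff_ne C H hs) (Q_aff C H hs)).1
    (by rw [hfe, Bf_aff C H hs, hQs, neg_zero])
  rw [hc0, hds, D.zero, hfe', map_smul, map_smul, LinearMap.smul_apply, Bf_aff C H' hm] at h1
  simpa [hc, hd] using h1

theorem phi_eq {s : ι → F} (hs : s ∈ perp2 B ⊤ e f) (hQs : Q s = 0) (hs0 : s ≠ 0) :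
    ∃ b : F, b ≠ 0 ∧ φ s = b • ψ s := by
  obtain ⟨b, hb, h⟩ := D.diff (Submodule.zero_mem _) hs hQs hs0
  refine ⟨b, hb, ?_⟩
  simpa [aff, D.zero, D.C.zero, D.sing hs hQs] using h

/-- Singular lines move to parallel lines. -/
theorem parallel {w s : ι → F} (hw : w ∈ perp2 B ⊤ e f) (hs : s ∈ perp2 B ⊤ e f) (hQs : Q s = 0) :
    ∃ c : F, ψ (w + s) - ψ w = c • ψ s := by
  rcases eq_or_ne s 0 with rfl | hs0
  · exact ⟨0, by simp⟩
  obtain ⟨C, H, H'⟩ : Space Q B ∧ Hyp Q B ⊤ e f ∧ Hyp Q B ⊤ e' f' := ⟨D.C, D.H, D.H'⟩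
  obtain ⟨b, hb, h⟩ := D.diff hw hs hQs hs0
  obtain ⟨b₀, -, h₀⟩ := D.phi_eq hs hQs hs0
  obtain ⟨-, hes, hfs⟩ := mem_perp2.mp hs
  have he0 : e ≠ 0 := fun h => by simpa [h] using H.pair
  have hne : s - B w s • e ≠ 0 := fun h0 => hs0 (by
    have := congrArg (prj B e f) h0
    simpa [prj_apply, hes, hfs, C.self_zero H.singE, H.pair' C] using this)
  obtain ⟨p, q, hpq⟩ := Submodule.mem_span_pair.mp (D.P.line C D.h7 he0 H.singE hs0 hQs hes
    (z := s - B w s • e) hne
    (Submodule.sub_mem _ (Submodule.subset_span (by simp))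
      (Submodule.smul_mem _ _ (Submodule.subset_span (by simp)))))
  refine ⟨b⁻¹ * (q * b₀), ?_⟩
  have h1 := congrArg (prj B e' f') (hpq.trans h)
  obtain ⟨-, ha1, ha2⟩ := mem_perp2.mp (D.spec s hs).1
  rw [map_add, map_smul, map_smul, map_smul, map_sub, prj_aff C H' (D.spec _ (Submodule.add_mem _ hw hs)).1,
    prj_aff C H' (D.spec w hw).1, D.he, h₀, map_smul, show prj B e' f' e' = 0 by
      simp [prj_apply, C.self_zero H'.singE, H'.pair' C],
    show prj B e' f' (ψ s) = ψ s by simp [prj_apply, ha1, ha2], smul_zero, zero_add, smul_smul] at h1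
  rw [← smul_smul, h1, smul_smul, inv_mul_cancel₀ hb, one_smul]

theorem indep {s t : ι → F} (hs : s ∈ perp2 B ⊤ e f) (hQs : Q s = 0) (hs0 : s ≠ 0)
    (ht : t ∈ perp2 B ⊤ e f) (hQt : Q t = 0) (hts : t ∉ Submodule.span F {s}) {a b : F}
    (h : a • ψ s + b • ψ t = 0) : a = 0 ∧ b = 0 := by
  have ht0 : t ≠ 0 := fun h0 => hts (h0 ▸ Submodule.zero_mem _)
  obtain ⟨p, hp, hps⟩ := D.phi_eq hs hQs hs0
  obtain ⟨q, hq, hqt⟩ := D.phi_eq ht hQt ht0
  have hb : b = 0 := by
    by_contra hb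
    refine hts (D.P.inj D.C D.h7 hs0 hQs ht0 hQt (Submodule.mem_span_singleton.mpr
      ⟨-(q * b⁻¹ * a * p⁻¹), ?_⟩))
    rw [hps, hqt, smul_smul, show -(q * b⁻¹ * a * p⁻¹) * p = -(q * b⁻¹ * a) by field_simp,
      neg_smul, ← smul_smul, eq_neg_of_add_eq_zero_left h, smul_neg, neg_neg, smul_smul,
      mul_assoc, inv_mul_cancel₀ hb, mul_one]
  refine ⟨?_, hb⟩
  rw [hb, zero_smul, add_zero, smul_eq_zero] at h
  refine h.resolve_right fun h0 => ?_
  exact hs0 (D.inj hs (Submodule.zero_mem _) (by rw [h0, D.zero]))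

theorem W_dim : 5 ≤ finrank F (perp2 B ⊤ e f) := by
  have := D.H.le_finrank D.C
  rw [finrank_top, finrank_fintype_fun_eq_card] at this
  have := D.h7
  omega

theorem exists_other {s : ι → F} (hs : s ∈ perp2 B ⊤ e f) (hQs : Q s = 0) (hs0 : s ≠ 0) :
    ∃ z ∈ perp2 B ⊤ e f, Q z = 0 ∧ B s z = 0 ∧ z ∉ Submodule.span F {s} := by
  have hW := D.H.ndeg D.C D.C.ndeg_top
  obtain ⟨g, G⟩ := exists_hyp D.C hW hs hs0 hQs
  obtain ⟨z, hz, hz0, hQz⟩ := Sing.exists_singular D.C.smul D.C.polar (perp2 B (perp2 B ⊤ e f) s g)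
    (by have h1 := G.le_finrank D.C; have h2 := D.W_dim; omega)
  obtain ⟨hzW, hsz, hgz⟩ := mem_perp2.mp hz
  refine ⟨z, hzW, hQz, hsz, fun hm => hz0 ?_⟩
  obtain ⟨c, rfl⟩ := Submodule.mem_span_singleton.mp hm
  rw [map_smul, G.pair' D.C, smul_eq_mul, mul_one] at hgz
  rw [hgz, zero_smul]

/-- Translation by a singular vector. -/
theorem add_sing {v s : ι → F} (hv : v ∈ perp2 B ⊤ e f) (hs : s ∈ perp2 B ⊤ e f) (hQs : Q s = 0) :
    ψ (v + s) = ψ v + ψ s := by
  rcases eq_or_ne s 0 with rfl | hs0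
  · simp [D.zero]
  have C := D.C
  -- invariance of the difference under a translation
  have hgood : ∀ t ∈ perp2 B ⊤ e f, Q t = 0 → t ∉ Submodule.span F {s} →
      ∀ v ∈ perp2 B ⊤ e f, ψ (v + t + s) - ψ (v + t) = ψ (v + s) - ψ v := by
    intro t ht hQt hts v hv
    obtain ⟨a, ha⟩ := D.parallel (Submodule.add_mem _ hv ht) hs hQs
    obtain ⟨b, hb⟩ := D.parallel hv hs hQs
    obtain ⟨c, hc⟩ := D.parallel (Submodule.add_mem _ hv hs) ht hQt
    obtain ⟨d, hd⟩ := D.parallel hv ht hQt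
    rw [show v + t + s = v + s + t by abel] at ha ⊢
    obtain ⟨h1, -⟩ := D.indep hs hQs hs0 ht hQt hts (a := a - b) (b := d - c) (by
      rw [sub_smul, sub_smul, ← ha, ← hb, ← hc, ← hd]; abel)
    rw [ha, hb, sub_eq_zero.mp h1]
  let T : Submodule F (ι → F) :=
    { carrier := {t | t ∈ perp2 B ⊤ e f ∧ ∀ a : F, ∀ v ∈ perp2 B ⊤ e f,
        ψ (v + a • t + s) - ψ (v + a • t) = ψ (v + s) - ψ v}
      add_mem' := fun {x y} hx hy => ⟨Submodule.add_mem _ hx.1 hy.1, fun a v hv => by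
        rw [smul_add, ← add_assoc,
          hy.2 a _ (Submodule.add_mem _ hv (Submodule.smul_mem _ _ hx.1)), hx.2 a v hv]⟩
      zero_mem' := ⟨Submodule.zero_mem _, fun a v _ => by rw [smul_zero, add_zero]⟩
      smul_mem' := fun c x hx => ⟨Submodule.smul_mem _ _ hx.1, fun a v hv => by
        rw [smul_smul]; exact hx.2 _ v hv⟩ }
  have hne : ∀ t ∈ perp2 B ⊤ e f, Q t = 0 → t ∉ Submodule.span F {s} → t ∈ T := by
    intro t ht hQt hts
    refine ⟨ht, fun a v hv => ?_⟩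
    rcases eq_or_ne a 0 with rfl | ha
    · rw [zero_smul, add_zero]
    · exact hgood _ (Submodule.smul_mem _ _ ht) (by rw [C.smul, hQt, mul_zero])
        (fun hm => hts ((Submodule.smul_mem_iff _ ha).mp hm)) v hv
  have hT : perp2 B ⊤ e f ≤ T :=
    (span_sing C (D.H.ndeg C C.ndeg_top) (by have := D.W_dim; omega)).trans
      (Submodule.span_le.mpr fun t ht => by
        obtain ⟨ht, hQt⟩ := ht
        by_cases hts : t ∈ Submodule.span F {s}
        · obtain ⟨z, hz, hQz, hsz, hzs⟩ := D.exists_other hs hQs hs0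
          obtain ⟨k, rfl⟩ := Submodule.mem_span_singleton.mp hts
          rw [show k • s = (k • s + z) - z by abel]
          refine Submodule.sub_mem _ (hne _ (Submodule.add_mem _ ht hz) ?_ fun hm => hzs ?_)
            (hne z hz hQz hzs)
          · rw [C.add, hQt, hQz, map_smul, LinearMap.smul_apply, hsz, smul_zero, add_zero, add_zero]
          · exact (Submodule.add_mem_iff_right _ hts).mp hm
        · exact hne t ht hQt hts)
  have h := (hT hv).2 1 0 (Submodule.zero_mem _)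
  rw [one_smul, zero_add, zero_add, D.zero, sub_zero, sub_eq_iff_eq_add'] at h
  exact h

theorem add {v w : ι → F} (hv : v ∈ perp2 B ⊤ e f) (hw : w ∈ perp2 B ⊤ e f) :
    ψ (v + w) = ψ v + ψ w := by
  let T : Submodule F (ι → F) :=
    { carrier := {t | t ∈ perp2 B ⊤ e f ∧ ∀ a : F, ∀ v ∈ perp2 B ⊤ e f,
        ψ (v + a • t) = ψ v + ψ (a • t)}
      add_mem' := fun {x y} hx hy => ⟨Submodule.add_mem _ hx.1 hy.1, fun a v hv => by
        rw [smul_add, ← add_assoc, hy.2 a _ (Submodule.add_mem _ hv (Submodule.smul_mem _ _ hx.1)),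
          hy.2 a _ (Submodule.smul_mem _ _ hx.1), hx.2 a v hv, add_assoc]⟩
      zero_mem' := ⟨Submodule.zero_mem _, fun a v _ => by rw [smul_zero, add_zero, D.zero, add_zero]⟩
      smul_mem' := fun c x hx => ⟨Submodule.smul_mem _ _ hx.1, fun a v hv => by
        rw [smul_smul]; exact hx.2 _ v hv⟩ }
  have hT : perp2 B ⊤ e f ≤ T :=
    (span_sing D.C (D.H.ndeg D.C D.C.ndeg_top) (by have := D.W_dim; omega)).trans
      (Submodule.span_le.mpr fun t ht => ⟨ht.1, fun a v hv =>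
        D.add_sing hv (Submodule.smul_mem _ _ ht.1) (by rw [D.C.smul, ht.2, mul_zero])⟩)
  simpa using (hT hw).2 1 v hv

/-- The induced map is semilinear. -/
theorem exists_sigma : ∃ σ : F ≃+* F, ∀ a : F, ∀ w ∈ perp2 B ⊤ e f, ψ (a • w) = σ a • ψ w := by
  classical
  have C := D.C
  have hex : ∀ s : {s // s ∈ perp2 B ⊤ e f ∧ Q s = 0 ∧ s ≠ 0}, ∀ a : F,
      ∃ c : F, ψ (a • s.1) = c • ψ s.1 := by
    rintro ⟨s, hs, hQs, hs0⟩ a
    rcases eq_or_ne a 0 with rfl | ha
    · exact ⟨0, by rw [zero_smul, zero_smul, D.zero]⟩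
    obtain ⟨c, hc⟩ := Submodule.mem_span_singleton.mp (D.P.map_smul' C D.h7 hs0 hQs ha)
    obtain ⟨p, hp, hps⟩ := D.phi_eq hs hQs hs0
    obtain ⟨q, hq, hqa⟩ := D.phi_eq (Submodule.smul_mem _ a hs) (by rw [C.smul, hQs, mul_zero])
      (smul_ne_zero ha hs0)
    refine ⟨q⁻¹ * (c * p), ?_⟩
    rw [← smul_smul, ← smul_smul, ← hps, hc, hqa, smul_smul, inv_mul_cancel₀ hq, one_smul]
  choose τ hτ using hex
  have hψ0 : ∀ s : {s // s ∈ perp2 B ⊤ e f ∧ Q s = 0 ∧ s ≠ 0}, ψ s.1 ≠ 0 := fun s h0 =>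
    s.2.2.2 (D.inj s.2.1 (Submodule.zero_mem _) (by rw [h0, D.zero]))
  have hperp : ∀ s t : {s // s ∈ perp2 B ⊤ e f ∧ Q s = 0 ∧ s ≠ 0}, B s.1 t.1 = 0 →
      t.1 ∉ Submodule.span F {s.1} → ∀ a, τ s a = τ t a := by
    rintro ⟨s, hs, hQs, hs0⟩ ⟨t, ht, hQt, ht0⟩ hst hts a
    have hst0 : s + t ≠ 0 := fun h => hts (Submodule.mem_span_singleton.mpr
      ⟨-1, by rw [neg_smul, one_smul, neg_eq_of_add_eq_zero_right h]⟩)
    have h := hτ ⟨s + t, Submodule.add_mem _ hs ht,
      by rw [C.add, hQs, hQt, hst, add_zero, add_zero], hst0⟩ a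
    rw [smul_add, D.add (Submodule.smul_mem _ _ hs) (Submodule.smul_mem _ _ ht), hτ ⟨s, hs, hQs, hs0⟩,
      hτ ⟨t, ht, hQt, ht0⟩, D.add hs ht, smul_add, ← sub_eq_zero,
      add_sub_add_comm, ← sub_smul, ← sub_smul] at h
    obtain ⟨h1, h2⟩ := D.indep hs hQs hs0 ht hQt hts h
    rw [sub_eq_zero.mp h1, sub_eq_zero.mp h2]
  have hall : ∀ s t, ∀ a, τ s a = τ t a := by
    rintro ⟨s, hs, hQs, hs0⟩ ⟨t, ht, hQt, ht0⟩ a
    by_cases hts : t ∈ Submodule.span F {s}
    · obtain ⟨z, hz, hQz, hsz, hzs⟩ := D.exists_other hs hQs hs0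
      obtain ⟨k, rfl⟩ := Submodule.mem_span_singleton.mp hts
      have hz0 : z ≠ 0 := fun h => hzs (h ▸ Submodule.zero_mem _)
      refine (hperp ⟨s, hs, hQs, hs0⟩ ⟨z, hz, hQz, hz0⟩ hsz hzs a).trans
        (hperp ⟨k • s, ht, hQt, ht0⟩ ⟨z, hz, hQz, hz0⟩
          (by rw [map_smul, LinearMap.smul_apply, hsz, smul_zero]) (fun hm => hzs ?_) a).symm
      exact (Submodule.span_singleton_smul_le F k s) hm
    by_cases hst : B s t = 0
    · exact hperp ⟨s, hs, hQs, hs0⟩ ⟨t, ht, hQt, ht0⟩ hst hts a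
    have G : Hyp Q B (perp2 B ⊤ e f) s ((B s t)⁻¹ • t) :=
      ⟨hs, Submodule.smul_mem _ _ ht, hQs, by rw [C.smul, hQt, mul_zero],
        by rw [map_smul, smul_eq_mul, inv_mul_cancel₀ hst]⟩
    obtain ⟨u, hu, hu0, hQu⟩ := Sing.exists_singular C.smul C.polar
      (perp2 B (perp2 B ⊤ e f) s ((B s t)⁻¹ • t))
      (by have h1 := G.le_finrank C; have h2 := D.W_dim; omega)
    obtain ⟨huW, hsu, htu⟩ := mem_perp2.mp hu
    have htu' : B t u = 0 := by simpa [hst] using htu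
    have hus : u ∉ Submodule.span F {s} := fun hm => hu0 (by
      obtain ⟨k, rfl⟩ := Submodule.mem_span_singleton.mp hm
      rw [map_smul, C.symm t s, smul_eq_mul, mul_eq_zero] at htu'
      rw [htu'.resolve_right hst, zero_smul])
    have hut : u ∉ Submodule.span F {t} := fun hm => hu0 (by
      obtain ⟨k, rfl⟩ := Submodule.mem_span_singleton.mp hm
      rw [map_smul, smul_eq_mul, mul_eq_zero] at hsu
      rw [hsu.resolve_right hst, zero_smul])
    exact (hperp ⟨s, hs, hQs, hs0⟩ ⟨u, huW, hQu, hu0⟩ hsu hus a).trans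
      (hperp ⟨t, ht, hQt, ht0⟩ ⟨u, huW, hQu, hu0⟩ htu' hut a).symm
  obtain ⟨s₀, hs₀, hs00, hQs₀⟩ := Sing.exists_singular C.smul C.polar (perp2 B ⊤ e f)
    (by have := D.W_dim; omega)
  let S : {s // s ∈ perp2 B ⊤ e f ∧ Q s = 0 ∧ s ≠ 0} := ⟨s₀, hs₀, hQs₀, hs00⟩
  have hψS : ψ s₀ ≠ 0 := hψ0 S
  have cancel : ∀ {a b : F}, a • ψ s₀ = b • ψ s₀ → a = b := fun h =>
    smul_left_injective F hψS h
  have h0 : τ S 0 = 0 := cancel (by rw [← hτ S 0, zero_smul, zero_smul, D.zero])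
  have h1 : τ S 1 = 1 := cancel (by rw [← hτ S 1, one_smul, one_smul])
  have hadd : ∀ a b, τ S (a + b) = τ S a + τ S b := fun a b => cancel (by
    rw [← hτ S, add_smul, D.add (Submodule.smul_mem _ _ hs₀) (Submodule.smul_mem _ _ hs₀), hτ S, hτ S,
      add_smul])
  have hmul : ∀ a b, τ S (a * b) = τ S a * τ S b := fun a b => by
    rcases eq_or_ne b 0 with rfl | hb
    · rw [mul_zero, h0, mul_zero]
    refine cancel ?_
    let T : {s // s ∈ perp2 B ⊤ e f ∧ Q s = 0 ∧ s ≠ 0} := ⟨b • s₀, Submodule.smul_mem _ _ hs₀,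
      by rw [C.smul, hQs₀, mul_zero], smul_ne_zero hb hs00⟩
    rw [← hτ S, ← smul_smul, hτ T, hall T S, hτ S, smul_smul]
  let σ₁ : F →+* F :=
    { toFun := τ S, map_one' := h1, map_mul' := hmul, map_zero' := h0, map_add' := hadd }
  refine ⟨RingEquiv.ofBijective σ₁ (Finite.injective_iff_bijective.1 σ₁.injective),
    fun a w hw => ?_⟩
  show ψ (a • w) = τ S a • ψ w
  let U : Submodule F (ι → F) :=
    { carrier := {t | t ∈ perp2 B ⊤ e f ∧ ∀ a : F, ψ (a • t) = τ S a • ψ t}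
      add_mem' := fun {x y} hx hy => ⟨Submodule.add_mem _ hx.1 hy.1, fun a => by
        rw [smul_add, D.add (Submodule.smul_mem _ _ hx.1) (Submodule.smul_mem _ _ hy.1), hx.2, hy.2,
          D.add hx.1 hy.1, smul_add]⟩
      zero_mem' := ⟨Submodule.zero_mem _, fun a => by rw [smul_zero, D.zero, smul_zero]⟩
      smul_mem' := fun c x hx => ⟨Submodule.smul_mem _ _ hx.1, fun a => by
        rw [smul_smul, hx.2, hx.2, hmul, smul_smul]⟩ }
  refine (((span_sing C (D.H.ndeg C C.ndeg_top) (by have := D.W_dim; omega)).trans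
    (Submodule.span_le.mpr fun t ht => ?_)) hw : w ∈ U).2 a
  rcases eq_or_ne t 0 with rfl | ht0
  · exact Submodule.zero_mem U
  refine ⟨ht.1, fun a => ?_⟩
  rw [hτ ⟨t, ht.1, ht.2, ht0⟩, hall ⟨t, ht.1, ht.2, ht0⟩ S]

/-- The induced map multiplies the form by a scalar. -/
theorem exists_mult {σ : F ≃+* F} (hσ : ∀ a : F, ∀ w ∈ perp2 B ⊤ e f, ψ (a • w) = σ a • ψ w) :
    ∃ k : F, k ≠ 0 ∧ ∀ w ∈ perp2 B ⊤ e f, Q (ψ w) = k * σ (Q w) := by
  have C := D.C
  have hW := D.H.ndeg C C.ndeg_top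
  obtain ⟨a, b, G⟩ := exists_hyp' C hW (by have := D.W_dim; omega)
  have ha0 : a ≠ 0 := fun h => by simpa [h] using G.pair
  have hb0 : b ≠ 0 := fun h => by simpa [h] using G.pair
  have key : ∀ s t, s ∈ perp2 B ⊤ e f → Q s = 0 → s ≠ 0 → t ∈ perp2 B ⊤ e f → Q t = 0 → t ≠ 0 →
      (B (ψ s) (ψ t) = 0 ↔ B s t = 0) := by
    intro s t hs hQs hs0 ht hQt ht0
    obtain ⟨p, hp, hps⟩ := D.phi_eq hs hQs hs0
    obtain ⟨q, hq, hqt⟩ := D.phi_eq ht hQt ht0
    rw [D.P.perp s t hs0 hQs ht0 hQt, hps, hqt]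
    simp [hp, hq]
  set k := B (ψ a) (ψ b)
  have hk : k ≠ 0 := fun h => by
    have := (key a b G.memE G.singE ha0 G.memF G.singF hb0).1 h
    rw [G.pair] at this
    exact one_ne_zero this
  have hside : ∀ x ∈ perp2 B (perp2 B ⊤ e f) a b,
      B (ψ a) (ψ x) = 0 ∧ B (ψ b) (ψ x) = 0 := by
    let U : Submodule F (ι → F) :=
      { carrier := {t | t ∈ perp2 B ⊤ e f ∧ B (ψ a) (ψ t) = 0 ∧ B (ψ b) (ψ t) = 0}
        add_mem' := fun {x y} hx hy => ⟨Submodule.add_mem _ hx.1 hy.1,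
          by rw [D.add hx.1 hy.1, map_add, hx.2.1, hy.2.1, add_zero],
          by rw [D.add hx.1 hy.1, map_add, hx.2.2, hy.2.2, add_zero]⟩
        zero_mem' := ⟨Submodule.zero_mem _, by rw [D.zero, map_zero], by rw [D.zero, map_zero]⟩
        smul_mem' := fun c x hx => ⟨Submodule.smul_mem _ _ hx.1,
          by rw [hσ c x hx.1, map_smul, hx.2.1, smul_zero],
          by rw [hσ c x hx.1, map_smul, hx.2.2, smul_zero]⟩ }
    intro x hx
    refine (((span_sing C (G.ndeg C hW) (by have h1 := G.le_finrank C; have h2 := D.W_dim; omega)).trans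
      (Submodule.span_le.mpr fun t ht => ?_)) hx : x ∈ U).2
    obtain ⟨htW, hat, hbt⟩ := mem_perp2.mp ht.1
    rcases eq_or_ne t 0 with rfl | ht0
    · exact Submodule.zero_mem U
    exact ⟨htW, (key a t G.memE G.singE ha0 htW ht.2 ht0).2 hat,
      (key b t G.memF G.singF hb0 htW ht.2 ht0).2 hbt⟩
  have hform : ∀ (p q : F), ∀ x ∈ perp2 B (perp2 B ⊤ e f) a b,
      Q (ψ (x + p • a + q • b)) = Q (ψ x) + σ p * σ q * k := by
    intro p q x hx
    obtain ⟨hxW, -, -⟩ := mem_perp2.mp hx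
    rw [D.add (Submodule.add_mem _ hxW (Submodule.smul_mem _ _ G.memE)) (Submodule.smul_mem _ _ G.memF),
      D.add hxW (Submodule.smul_mem _ _ G.memE), hσ p a G.memE, hσ q b G.memF, C.add, C.add,
      C.smul, C.smul, D.sing G.memE G.singE, D.sing G.memF G.singF]
    simp [k, C.symm (ψ x) (ψ a), C.symm (ψ x) (ψ b), (hside x hx).1, (hside x hx).2]
    ring
  have hQx : ∀ x ∈ perp2 B (perp2 B ⊤ e f) a b, Q (ψ x) = k * σ (Q x) := by
    intro x hx
    obtain ⟨hxW, -, -⟩ := mem_perp2.mp hx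
    have h0 := D.sing (Submodule.add_mem _ (Submodule.add_mem _ hxW
      (Submodule.smul_mem _ (1 : F) G.memE)) (Submodule.smul_mem _ (-Q x) G.memF))
      (by rw [Q_hyp C G hx]; ring)
    rw [hform _ _ x hx, map_one, map_neg] at h0
    linear_combination h0
  refine ⟨k, hk, fun w hw => ?_⟩
  set x := w - B b w • a - B a w • b with hx
  have hxm : x ∈ perp2 B (perp2 B ⊤ e f) a b := G.proj C hw
  rw [show w = x + B b w • a + B a w • b by rw [hx]; abel, hform _ _ x hxm, Q_hyp C G hxm,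
    hQx x hxm, map_add, map_mul]
  ring

end AffData

/-- **The fundamental theorem of polar geometry.** -/
theorem exists_semisimilarity [Finite F] (C : Space Q B) (h7 : 7 ≤ Fintype.card ι)
    {φ : (ι → F) → ι → F} (P : PolarMap Q B φ) :
    ∃ (g : GL ι F) (σ : F ≃+* F) (k : F), k ≠ 0 ∧ (∀ v, Q (g.val *ᵥ (σ ∘ v)) = k * σ (Q v)) ∧
      ∀ x, x ≠ 0 → Q x = 0 → ∃ c : F, c ≠ 0 ∧ φ x = c • (g.val *ᵥ (σ ∘ x)) := by
  classical
  obtain ⟨e, f, H⟩ := exists_hyp' C C.ndeg_top (by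
    rw [finrank_top, finrank_fintype_fun_eq_card]; omega)
  have he0 : e ≠ 0 := fun h => by simpa [h] using H.pair
  have hf0 : f ≠ 0 := fun h => by simpa [h] using H.pair
  have hef : B (φ e) (φ f) ≠ 0 := fun h => by
    have := (P.perp e f he0 H.singE hf0 H.singF).2 h
    rw [H.pair] at this
    exact one_ne_zero this
  set e' := φ e with he'
  set f' := (B (φ e) (φ f))⁻¹ • φ f with hf'
  have H' : Hyp Q B ⊤ e' f' := ⟨trivial, trivial, (P.sing e he0 H.singE).2,
    by rw [hf', C.smul, (P.sing f hf0 H.singF).2, mul_zero],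
    by rw [hf', map_smul, smul_eq_mul, inv_mul_cancel₀ hef]⟩
  obtain ⟨ψ, hψ0, hψ⟩ := P.exists_psi C h7 H H' rfl ⟨_, hf'⟩
  have D : AffData Q B φ e f e' f' ψ := ⟨P, C, h7, H, H', rfl, hψ0, hψ⟩
  obtain ⟨σ, hσ⟩ := D.exists_sigma
  obtain ⟨k, hk, hQ⟩ := D.exists_mult hσ
  let Ψ : (ι → F) → ι → F := fun x =>
    ψ (prj B e f x) + (σ (B f x) * k) • e' + σ (B e x) • f'
  have hm : ∀ x, ψ (prj B e f x) ∈ perp2 B ⊤ e' f' := fun x => (hψ _ (prj_mem C H x)).1
  have hΨQ : ∀ x, Q (Ψ x) = k * σ (Q x) := fun x => by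
    simp only [Ψ]
    rw [Q_hyp C H' (hm x), hQ _ (prj_mem C H x)]
    conv_rhs => rw [Q_decomp C H x, map_add, map_mul]
    ring
  have hΨadd : ∀ x y, Ψ (x + y) = Ψ x + Ψ y := fun x y => by
    simp only [Ψ, map_add, D.add (prj_mem C H x) (prj_mem C H y), add_mul, add_smul]
    abel
  have hΨsmul : ∀ (a : F) x, Ψ (a • x) = σ a • Ψ x := fun a x => by
    simp only [Ψ, map_smul, hσ a _ (prj_mem C H x), smul_eq_mul, map_mul, smul_add, smul_smul]
    rw [mul_assoc]
  let L : (ι → F) →ₗ[F] ι → F :=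
    { toFun := fun x => Ψ (σ.symm ∘ x)
      map_add' := fun x y => by
        rw [← hΨadd]; exact congrArg Ψ (funext fun i => by simp)
      map_smul' := fun a x => by
        rw [RingHom.id_apply, show σ.symm ∘ (a • x) = σ.symm a • (σ.symm ∘ x) from
          funext fun i => by simp, hΨsmul, RingEquiv.apply_symm_apply] }
  have hLinj : Function.Injective L := by
    rw [injective_iff_map_eq_zero]
    intro x hx
    set y := σ.symm ∘ x with hy
    have hy0 : Ψ y = 0 := hx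
    obtain ⟨-, h1, h2⟩ := mem_perp2.mp (hm y)
    have hb := congrArg (B e') hy0
    have ha := congrArg (B f') hy0
    simp [Ψ, h1, h2, C.self_zero H'.singE, C.self_zero H'.singF, H'.pair, H'.pair' C, hk] at ha hb
    have hw : ψ (prj B e f y) = 0 := by simpa [Ψ, ha, hb] using hy0
    have hw' := D.inj (prj_mem C H y) (Submodule.zero_mem _) (by rw [hw, hψ0])
    have : y = 0 := by simpa [prj_apply, ha, hb] using hw'
    funext i
    have := congrFun this i
    simpa [hy] using this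
  have hdet : IsUnit (LinearMap.toMatrix' L).det := by
    rw [LinearMap.det_toMatrix']
    exact LinearEquiv.isUnit_det' (LinearEquiv.ofBijective L
      ⟨hLinj, LinearMap.surjective_of_injective hLinj⟩)
  refine ⟨Matrix.GeneralLinearGroup.mk'' _ hdet, σ, k, hk, ?_⟩
  have hg : ∀ x, (Matrix.GeneralLinearGroup.mk'' _ hdet : GL ι F).val *ᵥ (σ ∘ x) = Ψ x := fun x => by
    show LinearMap.toMatrix' L *ᵥ (σ ∘ x) = _
    rw [← Matrix.toLin'_apply, Matrix.toLin'_toMatrix']
    exact congrArg Ψ (funext fun i => σ.symm_apply_apply _)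
  refine ⟨fun v => by rw [hg]; exact hΨQ v, fun x hx0 hx => ?_⟩
  rw [hg]
  have hΨ0 : Ψ x ≠ 0 := fun h => hx0 (by
    have h1 : L (σ ∘ x) = 0 := (congrArg Ψ (funext fun i => σ.symm_apply_apply _)).trans h
    have h2 := (injective_iff_map_eq_zero L).mp hLinj _ h1
    exact funext fun i => σ.injective ((congrFun h2 i).trans (map_zero σ).symm))
  suffices hmem : φ x ∈ Submodule.span F {Ψ x} by
    obtain ⟨c, hc⟩ := Submodule.mem_span_singleton.mp hmem
    exact ⟨c, fun h => (P.sing x hx0 hx).1 (by rw [← hc, h, zero_smul]), hc.symm⟩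
  have haff : ∀ w ∈ perp2 B ⊤ e f, Ψ (aff Q e f w) = aff Q e' f' (ψ w) := fun w hw => by
    simp only [Ψ]
    rw [prj_aff C H hw, Bf_aff C H hw, B_aff C H hw, map_one, map_neg, aff, hQ w hw]
    module
  set w₀ := prj B e f x with hw₀
  have hdec : x = w₀ + B f x • e + B e x • f := by rw [hw₀, prj_apply]; abel
  have hQx := Q_decomp C H x
  rw [hx, ← hw₀] at hQx
  by_cases hb : B e x = 0
  · rw [hb, zero_smul, add_zero] at hdec
    rw [hb, mul_zero, add_zero] at hQx
    by_cases hw0 : w₀ = 0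
    · have hfx : B f x ≠ 0 := fun h => hx0 (by rw [hdec, hw0, h, zero_smul, add_zero])
      rw [hw0, zero_add] at hdec
      rw [show Ψ x = (σ (B f x) * k) • e' by simp [Ψ, hb, ← hw₀, hw0, hψ0],
        Submodule.span_singleton_smul_eq (IsUnit.mk0 _ (mul_ne_zero (by simp [hfx]) hk))]
      rw [hdec]
      exact P.map_smul' C h7 he0 H.singE hfx
    obtain ⟨g, G⟩ := exists_hyp C (H.ndeg C C.ndeg_top) (prj_mem C H x) hw0 hQx.symm
    set w := (-B f x) • g with hw
    have hwm : w ∈ perp2 B ⊤ e f := Submodule.smul_mem _ _ G.memF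
    have hwm' : w + w₀ ∈ perp2 B ⊤ e f := Submodule.add_mem _ hwm (prj_mem C H x)
    obtain ⟨b, -, h⟩ := D.diff hwm (prj_mem C H x) hQx.symm hw0
    have hBw : B w w₀ = -B f x := by
      rw [hw, map_smul, LinearMap.smul_apply, G.pair' C, smul_eq_mul, mul_one]
    rw [hBw, neg_smul, sub_neg_eq_add, ← hdec] at h
    rw [h, ← haff _ hwm', ← haff _ hwm]
    refine Submodule.mem_span_singleton.mpr ⟨b, ?_⟩
    congr 1
    have hsum : aff Q e f (w + w₀) = aff Q e f w + x := by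
      rw [aff, aff, C.add, ← hQx, hBw, add_zero]
      conv_rhs => rw [hdec]
      module
    rw [hsum, hΨadd]
    abel
  · set w := (B e x)⁻¹ • w₀ with hw
    have hwm : w ∈ perp2 B ⊤ e f := Submodule.smul_mem _ _ (prj_mem C H x)
    have hxw : x = B e x • aff Q e f w := by
      rw [aff, hw, C.smul, show Q w₀ = -(B f x * B e x) by linear_combination -hQx]
      conv_lhs => rw [hdec]
      match_scalars <;> field_simp
    obtain ⟨c, hc, hcw⟩ := (hψ w hwm).2
    rw [hxw, hΨsmul, haff w hwm,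
      Submodule.span_singleton_smul_eq (IsUnit.mk0 _ (by simp [hb]))]
    refine Submodule.span_singleton_le_iff_mem _ _ |>.mpr ?_ (P.map_smul' C h7 (aff_ne C H hwm) (Q_aff C H hwm) hb)
    rw [hcw]
    exact Submodule.smul_mem _ _ (Submodule.mem_span_singleton_self _)

end Cfsg.Lib.Linear.AutPO
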