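import Cfsg.Agent.Lib.Linear.AutPO.Lines
import Cfsg.Agent.Lib.Linear.OrthRootCentral
import Cfsg.Agent.Lib.Linear.OrthCenter

/-!
# Long root elements: their lines, their products and their classes
-/

set_option autoImplicit false

namespace Cfsg.Lib.Linear.AutPO

open Module
open Cfsg.Lib.Linear.Orth
open scoped Matrix

variable {ι : Type} [Fintype ι] [DecidableEq ι] {F : Type*} [Field F] [Finite F]
  {Q : (ι → F) → F} {B : LinearMap.BilinForm F (ι → F)}

/-- An element of order `p`, the characteristic, commuting with two consecutive root groups is a root element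
of the singular line. -/
theorem eq_root_of_commute' (C : Space Q B) (h7 : 7 ≤ Fintype.card ι) {p : ℕ} [hp : Fact p.Prime]
    [CharP F p] {g : GL ι F} (hg : g ∈ isometryGroup F Q) (hgp : g ^ p = 1)
    {e1 f1 e2 f2 : ι → F} (H1 : Hyp Q B ⊤ e1 f1) (H2 : Hyp Q B (perp2 B ⊤ e1 f1) e2 f2)
    (c1 : ∀ a, B e1 a = 0 → Commute g (sGL Q B e1 a))
    (c2 : ∀ b, B e1 b = 0 → B e2 b = 0 → Commute g (sGL Q B e2 b)) :
    ∃ c : F, g = sGL Q B e1 (c • e2) := by
  have he0 : e1 ≠ 0 := fun h => by
    have := H1.pair; rw [h, map_zero, LinearMap.zero_apply] at this; exact zero_ne_one this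
  obtain ⟨c, hc⟩ := Submodule.mem_span_singleton.mp
    (line_of_commute C (by omega) hg H1.singE he0 c1)
  have hpow : ∀ k : ℕ, (g ^ k).val *ᵥ e1 = c ^ k • e1 := fun k => by
    induction k with
    | zero => simp
    | succ k ih => rw [pow_succ', mul_act, ih, Matrix.mulVec_smul, ← hc, smul_smul, pow_succ]
  have hcp : c ^ p = 1 := by
    have h := hpow p
    rw [hgp, Units.val_one, Matrix.one_mulVec] at h
    exact (smul_left_injective F he0 (show (1 : F) • e1 = c ^ p • e1 by rw [one_smul]; exact h)).symm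
  have hc0 : c ≠ 0 := fun h => by
    rw [h, zero_pow hp.out.ne_zero] at hcp; exact zero_ne_one hcp
  set W1 := perp2 B ⊤ e1 f1 with hW1
  obtain ⟨-, h1e2, h1f2⟩ := mem_perp2.mp H2.memE
  obtain ⟨-, h2e2, h2f2⟩ := mem_perp2.mp H2.memF
  have hga : ∀ a, B e1 a = 0 → ∃ s : F, g.val *ᵥ a = c⁻¹ • a + s • e1 := fun a ha => by
    have h := root_commute_conj C hg H1.singE ha (c1 a ha)
    rw [← hc, sGL_smul C H1.singE (by
      rw [← inv_smul_smul₀ hc0 e1, hc, map_smul, LinearMap.smul_apply, C.B_act hg, ha, smul_zero])]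
      at h
    obtain ⟨s, hs⟩ := root_eq_mod C H1.singE H1.pair
      (show B e1 (c • g.val *ᵥ a) = 0 by
        rw [map_smul, ← inv_smul_smul₀ hc0 e1, hc, map_smul, LinearMap.smul_apply, C.B_act hg, ha,
          smul_zero, smul_zero]) ha h
    refine ⟨c⁻¹ * s, ?_⟩
    rw [← inv_smul_smul₀ hc0 (g.val *ᵥ a), hs, smul_add, smul_smul]
  have hc1 : c = 1 := by
    refine sub_eq_zero.1 (pow_eq_zero_iff hp.out.ne_zero |>.1 ?_)
    rw [sub_pow_char, hcp, one_pow, sub_self]
  subst hc1
  rw [one_smul] at hc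
  -- `g` agrees with a root element at `e1`
  obtain ⟨-, hef, hff⟩ := mem_perp2.mp (H1.proj C (Submodule.mem_top (x := g.val *ᵥ f1)))
  set w := g.val *ᵥ f1 - B f1 (g.val *ᵥ f1) • e1 - B e1 (g.val *ᵥ f1) • f1 with hw
  have hBgf : B e1 (g.val *ᵥ f1) = 1 := by
    nth_rewrite 1 [hc]; rw [C.B_act hg, H1.pair]
  have hwW : w ∈ W1 := H1.proj C Submodule.mem_top
  have hgf : g.val *ᵥ f1 = f1 + w - Q w • e1 := by
    have h := Q_hyp C H1 hwW (B f1 (g.val *ᵥ f1)) (B e1 (g.val *ᵥ f1))
    rw [hw, show g.val *ᵥ f1 - B f1 (g.val *ᵥ f1) • e1 - B e1 (g.val *ᵥ f1) • f1 +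
      B f1 (g.val *ᵥ f1) • e1 + B e1 (g.val *ᵥ f1) • f1 = g.val *ᵥ f1 by abel, ← hw,
      mem_iso.mp hg, H1.singF, hBgf, mul_one] at h
    rw [show Q w = -B f1 (g.val *ᵥ f1) by linear_combination -h, hw, hBgf]
    module
  have hgW : ∀ a ∈ W1, g.val *ᵥ a = a - B w a • e1 := fun a ha => by
    obtain ⟨-, hea, hfa⟩ := mem_perp2.mp ha
    obtain ⟨s, hs⟩ := hga a hea
    rw [inv_one, one_smul] at hs
    have h := C.B_act hg f1 a
    rw [hgf, hs, hfa] at h
    simp [hea, hfa, C.symm w e1, hef, C.symm f1 e1, H1.pair, C.self_zero H1.singE] at h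
    rw [hs, sub_eq_add_neg, ← neg_smul, show s = -B w a by linear_combination h]
  -- the second root group makes `w` a multiple of `e2`
  have key : ∀ b ∈ perp2 B W1 e2 f2, B w b - B w e2 * Q b = 0 := fun b hb => by
    obtain ⟨hbW, h2b, hf2b⟩ := mem_perp2.mp hb
    obtain ⟨-, h1b, hf1b⟩ := mem_perp2.mp hbW
    have h := root_commute_conj C hg H2.singE h2b (c2 b h1b h2b)
    rw [hgW e2 H2.memE, hgW b hbW] at h
    have h' := congrArg (fun t : GL ι F => B f1 (t.val *ᵥ f2)) h
    have hu : Q (e2 - B w e2 • e1) = 0 := by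
      rw [← hgW e2 H2.memE, mem_iso.mp hg, H2.singE]
    have hub : B (e2 - B w e2 • e1) (b - B w b • e1) = 0 := by
      rw [← hgW e2 H2.memE, ← hgW b hbW, C.B_act hg, h2b]
    simp only [sGL_act C hu hub, sGL_act C H2.singE h2b] at h'
    have hQb : Q (b - B w b • e1) = Q b := by rw [← hgW b hbW, mem_iso.mp hg]
    rw [hQb] at h'
    simp [H2.pair, h2e2, h2f2, h1e2, h1f2, h1b, hf1b, H1.pair' C, C.symm b f2, hf2b] at h'
    linear_combination -h'
  have hzero : B w e2 = 0 ∧ ∀ b ∈ perp2 B W1 e2 f2, B w b = 0 := by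
    have hW2 := H2.ndeg C (H1.ndeg C C.ndeg_top)
    have hwe2 : B w e2 = 0 := by
      obtain ⟨b, hb, hQb⟩ := exists_nonsing C hW2 (fun h => by
        have h3 := H2.le_finrank C
        have h4 := H1.le_finrank C
        rw [h, finrank_bot] at h3
        rw [finrank_top, finrank_fintype_fun_eq_card, ← hW1] at h4
        omega)
      have hb0 : b ≠ 0 := fun h => hQb (h ▸ C.zero)
      obtain ⟨b', hb', hbb'⟩ : ∃ b' ∈ perp2 B W1 e2 f2, B b b' ≠ 0 := by
        by_contra! h
        exact hb0 (hW2 b hb h)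
      have h5 := key _ (Submodule.add_mem _ hb hb')
      rw [C.add, map_add] at h5
      have : B w e2 * B b b' = 0 := by linear_combination key b hb + key b' hb' - h5
      exact (mul_eq_zero.mp this).resolve_right hbb'
    exact ⟨hwe2, fun b hb => by have h4 := key b hb; rwa [hwe2, zero_mul, sub_zero] at h4⟩
  have hwe : w = B f2 w • e2 := by
    have hmem : w - B f2 w • e2 - B e2 w • f2 ∈ perp2 B W1 e2 f2 := H2.proj C hwW
    have h0 : w - B f2 w • e2 - B e2 w • f2 = 0 :=
      H2.ndeg C (H1.ndeg C C.ndeg_top) _ hmem fun b hb => by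
        obtain ⟨-, h2b, hf2b⟩ := mem_perp2.mp hb
        simp [hzero.2 b hb, h2b, hf2b]
    rw [C.symm e2 w, hzero.1, zero_smul, sub_zero, sub_eq_zero] at h0
    exact h0
  refine ⟨B f2 w, ?_⟩
  rw [← hwe]
  refine gl_ext fun x => ?_
  obtain ⟨hxW, -, -⟩ : _ ∧ True ∧ True := ⟨H1.proj C (Submodule.mem_top (x := x)), trivial, trivial⟩
  rw [sGL_act C H1.singE hef]
  conv_lhs => rw [show x = (x - B f1 x • e1 - B e1 x • f1) + B f1 x • e1 + B e1 x • f1 by abel]
  rw [Matrix.mulVec_add, Matrix.mulVec_add, Matrix.mulVec_smul, Matrix.mulVec_smul, hgW _ hxW,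
    ← hc, hgf]
  simp only [map_sub, map_smul, smul_eq_mul, C.symm w e1, hef, C.symm w f1, hff, mul_zero, sub_zero]
  module


/-- A long root element. -/
def IsRootEl (Q : (ι → F) → F) (B : LinearMap.BilinForm F (ι → F)) (x : GL ι F) : Prop :=
  ∃ e w, e ≠ 0 ∧ Q e = 0 ∧ Q w = 0 ∧ B e w = 0 ∧ w ∉ Submodule.span F {e} ∧ x = sGL Q B e w

/-- The line of a root element. -/
def rl (x : GL ι F) : Submodule F (ι → F) := LinearMap.range (Matrix.mulVecLin x.val - LinearMap.id)

omit [Finite F] in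
theorem mem_rl {x : GL ι F} {v : ι → F} : v ∈ rl x ↔ ∃ z, x.val *ᵥ z - z = v := by
  simp [rl]

omit [Finite F] in
theorem rl_one : rl (1 : GL ι F) = ⊥ := by
  rw [eq_bot_iff]
  intro v hv
  obtain ⟨z, rfl⟩ := mem_rl.mp hv
  simp

omit [Finite F] in
theorem rl_conj (g x : GL ι F) : rl (g * x * g⁻¹) = (rl x).map (Matrix.mulVecLin g.val) := by
  ext v
  rw [Submodule.mem_map, mem_rl]
  constructor
  · rintro ⟨z, rfl⟩
    refine ⟨_, mem_rl.mpr ⟨(g⁻¹ : GL ι F).val *ᵥ z, rfl⟩, ?_⟩
    rw [Matrix.mulVecLin_apply, Matrix.mulVec_sub, act_inv, mul_act, mul_act]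
  · rintro ⟨u, hu, rfl⟩
    obtain ⟨z, rfl⟩ := mem_rl.mp hu
    exact ⟨g.val *ᵥ z, by rw [Matrix.mulVecLin_apply, Matrix.mulVec_sub, mul_act, mul_act, inv_act]⟩

section

variable (C : Space Q B)

include C

omit [Finite F] in
theorem root_act_eq {e w : ι → F} (he : Q e = 0) (hw : Q w = 0) (hew : B e w = 0) (z : ι → F) :
    (sGL Q B e w).val *ᵥ z - z = B e z • w - B w z • e := by
  rw [sGL_act C he hew, hw]; simp; abel

omit [Finite F] in
theorem rl_sGL {e w : ι → F} (he0 : e ≠ 0) (he : Q e = 0) (hw : Q w = 0) (hew : B e w = 0)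
    (hind : w ∉ Submodule.span F {e}) : rl (sGL Q B e w) = Submodule.span F {e, w} := by
  refine le_antisymm (fun v hv => ?_) (Submodule.span_le.mpr ?_)
  · obtain ⟨z, rfl⟩ := mem_rl.mp hv
    rw [root_act_eq C he hw hew]
    exact Submodule.sub_mem _ (Submodule.smul_mem _ _ (Submodule.subset_span (by simp)))
      (Submodule.smul_mem _ _ (Submodule.subset_span (by simp)))
  obtain ⟨y, hy, hwy⟩ := C.exists_perp hind
  have hey : B e y = 0 := hy e (Submodule.mem_span_singleton_self e)
  obtain ⟨u, hu⟩ := C.exists_pair he0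
  rintro v (rfl | rfl)
  · exact mem_rl.mpr ⟨-y, by rw [root_act_eq C he hw hew]; simp [hey, hwy]⟩
  · refine mem_rl.mpr ⟨u - B v u • y, ?_⟩
    rw [root_act_eq C he hw hew]
    simp [hey, hwy, hu]

omit [Finite F] in
theorem IsRootEl.isSLine {x : GL ι F} (h : IsRootEl Q B x) : IsSLine Q (rl x) := by
  obtain ⟨e, w, he0, he, hw, hew, hind, rfl⟩ := h
  rw [rl_sGL C he0 he hw hew hind]
  exact isSLine_span C he0 he hw hew hind

omit [Finite F] in
theorem sGL_basis {e w : ι → F} (he : Q e = 0) (hw : Q w = 0) (hew : B e w = 0) (a b c d : F) :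
    sGL Q B (a • e + b • w) (c • e + d • w) = sGL Q B e ((a * d - b * c) • w) := by
  have h1 : Q (a • e + b • w) = 0 := by rw [C.smul_add, he, hw, hew]; ring
  have h2 : Q (c • e + d • w) = 0 := by rw [C.smul_add, he, hw, hew]; ring
  have h3 : B (a • e + b • w) (c • e + d • w) = 0 := by
    simp [C.self_zero he, C.self_zero hw, hew, C.symm w e]
  refine gl_ext fun z => ?_
  rw [sGL_act C h1 h3, sGL_act C he (by rw [map_smul, hew, smul_zero]), h2, C.smul, hw]
  simp only [map_add, map_smul, LinearMap.add_apply, LinearMap.smul_apply, smul_eq_mul]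
  module

omit [Finite F] in
/-- A root element, read at any basis of its line. -/
theorem IsRootEl.at_basis {x : GL ι F} (h : IsRootEl Q B x) {u a : ι → F} (hu0 : u ≠ 0)
    (hline : rl x = Submodule.span F {u, a}) : ∃ t : F, t ≠ 0 ∧ x = sGL Q B u (t • a) := by
  have hL := h.isSLine C
  obtain ⟨e, w, he0, he, hw, hew, hind, rfl⟩ := h
  have hu : Q u = 0 := hL.2 u (hline ▸ Submodule.subset_span (by simp))
  have ha : Q a = 0 := hL.2 a (hline ▸ Submodule.subset_span (by simp))
  have hua : B u a = 0 := hL.perp_self C u (hline ▸ Submodule.subset_span (by simp)) a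
    (hline ▸ Submodule.subset_span (by simp))
  rw [rl_sGL C he0 he hw hew hind] at hline
  have hmem : e ∈ Submodule.span F {u, a} ∧ w ∈ Submodule.span F {u, a} :=
    ⟨hline ▸ Submodule.subset_span (by simp), hline ▸ Submodule.subset_span (by simp)⟩
  obtain ⟨p, q, rfl⟩ := Submodule.mem_span_pair.mp hmem.1
  obtain ⟨r, s, rfl⟩ := Submodule.mem_span_pair.mp hmem.2
  refine ⟨p * s - q * r, fun h0 => hind ?_, sGL_basis C hu ha hua p q r s⟩
  refine Submodule.mem_span_singleton.mpr ?_
  by_cases hp : p = 0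
  · have hq : q ≠ 0 := fun hq => he0 (by simp [hp, hq])
    refine ⟨s / q, ?_⟩
    rw [hp] at h0 ⊢
    have hr : r = 0 := by simpa [hq] using h0
    simp [hr, smul_smul, div_mul_cancel₀ _ hq]
  · refine ⟨r / p, ?_⟩
    have h1 : s = q * r / p := by rw [eq_div_iff hp]; linear_combination h0
    rw [smul_add, smul_smul, smul_smul, div_mul_cancel₀ _ hp, h1]
    congr 2
    ring

omit [Finite F] in
theorem exists_root {L : Submodule F (ι → F)} (hL : IsSLine Q L) :
    ∃ x, IsRootEl Q B x ∧ rl x = L := by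
  obtain ⟨e, he, he0⟩ := Submodule.exists_mem_ne_zero_of_ne_bot
    (p := L) (fun h => by have := hL.1; rw [h, finrank_bot] at this; omega)
  obtain ⟨w, hw, hwe, hLe⟩ := hL.exists_basis he he0
  exact ⟨_, ⟨e, w, he0, hL.2 e he, hL.2 w hw, hL.perp_self C e he w hw, hwe, rfl⟩,
    by rw [rl_sGL C he0 (hL.2 e he) (hL.2 w hw) (hL.perp_self C e he w hw) hwe, hLe]⟩

theorem commute_of_com {x y : GL ι F} (hx : IsRootEl Q B x) (hy : IsRootEl Q B y)
    (h : Com B (rl x) (rl y)) : Commute x y := by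
  rcases h with ⟨u, hu0, hux, huy⟩ | hp
  · have hLx := hx.isSLine C
    have hLy := hy.isSLine C
    obtain ⟨a, ha, -, hax⟩ := hLx.exists_basis hux hu0
    obtain ⟨b, hb, -, hby⟩ := hLy.exists_basis huy hu0
    obtain ⟨s, -, rfl⟩ := hx.at_basis C hu0 hax
    obtain ⟨t, -, rfl⟩ := hy.at_basis C hu0 hby
    have h1 : B u (s • a) = 0 := by rw [map_smul, hLx.perp_self C u hux a ha, smul_zero]
    have h2 : B u (t • b) = 0 := by rw [map_smul, hLy.perp_self C u huy b hb, smul_zero]
    show _ * _ = _ * _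
    rw [sGL_mul C (hLx.2 u hux) h1 h2, sGL_mul C (hLx.2 u hux) h2 h1, add_comm]
  · obtain ⟨e, w, he0, he, hw, hew, hind, rfl⟩ := hx
    obtain ⟨e', w', he0', he', hw', hew', hind', rfl⟩ := hy
    rw [rl_sGL C he0 he hw hew hind, rl_sGL C he0' he' hw' hew' hind'] at hp
    have hfix : ∀ z ∈ Submodule.span F {e', w'}, (sGL Q B e w).val *ᵥ z = z := fun z hz => by
      rw [← sub_eq_zero, root_act_eq C he hw hew, hp e (Submodule.subset_span (by simp)) z hz,
        hp w (Submodule.subset_span (by simp)) z hz]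
      simp
    have h1 := sGL_conj C he' hew' (sGL_mem C he hew)
    rw [hfix e' (Submodule.subset_span (by simp)), hfix w' (Submodule.subset_span (by simp))] at h1
    exact mul_inv_eq_iff_eq_mul.mp h1

theorem com_of_commute {x y : GL ι F} (hx : IsRootEl Q B x) (hy : IsRootEl Q B y) (h : Commute x y) :
    Com B (rl x) (rl y) := by
  by_cases hm : Meets (rl x) (rl y)
  · exact Or.inl hm
  refine Or.inr fun a ha b hb => ?_
  have hLy := hy.isSLine C
  obtain ⟨e, w, he0, he, hw, hew, hind, rfl⟩ := hx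
  have hinv : (rl y).map (Matrix.mulVecLin (sGL Q B e w).val) = rl y := by
    rw [← rl_conj, h.eq, mul_inv_cancel_right]
  have hzero : (sGL Q B e w).val *ᵥ b - b = 0 := by
    by_contra hne
    refine hm ⟨_, hne, mem_rl.mpr ⟨b, rfl⟩, Submodule.sub_mem _ ?_ hb⟩
    exact hinv ▸ Submodule.mem_map_of_mem (f := Matrix.mulVecLin (sGL Q B e w).val) hb
  rw [root_act_eq C he hw hew, sub_eq_zero] at hzero
  have h1 : B e b = 0 := by
    by_contra hne
    exact hind (Submodule.mem_span_singleton.mpr ⟨(B e b)⁻¹ * B w b, by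
      rw [← smul_smul, ← hzero, smul_smul, inv_mul_cancel₀ hne, one_smul]⟩)
  rw [h1, zero_smul, eq_comm, smul_eq_zero] at hzero
  rw [rl_sGL C he0 he hw hew hind] at ha
  obtain ⟨p, q, rfl⟩ := Submodule.mem_span_pair.mp ha
  simp [h1, hzero.resolve_right he0]

theorem commute_iff {x y : GL ι F} (hx : IsRootEl Q B x) (hy : IsRootEl Q B y) :
    Commute x y ↔ Com B (rl x) (rl y) :=
  ⟨com_of_commute C hx hy, commute_of_com C hx hy⟩

theorem mul_isRoot_iff {x y : GL ι F} (hx : IsRootEl Q B x) (hy : IsRootEl Q B y) (h : Commute x y)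
    (hne : rl x ≠ rl y) : IsRootEl Q B (x * y) ↔ Adj B (rl x) (rl y) := by
  have hLx := hx.isSLine C
  have hLy := hy.isSLine C
  by_cases hm : Meets (rl x) (rl y)
  · obtain ⟨u, hu0, hux, huy⟩ := id hm
    obtain ⟨a, ha, hau, hax⟩ := hLx.exists_basis hux hu0
    obtain ⟨b, hb, -, hby⟩ := hLy.exists_basis huy hu0
    obtain ⟨s, hs, hxs⟩ := hx.at_basis C hu0 hax
    obtain ⟨t, ht, hyt⟩ := hy.at_basis C hu0 hby
    have hu : Q u = 0 := hLx.2 u hux
    have h1 : B u (s • a) = 0 := by rw [map_smul, hLx.perp_self C u hux a ha, smul_zero]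
    have h2 : B u (t • b) = 0 := by rw [map_smul, hLy.perp_self C u huy b hb, smul_zero]
    have hd : B u (s • a + t • b) = 0 := by rw [map_add, h1, h2, add_zero]
    have hQd : Q (s • a + t • b) = s * t * B a b := by
      rw [C.smul_add, hLx.2 a ha, hLy.2 b hb]; ring
    have hprod : x * y = sGL Q B u (s • a + t • b) := by rw [hxs, hyt, sGL_mul C hu h1 h2]
    constructor
    · intro hr
      obtain ⟨z, hz⟩ := C.exists_pair hu0
      have hmem : (x * y).val *ᵥ z - z ∈ rl (x * y) := mem_rl.mpr ⟨z, rfl⟩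
      have hQ0 := (hr.isSLine C).2 _ hmem
      rw [hprod, sGL_act C hu hd, hz, one_smul, mul_one,
        show z + (s • a + t • b) - (B (s • a + t • b) z + Q (s • a + t • b)) • u - z
          = (s • a + t • b) + -(B (s • a + t • b) z + Q (s • a + t • b)) • u by module,
        C.add, C.smul, hu, map_smul, C.symm (s • a + t • b) u, hd] at hQ0
      have hab : B a b = 0 := by simpa [hQd, hs, ht] using hQ0
      refine ⟨hne, hm, ?_⟩
      rw [hax, hby]
      exact perp_span (C.self_zero hu) (hLy.perp_self C u huy b hb)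
        (by rw [C.symm]; exact hLx.perp_self C u hux a ha) hab
    · rintro ⟨-, -, hp⟩
      refine ⟨u, s • a + t • b, hu0, hu, by rw [hQd, hp a ha b hb, mul_zero], hd, fun hmem => hne ?_,
        hprod⟩
      obtain ⟨k, hk⟩ := Submodule.mem_span_singleton.mp hmem
      have hbx : b ∈ rl x := by
        rw [show b = t⁻¹ • (k • u - s • a) by
          rw [hk, add_sub_cancel_left, smul_smul, inv_mul_cancel₀ ht, one_smul]]
        exact Submodule.smul_mem _ _ (Submodule.sub_mem _ (Submodule.smul_mem _ _ hux)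
          (Submodule.smul_mem _ _ ha))
      refine (Submodule.eq_of_le_of_finrank_le ?_ (by rw [hLx.1, hLy.1])).symm
      rw [hby, Submodule.span_le]
      rintro v (rfl | rfl) <;> assumption
  · refine iff_of_false (fun hr => ?_) (fun hA => hm hA.2.1)
    have hp : Perp B (rl x) (rl y) := (com_of_commute C hx hy h).resolve_left hm
    have hsub : ∀ (x' y' : GL ι F), IsRootEl Q B x' → IsRootEl Q B y' → Perp B (rl x') (rl y') →
        ¬ Meets (rl x') (rl y') → rl x' ≤ rl (x' * y') := by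
      intro x' y' hx' hy' hp' hm'
      obtain ⟨e, w, he0, he, hw, hew, hind, rfl⟩ := hx'
      obtain ⟨e', w', he0', he', hw', hew', hind', rfl⟩ := hy'
      rw [rl_sGL C he0 he hw hew hind, rl_sGL C he0' he' hw' hew' hind'] at hm'
      rw [rl_sGL C he0 he hw hew hind]
      refine Submodule.span_le.mpr ?_
      have key : ∀ p q : ι → F, p ∈ Submodule.span F {e, w} → p ∉ Submodule.span F {e', w', q} →
          ∃ z, B e' z = 0 ∧ B w' z = 0 ∧ B q z = 0 ∧ B p z = 1 := fun p q _ hnot => by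
        obtain ⟨z, hz, hpz⟩ := C.exists_perp hnot
        exact ⟨z, hz e' (Submodule.subset_span (by simp)), hz w' (Submodule.subset_span (by simp)),
          hz q (Submodule.subset_span (by simp)), hpz⟩
      have hnot : ∀ p q : ι → F, p ∈ Submodule.span F {e, w} → q ∈ Submodule.span F {e, w} →
          p ∉ Submodule.span F {q} → p ∉ Submodule.span F {e', w', q} := by
        intro p q hp hq hpq hmem
        obtain ⟨a, v, hv, hpa⟩ := Submodule.mem_span_insert.mp hmem
        obtain ⟨b, c, hbc⟩ := Submodule.mem_span_pair.mp hv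
        by_cases h0 : a • e' + b • w' = 0
        · refine hpq (Submodule.mem_span_singleton.mpr ⟨c, ?_⟩)
          rw [hpa, ← hbc, ← add_assoc, h0, zero_add]
        · refine hm' ⟨_, h0, ?_, Submodule.mem_span_pair.mpr ⟨a, b, rfl⟩⟩
          rw [show a • e' + b • w' = p - c • q by rw [hpa, ← hbc]; abel]
          exact Submodule.sub_mem _ hp (Submodule.smul_mem _ _ hq)
      have act : ∀ z, B e' z = 0 → B w' z = 0 →
          (sGL Q B e w * sGL Q B e' w').val *ᵥ z - z = B e z • w - B w z • e := fun z h1 h2 => by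
        rw [mul_act, show (sGL Q B e' w').val *ᵥ z = z by
          rw [← sub_eq_zero, root_act_eq C he' hw' hew', h1, h2]; simp, root_act_eq C he hw hew]
      have hwnot := hnot w e (Submodule.subset_span (by simp)) (Submodule.subset_span (by simp)) hind
      have henot := hnot e w (Submodule.subset_span (by simp)) (Submodule.subset_span (by simp))
        (fun hm => hind (by
          obtain ⟨k, hk⟩ := Submodule.mem_span_singleton.mp hm
          have hk0 : k ≠ 0 := fun h => he0 (by rw [← hk, h, zero_smul])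
          exact Submodule.mem_span_singleton.mpr ⟨k⁻¹, by rw [← hk, smul_smul, inv_mul_cancel₀ hk0, one_smul]⟩))
      rintro v (rfl | rfl)
      · obtain ⟨z, h1, h2, h3, h4⟩ := key w v (Submodule.subset_span (by simp)) hwnot
        exact mem_rl.mpr ⟨-z, by rw [act (-z) (by simp [h1]) (by simp [h2])]; simp [h3, h4]⟩
      · obtain ⟨z, h1, h2, h3, h4⟩ := key e v (Submodule.subset_span (by simp)) henot
        exact mem_rl.mpr ⟨z, by rw [act z h1 h2]; simp [h3, h4]⟩
    have h1 := hsub x y hx hy hp hm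
    have h2 := hsub y x hy hx (hp.symm C) (fun h => hm h.symm)
    rw [← h.eq] at h2
    have e1 := Submodule.eq_of_le_of_finrank_le h1 (by rw [hLx.1, (hr.isSLine C).1])
    have e2 := Submodule.eq_of_le_of_finrank_le h2 (by rw [hLy.1, (hr.isSLine C).1])
    exact hne (e1.trans e2.symm)

/-- The line of a root element is determined by the root elements commuting with it. -/
theorem rl_eq_iff (h7 : 7 ≤ Fintype.card ι) {x y : GL ι F} (hx : IsRootEl Q B x) (hy : IsRootEl Q B y) :
    rl x = rl y ↔ ∀ z, IsRootEl Q B z → (Commute z x ↔ Commute z y) := by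
  constructor
  · intro h z hz
    rw [commute_iff C hz hx, commute_iff C hz hy, h]
  intro hall
  by_contra hne
  have hLx := hx.isSLine C
  have hLy := hy.isSLine C
  obtain ⟨u, hux, huy⟩ : ∃ u ∈ rl x, u ∉ rl y := by
    by_contra! h
    exact hne (Submodule.eq_of_le_of_finrank_le h (by rw [hLx.1, hLy.1]))
  have hu0 : u ≠ 0 := fun h => huy (h ▸ Submodule.zero_mem _)
  have hu := hLx.2 u hux
  obtain ⟨q, hQq, huq, hqu, hdis, hnp⟩ : ∃ q, Q q = 0 ∧ B u q = 0 ∧ q ∉ Submodule.span F {u} ∧
      ¬ Meets (Submodule.span F {u, q}) (rl y) ∧ ¬ Perp B (Submodule.span F {u, q}) (rl y) := by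
    by_cases hp : ∀ m ∈ rl y, B u m = 0
    · obtain ⟨m, hm, hmu⟩ : ∃ m ∈ rl y, m ∉ Submodule.span F {u} := by
        by_contra! h
        have := Submodule.finrank_mono (show rl y ≤ Submodule.span F {u} from h)
        rw [hLy.1, finrank_span_singleton hu0] at this
        omega
      obtain ⟨q, hQq, huq, hmq⟩ : ∃ q, Q q = 0 ∧ B u q = 0 ∧ B m q ≠ 0 := by
        by_contra! h
        exact hmu (ann_one C h7 hu0 hu h)
      refine ⟨q, hQq, huq, fun h => ?_, ?_, fun h => hmq ?_⟩
      · obtain ⟨k, rfl⟩ := Submodule.mem_span_singleton.mp h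
        rw [map_smul, C.symm, hp m hm, smul_zero] at hmq
        exact hmq rfl
      · rintro ⟨z, hz0, hz, hzy⟩
        obtain ⟨a, b, rfl⟩ := Submodule.mem_span_pair.mp hz
        have h := hLy.perp_self C m hm _ hzy
        simp [C.symm m u, hp m hm, hmq] at h
        subst h
        rw [zero_smul, add_zero] at hzy hz0
        exact huy ((Submodule.smul_mem_iff _ (fun h => hz0 (by rw [h, zero_smul]))).mp hzy)
      · rw [C.symm]
        exact h q (Submodule.subset_span (by simp)) m hm
    · push Not at hp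
      obtain ⟨m, hm, hum⟩ := hp
      obtain ⟨f, H⟩ := exists_hyp C C.ndeg_top (U := ⊤) trivial hu0 hu
      set A := Submodule.span F {u} ⊔ rl y
      obtain ⟨q, hQq, huq, hqA⟩ : ∃ q, Q q = 0 ∧ B u q = 0 ∧ q ∉ A := by
        by_contra! h
        have hW5 : 5 ≤ finrank F (perp2 B ⊤ u f) := by
          have := H.le_finrank C; rw [finrank_top, finrank_fintype_fun_eq_card] at this; omega
        have hle : perp2 B ⊤ u f ≤ A := (span_sing C (H.ndeg C C.ndeg_top) (by omega)).trans
          (Submodule.span_le.mpr fun z hz => h z hz.2 (mem_perp2.mp hz.1).2.1)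
        have h1 := Submodule.finrank_mono hle
        have h2 := Submodule.finrank_add_le_finrank_add_finrank (Submodule.span F {u}) (rl y)
        rw [finrank_span_singleton hu0, hLy.1] at h2
        have h2' : finrank F A ≤ 1 + 2 := h2
        omega
      refine ⟨q, hQq, huq, fun h => hqA (Submodule.mem_sup_left h), ?_, fun h => hum
        (h u (Submodule.subset_span (by simp)) m hm)⟩
      rintro ⟨z, hz0, hz, hzy⟩
      obtain ⟨a, b, rfl⟩ := Submodule.mem_span_pair.mp hz
      by_cases hb : b = 0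
      · subst hb
        rw [zero_smul, add_zero] at hzy hz0
        exact huy ((Submodule.smul_mem_iff _ (fun h => hz0 (by rw [h, zero_smul]))).mp hzy)
      · refine hqA ((Submodule.smul_mem_iff A hb).mp ?_)
        rw [show b • q = (a • u + b • q) - a • u by abel]
        exact Submodule.sub_mem _ (Submodule.mem_sup_right hzy) (Submodule.smul_mem _ _
          (Submodule.mem_sup_left (Submodule.mem_span_singleton_self u)))
  obtain ⟨z, hz, hzl⟩ := exists_root C (isSLine_span C hu0 hu hQq huq hqu)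
  have h1 := (hall z hz).1 (commute_of_com C hz hx (Or.inl ⟨u, hu0, by
    rw [hzl]; exact Submodule.subset_span (by simp), hux⟩))
  rw [commute_iff C hz hy, hzl] at h1
  exact h1.elim hdis hnp

omit [Finite F] in
theorem IsRootEl.mem {x : GL ι F} (h : IsRootEl Q B x) : x ∈ Root Q B ⊤ := by
  obtain ⟨e, w, -, he, -, hew, -, rfl⟩ := h
  exact sGL_mem_root trivial trivial he hew

omit [Finite F] in
theorem IsRootEl.ne_one {x : GL ι F} (h : IsRootEl Q B x) : x ≠ 1 := fun h1 => by
  have := (h.isSLine C).1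
  rw [h1, rl_one, finrank_bot] at this
  omega

omit [Finite F] in
theorem IsRootEl.pow_char {x : GL ι F} (h : IsRootEl Q B x) (p : ℕ) [CharP F p] : x ^ p = 1 := by
  obtain ⟨e, w, -, he, -, hew, -, rfl⟩ := h
  have hzero : sGL Q B e 0 = 1 := gl_ext fun z => by rw [sGL_act C he (map_zero _), C.zero]; simp
  have hk : ∀ k : ℕ, sGL Q B e w ^ k = sGL Q B e ((k : F) • w) := fun k => by
    induction k with
    | zero => rw [pow_zero, Nat.cast_zero, zero_smul, hzero]
    | succ k ih =>
      rw [pow_succ, ih, sGL_mul C he (by rw [map_smul, hew, smul_zero]) hew, Nat.cast_succ,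
        add_smul, one_smul]
  rw [hk, CharP.cast_eq_zero F p, zero_smul, hzero]

omit [Finite F] in
theorem IsRootEl.conj {x g : GL ι F} (h : IsRootEl Q B x) (hg : g ∈ isometryGroup F Q) :
    IsRootEl Q B (g * x * g⁻¹) := by
  obtain ⟨e, w, he0, he, hw, hew, hind, rfl⟩ := h
  refine ⟨g.val *ᵥ e, g.val *ᵥ w, act_ne_zero he0, by rw [mem_iso.mp hg, he], by rw [mem_iso.mp hg, hw],
    by rw [C.B_act hg, hew], fun hm => hind ?_, sGL_conj C he hew hg⟩
  obtain ⟨k, hk⟩ := Submodule.mem_span_singleton.mp hm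
  exact Submodule.mem_span_singleton.mpr ⟨k, act_injective g (by simpa [Matrix.mulVec_smul] using hk)⟩

end

end Cfsg.Lib.Linear.AutPO
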