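import Cfsg.Agent.Lib.Linear.AutPO.D4Out
import Cfsg.Agent.Lib.Chev.ParabCosets

/-!
# Triality: tools

Subgroups generated by root subgroups of `D₄(F)`, automorphisms permuting the root subgroups, twisted conjugacy in
groups of order prime to three, and the element of order dividing six in the group of a pair of opposite roots.
-/

set_option autoImplicit false
set_option linter.unusedSectionVars false
set_option maxRecDepth 100000
set_option maxHeartbeats 1600000
set_option quotPrecheck false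

namespace Cfsg.Lib.Linear.AutPO.Tri

open Cfsg.Lie
open Cfsg.Lib.Chev hiding isFieldAut_iff
open scoped MatrixGroups

universe u

/-! ### Twisted conjugacy -/

/-- An automorphism of period three of a group of order prime to three has only coboundaries among its cocycles. -/
theorem exists_twist {G : Type*} [Group G] [Finite G] (φ : G ≃* G) (hG : ¬ 3 ∣ Nat.card G) {u : G}
    (h3 : ∀ g, φ (φ (φ g)) = g) (hu : u * φ u * φ (φ u) = 1) : ∃ v, u = v * (φ v)⁻¹ := by
  classical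
  haveI : Fact (Nat.Prime 3) := ⟨Nat.prime_three⟩
  haveI := Fintype.ofFinite G
  let α : Equiv.Perm G := φ.toEquiv.trans (Equiv.mulLeft u)
  have hα : α ^ 3 ^ 1 = 1 := Equiv.ext fun g => by
    show u * φ (u * φ (u * φ g)) = g
    simp only [map_mul, h3]
    rw [← mul_assoc, ← mul_assoc, hu, one_mul]
  obtain ⟨v, hv⟩ := Equiv.Perm.exists_fixed_point_of_prime (by rwa [← Nat.card_eq_fintype_card]) hα
  exact ⟨v, eq_mul_inv_of_mul_eq hv⟩

/-- The same inside an ambient group. -/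
theorem exists_twist_mem {G : Type*} [Group G] [Finite G] (x : G ≃* G) (U : Subgroup G) (hU : ∀ g ∈ U, x g ∈ U)
    (hcard : ¬ 3 ∣ Nat.card U) {u : G} (hmem : u ∈ U) (h3 : ∀ g ∈ U, x (x (x g)) = g)
    (hu : u * x u * x (x u) = 1) : ∃ v ∈ U, u = v * (x v)⁻¹ := by
  let f : ↥U →* ↥U := (x.toMonoidHom.comp U.subtype).codRestrict U fun g => hU g g.2
  have hf : Function.Bijective f := Finite.injective_iff_bijective.1 fun a b e =>
    Subtype.ext (x.injective (congrArg Subtype.val e))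
  obtain ⟨v, hv⟩ := exists_twist (MulEquiv.ofBijective f hf) hcard (u := ⟨u, hmem⟩)
    (fun g => Subtype.ext (h3 g g.2)) (Subtype.ext hu)
  exact ⟨v, v.2, congrArg Subtype.val hv⟩

/-! ### Pairs of opposite roots -/

section Gadget

open SLTwoRel

/-- The element of order dividing six. -/
theorem pair_gadget {D : ChevalleyDatum} {T : Tbl} {F : Type*} [Field F] (C : Cert D T) {r : ℕ} (hr : r < D.nroots)
    (hne : T.neg r ≠ r) :
    (xg C r (1 : F) * xg C (T.neg r) (-1)) ^ 6 = 1 ∧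
      ¬ Commute (xg C r (1 : F)) ((xg C r (1 : F) * xg C (T.neg r) (-1)) ^ 2) := by
  set a := xg C r (1 : F) with ha
  set b := xg C (T.neg r) (-1 : F) with hb
  have ha' : (rootRel C hr).hom (upr (1 : F)) = a := (rootRel C hr).toFun'_upr 1
  have hb' : (rootRel C hr).hom (lwr (-1 : F)) = b := (rootRel C hr).toFun'_lwr (-1)
  have h3 : ((upr (1 : F) * lwr (-1) : SL(2, F)) ^ 3 : SL(2, F)).1 = !![-1, 0; 0, -1] := by
    simp only [pow_succ, pow_zero, one_mul, Matrix.SpecialLinearGroup.coe_mul]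
    ext i j
    fin_cases i <;> fin_cases j <;> simp [upr, lwr, Matrix.mul_apply, Fin.sum_univ_two]
  have h6 : (upr (1 : F) * lwr (-1) : SL(2, F)) ^ 6 = 1 := Subtype.ext (by
    rw [show (6 : ℕ) = 3 + 3 from rfl, pow_add, Matrix.SpecialLinearGroup.coe_mul, h3]
    ext i j
    fin_cases i <;> fin_cases j <;> simp [Matrix.mul_apply, Fin.sum_univ_two])
  have hcomm : Commute (upr (1 : F)) ((upr (1 : F) * lwr (-1)) ^ 3) := Subtype.ext (by
    rw [Matrix.SpecialLinearGroup.coe_mul, Matrix.SpecialLinearGroup.coe_mul, h3]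
    ext i j
    fin_cases i <;> fin_cases j <;> simp [upr, Matrix.mul_apply, Fin.sum_univ_two])
  refine ⟨by rw [← ha', ← hb', ← map_mul, ← map_pow, h6, map_one], fun h2 => ?_⟩
  have h3' : Commute a ((a * b) ^ 3) := by
    have := hcomm.map (rootRel C hr).hom
    rwa [map_pow, map_mul, ha', hb'] at this
  have h1 : Commute a (a * b) := by
    have := h2.inv_right.mul_right h3'
    rwa [show ((a * b) ^ 2)⁻¹ * (a * b) ^ 3 = a * b by group] at this
  have hab : Commute a b := by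
    have := h1.eq
    rw [mul_assoc a b a] at this
    exact mul_left_cancel this
  have hn : (rootRel C hr).n 1 = a * b * a := by
    rw [(rootRel C hr).n_eq 1 one_ne_zero, inv_one]; rfl
  have e : (rootRel C hr).n 1 * a * ((rootRel C hr).n 1)⁻¹ = b := (rootRel C hr).n_conj 1
  rw [hn, show a * b * a * a * (a * b * a)⁻¹ = a * (b * a) * b⁻¹ * a⁻¹ by group, ← hab.eq,
    show a * (a * b) * b⁻¹ * a⁻¹ = a by group] at e
  exact hne (xg_index C hr (C.spec.neg_lt r hr) one_ne_zero e).symm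

end Gadget

/-! ### Subgroups generated by root subgroups -/

variable {F : Type u} [Field F] [Fintype F]

local notation "CD" => (fullCertD4.comm.cert)
local notation "GL4" => GL chevD4.Idx F
local notation "GD" => ↥(chevD4.group F)
local notation "qD" => (QuotientGroup.mk' (Cfsg.Inn GD) : MulAut GD →* Cfsg.Out GD)

/-- Positive index. -/
def isP (r : ℕ) : Bool := Nat.ble 24 (2 * r)

/-- Inside the root subsystem of a set of nodes. -/
noncomputable def pLev (J : List ℕ) (r : ℕ) : Bool :=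
  allBelow (fun k => J.elem k || decide (tblD4.coroot r k = 0)) 4

/-- The roots of the unipotent radical. -/
noncomputable def pRad (J : List ℕ) (r : ℕ) : Bool := isP r && !pLev J r

/-- The roots of the opposite radical. -/
noncomputable def pNeg (J : List ℕ) (r : ℕ) : Bool := !isP r && !pLev J r

/-- The subgroup generated by the root subgroups in a set. -/
noncomputable def rsG (F : Type u) [Field F] (p : ℕ → Bool) : Subgroup ↥(chevD4.group F) :=
  Subgroup.closure {g | ∃ r t, r < 24 ∧ p r = true ∧ g = autEl CD r t}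

/-- The torus. -/
def tG (F : Type u) [Field F] : Subgroup ↥(chevD4.group F) := (chevD4.diagonalSubgroup F).subgroupOf (chevD4.group F)

/-- The Borel subgroup. -/
def bG (F : Type u) [Field F] : Subgroup ↥(chevD4.group F) := (chevD4.borelSubgroup F).subgroupOf (chevD4.group F)

/-- A parabolic subgroup. -/
def pG (F : Type u) [Field F] (J : List ℕ) : Subgroup ↥(chevD4.group F) :=
  (chevD4.parabolicSubgroup F {k | k ∈ J}).subgroupOf (chevD4.group F)

/-- A Levi subgroup. -/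
noncomputable def lG (F : Type u) [Field F] (J : List ℕ) : Subgroup ↥(chevD4.group F) := tG F ⊔ rsG F (pLev J)

theorem autEl_mem_rsG {p : ℕ → Bool} {r : ℕ} (hr : r < 24) (hp : p r = true) (t : F) :
    autEl CD r t ∈ rsG F p := Subgroup.subset_closure ⟨r, t, hr, hp, rfl⟩

theorem rsG_mono {p q : ℕ → Bool} (h : ∀ r < 24, p r = true → q r = true) : rsG F p ≤ rsG F q :=
  Subgroup.closure_mono fun _ ⟨r, t, hr, hp, e⟩ => ⟨r, t, hr, h r hr hp, e⟩

theorem rsG_coe (p : ℕ → Bool) : (rsG F p).map (chevD4.group F).subtype =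
    Subgroup.closure {g : GL4 | ∃ r t, r < 24 ∧ p r = true ∧ g = xg CD r t} := by
  rw [rsG, MonoidHom.map_closure]
  congr 1
  ext g
  constructor
  · rintro ⟨_, ⟨r, t, hr, hp, rfl⟩, rfl⟩; exact ⟨r, t, hr, hp, rfl⟩
  · rintro ⟨r, t, hr, hp, rfl⟩; exact ⟨_, ⟨r, t, hr, hp, rfl⟩, rfl⟩

theorem mem_rsG {p : ℕ → Bool} {g : GD} :
    g ∈ rsG F p ↔ (g : GL4) ∈ Subgroup.closure {g : GL4 | ∃ r t, r < 24 ∧ p r = true ∧ g = xg CD r t} := by
  rw [← rsG_coe, show ((g : GL4)) = (chevD4.group F).subtype g from rfl,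
    Subgroup.mem_map_iff_mem (chevD4.group F).subtype_injective]

theorem pLev_iff {J : List ℕ} {r : ℕ} (hr : r < 24) : pLev J r = true ↔ chevD4.InRootSub {k | k ∈ J} r := by
  rw [inRootSub_iff CD, pLev, allBelow_iff]
  simp only [Bool.or_eq_true, List.elem_iff, decide_eq_true_eq, Set.mem_ofPred_eq]
  exact ⟨fun h => ⟨hr, fun k hk hkJ => (h k hk).resolve_left hkJ⟩, fun h k hk => or_iff_not_imp_left.2 (h.2 k hk)⟩

theorem isP_iff {r : ℕ} (hr : r < 24) : isP r = true ↔ chevD4.IsPosRoot r := by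
  rw [(CD).isPos_iff (D := chevD4) hr, isP, Nat.ble_eq]
  rfl

theorem pRad_iff {J : List ℕ} {r : ℕ} (hr : r < 24) :
    pRad J r = true ↔ chevD4.IsPosRoot r ∧ ¬ chevD4.InRootSub {k | k ∈ J} r := by
  rw [pRad, Bool.and_eq_true, isP_iff hr, Bool.not_eq_true', ← pLev_iff hr, Bool.not_eq_true]

/-- The unipotent radical. -/
theorem mem_rad {J : List ℕ} {g : GD} :
    g ∈ rsG F (pRad J) ↔ (g : GL4) ∈ chevD4.unipotentRadical F {k | k ∈ J} := by
  rw [mem_rsG]
  refine iff_of_eq (congrArg (fun S : Subgroup GL4 => (g : GL4) ∈ S) (congrArg Subgroup.closure (Set.ext fun h => ?_)))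
  constructor
  · rintro ⟨r, t, hr, hp, rfl⟩
    obtain ⟨h1, h2⟩ := (pRad_iff hr).1 hp
    exact ⟨r, t, h1, h2, coe_xg CD r t⟩
  · rintro ⟨r, t, h1, h2, e⟩
    exact ⟨r, t, h1.1, (pRad_iff h1.1).2 ⟨h1, h2⟩, eq_xg CD e⟩

theorem mem_lev {J : List ℕ} {g : GD} : g ∈ lG F J ↔ (g : GL4) ∈ chevD4.leviSubgroup F {k | k ∈ J} := by
  have e : (lG F J).map (chevD4.group F).subtype = chevD4.leviSubgroup F {k | k ∈ J} := by
    rw [lG, Subgroup.map_sup, rsG_coe, tG, Subgroup.map_subgroupOf_eq_of_le (diag_le_group CD)]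
    refine congrArg₂ (· ⊔ ·) rfl (congrArg Subgroup.closure (Set.ext fun h => ?_))
    constructor
    · rintro ⟨r, t, hr, hp, rfl⟩
      exact ⟨r, t, (pLev_iff hr).1 hp, coe_xg CD r t⟩
    · rintro ⟨r, t, h1, e⟩
      exact ⟨r, t, h1.1, (pLev_iff h1.1).2 h1, eq_xg CD e⟩
  rw [← e, show ((g : GL4)) = (chevD4.group F).subtype g from rfl,
    Subgroup.mem_map_iff_mem (chevD4.group F).subtype_injective]

theorem rad_le_bG (J : List ℕ) : rsG F (pRad J) ≤ bG F := fun _ hg =>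
  Subgroup.mem_sup_left (radical_le_pos CD _ (mem_rad.1 hg))

theorem bG_le_pG (J : List ℕ) : bG F ≤ pG F J := fun _ hg => Subgroup.mem_sup_left hg

theorem lG_le_pG (J : List ℕ) : lG F J ≤ pG F J := fun g hg => by
  show (g : GL4) ∈ chevD4.parabolicSubgroup F _
  rw [← radical_sup_levi CD fullCertD4]
  exact Subgroup.mem_sup_right (mem_lev.1 hg)

theorem conj_mem_rad {J : List ℕ} {l g : GD} (hl : l ∈ pG F J) (hg : g ∈ rsG F (pRad J)) :
    l * g * l⁻¹ ∈ rsG F (pRad J) :=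
  mem_rad.2 ((Subgroup.mem_normalizer_iff.1 (parabolic_le_normalizer CD fullCertD4 _ hl) _).1 (mem_rad.1 hg))

theorem exists_rad_mul_lev {J : List ℕ} {g : GD} (hg : g ∈ pG F J) :
    ∃ u ∈ rsG F (pRad J), ∃ l ∈ lG F J, g = u * l := by
  have hg' : (g : GL4) ∈ chevD4.parabolicSubgroup F {k | k ∈ J} := hg
  rw [← radical_sup_levi CD fullCertD4, ← SetLike.mem_coe,
    Subgroup.coe_mul_of_right_le_normalizer_left _ _ (levi_le_normalizer CD fullCertD4 _)] at hg'
  obtain ⟨u, hu, l, hl, e⟩ := Set.mem_mul.1 hg'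
  have hu' : u ∈ chevD4.group F := pos_le_group CD (radical_le_pos CD _ hu)
  have hl' : l ∈ chevD4.group F := by
    rw [show l = u⁻¹ * g by rw [← e, inv_mul_cancel_left]]
    exact mul_mem (inv_mem hu') g.2
  exact ⟨⟨u, hu'⟩, mem_rad.2 hu, ⟨l, hl'⟩, mem_lev.2 hl, Subtype.ext e.symm⟩

theorem rad_inf_lev {J : List ℕ} {g : GD} (h1 : g ∈ rsG F (pRad J)) (h2 : g ∈ lG F J) : g = 1 :=
  Subtype.ext ((Subgroup.eq_bot_iff_forall _).1 (radical_inf_levi CD fullCertD4 {k | k ∈ J}) _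
    ⟨mem_rad.1 h1, mem_lev.1 h2⟩)

theorem mem_pG_of_normalizes {J : List ℕ} {g : GD} (h : ∀ u ∈ rsG F (pRad J), g * u * g⁻¹ ∈ rsG F (pRad J)) :
    g ∈ pG F J := by
  have hU : ∀ u ∈ chevD4.unipotentRadical F {k | k ∈ J}, u ∈ chevD4.group F := fun u hu =>
    pos_le_group CD (radical_le_pos CD _ hu)
  show (g : GL4) ∈ chevD4.parabolicSubgroup F _
  rw [← normalizer_radical CD fullCertD4]
  refine Subgroup.mem_inf.2 ⟨?_, g.2⟩
  have hs : (rsG F (pRad J)).map (MulAut.conj g).toMonoidHom = rsG F (pRad J) :=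
    Subgroup.eq_of_le_of_card_ge (by rintro _ ⟨u, hu, rfl⟩; exact h u hu)
      (Nat.card_congr ((rsG F (pRad J)).equivMapOfInjective _ (MulAut.conj g).injective).toEquiv).le
  refine Subgroup.mem_normalizer_iff.2 fun u => ⟨fun hu => mem_rad.1 (h ⟨u, hU u hu⟩ (mem_rad.2 hu)), fun hu => ?_⟩
  obtain ⟨w, hw, e⟩ : ∃ w ∈ rsG F (pRad J), g * w * g⁻¹ = (⟨(g : GL4) * u * (g : GL4)⁻¹, hU _ hu⟩ : GD) := by
    have hm : (⟨(g : GL4) * u * (g : GL4)⁻¹, hU _ hu⟩ : GD) ∈ (rsG F (pRad J)).map (MulAut.conj g).toMonoidHom := by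
      rw [hs]; exact mem_rad.2 hu
    obtain ⟨w, hw, e⟩ := hm
    exact ⟨w, hw, e⟩
  have := congrArg Subtype.val e
  simp only [Subgroup.coe_mul, Subgroup.coe_inv, mul_left_inj, mul_right_inj] at this
  exact this ▸ mem_rad.1 hw

/-- The parabolic subgroup meets the opposite radical trivially. -/
theorem pG_inf_neg {J : List ℕ} {g : GD} (h1 : g ∈ pG F J) (h2 : g ∈ rsG F (pNeg J)) : g = 1 := by
  classical
  set S : Set ℕ := {k | k ∈ J}
  obtain ⟨a, hlin, ha⟩ := exists_coef CD fullCertD4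
  let f : ℕ → ℤ := fun s => ∑ k ∈ (Finset.range chevD4.rank).filter (fun k => k ∉ J), a k s
  have hf : IsLin chevD4 tblD4 f := fun r s q i j h => by
    simp only [f, hlin _ r s q i j h, Finset.sum_add_distrib, Finset.mul_sum]
  have hf' : IsLin chevD4 tblD4 fun s => -f s := fun r s q i j h => by
    show -f q = i * -f r + j * -f s
    rw [hf r s q i j h]; ring
  have h0 : ∀ r, chevD4.InRootSub S r → f r = 0 := fun r hr => Finset.sum_eq_zero fun k hk => by
    simp only [Finset.mem_filter, Finset.mem_range] at hk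
    exact (ha r hr.1 k hk.1).1.1 (((inRootSub_iff CD).1 hr).2 k hk.1 hk.2)
  have hnn : ∀ r < chevD4.nroots, chevD4.nroots ≤ 2 * r → 0 ≤ f r ∧ (¬ chevD4.InRootSub S r → 1 ≤ f r) := by
    intro r hr hp
    have hnn : ∀ m ∈ (Finset.range chevD4.rank).filter (fun k => k ∉ J), 0 ≤ a m r := fun m hm => by
      simp only [Finset.mem_filter, Finset.mem_range] at hm
      exact (ha r hr m hm.1).2.1 (coroot_nonneg CD hr hp hm.1)
    refine ⟨Finset.sum_nonneg hnn, fun hn => ?_⟩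
    rw [inRootSub_iff CD] at hn
    push Not at hn
    obtain ⟨k, hk, hkJ, hne⟩ := hn hr
    have hk' : k ∈ (Finset.range chevD4.rank).filter (fun k => k ∉ J) := by exact Finset.mem_filter.2 ⟨Finset.mem_range.2 hk, hkJ⟩
    have := Finset.single_le_sum hnn hk'
    have : a k r ≠ 0 := fun e => hne ((ha r hr k hk).1.2 e)
    have := hnn k hk'
    show 1 ≤ f r
    simp only [f]; omega
  have h1' : chevD4.parabolicSubgroup F S ≤ gshiftGroup chevD4 F f 0 le_rfl := by
    rw [parabolic_eq CD fullCertD4]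
    refine sup_le (fun h hh => diag_mem_gshift CD hh) ((Subgroup.closure_le _).2 fun x ⟨r, t, hr, e⟩ => ?_)
    rw [eq_xg CD e]
    rcases hr with hr | hr
    · exact xg_mem_gshift CD hf hr.1 t (hnn r hr.1 (((CD).isPos_iff hr.1).1 hr)).1 _
    · exact xg_mem_gshift CD hf hr.1 t (h0 r hr).ge _
  have h2' : Subgroup.closure {g : GL4 | ∃ r t, r < 24 ∧ pNeg J r = true ∧ g = xg CD r t} ≤
      gshiftGroup chevD4 F (fun s => -f s) 1 zero_le_one := by
    refine (Subgroup.closure_le _).2 ?_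
    rintro _ ⟨r, t, hr, hp, rfl⟩
    have hr' : r < chevD4.nroots := hr
    simp only [pNeg, Bool.and_eq_true, Bool.not_eq_true', ← Bool.not_eq_true, pLev_iff hr, isP, Nat.ble_eq] at hp
    refine xg_mem_gshift CD hf' hr' t ?_ _
    have hn := (CD).spec.neg_lt r hr'
    have := (hnn _ hn ((fullCertD4).neg_pos_iff hr' |>.2 (show 2 * r < 24 by omega))).2 fun h =>
      hp.2 (by have := inRootSub_neg CD h; rwa [(CD).spec.neg_neg r hr'] at this)
    rw [isLin_neg CD hf hr'] at this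
    exact this
  refine Subtype.ext (Units.ext ?_)
  ext i j
  by_contra hne
  have hne' : (((g : GL4) : Matrix chevD4.Idx chevD4.Idx F) - 1) i j ≠ 0 := by
    rw [Matrix.sub_apply]; exact sub_ne_zero.2 hne
  have e1 := (h1' h1).1 i j hne'
  have e2 := (h2' (mem_rsG.1 h2)).1 i j hne'
  rcases i with i | i <;> rcases j with j | j <;> simp only [glev] at e1 e2 <;> omega

/-- The torus normalises the groups of root subgroups. -/
theorem conj_rsG {p : ℕ → Bool} {t g : GD} (ht : t ∈ tG F) (hg : g ∈ rsG F p) : t * g * t⁻¹ ∈ rsG F p := by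
  obtain ⟨χ, hχ⟩ := diag_conj_xg CD (show (t : GL4) ∈ chevD4.diagonalSubgroup F from ht)
  refine conj_mem_closure ?_ hg
  rintro _ ⟨r, s, hr, hp, rfl⟩
  rw [show t * autEl CD r s * t⁻¹ = autEl CD r (χ r * s) from Subtype.ext ((hχ r hr).2 s)]
  exact autEl_mem_rsG hr hp _

/-! ### Representatives of words -/

/-- The representatives of the fundamental reflections in the group. -/
noncomputable def nuEl (F : Type u) [Field F] (i : ℕ) : ↥(chevD4.group F) :=
  autEl CD (tblD4.simp' i) 1 * autEl CD (chevD4.neg (tblD4.simp' i)) (-(1 : F)⁻¹) * autEl CD (tblD4.simp' i) 1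

/-- The representative of a word in the group. -/
noncomputable def wel (F : Type u) [Field F] (w : List ℕ) : ↥(chevD4.group F) := (w.map (nuEl F)).prod

theorem coe_wel (w : List ℕ) : (wel F w : GL4) = wnu CD F w := by
  induction w with
  | nil => rfl
  | cons i w ih => rw [wel, List.map_cons, List.prod_cons, Subgroup.coe_mul, ← wel, ih, wnu_cons]; rfl

theorem wel_cons (i : ℕ) (w : List ℕ) : wel F (i :: w) = nuEl F i * wel F w := by simp [wel]

theorem wel_conj_autEl {w : List ℕ} (hw : IsWord chevD4 w) {r : ℕ} (hr : r < 24) :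
    ∃ c : F, c ≠ 0 ∧ ∀ t, wel F w * autEl CD r t * (wel F w)⁻¹ = autEl CD (wperm tblD4 w r) (c * t) := by
  obtain ⟨c, hc, hct⟩ := wnu_conj_xg CD (F := F) hw (s := r) hr
  refine ⟨c, left_ne_zero_of_mul (by rw [hc]; exact one_ne_zero), fun t => Subtype.ext ?_⟩
  rw [Subgroup.coe_mul, Subgroup.coe_mul, Subgroup.coe_inv, coe_wel]
  exact hct t

theorem wel_conj_rsG {w : List ℕ} (hw : IsWord chevD4 w) {p q : ℕ → Bool}
    (h : ∀ r < 24, p r = true → q (wperm tblD4 w r) = true) {g : GD} (hg : g ∈ rsG F p) :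
    wel F w * g * (wel F w)⁻¹ ∈ rsG F q := by
  have : rsG F p ≤ (rsG F q).comap (MulAut.conj (wel F w)).toMonoidHom := by
    refine (Subgroup.closure_le _).2 ?_
    rintro _ ⟨r, t, hr, hp, rfl⟩
    obtain ⟨c, -, hc⟩ := wel_conj_autEl (F := F) hw hr
    show wel F w * autEl CD r t * (wel F w)⁻¹ ∈ rsG F q
    rw [hc]
    exact autEl_mem_rsG (wperm_lt CD hw hr) (h r hr hp) _
  exact this hg

theorem wel_inv_conj_rsG {w : List ℕ} (hw : IsWord chevD4 w) {p q : ℕ → Bool}
    (h : ∀ r < 24, p r = true → q (wperm tblD4 w.reverse r) = true) {g : GD} (hg : g ∈ rsG F p) :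
    (wel F w)⁻¹ * g * wel F w ∈ rsG F q := by
  have : rsG F p ≤ (rsG F q).comap (MulAut.conj (wel F w)⁻¹).toMonoidHom := by
    refine (Subgroup.closure_le _).2 ?_
    rintro _ ⟨r, t, hr, hp, rfl⟩
    have hlt : wperm tblD4 w.reverse r < 24 := wperm_lt CD hw.reverse hr
    obtain ⟨c, hc0, hc⟩ := wel_conj_autEl (F := F) hw hlt
    have he : wperm tblD4 w (wperm tblD4 w.reverse r) = r := wperm_rev CD hw hr
    rw [he] at hc
    have e1 := hc (c⁻¹ * t)
    rw [← mul_assoc c, mul_inv_cancel₀ hc0, one_mul] at e1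
    show (wel F w)⁻¹ * autEl CD r t * ((wel F w)⁻¹)⁻¹ ∈ rsG F q
    rw [← e1, show (wel F w)⁻¹ * (wel F w * autEl CD (wperm tblD4 w.reverse r) (c⁻¹ * t) * (wel F w)⁻¹) *
      ((wel F w)⁻¹)⁻¹ = autEl CD (wperm tblD4 w.reverse r) (c⁻¹ * t) by group]
    exact autEl_mem_rsG hlt (h r hr hp) _
  exact this hg

theorem wel_conj_tG {w : List ℕ} (hw : IsWord chevD4 w) {t : GD} (ht : t ∈ tG F) :
    wel F w * t * (wel F w)⁻¹ ∈ tG F ∧ (wel F w)⁻¹ * t * wel F w ∈ tG F := by
  have h := conj_mem_diag CD (wnu_mem CD hw) (show (t : GL4) ∈ chevD4.diagonalSubgroup F from ht)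
  rw [← coe_wel] at h
  exact h

theorem tG_le_lG (J : List ℕ) : tG F ≤ lG F J := le_sup_left

theorem wel_conj_lG {w : List ℕ} (hw : IsWord chevD4 w) {J J' : List ℕ}
    (h : ∀ r < 24, pLev J r = true → pLev J' (wperm tblD4 w r) = true) {g : GD} (hg : g ∈ lG F J) :
    wel F w * g * (wel F w)⁻¹ ∈ lG F J' := by
  have : lG F J ≤ (lG F J').comap (MulAut.conj (wel F w)).toMonoidHom :=
    sup_le (fun t ht => tG_le_lG J' (wel_conj_tG hw ht).1)
      fun x hx => Subgroup.mem_sup_right (wel_conj_rsG hw h hx)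
  exact this hg

theorem wel_inv_conj_lG {w : List ℕ} (hw : IsWord chevD4 w) {J J' : List ℕ}
    (h : ∀ r < 24, pLev J r = true → pLev J' (wperm tblD4 w.reverse r) = true) {g : GD} (hg : g ∈ lG F J) :
    (wel F w)⁻¹ * g * wel F w ∈ lG F J' := by
  have : lG F J ≤ (lG F J').comap (MulAut.conj (wel F w)⁻¹).toMonoidHom :=
    sup_le (fun t ht => by simpa using tG_le_lG J' (wel_conj_tG hw ht).2)
      fun x hx => by
        show (wel F w)⁻¹ * x * ((wel F w)⁻¹)⁻¹ ∈ lG F J'
        rw [inv_inv]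
        exact Subgroup.mem_sup_right (wel_inv_conj_rsG hw h hx)
  simpa using this hg

/-! ### Automorphisms permuting the root subgroups -/

/-- An automorphism permuting the root subgroups, semilinearly on the fundamental ones. -/
structure IsMono (φ : MulAut GD) (ρ nd : ℕ → ℕ) : Prop where
  lt : ∀ r < 24, ρ r < 24
  nd_lt : ∀ i < 4, nd i < 4
  root : ∀ r < 24, ∀ t, ∃ s, φ (autEl CD r t) = autEl CD (ρ r) s
  simp : ∀ i < 4, ∃ (c : F) (σ : F ≃+* F), c ≠ 0 ∧
    (∀ t, φ (autEl CD (tblD4.simp' i) t) = autEl CD (tblD4.simp' (nd i)) (c * σ t)) ∧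
    ∀ t, φ (autEl CD (tblD4.neg (tblD4.simp' i)) t) = autEl CD (tblD4.neg (tblD4.simp' (nd i))) (c⁻¹ * σ t)

theorem IsMono.comp {φ φ' : MulAut GD} {ρ ρ' nd nd' : ℕ → ℕ} (h : IsMono φ ρ nd) (h' : IsMono φ' ρ' nd') :
    IsMono (φ * φ') (ρ ∘ ρ') (nd ∘ nd') where
  lt r hr := h.lt _ (h'.lt r hr)
  nd_lt i hi := h.nd_lt _ (h'.nd_lt i hi)
  root r hr t := by
    obtain ⟨s, hs⟩ := h'.root r hr t
    obtain ⟨s', hs'⟩ := h.root _ (h'.lt r hr) s
    exact ⟨s', by rw [MulAut.mul_apply, hs, hs']; rfl⟩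
  simp i hi := by
    obtain ⟨c', σ', hc', p', n'⟩ := h'.simp i hi
    obtain ⟨c, σ, hc, p, n⟩ := h.simp _ (h'.nd_lt i hi)
    refine ⟨c * σ c', σ'.trans σ, mul_ne_zero hc ((map_ne_zero σ).2 hc'), fun t => ?_, fun t => ?_⟩
    · rw [MulAut.mul_apply, p', p, map_mul, RingEquiv.trans_apply, mul_assoc]; rfl
    · rw [MulAut.mul_apply, n', n, map_mul, RingEquiv.trans_apply, mul_inv, map_inv₀, mul_assoc]; rfl

section Mono

variable {f : MulAut ↥(chevD4.group F)} {ρ nd : ℕ → ℕ} (hf : IsMono f ρ nd)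
include hf

theorem IsMono.map_rsG {p q : ℕ → Bool} (h : ∀ r < 24, p r = true → q (ρ r) = true) {g : GD}
    (hg : g ∈ rsG F p) : f g ∈ rsG F q := by
  have : rsG F p ≤ (rsG F q).comap f.toMonoidHom := by
    refine (Subgroup.closure_le _).2 ?_
    rintro _ ⟨r, t, hr, hp, rfl⟩
    obtain ⟨s, hs⟩ := hf.root r hr t
    show f (autEl CD r t) ∈ rsG F q
    rw [hs]
    exact autEl_mem_rsG (hf.lt r hr) (h r hr hp) _
  exact this hg

theorem IsMono.map_hg {i : ℕ} (hi : i < 4) {v : F} (hv : v ≠ 0) :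
    ∃ w : F, w ≠ 0 ∧ ∀ g : GD, (g : GL4) = hg CD (tblD4.simp' i) v → (f g : GL4) ∈ chevD4.diagonalSubgroup F := by
  obtain ⟨c, σ, hc, hp, hn⟩ := hf.simp i hi
  refine ⟨c, hc, fun g hgv => ?_⟩
  have hi' : tblD4.simp' i < chevD4.nroots := (CD).spec.simp_lt i hi
  have hj' : tblD4.simp' (nd i) < chevD4.nroots := (CD).spec.simp_lt _ (hf.nd_lt i hi)
  let ngEl : ℕ → F → GD := fun j v =>
    autEl CD (tblD4.simp' j) v * autEl CD (chevD4.neg (tblD4.simp' j)) (-v⁻¹) * autEl CD (tblD4.simp' j) v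
  have hcoe : ∀ j v, (ngEl j v : GL4) = ng CD (tblD4.simp' j) v := fun j v => rfl
  have him : ∀ v, f (ngEl i v) = ngEl (nd i) (c * σ v) := fun v => by
    show f (_ * _ * _) = _
    rw [map_mul, map_mul, (CD).spec.shape.neg_eq _ hi', hp, hn, map_neg, map_inv₀]
    show _ = autEl CD _ _ * autEl CD (chevD4.neg _) _ * autEl CD _ _
    rw [(CD).spec.shape.neg_eq _ hj', mul_inv, mul_neg]
  have hg' : g = ngEl i v * ngEl i (-1) := Subtype.ext (by rw [hgv, Subgroup.coe_mul, hcoe, hcoe]; rfl)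
  rw [hg', map_mul, him, him, Subgroup.coe_mul, hcoe, hcoe]
  have hσv : c * σ v ≠ 0 := mul_ne_zero hc ((map_ne_zero σ).2 hv)
  rw [ng_eq CD hj' (c * σ v), ng_eq CD hj' (c * σ (-1)), map_neg, map_one, mul_neg, mul_one]
  have hnc : -c ≠ 0 := neg_ne_zero.2 hc
  have hn1 : ng CD (tblD4.simp' (nd i)) (1 : F) ∈ chevD4.monomialSubgroup F := nu_mem CD _ (hf.nd_lt i hi)
  rw [show hg CD (tblD4.simp' (nd i)) (c * σ v) * ng CD _ 1 * (hg CD (tblD4.simp' (nd i)) (-c) * ng CD _ 1) =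
    hg CD (tblD4.simp' (nd i)) (c * σ v) * (ng CD (tblD4.simp' (nd i)) (1 : F) * hg CD (tblD4.simp' (nd i)) (-c) *
      (ng CD (tblD4.simp' (nd i)) (1 : F))⁻¹) * (ng CD (tblD4.simp' (nd i)) 1 * ng CD (tblD4.simp' (nd i)) 1) by group]
  refine mul_mem (mul_mem (hg_mem CD hj' hσv) (conj_mem_diag CD hn1 (hg_mem CD hj' hnc)).1) ?_
  have := nu_sq CD (F := F) (hf.nd_lt i hi)
  rw [nu] at this
  rw [this]
  exact hg_mem CD hj' (neg_ne_zero.2 one_ne_zero)

theorem IsMono.map_tG {g : GD} (hg' : g ∈ tG F) : f g ∈ tG F := by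
  classical
  let tor : (Fin chevD4.rank → Fˣ) →* GD := (torusHom chevD4 tblD4 F).codRestrict _ fun c =>
    diag_le_group CD (by rw [← torusHom_range CD]; exact ⟨c, rfl⟩)
  obtain ⟨c, hc⟩ : (g : GL4) ∈ (torusHom chevD4 tblD4 F).range := by rw [torusHom_range CD]; exact hg'
  have hmem : c ∈ (tG F).comap (f.toMonoidHom.comp tor) := by
    refine Subgroup.pi_mem_of_mulSingle_mem c fun i => ?_
    obtain ⟨w, -, hw⟩ := hf.map_hg (i := (i : ℕ)) i.2 (Units.ne_zero (c i))
    refine hw _ (Units.ext ?_)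
    show ((torusHom chevD4 tblD4 F (Pi.mulSingle i (c i)) : GL4) : Matrix chevD4.Idx chevD4.Idx F) = _
    rw [coe_torusHom, coe_hg_eq CD ((CD).spec.simp_lt i i.2) (Units.ne_zero _), coDiag_simple CD i.2,
      dModel_eq_scal (D := chevD4) i.2]
    refine congrArg Matrix.diagonal (funext fun s => ?_)
    rcases s with a | s
    · rfl
    simp only [Sum.elim_inr, chr]
    refine Finset.prod_congr rfl fun j hj => ?_
    rw [Finset.mem_range] at hj
    refine congrArg (· ^ tblD4.cartan j s) ?_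
    simp only [extend', dif_pos hj]
    by_cases e : j = (i : ℕ)
    · subst e; simp
    · rw [if_neg e, Pi.mulSingle_eq_of_ne (fun h => e (congrArg Fin.val h)), Units.val_one]
  have : tor c = g := Subtype.ext hc
  rw [← this]
  exact hmem

theorem IsMono.map_lG {J J' : List ℕ} (h : ∀ r < 24, pLev J r = true → pLev J' (ρ r) = true) {g : GD}
    (hg : g ∈ lG F J) : f g ∈ lG F J' := by
  have : lG F J ≤ (lG F J').comap f.toMonoidHom :=
    sup_le (fun t ht => tG_le_lG J' (hf.map_tG ht)) fun x hx => Subgroup.mem_sup_right (hf.map_rsG h hx)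
  exact this hg

theorem IsMono.map_nuEl {i : ℕ} (hi : i < 4) : ∃ t ∈ tG F, f (nuEl F i) = t * nuEl F (nd i) := by
  obtain ⟨c, σ, hc, hp, hn⟩ := hf.simp i hi
  have hi' : tblD4.simp' i < chevD4.nroots := (CD).spec.simp_lt i hi
  have hj' : tblD4.simp' (nd i) < chevD4.nroots := (CD).spec.simp_lt _ (hf.nd_lt i hi)
  refine ⟨⟨hg CD (tblD4.simp' (nd i)) c, diag_le_group CD (hg_mem CD hj' hc)⟩, hg_mem CD hj' hc, Subtype.ext ?_⟩
  rw [nuEl, map_mul, map_mul, (CD).spec.shape.neg_eq _ hi', hp, hn, map_one, map_neg, inv_one, map_one, mul_one,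
    mul_neg, mul_one, Subgroup.coe_mul, Subgroup.coe_mul, Subgroup.coe_mul]
  show _ = hg CD (tblD4.simp' (nd i)) c * ng CD (tblD4.simp' (nd i)) 1
  rw [← ng_eq CD hj' c, ng, (CD).spec.shape.neg_eq _ hj']
  rfl

theorem IsMono.map_wel {w : List ℕ} (hw : IsWord chevD4 w) :
    ∃ t ∈ tG F, f (wel F w) = t * wel F (w.map nd) := by
  induction w with
  | nil => exact ⟨1, one_mem _, by simp [wel]⟩
  | cons i w ih =>
    obtain ⟨hi, hw'⟩ := hw.tail
    obtain ⟨t, ht, e⟩ := ih hw'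
    obtain ⟨s, hs, e'⟩ := hf.map_nuEl (i := i) hi
    have hn : IsWord chevD4 [nd i] := fun j hj => List.mem_singleton.1 hj ▸ hf.nd_lt i hi
    have hconj : nuEl F (nd i) * t * (nuEl F (nd i))⁻¹ ∈ tG F := by
      have := (wel_conj_tG (F := F) hn ht).1
      rwa [show wel F [nd i] = nuEl F (nd i) by simp [wel]] at this
    refine ⟨s * (nuEl F (nd i) * t * (nuEl F (nd i))⁻¹), mul_mem hs hconj, ?_⟩
    rw [List.map_cons, wel_cons, wel_cons, map_mul, e, e']
    group

end Mono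

/-- The root permutation of the rotation of the end nodes. -/
def triR : ℕ → ℕ := symD4_3.root

/-- The node permutation of the rotation. -/
def triN (i : ℕ) : ℕ := [2, 1, 3, 0].getD i 0

/-- The rotation of the end nodes. -/
def triP : Equiv.Perm (Fin 3) := finRotate 3

theorem triP_node : ∀ i : Fin 4, (endPerm triP i : ℕ) = triN i ∧ symD4_3.node i = triN i := by decide +kernel

theorem mono_tri : IsMono (endGraph (F := F) triP) triR triN := by
  have hOK := symOK_of_chk (Cert.spec CD).shape chkSymD4_3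
  obtain ⟨α, hα⟩ := hOK.exists_groupAut CD (F := F)
  have hall : ∀ r < chevD4.nroots, ∀ t : F,
      α (autEl CD r t) = autEl CD (symD4_3.root r) ((symD4_3.eps r : ℤ) * t) := fun r hr t =>
    Subtype.ext ((hα _).trans (hOK.glHom_xg CD hr t))
  have hs : ∀ i < 4, ∀ t : F, α (autEl CD (tblD4.simp' i) t) = autEl CD (tblD4.simp' (triN i)) t ∧
      α (autEl CD (tblD4.neg (tblD4.simp' i)) t) = autEl CD (tblD4.neg (tblD4.simp' (triN i))) t := by
    intro i hi t
    rw [hall _ ((CD).spec.simp_lt i hi), hall _ ((CD).spec.neg_lt _ ((CD).spec.simp_lt i hi)), hOK.simple i hi,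
      hOK.root_neg _ ((CD).spec.simp_lt i hi), hOK.eps_neg _ ((CD).spec.simp_lt i hi), hOK.eps_simple i hi,
      hOK.simple i hi, (triP_node ⟨i, hi⟩).2]
    simp
  have heq : endGraph (F := F) triP = α := (endGraph_act (F := F) triP).unique CD
    ⟨fun i t => by rw [(hs i i.2 t).1, (triP_node i).1]; rfl, fun i t => by rw [(hs i i.2 t).2, (triP_node i).1]; rfl⟩
  rw [heq]
  refine ⟨hOK.root_lt, fun i hi => ?_, fun r hr t => ⟨_, hall r hr t⟩, fun i hi =>
    ⟨1, RingEquiv.refl F, one_ne_zero, fun t => by simpa using (hs i hi t).1, fun t => by simpa using (hs i hi t).2⟩⟩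
  rw [← (triP_node ⟨i, hi⟩).1]
  exact (endPerm triP ⟨i, hi⟩).2

theorem mono_diag (v : Fin chevD4.rank → Fˣ) : IsMono (diagOf CD autDataD4 v) id id where
  lt _ hr := hr
  nd_lt _ hi := hi
  root r hr t := by
    obtain ⟨χ, hχ, hδ⟩ := ((isDiagonalAut_iff CD autDataD4 _).2 ⟨v, rfl⟩ : chevD4.IsDiagonalAut (diagOf CD autDataD4 v))
    refine ⟨χ r * t, Subtype.ext (Units.ext ?_)⟩
    rw [hδ]
    exact charDiag_mul_x CD autDataD4.hlen autDataD4.step hχ hr t
  simp i hi := ⟨v ⟨i, hi⟩, RingEquiv.refl F, Units.ne_zero _,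
    fun t => (diagOf_act CD autDataD4 v).pos ⟨i, hi⟩ t,
    fun t => by
      rw [RingEquiv.refl_apply, ← Units.val_inv_eq_inv_val]
      exact (diagOf_act CD autDataD4 v).neg ⟨i, hi⟩ t⟩

theorem mono_field (σ : F ≃+* F) : IsMono (fieldOf CD σ) id id where
  lt _ hr := hr
  nd_lt _ hi := hi
  root r hr t := by
    obtain ⟨τ, hτ⟩ := ((Cfsg.Lib.Chev.isFieldAut_iff CD autDataD4 _).2 ⟨σ, rfl⟩ : chevD4.IsFieldAut (fieldOf CD σ))
    exact ⟨τ t, Subtype.ext (eq_xg CD (hτ (autEl CD r t) r t hr (coe_xg CD r t)))⟩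
  simp i hi := ⟨1, σ, one_ne_zero,
    fun t => by rw [one_mul]; exact (fieldOf_act CD autDataD4 σ).pos ⟨i, hi⟩ t,
    fun t => by rw [inv_one, one_mul]; exact (fieldOf_act CD autDataD4 σ).neg ⟨i, hi⟩ t⟩

/-- An automorphism of component `π` is inner times diagonal times graph times field. -/
theorem exists_conj_decomp {θ : MulAut GD} {π : Equiv.Perm (Fin 3)} (h : ∃ v σ,
    qD θ = d4DiagOut v * graphOut π * fieldOut σ) : ∃ k v σ,
    θ = MulAut.conj k * (diagOf CD autDataD4 v * endGraph π * fieldOf CD σ) := by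
  obtain ⟨v, σ, ho⟩ := h
  obtain ⟨k, hk⟩ : θ * (diagOf CD autDataD4 v * endGraph π * fieldOf CD σ)⁻¹ ∈ Cfsg.Inn GD := by
    rw [← QuotientGroup.eq_one_iff]
    show qD (θ * (diagOf CD autDataD4 v * endGraph π * fieldOf CD σ)⁻¹) = 1
    rw [map_mul, map_inv, mul_inv_eq_one, map_mul, map_mul]
    exact ho
  exact ⟨k, v, σ, eq_mul_of_mul_inv_eq hk.symm⟩

end Cfsg.Lib.Linear.AutPO.Tri
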