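import Cfsg.Agent.Lib.Linear.AutPO.TriKey
import Cfsg.Agent.Lib.Linear.AutPO.D4Comp
import Cfsg.Agent.Lib.Core.Cores

/-!
# Triality: no core

For an automorphism of order three of `D₄(F)` moving the end nodes, in characteristic other than three, the subgroups
of order prime to three of its centraliser normalised by its fixed points are trivial.
-/

set_option autoImplicit false
set_option linter.unusedSectionVars false
set_option maxRecDepth 100000
set_option maxHeartbeats 1600000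
set_option quotPrecheck false

namespace Cfsg.Lib.Linear.AutPO.Tri

open Cfsg.Lie
open scoped commutatorElement
open Cfsg.Lib.Chev hiding isFieldAut_iff

universe u

variable {F : Type u} [Field F] [Fintype F]

local notation "CD" => (fullCertD4.comm.cert)
local notation "KD" => fullCertD4
local notation "GL4" => GL chevD4.Idx F
local notation "GD" => ↥(chevD4.group F)
local notation "UR" => rsG F (pRad [1])
local notation "VR" => rsG F (pNeg [1])
local notation "PP" => pG F [1]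
local notation "LL" => lG F [1]
local notation "qD" => (QuotientGroup.mk' (Cfsg.Inn GD) : MulAut GD →* Cfsg.Out GD)

/-- The centre is trivial. -/
theorem conjD_injective : Function.Injective (MulAut.conj : GD →* MulAut GD) := by
  refine (injective_iff_map_eq_one _).2 fun g hg => ?_
  have hsimple := (Cfsg.Agent.S1054.result (F := F) chevD4 (by simp)).1
  have hmem : g ∈ Subgroup.center GD := Subgroup.mem_center_iff.2 fun y => by
    have := DFunLike.congr_fun hg y
    rw [MulAut.conj_apply, MulAut.one_apply, mul_inv_eq_iff_eq_mul] at this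
    exact this.symm
  rcases hsimple.eq_bot_or_eq_top_of_normal (Subgroup.center GD) inferInstance with hb | ht
  · rw [hb] at hmem; exact Subgroup.mem_bot.1 hmem
  exfalso
  have h18 : (18 : ℕ) < chevD4.nroots := by decide
  refine (pair_gadget (F := F) CD (D := chevD4) h18 (by decide +kernel)).2 ?_
  have hc : ∀ a b : GD, Commute a b := fun a b =>
    (Subgroup.mem_center_iff.1 (ht ▸ Subgroup.mem_top b : b ∈ Subgroup.center GD) a)
  exact (hc (autEl CD 18 1) ((autEl CD 18 1 * autEl CD (tblD4.neg 18) (-1)) ^ 2)).map (chevD4.group F).subtype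

/-- A subgroup of order prime to three normalised by another of order prime to three. -/
theorem not_three_dvd_sup {G : Type*} [Group G] [Finite G] {M Q : Subgroup G}
    (hn : Q ≤ Subgroup.normalizer (M : Set G)) (hM : ¬ 3 ∣ Nat.card M) (hQ : ¬ 3 ∣ Nat.card Q) :
    ¬ 3 ∣ Nat.card ↥(M ⊔ Q) := by
  haveI : (M.subgroupOf (M ⊔ Q)).Normal :=
    Subgroup.normal_subgroupOf_of_le_normalizer (sup_le Subgroup.le_normalizer hn)
  let f : ↥Q →* ↥(M ⊔ Q) ⧸ M.subgroupOf (M ⊔ Q) :=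
    (QuotientGroup.mk' _).comp (Subgroup.inclusion le_sup_right)
  have hf : Function.Surjective f := fun z => by
    obtain ⟨⟨y, hy⟩, rfl⟩ := QuotientGroup.mk_surjective z
    have hy' := hy
    rw [← SetLike.mem_coe, Subgroup.coe_mul_of_right_le_normalizer_left _ _ hn] at hy'
    obtain ⟨m, hm, q, hq, e⟩ := Set.mem_mul.1 hy'
    refine ⟨⟨q, hq⟩, QuotientGroup.eq.2 (Subgroup.mem_subgroupOf.2 ?_)⟩
    show q⁻¹ * y ∈ M
    rw [← e, ← mul_assoc]
    have := (Subgroup.mem_normalizer_iff.1 (inv_mem (hn hq)) m).1 hm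
    rwa [inv_inv] at this
  intro h
  rw [Subgroup.card_eq_card_quotient_mul_card_subgroup (M.subgroupOf (M ⊔ Q))] at h
  rcases (Nat.prime_three.dvd_mul).1 h with h | h
  · exact hQ (h.trans (Subgroup.card_dvd_of_surjective f hf))
  · rw [Nat.card_congr (Subgroup.subgroupOfEquivOfLe le_sup_left).toEquiv] at h
    exact hM h

/-- A subgroup of order prime to three of the centraliser, normalised by the fixed points. -/
structure CoreLike (x : MulAut GD) (M : Subgroup (MulAut GD)) : Prop where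
  comm : ∀ b ∈ M, ∀ g, b (x g) = x (b g)
  card : ¬ 3 ∣ Nat.card M
  norm : ∀ q, x q = q → ∀ b ∈ M, MulAut.conj q * b * (MulAut.conj q)⁻¹ ∈ M

theorem CoreLike.twin {x : MulAut GD} {M : Subgroup (MulAut GD)} (h : CoreLike x M) (m : GD) :
    CoreLike (MulAut.conj m⁻¹ * x * MulAut.conj m) (M.map (MulAut.conj (MulAut.conj m⁻¹)).toMonoidHom) := by
  refine ⟨?_, ?_, ?_⟩
  · rintro _ ⟨b, hb, rfl⟩ g
    show (MulAut.conj m⁻¹ * b * (MulAut.conj m⁻¹)⁻¹) ((MulAut.conj m⁻¹ * x * MulAut.conj m) g) =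
      (MulAut.conj m⁻¹ * x * MulAut.conj m) ((MulAut.conj m⁻¹ * b * (MulAut.conj m⁻¹)⁻¹) g)
    have hi : ∀ z, MulAut.conj m (MulAut.conj m⁻¹ z) = z := fun z => by simp [MulAut.conj_apply, mul_assoc]
    simp only [MulAut.mul_apply, ← map_inv MulAut.conj, inv_inv, hi, h.comm b hb]
  · rw [Nat.card_congr (M.equivMapOfInjective _ (MulAut.conj (MulAut.conj m⁻¹)).injective).symm.toEquiv]
    exact h.card
  · rintro q hq _ ⟨b, hb, rfl⟩
    have hq' : x (m * q * m⁻¹) = m * q * m⁻¹ := by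
      have := congrArg (fun z => m * z * m⁻¹) hq
      simp only [MulAut.mul_apply, MulAut.conj_apply, inv_inv] at this
      conv_rhs => rw [← this]
      group
    refine ⟨_, h.norm _ hq' b hb, ?_⟩
    show MulAut.conj m⁻¹ * (MulAut.conj (m * q * m⁻¹) * b * (MulAut.conj (m * q * m⁻¹))⁻¹) * (MulAut.conj m⁻¹)⁻¹ =
      MulAut.conj q * (MulAut.conj m⁻¹ * b * (MulAut.conj m⁻¹)⁻¹) * (MulAut.conj q)⁻¹
    simp only [map_mul, map_inv]
    group

theorem mono_diagField (v : Fin chevD4.rank → Fˣ) (σ : F ≃+* F) :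
    IsMono (diagOf CD autDataD4 v * fieldOf CD σ) id id := (mono_diag v).comp (mono_field σ)

theorem perm_of_comm : ∀ π : Equiv.Perm (Fin 3), π * triP = triP * π → π ^ 3 = 1 := by decide +kernel

section Main

variable {x : MulAut ↥(chevD4.group F)} (hx : TriAut x) {M : Subgroup (MulAut ↥(chevD4.group F))}
  (hM : CoreLike x M) (hperm : outPerm ((QuotientGroup.mk' (Cfsg.Inn ↥(chevD4.group F))) x) = triP)
include hx hM hperm

/-- The members are inner times diagonal times field. -/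
theorem core_decomp {b : MulAut GD} (hb : b ∈ M) :
    ∃ k v σ, b = MulAut.conj k * (diagOf CD autDataD4 v * fieldOf CD σ) := by
  obtain ⟨v, π, σ, ho⟩ := d4_surj (qD b)
  have hπ : π = 1 := by
    have e : outPerm (qD b) = π := outPerm_eq ho
    have hc : b * x = x * b := MulEquiv.ext fun g => hM.comm b hb g
    have h1 := congrArg (fun z => outPerm (qD z)) hc
    simp only [map_mul, e, hperm] at h1
    have h3 := perm_of_comm π h1
    have hn : π ^ Nat.card M = 1 := by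
      have : b ^ Nat.card M = 1 := congrArg Subtype.val (pow_card_eq_one' (x := (⟨b, hb⟩ : M)))
      rw [← e, ← map_pow, ← map_pow, this, map_one, map_one]
    have hd := Nat.dvd_gcd (orderOf_dvd_of_pow_eq_one h3) (orderOf_dvd_of_pow_eq_one hn)
    rw [(Nat.prime_three.coprime_iff_not_dvd.2 hM.card).gcd_eq_one, Nat.dvd_one, orderOf_eq_one_iff] at hd
    exact hd
  subst hπ
  obtain ⟨k, v', σ', e⟩ := exists_conj_decomp ⟨v, σ, ho⟩
  rw [map_one, mul_one] at e
  exact ⟨k, v', σ', e⟩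

/-- The members keep the radical. -/
theorem core_keeps_U (p : ℕ) [Fact p.Prime] [CharP F p] (hp3 : p ≠ 3) {b : MulAut GD} (hb : b ∈ M) {u : GD}
    (hu : u ∈ UR) : b u ∈ UR := by
  obtain ⟨k, v, σ, e⟩ := core_decomp hx hM hperm hb
  set ψ := diagOf CD autDataD4 v * fieldOf CD σ
  have hψ := mono_diagField (F := F) v σ
  have hψU : ∀ z ∈ UR, ψ z ∈ UR := fun z hz => hψ.map_rsG (by decide +kernel) hz
  have hbk : ∀ z, b z = k * ψ z * k⁻¹ := fun z => by rw [e]; rfl
  by_cases hk : k ∈ PP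
  · rw [hbk]; exact conj_mem_rad hk (hψU u hu)
  exfalso
  have hkeep : AutKeeps ψ UR := autKeeps_of_le CD hψU
  -- the image of the radical is fixed
  have hgx : k⁻¹ * x k ∈ PP := mem_pG_of_normalizes fun w hw => by
    let f : ↥(rsG F (pRad [1])) → ↥(rsG F (pRad [1])) := fun z => ⟨x (ψ z), hx.map_U (hψU z z.2)⟩
    obtain ⟨z, hz⟩ := (Finite.injective_iff_surjective (f := f)).1
      (fun a b e => Subtype.ext (ψ.injective (x.injective (congrArg Subtype.val e)))) ⟨w, hw⟩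
    have hz' : x (ψ z) = w := congrArg Subtype.val hz
    have h1 := hψU _ (hx.map_U z.2)
    rwa [show ψ (x z) = k⁻¹ * x k * w * (k⁻¹ * x k)⁻¹ by
      have := hM.comm b hb z
      rw [hbk, hbk, map_mul, map_mul, map_inv, hz'] at this
      rw [show ψ (x z) = k⁻¹ * (k * ψ (x z) * k⁻¹) * k by group, this]
      group] at h1
  let Q : Subgroup GD := UR ⊓ MonoidHom.eqLocus x.toMonoidHom (MonoidHom.id GD)
  let N : Subgroup (MulAut GD) := M ⊔ Q.map MulAut.conj
  have hQn : Q.map MulAut.conj ≤ Subgroup.normalizer (M : Set (MulAut GD)) := by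
    rintro _ ⟨q, hq, rfl⟩
    have hq' : x q = q := hq.2
    refine Subgroup.mem_normalizer_iff.2 fun y => ⟨fun hy => hM.norm q hq' y hy, fun hy => ?_⟩
    have := hM.norm q⁻¹ (by rw [map_inv, hq']) _ hy
    rwa [show MulAut.conj q⁻¹ * (MulAut.conj q * y * (MulAut.conj q)⁻¹) * (MulAut.conj q⁻¹)⁻¹ = y by
      rw [map_inv]; group] at this
  have hN : ¬ 3 ∣ Nat.card N := not_three_dvd_sup hQn hM.card fun h => by
    have h1 := h.trans (Subgroup.card_map_dvd _ _)
    exact not_three_dvd_rsG p hp3 (fun r _ hr => (Bool.and_eq_true _ _ ▸ hr : _ ∧ _).1)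
      (h1.trans (Subgroup.card_dvd_of_le (inf_le_left : Q ≤ UR)))
  obtain ⟨z, hz, hz6, hz2⟩ := key_coset p hp3 hx hk hgx (H := N.comap MulAut.conj)
    (fun z hz hf => Subgroup.mem_sup_right ⟨z, ⟨hz, hf⟩, rfl⟩)
    (fun z hz hf => by
      obtain ⟨w, rfl⟩ := b.surjective z
      have hw : w ∈ UR := (hkeep w).1 (by
        rwa [hbk, show k⁻¹ * (k * ψ w * k⁻¹) * k = ψ w by group] at hz)
      have hfw : x w = w := b.injective ((hM.comm b hb w).trans hf)
      show MulAut.conj (b w) ∈ N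
      have : MulAut.conj (b w) = b * MulAut.conj w * b⁻¹ := MulEquiv.ext fun g => by
        simp [MulAut.mul_apply, MulAut.conj_apply, map_mul]
      rw [this]
      exact mul_mem (mul_mem (Subgroup.mem_sup_left hb) (Subgroup.mem_sup_right ⟨w, ⟨hw, hfw⟩, rfl⟩))
        (inv_mem (Subgroup.mem_sup_left hb)))
  set y : N := ⟨MulAut.conj z, hz⟩
  have h6 : y ^ 6 = 1 := Subtype.ext (by rw [SubgroupClass.coe_pow, ← map_pow, hz6, map_one]; rfl)
  have h2 : y ^ 2 = 1 := orderOf_eq_one_iff.1 (Nat.eq_one_of_dvd_coprimes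
    (Nat.prime_three.coprime_iff_not_dvd.2 hN)
    (orderOf_dvd_of_pow_eq_one (by rw [← pow_mul]; exact h6)) (orderOf_dvd_natCard _))
  refine hz2 (conjD_injective ?_)
  rw [map_pow, map_one]
  exact congrArg Subtype.val h2

end Main

theorem opp_conj_UR {g : GD} (hg : g ∈ UR) : wel F wOpp * g * (wel F wOpp)⁻¹ ∈ VR :=
  wel_conj_rsG wOpp_word (fun r hr hp => by
    rw [(wperm_opp hr).1]
    exact (show ∀ r < 24, pRad [1] r = true → pNeg [1] (tblD4.neg r) = true by decide +kernel) r hr hp) hg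

theorem opp_conj_VR {g : GD} (hg : g ∈ VR) : (wel F wOpp)⁻¹ * g * wel F wOpp ∈ UR :=
  wel_inv_conj_rsG wOpp_word (fun r hr hp => by
    rw [(wperm_opp hr).2]
    exact (show ∀ r < 24, pNeg [1] r = true → pRad [1] (tblD4.neg r) = true by decide +kernel) r hr hp) hg

section Rigid

variable (p : ℕ) [Fact p.Prime] [CharP F p] (hp3 : p ≠ 3)
include hp3

/-- The members fix the root elements of the ends. -/
theorem core_fix_pos {x : MulAut GD} (hx : TriAut x) {M : Subgroup (MulAut GD)} (hM : CoreLike x M)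
    (hperm : outPerm (qD x) = triP)
    (hV : ∀ b ∈ M, ∀ v ∈ VR, b v ∈ VR) {b : MulAut GD} (hb : b ∈ M) :
    ∀ i, i = 0 ∨ i = 2 ∨ i = 3 → ∀ r < 24, (pRad [1] r && pLev [1, i] r) = true → ∀ t,
      b (autEl CD r t) = autEl CD r t := by
  have hU : ∀ b ∈ M, ∀ u ∈ UR, b u ∈ UR := fun b hb u hu => core_keeps_U hx hM hperm p hp3 hb hu
  -- the fixed points of the radical are centralised
  have hQ : ∀ q ∈ UR, x q = q → b q = q := fun q hq hf => by
    have hmem : MulAut.conj (b q * q⁻¹) ∈ M := by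
      have : MulAut.conj (b q * q⁻¹) = b * (MulAut.conj q * b⁻¹ * (MulAut.conj q)⁻¹) := MulEquiv.ext fun g => by
        simp [MulAut.mul_apply, MulAut.conj_apply, map_mul, map_inv, mul_assoc]
      rw [this]
      exact mul_mem hb (hM.norm q hf _ (inv_mem hb))
    exact mul_inv_eq_one.1 (rad_eq_one_of_norm (mul_mem (hU b hb q hq) (inv_mem hq)) fun v hv => hV _ hmem v hv)
  -- the shape of the member
  obtain ⟨k, v, σ, e⟩ := core_decomp hx hM hperm hb
  set ψ := diagOf CD autDataD4 v * fieldOf CD σ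
  have hψ := mono_diagField (F := F) v σ
  have hbk : ∀ z, b z = k * ψ z * k⁻¹ := fun z => by rw [e]; rfl
  have honto : ∀ S : Subgroup GD, (∀ z ∈ S, ψ z ∈ S) → ∀ w ∈ S, ∃ z ∈ S, ψ z = w := fun S hS w hw => by
    let f : ↥S → ↥S := fun z => ⟨ψ z, hS z z.2⟩
    obtain ⟨z, hz⟩ := (Finite.injective_iff_surjective (f := f)).1
      (fun a b e => Subtype.ext (ψ.injective (congrArg Subtype.val e))) ⟨w, hw⟩
    exact ⟨z, z.2, congrArg Subtype.val hz⟩
  have hkP : k ∈ PP := mem_pG_of_normalizes fun w hw => by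
    obtain ⟨z, hz, rfl⟩ := honto UR (fun z hz => hψ.map_rsG (by decide +kernel) hz) w hw
    rw [← hbk]
    exact hU b hb z hz
  obtain ⟨k1, hk1, l, hl, ek⟩ := exists_rad_mul_lev hkP
  have hk1' : k1 = 1 := rad_eq_one_of_norm hk1 fun w hw => by
    obtain ⟨z, hz, hzw⟩ := honto VR (fun z hz => hψ.map_rsG (by decide +kernel) hz) (l⁻¹ * w * l) (by
      have := levi_norm_VR (inv_mem hl) hw
      rwa [inv_inv] at this)
    have := hV b hb z hz
    rwa [hbk, ek, hzw, show k1 * l * (l⁻¹ * w * l) * (k1 * l)⁻¹ = k1 * w * k1⁻¹ by group] at this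
  rw [hk1', one_mul] at ek
  subst ek
  have hb_rs : ∀ i, i = 0 ∨ i = 2 ∨ i = 3 → (∀ z ∈ lG F [1, i], b z ∈ lG F [1, i]) ∧
      (∀ z ∈ rsG F (pRad [1, i]), b z ∈ rsG F (pRad [1, i])) := by
    intro i hi
    have hkL : k ∈ lG F [1, i] := by
      have : lG F [1] ≤ lG F [1, i] := sup_le_sup_left (rsG_mono (by
        rcases hi with rfl | rfl | rfl <;> decide +kernel)) _
      exact this hl
    refine ⟨fun z hz => ?_, fun z hz => ?_⟩ <;> rw [hbk]
    · exact mul_mem (mul_mem hkL (hψ.map_lG (fun r _ h => h) hz)) (inv_mem hkL)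
    · exact conj_mem_rad (lG_le_pG _ hkL) (hψ.map_rsG (fun r _ h => h) hz)
  intro i hi r hr hpD t
  simp only [Bool.and_eq_true] at hpD
  set z := autEl CD r t with hz
  set i1 := triN i with hi1
  set i2 := triN (triN i) with hi2
  have hi1' : i1 = 0 ∨ i1 = 2 ∨ i1 = 3 := by rcases hi with rfl | rfl | rfl <;> decide
  have hi2' : i2 = 0 ∨ i2 = 2 ∨ i2 = 3 := by rcases hi with rfl | rfl | rfl <;> decide
  have hzL : z ∈ lG F [1, i] := Subgroup.mem_sup_right (autEl_mem_rsG hr hpD.2 t)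
  have hzR : ∀ j, j = i1 ∨ j = i2 → z ∈ rsG F (pRad [1, j]) := fun j hj => autEl_mem_rsG hr (by
    have key : ∀ r < 24, ∀ i, (i = 0 ∨ i = 2 ∨ i = 3) → pRad [1] r = true → pLev [1, i] r = true →
        pRad [1, triN i] r = true ∧ pRad [1, triN (triN i)] r = true := by
      intro r hr i hi
      rcases hi with rfl | rfl | rfl <;> revert r <;> decide +kernel
    rcases hj with rfl | rfl
    exacts [(key r hr i hi hpD.1 hpD.2).1, (key r hr i hi hpD.1 hpD.2).2]) t
  have hmR : ∀ j, (j = 0 ∨ j = 2 ∨ j = 3) → ∀ g ∈ rsG F (pRad [1, j]), x g ∈ rsG F (pRad [1, triN j]) := by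
    intro j hj g hg
    refine hx.map_rs ?_ (fun l' hl' w hw => conj_mem_rad ?_ hw) hg
    · rcases hj with rfl | rfl | rfl <;> decide +kernel
    · have : lG F [1] ≤ lG F [1, triN j] := sup_le_sup_left (rsG_mono (by
        rcases hj with rfl | rfl | rfl <;> decide +kernel)) _
      exact lG_le_pG _ (this hl')
  have hmL : ∀ j, (j = 0 ∨ j = 2 ∨ j = 3) → ∀ g ∈ lG F [1, j], x g ∈ lG F [1, triN j] := by
    intro j hj g hg
    obtain ⟨l', hl', phi, hphi, ex⟩ := hx.ex
    have : lG F [1] ≤ lG F [1, triN j] := sup_le_sup_left (rsG_mono (by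
        rcases hj with rfl | rfl | rfl <;> decide +kernel)) _
    rw [ex, conj_mul_apply]
    refine mul_mem (mul_mem (this hl') (hphi.map_lG ?_ hg)) (inv_mem (this hl'))
    rcases hj with rfl | rfl | rfl <;> decide +kernel
  have h3 : triN i2 = i := by rcases hi with rfl | rfl | rfl <;> decide
  have hz1L : x z ∈ lG F [1, i1] := hmL i hi z hzL
  have hz2L : x (x z) ∈ lG F [1, i2] := hmL i1 hi1' _ hz1L
  have hz1R : x z ∈ rsG F (pRad [1, i2]) ∧ x z ∈ rsG F (pRad [1, i]) :=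
    ⟨hmR i1 hi1' z (hzR i1 (Or.inl rfl)), h3 ▸ hmR i2 hi2' z (hzR i2 (Or.inr rfl))⟩
  have hz2R : x (x z) ∈ rsG F (pRad [1, i]) ∧ x (x z) ∈ rsG F (pRad [1, i1]) :=
    ⟨h3 ▸ hmR i2 hi2' _ hz1R.1, hmR i hi _ hz1R.2⟩
  set w := z * x z * x (x z) with hw
  set d := w⁻¹ * x w with hd
  have hxw : x w = x z * x (x z) * z := by rw [hw, map_mul, map_mul, hx.per]
  have both : ∀ (j : ℕ) {a y c a' c' : GD}, y ∈ lG F [1, j] → a ∈ rsG F (pRad [1, j]) → c ∈ rsG F (pRad [1, j]) →
      a' ∈ rsG F (pRad [1, j]) → c' ∈ rsG F (pRad [1, j]) → (a * y * c)⁻¹ * (a' * y * c') ∈ rsG F (pRad [1, j]) := by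
    intro j a y c a' c' hy ha hc ha' hc'
    have := mul_mem (mul_mem (inv_mem hc)
      (conj_mem_rad (inv_mem (lG_le_pG _ hy)) (mul_mem (inv_mem ha) ha'))) hc'
    rwa [show c⁻¹ * (y⁻¹ * (a⁻¹ * a') * y⁻¹⁻¹) * c' = (a * y * c)⁻¹ * (a' * y * c') by group] at this
  set U2 := rsG F (pRad [1, 0]) ⊓ rsG F (pRad [1, 2]) ⊓ rsG F (pRad [1, 3]) with hU2
  have hU2iff : ∀ g, g ∈ rsG F (pRad [1, i]) → g ∈ rsG F (pRad [1, i1]) → g ∈ rsG F (pRad [1, i2]) → g ∈ U2 := by
    intro g h h1 h2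
    simp only [hi1, hi2] at h1 h2
    rcases hi with rfl | rfl | rfl
    exacts [⟨⟨h, h1⟩, h2⟩, ⟨⟨h2, h⟩, h1⟩, ⟨⟨h1, h2⟩, h⟩]
  have hdU : d ∈ U2 := by
    refine hU2iff d ?_ ?_ ?_
    · have := both i hzL (one_mem _) (mul_mem hz1R.2 hz2R.1) (mul_mem hz1R.2 hz2R.1) (one_mem _)
      rwa [show (1 * z * (x z * x (x z)))⁻¹ * (x z * x (x z) * z * 1) = d by rw [hd, hxw, hw]; group] at this
    · have := both i1 hz1L (hzR i1 (Or.inl rfl)) hz2R.2 (one_mem _) (mul_mem hz2R.2 (hzR i1 (Or.inl rfl)))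
      rwa [show (z * x z * x (x z))⁻¹ * (1 * x z * (x (x z) * z)) = d by rw [hd, hxw, hw]; group] at this
    · have := both i2 hz2L (mul_mem (hzR i2 (Or.inr rfl)) hz1R.1) (one_mem _) hz1R.1 (hzR i2 (Or.inr rfl))
      rwa [show (z * x z * x (x z) * 1)⁻¹ * (x z * x (x z) * z) = d by rw [hd, hxw, hw]; group] at this
  have hU2x : ∀ g ∈ U2, x g ∈ U2 := fun g hg =>
    ⟨⟨hmR 3 (Or.inr (Or.inr rfl)) g hg.2, hmR 0 (Or.inl rfl) g hg.1.1⟩, hmR 2 (Or.inr (Or.inl rfl)) g hg.1.2⟩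
  have hU2le : U2 ≤ UR := le_trans (inf_le_left.trans inf_le_left) (rsG_mono (by decide +kernel))
  obtain ⟨c, hc, ec⟩ := exists_twist_mem x U2 hU2x
    (fun h => not_three_dvd_rsG p hp3 (fun r _ hr => (Bool.and_eq_true _ _ ▸ hr : _ ∧ _).1)
      (h.trans (Subgroup.card_dvd_of_le hU2le))) hdU (fun g _ => hx.per g) (by
      simp only [hd, map_mul, map_inv, hx.per]
      group)
  have hwU : w ∈ UR := mul_mem (mul_mem (autEl_mem_rsG hr hpD.1 t) (hx.map_U (autEl_mem_rsG hr hpD.1 t)))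
    (hx.map_U (hx.map_U (autEl_mem_rsG hr hpD.1 t)))
  have hfix : x (w * c) = w * c := by
    rw [map_mul, show x w = w * d by rw [hd]; group, ec]; group
  have key := hQ _ (mul_mem hwU (hU2le hc)) hfix
  obtain ⟨hbL, hbR⟩ := hb_rs i hi
  have hcR : c ∈ rsG F (pRad [1, i]) := by
    rcases hi with rfl | rfl | rfl
    exacts [hc.1.1, hc.1.2, hc.2]
  have hρ : x z * x (x z) * c ∈ rsG F (pRad [1, i]) := mul_mem (mul_mem hz1R.2 hz2R.1) hcR
  have e2 : z⁻¹ * b z = (x z * x (x z) * c) * (b (x z * x (x z) * c))⁻¹ := by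
    rw [show w * c = z * (x z * x (x z) * c) by rw [hw]; group, map_mul] at key
    rw [inv_mul_eq_iff_eq_mul, ← mul_assoc, ← key, mul_inv_cancel_right]
  have h1 := rad_inf_lev (J := [1, i]) (g := z⁻¹ * b z) (e2 ▸ mul_mem hρ (inv_mem (hbR _ hρ)))
    (mul_mem (inv_mem hzL) (hbL z hzL))
  exact (inv_mul_eq_one.1 h1).symm

/-- A subgroup of order prime to three normalised by the fixed points is trivial. -/
theorem core_trivial {x : MulAut GD} (hx : TriAut x) {M : Subgroup (MulAut GD)} (hM : CoreLike x M)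
    (hperm : outPerm (qD x) = triP) : M = ⊥ := by
  set W := wel F wOpp with hW
  set x' := MulAut.conj W⁻¹ * x * MulAut.conj W with hx'
  set M' := M.map (MulAut.conj (MulAut.conj W⁻¹)).toMonoidHom with hM'
  have hxT : TriAut x' := hx.opp
  have hMT : CoreLike x' M' := hM.twin W
  have hperm' : outPerm (qD x') = triP := by
    have hi : ∀ g : GD, qD (MulAut.conj g) = 1 := fun g => (QuotientGroup.eq_one_iff _).2 ⟨g, rfl⟩
    rw [hx', map_mul qD, map_mul qD, hi, hi, one_mul, mul_one, hperm]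
  have hmem : ∀ b ∈ M, MulAut.conj W⁻¹ * b * (MulAut.conj W⁻¹)⁻¹ ∈ M' := fun b hb => ⟨b, hb, rfl⟩
  have happ : ∀ (b : MulAut GD) (g : GD),
      (MulAut.conj W⁻¹ * b * (MulAut.conj W⁻¹)⁻¹) g = W⁻¹ * b (W * g * W⁻¹) * W := fun b g => by
    rw [← map_inv MulAut.conj, inv_inv]
    show W⁻¹ * b (W * g * W⁻¹) * W⁻¹⁻¹ = _
    rw [inv_inv]
  have hV : ∀ b ∈ M, ∀ v ∈ VR, b v ∈ VR := fun b hb v hv => by
    have h := opp_conj_UR (core_keeps_U hxT hMT hperm' p hp3 (hmem b hb) (opp_conj_VR hv))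
    rwa [happ, show W * (W⁻¹ * v * W) * W⁻¹ = v by group, show W * (W⁻¹ * b v * W) * W⁻¹ = b v by group] at h
  have hV' : ∀ b' ∈ M', ∀ v ∈ VR, b' v ∈ VR := by
    rintro _ ⟨b, hb, rfl⟩ v hv
    show (MulAut.conj W⁻¹ * b * (MulAut.conj W⁻¹)⁻¹) v ∈ VR
    rw [happ]
    have h1 : W * v * W⁻¹ ∈ UR := wel_conj_rsG wOpp_word (fun r hr hp => by
      rw [(wperm_opp hr).1]
      exact (show ∀ r < 24, pNeg [1] r = true → pRad [1] (tblD4.neg r) = true by decide +kernel) r hr hp) hv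
    exact wel_inv_conj_rsG wOpp_word (fun r hr hp => by
      rw [(wperm_opp hr).2]
      exact (show ∀ r < 24, pRad [1] r = true → pNeg [1] (tblD4.neg r) = true by decide +kernel) r hr hp)
      (core_keeps_U hx hM hperm p hp3 hb h1)
  refine (Subgroup.eq_bot_iff_forall _).2 fun b hb => ?_
  have hpos : ∀ i, i = 0 ∨ i = 2 ∨ i = 3 → ∀ r < 24, (pRad [1] r && pLev [1, i] r) = true → ∀ t,
      b (autEl CD r t) = autEl CD r t := core_fix_pos p hp3 hx hM hperm hV hb
  have hneg : ∀ i, i = 0 ∨ i = 2 ∨ i = 3 → ∀ r < 24, (pRad [1] r && pLev [1, i] r) = true → ∀ t,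
      b (autEl CD (tblD4.neg r) t) = autEl CD (tblD4.neg r) t := by
    intro i hi r hr hp t
    obtain ⟨c, hc0, hc⟩ := wel_conj_autEl (F := F) wOpp_word hr
    have h := core_fix_pos p hp3 hxT hMT hperm' hV' (hmem b hb) i hi r hr hp (c⁻¹ * t)
    have e := hc (c⁻¹ * t)
    rw [← mul_assoc c, mul_inv_cancel₀ hc0, one_mul, (wperm_opp hr).1] at e
    rw [happ] at h
    rw [← hW] at e
    rw [← e]
    conv_rhs => rw [← h]
    group
  -- the middle node
  have hmid : ∀ r s k : ℕ, r < 24 → s < 24 → s ≠ r → s ≠ tblD4.neg r → ∀ c : ℤ, (c = 1 ∨ c = -1) →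
      tTerms tblD4 r s = [(k, c, 1, 1)] → (∀ t, b (autEl CD r t) = autEl CD r t) →
      (∀ t, b (autEl CD s t) = autEl CD s t) → ∀ t, b (autEl CD k t) = autEl CD k t := by
    intro r s k hr hs h1 h2 c hc e fr fs t
    have hc0 : (c : F) ≠ 0 := by rcases hc with rfl | rfl <;> simp
    have h := comm_xg_prod CD (KD).comm (D := chevD4) hr hs h1 h2 (-(t * (c : F)⁻¹)) 1
    rw [e] at h
    simp only [List.map_cons, List.map_nil, List.prod_cons, List.prod_nil, mul_one, pow_one, neg_neg] at h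
    have ht : (c : F) * (t * (c : F)⁻¹) = t := by field_simp
    rw [ht] at h
    have hk : autEl CD k t = ⁅(autEl CD s (1 : F))⁻¹, (autEl CD r (-(t * (c : F)⁻¹)))⁻¹⁆ := Subtype.ext h.symm
    rw [hk, map_commutatorElement, map_inv, map_inv, fr, fs]
  have h0 := fun t => hpos 0 (Or.inl rfl) (tblD4.simp' 0) ((CD).spec.simp_lt 0 (by decide)) (by decide +kernel) t
  have h0' := fun t => hneg 0 (Or.inl rfl) (tblD4.simp' 0) ((CD).spec.simp_lt 0 (by decide)) (by decide +kernel) t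
  have hsum : tblD4.refl' 1 (tblD4.simp' 0) < 24 := (CD).spec.refl_lt 1 (by decide) _ ((CD).spec.simp_lt 0 (by decide))
  have hsp := fun t => hpos 0 (Or.inl rfl) _ hsum (by decide +kernel) t
  have hsn := fun t => hneg 0 (Or.inl rfl) _ hsum (by decide +kernel) t
  have h1p : ∀ t, b (autEl CD (tblD4.simp' 1) t) = autEl CD (tblD4.simp' 1) t := by
    obtain ⟨c, hc, e⟩ : ∃ c : ℤ, (c = 1 ∨ c = -1) ∧
        tTerms tblD4 (tblD4.refl' 1 (tblD4.simp' 0)) (tblD4.neg (tblD4.simp' 0)) = [(tblD4.simp' 1, c, 1, 1)] := by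
      by_cases h : tTerms tblD4 (tblD4.refl' 1 (tblD4.simp' 0)) (tblD4.neg (tblD4.simp' 0)) =
          [(tblD4.simp' 1, 1, 1, 1)]
      · exact ⟨1, Or.inl rfl, h⟩
      · exact ⟨-1, Or.inr rfl, by revert h; decide +kernel⟩
    exact hmid _ _ _ hsum ((CD).spec.neg_lt _ ((CD).spec.simp_lt 0 (by decide))) (by decide +kernel)
      (by decide +kernel) c hc e hsp h0'
  have h1n : ∀ t, b (autEl CD (tblD4.neg (tblD4.simp' 1)) t) = autEl CD (tblD4.neg (tblD4.simp' 1)) t := by
    obtain ⟨c, hc, e⟩ : ∃ c : ℤ, (c = 1 ∨ c = -1) ∧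
        tTerms tblD4 (tblD4.neg (tblD4.refl' 1 (tblD4.simp' 0))) (tblD4.simp' 0) =
          [(tblD4.neg (tblD4.simp' 1), c, 1, 1)] := by
      by_cases h : tTerms tblD4 (tblD4.neg (tblD4.refl' 1 (tblD4.simp' 0))) (tblD4.simp' 0) =
          [(tblD4.neg (tblD4.simp' 1), 1, 1, 1)]
      · exact ⟨1, Or.inl rfl, h⟩
      · exact ⟨-1, Or.inr rfl, by revert h; decide +kernel⟩
    exact hmid _ _ _ ((CD).spec.neg_lt _ hsum) ((CD).spec.simp_lt 0 (by decide)) (by decide +kernel)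
      (by decide +kernel) c hc e hsn h0
  have hall : ∀ i < 4, ∀ t, b (autEl CD (tblD4.simp' i) t) = autEl CD (tblD4.simp' i) t ∧
      b (autEl CD (tblD4.neg (tblD4.simp' i)) t) = autEl CD (tblD4.neg (tblD4.simp' i)) t := by
    intro i hi t
    have hlt := (CD).spec.simp_lt i hi
    interval_cases i
    · exact ⟨h0 t, h0' t⟩
    · exact ⟨h1p t, h1n t⟩
    · exact ⟨hpos 2 (Or.inr (Or.inl rfl)) _ hlt (by decide +kernel) t,
        hneg 2 (Or.inr (Or.inl rfl)) _ hlt (by decide +kernel) t⟩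
    · exact ⟨hpos 3 (Or.inr (Or.inr rfl)) _ hlt (by decide +kernel) t,
        hneg 3 (Or.inr (Or.inr rfl)) _ hlt (by decide +kernel) t⟩
  exact RootAct.unique CD (π := id) (φ := fun _ t => t) (ψ := fun _ t => t)
    ⟨fun i t => (hall i i.2 t).1, fun i t => (hall i i.2 t).2⟩ ⟨fun _ _ => rfl, fun _ _ => rfl⟩

end Rigid

/-- **Triality has no core.** -/
theorem tri_core_eq_bot (p : ℕ) [Fact p.Prime] [CharP F p] (hp3 : p ≠ 3) (A : Subgroup (MulAut GD))
    (hinn : ∀ k : GD, MulAut.conj k ∈ A) {x : MulAut GD} (h3 : x ^ 3 = 1) (hperm : outPerm (qD x) ≠ 1) :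
    Cfsg.pPrimeCore 3 ↥(A ⊓ Subgroup.centralizer {x}) = ⊥ := by
  classical
  haveI : Fact (Nat.Prime 3) := ⟨Nat.prime_three⟩
  set S := A ⊓ Subgroup.centralizer {x} with hS
  set M := (Cfsg.pPrimeCore 3 ↥S).map S.subtype with hMdef
  have hM : CoreLike x M := by
    refine ⟨?_, ?_, ?_⟩
    · rintro _ ⟨⟨b, hb⟩, -, rfl⟩ g
      exact DFunLike.congr_fun (Subgroup.mem_centralizer_singleton_iff.1 hb.2) g
    · rw [hMdef, Nat.card_congr ((Cfsg.pPrimeCore 3 ↥S).equivMapOfInjective _ S.subtype_injective).symm.toEquiv]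
      exact Core.pPrimeCore_not_dvd 3 ↥S
    · rintro q hq _ ⟨b, hb, rfl⟩
      have hqS : MulAut.conj q ∈ S := ⟨hinn q, Subgroup.mem_centralizer_singleton_iff.2 (MulEquiv.ext fun g => by
        simp [MulAut.mul_apply, MulAut.conj_apply, map_mul, hq])⟩
      exact ⟨⟨MulAut.conj q, hqS⟩ * b * ⟨MulAut.conj q, hqS⟩⁻¹,
        (inferInstance : (Cfsg.pPrimeCore 3 ↥S).Normal).conj_mem b hb _, rfl⟩
  suffices key : ∀ (y : MulAut GD) (M : Subgroup (MulAut GD)), (∀ g, y (y (y g)) = g) → outPerm (qD y) = triP →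
      CoreLike y M → M = ⊥ by
    suffices hb : M = ⊥ from (Subgroup.map_eq_bot_iff_of_injective _ S.subtype_injective).1 hb
    have hper : ∀ g, x (x (x g)) = g := fun g => DFunLike.congr_fun h3 g
    have hcases : ∀ π : Equiv.Perm (Fin 3), π ≠ 1 → π ^ 3 = 1 → π = triP ∨ π⁻¹ = triP := by decide +kernel
    rcases hcases _ hperm (by rw [← map_pow, ← map_pow, h3, map_one, map_one]) with h | h
    · exact key x M hper h hM
    · refine key x⁻¹ M (fun g => ?_) (by rw [map_inv, map_inv, h]) ⟨fun b hb g => ?_, hM.card, fun q hq => hM.norm q ?_⟩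
      · apply x.injective; rw [MulAut.apply_inv_self]
        apply x.injective; rw [MulAut.apply_inv_self]
        apply x.injective; rw [MulAut.apply_inv_self, hper]
      · apply x.injective
        rw [MulAut.apply_inv_self, ← hM.comm b hb, MulAut.apply_inv_self]
      · conv_lhs => rw [← hq]
        exact MulAut.apply_inv_self _ x q
  intro y M hper hy hM
  obtain ⟨v, π, σ, ho⟩ := d4_surj (qD y)
  obtain rfl : π = triP := (outPerm_eq ho).symm.trans hy
  obtain ⟨k, v', σ', e⟩ := exists_conj_decomp ⟨v, σ, ho⟩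
  have hphi : IsMono (diagOf CD autDataD4 v' * endGraph triP * fieldOf CD σ') triR triN :=
    ((mono_diag v').comp mono_tri).comp (mono_field σ')
  obtain ⟨g, hg⟩ := exists_triAut p hp3 hphi e hper
  have hperm' : outPerm (qD (MulAut.conj g⁻¹ * y * MulAut.conj g)) = triP := by
    have hi : ∀ g : GD, qD (MulAut.conj g) = 1 := fun g => (QuotientGroup.eq_one_iff _).2 ⟨g, rfl⟩
    rw [map_mul qD, map_mul qD, hi, hi, one_mul, mul_one, hy]
  exact (Subgroup.map_eq_bot_iff_of_injective _ (MulAut.conj (MulAut.conj g⁻¹)).injective).1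
    (core_trivial p hp3 hg (hM.twin g) hperm')

end Cfsg.Lib.Linear.AutPO.Tri
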