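import Cfsg.Agent.Lib.Linear.AutPO.TriBase
import Cfsg.Agent.Lib.Chev.WeylD4

/-!
# Triality: a fixed conjugate in a parabolic subgroup

Galleries of a fixed type in the building, counted modulo the characteristic, give a fixed point of trace one; the
cells left are reduced to the parabolic subgroup of the middle node.
-/

set_option autoImplicit false
set_option linter.unusedSectionVars false
set_option maxRecDepth 100000
set_option maxHeartbeats 1600000
set_option quotPrecheck false

namespace Cfsg.Lib.Linear.AutPO.Tri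

open Cfsg.Lie
open Cfsg.Lib.Chev hiding isFieldAut_iff

universe u

variable {F : Type u} [Field F] [Fintype F]

local notation "CD" => (fullCertD4.comm.cert)
local notation "KD" => fullCertD4
local notation "GL4" => GL chevD4.Idx F
local notation "GD" => ↥(chevD4.group F)

/-! ### Parabolic subgroups from root subgroups -/

/-- The roots of a parabolic subgroup. -/
noncomputable def pPar (J : List ℕ) (r : ℕ) : Bool := isP r || pLev J r

theorem pG_eq (J : List ℕ) : pG F J = tG F ⊔ rsG F (pPar J) := by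
  apply Subgroup.map_injective (chevD4.group F).subtype_injective
  have hle : chevD4.parabolicSubgroup F {k | k ∈ J} ≤ chevD4.group F := by
    rw [← normalizer_radical CD KD]
    exact inf_le_right
  rw [pG, Subgroup.map_subgroupOf_eq_of_le hle, Subgroup.map_sup, rsG_coe, tG,
    Subgroup.map_subgroupOf_eq_of_le (diag_le_group CD), parabolic_eq CD KD]
  refine congrArg₂ (· ⊔ ·) rfl (congrArg Subgroup.closure (Set.ext fun h => ?_))
  constructor
  · rintro ⟨r, t, hr, e⟩
    have hr' : r < 24 := hr.elim (fun h => h.1) (fun h => h.1)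
    refine ⟨r, t, hr', ?_, eq_xg CD e⟩
    rw [pPar, Bool.or_eq_true, isP_iff hr', pLev_iff hr']
    exact hr
  · rintro ⟨r, t, hr, hp, rfl⟩
    rw [pPar, Bool.or_eq_true, isP_iff hr, pLev_iff hr] at hp
    exact ⟨r, t, hp, coe_xg CD r t⟩

theorem pG_nil : pG F [] = bG F := by
  refine congrArg (fun S : Subgroup GL4 => S.subgroupOf (chevD4.group F)) ?_
  rw [ChevalleyDatum.parabolicSubgroup]
  refine sup_eq_left.2 ((Subgroup.closure_le _).2 ?_)
  rintro g ⟨j, hj, -⟩
  exact absurd hj List.not_mem_nil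

theorem IsMono.map_pG {φ : MulAut GD} {ρ nd : ℕ → ℕ} (hφ : IsMono φ ρ nd) {J J' : List ℕ}
    (h : ∀ r < 24, pPar J r = true → pPar J' (ρ r) = true) {g : GD} (hg : g ∈ pG F J) : φ g ∈ pG F J' := by
  have hle : tG F ⊔ rsG F (pPar J) ≤ (tG F ⊔ rsG F (pPar J')).comap φ.toMonoidHom :=
    sup_le (fun t ht => Subgroup.mem_sup_left (hφ.map_tG ht))
      fun x hx => Subgroup.mem_sup_right (hφ.map_rsG h hx)
  rw [pG_eq] at hg ⊢
  exact hle hg

/-! ### Words -/

/-- All the elements of the Weyl group. -/
noncomputable def allD4 : List (List ℕ) := allW (nth ([], []) weylD4) 4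

theorem exists_rep {w : List ℕ} (hw : IsWord chevD4 w) :
    ∃ u ∈ allD4, IsWord chevD4 u ∧ SamePerm chevD4 tblD4 u w := by
  obtain ⟨u, hu, h⟩ := allW_complete CD KD chkWeylD4 4 le_rfl w hw
  exact ⟨u, hu, (allW_below CD KD chkWeylD4 4 le_rfl u hu).isWord le_rfl, h⟩

/-- The smaller of two cells next to each other. -/
noncomputable def nxt (v : List ℕ) (i : ℕ) : List ℕ := bif isP (wperm tblD4 v (tblD4.simp' i)) then v else v ++ [i]

/-- A word fixing all fundamental roots. -/
noncomputable def fixAll (v : List ℕ) : Bool :=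
  allBelow (fun k => Nat.beq (wperm tblD4 v (tblD4.simp' k)) (tblD4.simp' k)) 4

/-- Whether a cell is met by galleries of a type, read backwards. -/
noncomputable def fR : List ℕ → List ℕ → Bool
  | [], v => fixAll v
  | i :: w, v => fR w (nxt v i)

/-- All steps go up. -/
noncomputable def upOK : List ℕ → List ℕ → Bool
  | _, [] => true
  | v, i :: w => isP (wperm tblD4 v (tblD4.simp' i)) && upOK (v ++ [i]) w

theorem isWord_single {i : ℕ} (hi : i < 4) : IsWord chevD4 [i] := fun _ hj => List.mem_singleton.1 hj ▸ hi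

theorem isWord_of_all {w : List ℕ} (h : (w.all fun i => Nat.blt i 4) = true) : IsWord chevD4 w :=
  fun i hi => by have := List.all_eq_true.1 h i hi; rw [Nat.blt_eq] at this; exact this

theorem isWord_map {w : List ℕ} {f : ℕ → ℕ} (hf : ∀ i < 4, f i < 4) (hw : IsWord chevD4 w) :
    IsWord chevD4 (w.map f) := fun i hi => by
  obtain ⟨j, hj, rfl⟩ := List.mem_map.1 hi
  exact hf j (hw j hj)

theorem isWord_nil : IsWord chevD4 [] := fun _ h => absurd h List.not_mem_nil

theorem fixAll_iff {v : List ℕ} (hv : IsWord chevD4 v) : fixAll v = true ↔ SamePerm chevD4 tblD4 v [] := by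
  rw [fixAll, allBelow_iff]
  simp only [Nat.beq_eq]
  exact ⟨fun h => samePerm_of_simple CD KD hv isWord_nil h, fun h k hk => h _ ((CD).spec.simp_lt k hk)⟩

theorem fR_congr : ∀ (w : List ℕ), IsWord chevD4 w → ∀ {v v' : List ℕ}, SamePerm chevD4 tblD4 v v' →
    fR w v = fR w v'
  | [], _, v, v', e => by
    show fixAll v = fixAll v'
    rw [Bool.eq_iff_iff, fixAll, fixAll, allBelow_iff, allBelow_iff]
    exact forall₂_congr fun k hk => by rw [e _ ((CD).spec.simp_lt k hk)]
  | i :: w, hw, v, v', e => by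
    show fR w (nxt v i) = fR w (nxt v' i)
    refine fR_congr w hw.tail.2 ?_
    rw [nxt, nxt, ← e _ ((CD).spec.simp_lt i hw.tail.1)]
    cases isP (wperm tblD4 v (tblD4.simp' i))
    · exact SamePerm.append_right CD (isWord_single hw.tail.1) e
    · exact e

/-! ### Cells in the group -/

/-- An element lies in the cell of a word. -/
def InCell (g : GD) (v : List ℕ) : Prop := (g : GL4) ∈ bCell CD F v

theorem inCell_mul {g x y : GD} {v : List ℕ} (hx : x ∈ bG F) (hy : y ∈ bG F) (h : InCell g v) :
    InCell (x * g * y) v := bCell_mul CD hx hy h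

theorem inCell_congr {g : GD} {v v' : List ℕ} (hv : IsWord chevD4 v) (hv' : IsWord chevD4 v')
    (e : SamePerm chevD4 tblD4 v v') (h : InCell g v) : InCell g v' := bCell_congr CD KD hv hv' e h

theorem inCell_wel {x y : GD} (hx : x ∈ bG F) (hy : y ∈ bG F) (v : List ℕ) : InCell (x * wel F v * y) v :=
  ⟨(x : GL4), hx, (y : GL4), hy, by rw [Subgroup.coe_mul, Subgroup.coe_mul, coe_wel]⟩

theorem inCell_elim {g : GD} {v : List ℕ} (h : InCell g v) :
    ∃ x ∈ bG F, ∃ y ∈ bG F, g = x * wel F v * y := by
  obtain ⟨x, hx, y, hy, e⟩ := h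
  exact ⟨⟨x, borel_le_group CD hx⟩, hx, ⟨y, borel_le_group CD hy⟩, hy,
    Subtype.ext (by rw [Subgroup.coe_mul, Subgroup.coe_mul, coe_wel]; exact e)⟩

theorem wel_nil : wel F ([] : List ℕ) = 1 := rfl

theorem wel_single (i : ℕ) : wel F [i] = nuEl F i := by simp [wel]

theorem wel_append (v w : List ℕ) : wel F (v ++ w) = wel F v * wel F w := by simp [wel]

theorem inCell_nil {g : GD} : InCell g [] ↔ g ∈ bG F := by
  refine ⟨fun h => ?_, fun h => ?_⟩
  · obtain ⟨x, hx, y, hy, rfl⟩ := inCell_elim h
    rw [wel_nil, mul_one]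
    exact mul_mem hx hy
  · simpa [wel_nil] using inCell_wel h (one_mem (bG F)) []

theorem exists_cell (g : GD) : ∃ v, IsWord chevD4 v ∧ InCell g v := by
  obtain ⟨w, hw, b, hb, c, hc, e⟩ := bruhat_normal CD KD g.2
  exact ⟨w, hw, b, hb, c, signPart_le_borel CD KD _ _ hc, e⟩

theorem inCell_add_one {i : ℕ} (hi : i < 4) {v : List ℕ} (hv : IsWord chevD4 v)
    (h : isP (wperm tblD4 v (tblD4.simp' i)) = true) {g y : GD} (hy : y ∈ bG F) (hg : InCell g v) :
    InCell (g * y * nuEl F i) (v ++ [i]) := by
  obtain ⟨x, hx, z, hz, rfl⟩ := inCell_elim hg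
  rw [isP, Nat.ble_eq] at h
  have h1 : InCell (wel F v * (z * y) * nuEl F i) (v ++ [i]) := by
    show ((wel F v * (z * y) * nuEl F i : GD) : GL4) ∈ _
    rw [Subgroup.coe_mul, Subgroup.coe_mul, coe_wel]
    exact bCell_add_one CD KD hi hv h (mul_mem hz hy)
  have := inCell_mul hx (one_mem _) h1
  rwa [mul_one, show x * (wel F v * (z * y) * nuEl F i) = x * wel F v * z * y * nuEl F i by group] at this

theorem mul_inCell : ∀ (w : List ℕ) {v : List ℕ} {g h : GD}, IsWord chevD4 v → IsWord chevD4 w →
    upOK v w = true → InCell g v → InCell h w → InCell (g * h) (v ++ w)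
  | [], v, g, h, _, _, _, hg, hh => by
    rw [List.append_nil]
    have := inCell_mul (one_mem _) (inCell_nil.1 hh) hg
    rwa [one_mul] at this
  | i :: w, v, g, h, hv, hw, hu, hg, hh => by
    obtain ⟨x, hx, y, hy, rfl⟩ := inCell_elim hh
    simp only [upOK, Bool.and_eq_true] at hu
    have h1 := inCell_add_one hw.tail.1 hv hu.1 hx hg
    have h2 := mul_inCell w (hv.append (isWord_single hw.tail.1)) hw.tail.2 hu.2 h1
      (inCell_wel (one_mem _) hy w)
    rw [List.append_assoc] at h2
    rwa [wel_cons, show g * (x * (nuEl F i * wel F w) * y) = g * x * nuEl F i * (1 * wel F w * y) by group]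

theorem samePerm_of_cells {g : GD} {v v' : List ℕ} (hv : IsWord chevD4 v) (hv' : IsWord chevD4 v')
    (h : InCell g v) (h' : InCell g v') : SamePerm chevD4 tblD4 v v' := bCell_disjoint CD KD hv hv' h h'

theorem inCell_nu_left {i : ℕ} (hi : i < 4) {v : List ℕ} (hv : IsWord chevD4 v) {g : GD} (hg : InCell g v) :
    InCell (nuEl F i * g) v ∨ InCell (nuEl F i * g) (i :: v) := bCell_nu_left CD KD hi hv hg

theorem inCell_nu_right {i : ℕ} (hi : i < 4) {v : List ℕ} (hv : IsWord chevD4 v) {g : GD} (hg : InCell g v) :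
    InCell (g * nuEl F i) v ∨ InCell (g * nuEl F i) (v ++ [i]) := bCell_nu_right CD KD hi hv hg

/-- The cells of a minimal parabolic subgroup. -/
theorem pG_single_cells {i : ℕ} (hi : i < 4) {g : GD} (hg : g ∈ pG F [i]) : InCell g [] ∨ InCell g [i] := by
  have h0 : (1 : GL4) ∈ pCells CD F {k | k ∈ [i]} [] (∅ : Set ℕ) :=
    ⟨[], [], inW_nil _, inW_nil _, 1, one_mem _, 1, one_mem _, by simp [wnu]⟩
  obtain ⟨a, b, ha, hb, hc⟩ := by
    have := pCells_left CD KD isWord_nil h0 (show (g : GL4) ∈ chevD4.parabolicSubgroup F {k | k ∈ [i]} from hg)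
    rwa [mul_one] at this
  obtain rfl : b = [] := by
    cases b with
    | nil => rfl
    | cons j b => exact absurd (hb.2 j (List.mem_cons_self ..)) (Set.notMem_empty j)
  simp only [List.nil_append, List.append_nil] at hc
  have key : ∀ a : List ℕ, (∀ x ∈ a, x = i) →
      SamePerm chevD4 tblD4 a [] ∨ SamePerm chevD4 tblD4 a [i] := by
    intro a
    induction a with
    | nil => exact fun _ => Or.inl SamePerm.rfl'
    | cons j a ih =>
      intro h
      obtain rfl : j = i := h j (List.mem_cons_self ..)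
      rcases ih fun x hx => h x (List.mem_cons_of_mem _ hx) with e | e
      · exact Or.inr fun s hs => congrArg (tblD4.refl' j) (e s hs)
      · exact Or.inl fun s hs => (congrArg (tblD4.refl' j) (e s hs)).trans ((CD).spec.refl_refl j hi s hs)
  rcases key a fun x hx => List.mem_singleton.1 (ha.2 x hx) with e | e
  · exact Or.inl (inCell_congr ha.1 isWord_nil e hc)
  · exact Or.inr (inCell_congr ha.1 (isWord_single hi) e hc)

theorem wel_mem_pG {i : ℕ} (hi : i < 4) {J : List ℕ} (hJ : i ∈ J) : nuEl F i ∈ pG F J := by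
  have h := mem_parabolic_of_word CD KD (F := F) (J := {k | k ∈ J})
    (inW_single (D := chevD4) hi (show i ∈ {k | k ∈ J} from hJ))
  rw [← coe_wel, wel_single] at h
  exact h

/-! ### Neighbours of a chamber -/

/-- The chambers. -/
abbrev Ch (F : Type u) [Field F] : Type u := ↥(chevD4.group F) ⧸ bG F

theorem out_mk (g : GD) : ∃ b ∈ bG F, (QuotientGroup.mk g : Ch F).out = g * b := by
  obtain ⟨b, hb⟩ := QuotientGroup.mk_out_eq_mul (bG F) g
  exact ⟨b, b.2, hb⟩

/-- A neighbour. -/
noncomputable def nbr (i : ℕ) (z : Ch F) : Option F → Ch F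
  | none => z
  | some t => QuotientGroup.mk (z.out * autEl CD (tblD4.simp' i) t * nuEl F i)

theorem simp_mem_bG {i : ℕ} (hi : i < 4) (t : F) : autEl CD (tblD4.simp' i) t ∈ bG F :=
  xg_mem_borel CD ((CD).spec.simp_lt i hi) ((KD).simple_pos hi) t

theorem single_ne_nil : ∀ i : Fin 4, fixAll [(i : ℕ)] = false := by decide +kernel

theorem not_samePerm_single {i : ℕ} (hi : i < 4) : ¬ SamePerm chevD4 tblD4 [i] [] := fun h => by
  have := (fixAll_iff (isWord_single hi)).2 h
  rw [show fixAll [i] = false from single_ne_nil ⟨i, hi⟩] at this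
  exact Bool.noConfusion this

theorem simp_cell {i : ℕ} (hi : i < 4) (t : F) : InCell (autEl CD (tblD4.simp' i) t * nuEl F i) [i] := by
  simpa [wel_single] using inCell_wel (simp_mem_bG hi t) (one_mem (bG F)) [i]

theorem nbr_injective {i : ℕ} (hi : i < 4) (z : Ch F) : Function.Injective (nbr i z) := by
  have hne : ∀ t, nbr i z (some t) ≠ z := fun t e => by
    have h : (QuotientGroup.mk (z.out * autEl CD (tblD4.simp' i) t * nuEl F i) : Ch F) = QuotientGroup.mk z.out := by
      rw [QuotientGroup.out_eq']; exact e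
    rw [eq_comm, QuotientGroup.eq, mul_assoc z.out, inv_mul_cancel_left] at h
    exact not_samePerm_single hi (samePerm_of_cells (isWord_single hi) isWord_nil (simp_cell hi t) (inCell_nil.2 h))
  rintro (_ | t) (_ | t') e
  · rfl
  · exact absurd e.symm (hne t')
  · exact absurd e (hne t)
  · change (QuotientGroup.mk _ : Ch F) = QuotientGroup.mk _ at e
    rw [QuotientGroup.eq] at e
    have e' : (nuEl F i)⁻¹ * autEl CD (tblD4.simp' i) (t' - t) * nuEl F i ∈ bG F := by
      have : autEl CD (tblD4.simp' i) (t' - t) = (autEl CD (tblD4.simp' i) t)⁻¹ * autEl CD (tblD4.simp' i) t' :=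
        Subtype.ext (show xg CD _ (t' - t) = (xg CD _ t)⁻¹ * xg CD _ t' by
          rw [xg_inv, xg_add, sub_eq_neg_add])
      rw [this]
      rwa [show (nuEl F i)⁻¹ * ((autEl CD (tblD4.simp' i) t)⁻¹ * autEl CD (tblD4.simp' i) t') * nuEl F i =
        (z.out * autEl CD (tblD4.simp' i) t * nuEl F i)⁻¹ *
          (z.out * autEl CD (tblD4.simp' i) t' * nuEl F i) by group]
    have hp := (CD).spec.simp_lt i hi
    obtain ⟨h, hh, -, e1⟩ := nu_inv_borel CD (F := F) hi
    have e2 : nu CD i * xg CD (tblD4.simp' i) (t' - t) * (nu CD i)⁻¹ ∈ chevD4.borelSubgroup F := by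
      have hd : nu CD i * nu CD i ∈ chevD4.borelSubgroup F := by
        rw [nu_sq CD hi]
        exact Subgroup.mem_sup_right (hg_mem CD hp (neg_ne_zero.2 one_ne_zero))
      have hm : (nu CD i)⁻¹ * xg CD (tblD4.simp' i) (t' - t) * nu CD i ∈ chevD4.borelSubgroup F := e'
      have := mul_mem (mul_mem hd hm) (inv_mem hd)
      rwa [show nu CD i * nu CD i * ((nu CD i)⁻¹ * xg CD (tblD4.simp' i) (t' - t) * nu CD i) *
        (nu CD i * nu CD i)⁻¹ = nu CD i * xg CD (tblD4.simp' i) (t' - t) * (nu CD i)⁻¹ by group] at this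
    rw [nu_conj_xg CD hi hp, (CD).spec.refl_simple i hi] at e2
    have hneg : 2 * tblD4.neg (tblD4.simp' i) < chevD4.nroots := by
      have := (KD).simple_pos hi; rw [(CD).neg_eq hp]; omega
    have := xg_neg_not_borel CD ((CD).spec.neg_lt _ hp) hneg e2
    rw [mul_eq_zero, or_iff_right (eta_ne_zero (F := F) tblD4 _ _), sub_eq_zero] at this
    rw [this]

theorem nbr_range {i : ℕ} (hi : i < 4) (z u : Ch F) :
    u.out⁻¹ * z.out ∈ pG F [i] ↔ ∃ o, nbr i z o = u := by
  constructor
  · intro h
    have h' : z.out⁻¹ * u.out ∈ pG F [i] := by simpa using inv_mem h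
    rcases pG_single_cells hi h' with hc | hc
    · refine ⟨none, ?_⟩
      show z = u
      rw [← QuotientGroup.out_eq' z, ← QuotientGroup.out_eq' u]
      exact QuotientGroup.eq.2 (inCell_nil.1 hc)
    · obtain ⟨x, hx, y, hy, e⟩ := inCell_elim hc
      have hp := (CD).spec.simp_lt i hi
      obtain ⟨a, ha, d, hd, ex⟩ := (mem_borel CD).1 (show (x : GL4) ∈ chevD4.borelSubgroup F from hx)
      obtain ⟨v, hv, t, et⟩ := pos_decomp CD KD hi (inv_mem ha)
      have ex' : (x : GL4) = xg CD (tblD4.simp' i) (-t) * (v⁻¹ * d) := by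
        rw [ex, ← mul_assoc, ← xg_inv, ← mul_inv_rev, ← et, inv_inv]
      have hB : (nuEl F i)⁻¹ * ((autEl CD (tblD4.simp' i) (-t))⁻¹ * x) * nuEl F i ∈ bG F := by
        show (nu CD i)⁻¹ * ((xg CD (tblD4.simp' i) (-t))⁻¹ * (x : GL4)) * nu CD i ∈ chevD4.borelSubgroup F
        rw [ex', inv_mul_cancel_left, show (nu CD i)⁻¹ * (v⁻¹ * d) * nu CD i =
          ((nu CD i)⁻¹ * v⁻¹ * nu CD i) * ((nu CD i)⁻¹ * d * nu CD i) by group]
        refine mul_mem (Subgroup.mem_sup_left (radical_le_pos CD ({i} : Set ℕ) ?_))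
          (Subgroup.mem_sup_right (conj_mem_diag CD (nu_mem CD (F := F) i hi) hd).2)
        have := (Subgroup.mem_normalizer_iff.1 (inv_mem (levi_le_normalizer CD KD {i}
          (nu_mem_levi CD (F := F) hi (Set.mem_singleton i)))) v⁻¹).1 (inv_mem hv)
        rwa [inv_inv] at this
      refine ⟨some (-t), ?_⟩
      show (QuotientGroup.mk _ : Ch F) = u
      rw [← QuotientGroup.out_eq' u]
      refine QuotientGroup.eq.2 ?_
      rw [wel_single] at e
      rw [show u.out = z.out * (x * nuEl F i * y) by rw [← e, mul_inv_cancel_left],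
        show (z.out * autEl CD (tblD4.simp' i) (-t) * nuEl F i)⁻¹ * (z.out * (x * nuEl F i * y)) =
          ((nuEl F i)⁻¹ * ((autEl CD (tblD4.simp' i) (-t))⁻¹ * x) * nuEl F i) * y by group]
      exact mul_mem hB hy
  · rintro ⟨_ | t, rfl⟩
    · simp [nbr]
    · obtain ⟨b, hb, e⟩ := out_mk (z.out * autEl CD (tblD4.simp' i) t * nuEl F i)
      show (QuotientGroup.mk _ : Ch F).out⁻¹ * z.out ∈ _
      rw [e, show (z.out * autEl CD (tblD4.simp' i) t * nuEl F i * b)⁻¹ * z.out =
        b⁻¹ * (nuEl F i)⁻¹ * (autEl CD (tblD4.simp' i) t)⁻¹ by group]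
      exact mul_mem (mul_mem (inv_mem (bG_le_pG _ hb)) (inv_mem (wel_mem_pG hi (List.mem_singleton_self i))))
        (inv_mem (bG_le_pG _ (simp_mem_bG hi t)))

/-! ### The counting matrices -/

section Mat

variable (p : ℕ)

open Classical in
/-- The adjacency matrix of a node. -/
noncomputable def adj (F : Type u) [Field F] (p i : ℕ) : Matrix (Ch F) (Ch F) (ZMod p) :=
  Matrix.of fun u z => if u.out⁻¹ * z.out ∈ pG F [i] then 1 else 0

open Classical in
/-- The galleries of a type. -/
noncomputable def gal (F : Type u) [Field F] [Fintype F] (p : ℕ) : List ℕ → Matrix (Ch F) (Ch F) (ZMod p)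
  | [] => 1
  | i :: w => @HMul.hMul _ _ _ (@Matrix.instHMulOfFintypeOfMulOfAddCommMonoid _ _ _ _ (Fintype.ofFinite _) _ _)
      (gal F p w) (adj F p i)

noncomputable instance : Fintype (Ch F) := Fintype.ofFinite _

theorem gal_cons (i : ℕ) (w : List ℕ) : gal F p (i :: w) = gal F p w * adj F p i := rfl

theorem sum_adj {i : ℕ} (hi : i < 4) (f : Ch F → ZMod p) (z : Ch F) :
    ∑ u, f u * adj F p i u z = f z + ∑ t : F, f (nbr i z (some t)) := by
  classical
  have h1 : ∑ u, f u * adj F p i u z = ∑ o : Option F, f (nbr i z o) := by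
    simp only [adj, Matrix.of_apply, mul_ite, mul_one, mul_zero]
    rw [← Finset.sum_filter]
    symm
    refine Finset.sum_bij (fun o _ => nbr i z o) (fun o _ => ?_) (fun _ _ _ _ e => nbr_injective hi z e)
      (fun u hu => ?_) fun _ _ => rfl
    · exact Finset.mem_filter.2 ⟨Finset.mem_univ _, (nbr_range hi z _).2 ⟨o, rfl⟩⟩
    · obtain ⟨o, ho⟩ := (nbr_range hi z u).1 (Finset.mem_filter.1 hu).2
      exact ⟨o, Finset.mem_univ _, ho⟩
  rw [h1, Fintype.sum_option]
  rfl

theorem adj_congr {i : ℕ} {u z z' : Ch F} (h : z'.out⁻¹ * z.out ∈ pG F [i]) :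
    adj F p i u z = adj F p i u z' := by
  classical
  simp only [adj, Matrix.of_apply]
  congr 1
  rw [eq_iff_iff]
  refine ⟨fun hu => ?_, fun hu => ?_⟩
  · have := mul_mem hu (inv_mem h)
    rwa [show u.out⁻¹ * z.out * (z'.out⁻¹ * z.out)⁻¹ = u.out⁻¹ * z'.out by group] at this
  · have := mul_mem hu h
    rwa [show u.out⁻¹ * z'.out * (z'.out⁻¹ * z.out) = u.out⁻¹ * z.out by group] at this

theorem gal_append : ∀ a b : List ℕ, gal F p (a ++ b) = gal F p b * gal F p a
  | [], b => by
    classical
    show gal F p b = gal F p b * 1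
    rw [Matrix.mul_one]
  | i :: a, b => by
    rw [List.cons_append, gal_cons, gal_cons, gal_append a b, Matrix.mul_assoc]

variable [Fact p.Prime] [CharP F p]

include p in
theorem card_cast : (Fintype.card F : ZMod p) = 0 := by
  rw [ZMod.natCast_eq_zero_iff]
  exact (CharP.cast_eq_zero_iff F p _).1 (Nat.cast_card_eq_zero F)

include p in
/-- Galleries modulo the characteristic. -/
theorem gal_eq : ∀ (w : List ℕ), IsWord chevD4 w → ∀ (v : List ℕ), IsWord chevD4 v → ∀ y z : Ch F,
    InCell (y.out⁻¹ * z.out) v → gal F p w y z = if fR w v then 1 else 0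
  | [], _, v, hv, y, z, h => by
    classical
    show (1 : Matrix (Ch F) (Ch F) (ZMod p)) y z = _
    rw [Matrix.one_apply]
    by_cases hyz : y = z
    · subst hyz
      rw [inv_mul_cancel] at h
      rw [if_pos rfl, if_pos]
      exact (fixAll_iff hv).2 (samePerm_of_cells hv isWord_nil h (inCell_nil.2 (one_mem _)))
    · rw [if_neg hyz, if_neg]
      intro hf
      refine hyz ?_
      rw [← QuotientGroup.out_eq' y, ← QuotientGroup.out_eq' z]
      exact QuotientGroup.eq.2 (inCell_nil.1 (inCell_congr hv isWord_nil ((fixAll_iff hv).1 hf) h))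
  | i :: w, hw, v, hv, y, z, h => by
    classical
    have hi : i < 4 := hw.tail.1
    have up : ∀ (v : List ℕ) (z : Ch F), IsWord chevD4 v → isP (wperm tblD4 v (tblD4.simp' i)) = true →
        InCell (y.out⁻¹ * z.out) v → gal F p (i :: w) y z = if fR w v then 1 else 0 := by
      intro v z hv hp h
      rw [gal_cons, Matrix.mul_apply, sum_adj p hi (fun u => gal F p w y u) z, gal_eq w hw.tail.2 v hv y z h]
      have hall : ∀ t : F, gal F p w y (nbr i z (some t)) = if fR w (v ++ [i]) then 1 else 0 := fun t => by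
        refine gal_eq w hw.tail.2 _ (hv.append (isWord_single hi)) y _ ?_
        obtain ⟨b, hb, e⟩ := out_mk (z.out * autEl CD (tblD4.simp' i) t * nuEl F i)
        show InCell (y.out⁻¹ * (QuotientGroup.mk _ : Ch F).out) _
        rw [e, show y.out⁻¹ * (z.out * autEl CD (tblD4.simp' i) t * nuEl F i * b) =
          1 * (y.out⁻¹ * z.out * autEl CD (tblD4.simp' i) t * nuEl F i) * b by group]
        exact inCell_mul (one_mem _) hb (inCell_add_one hi hv hp (simp_mem_bG hi t) h)
      rw [Finset.sum_congr rfl fun t _ => hall t, Finset.sum_const, Finset.card_univ, nsmul_eq_mul,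
        card_cast p, zero_mul, add_zero]
    show _ = if fR w (nxt v i) then 1 else 0
    cases hp : isP (wperm tblD4 v (tblD4.simp' i))
    · -- move to the chamber nearer to `y`
      have hn : isP (wperm tblD4 (v ++ [i]) (tblD4.simp' i)) = true := by
        have hs := (CD).spec.simp_lt i hi
        rw [wperm_append, show wperm tblD4 [i] (tblD4.simp' i) = tblD4.neg (tblD4.simp' i) from
          (CD).spec.refl_simple i hi, wperm_neg CD hv hs, isP, Nat.ble_eq]
        refine (KD).neg_pos_iff (wperm_lt CD hv hs) |>.2 ?_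
        rw [← Bool.not_eq_true, isP, Nat.ble_eq] at hp
        show 2 * _ < 24
        omega
      obtain ⟨x, hx, b, hb, e⟩ := inCell_elim h
      set z' : Ch F := QuotientGroup.mk (y.out * (x * wel F (v ++ [i]))) with hz'
      obtain ⟨b', hb', e'⟩ := out_mk (y.out * (x * wel F (v ++ [i])))
      have hcell : InCell (y.out⁻¹ * z'.out) (v ++ [i]) := by
        rw [hz', e', show y.out⁻¹ * (y.out * (x * wel F (v ++ [i])) * b') = x * wel F (v ++ [i]) * b' by group]
        exact inCell_wel hx hb' _
      have hP : z'.out⁻¹ * z.out ∈ pG F [i] := by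
        rw [show z.out = y.out * (x * wel F v * b) by rw [← e, mul_inv_cancel_left], hz', e', wel_append,
          wel_single, show (y.out * (x * (wel F v * nuEl F i)) * b')⁻¹ * (y.out * (x * wel F v * b)) =
            b'⁻¹ * (nuEl F i)⁻¹ * b by group]
        exact mul_mem (mul_mem (inv_mem (bG_le_pG _ hb')) (inv_mem (wel_mem_pG hi (List.mem_singleton_self i))))
          (bG_le_pG _ hb)
      have heq : gal F p (i :: w) y z = gal F p (i :: w) y z' := by
        rw [gal_cons, Matrix.mul_apply, Matrix.mul_apply]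
        exact Finset.sum_congr rfl fun u _ => by rw [adj_congr p hP]
      rw [nxt, hp, cond_false, heq]
      exact up _ z' (hv.append (isWord_single hi)) hn hcell
    · rw [nxt, hp, cond_true]
      exact up v z hv hp h

end Mat

/-- The bipartite Coxeter element, backwards. -/
def cox : List ℕ := [3, 2, 0, 1]

theorem cox_full : (allD4.all fun u => fR ((cox.map triN).map triN ++ cox.map triN ++ cox) u) = true := by
  decide +kernel

/-! ### The fixed conjugate -/

section Fixed

variable {phi : MulAut ↥(chevD4.group F)} (hphi : IsMono phi triR triN) {c : ↥(chevD4.group F)}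
  (h3 : ∀ g : ↥(chevD4.group F), (MulAut.conj c * phi) ((MulAut.conj c * phi) ((MulAut.conj c * phi) g)) = g)
include hphi

theorem tri_map_bG {g : GD} (hg : g ∈ bG F) : phi g ∈ bG F := by
  rw [← pG_nil] at hg ⊢
  exact hphi.map_pG (by decide +kernel) hg

theorem tri_map_cell {g : GD} {v : List ℕ} (hv : IsWord chevD4 v) (h : InCell g v) :
    InCell (phi g) (v.map triN) := by
  obtain ⟨x, hx, y, hy, rfl⟩ := inCell_elim h
  obtain ⟨t, ht, e⟩ := hphi.map_wel hv
  rw [map_mul, map_mul, e, show phi x * (t * wel F (v.map triN)) * phi y = phi x * t * wel F (v.map triN) * phi y by group]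
  exact inCell_wel (mul_mem (tri_map_bG hphi hx) (Subgroup.mem_sup_right ht)) (tri_map_bG hphi hy) _

include h3

/-- The norm of the translation lies in the Borel subgroup. -/
theorem norm_mem : c * phi c * phi (phi c) ∈ bG F ∧
    ∀ g, phi (phi (phi g)) = (c * phi c * phi (phi c))⁻¹ * g * (c * phi c * phi (phi c)) := by
  have key : ∀ g, phi (phi (phi g)) = (c * phi c * phi (phi c))⁻¹ * g * (c * phi c * phi (phi c)) := fun g => by
    have h := h3 g
    simp only [MulAut.mul_apply, MulAut.conj_apply, map_mul, map_inv] at h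
    conv_rhs => rw [← h]
    group
  refine ⟨?_, key⟩
  rw [← pG_nil]
  have hU : ∀ u ∈ rsG F (pRad []), phi u ∈ rsG F (pRad []) := fun u hu => hphi.map_rsG (by decide +kernel) hu
  refine inv_mem_iff.1 (mem_pG_of_normalizes fun u hu => ?_)
  have := hU _ (hU _ (hU u hu))
  rwa [key, show (c * phi c * phi (phi c))⁻¹ * u * (c * phi c * phi (phi c)) =
    (c * phi c * phi (phi c))⁻¹ * u * ((c * phi c * phi (phi c))⁻¹)⁻¹ by rw [inv_inv]] at this

/-- The action on chambers. -/
noncomputable def chMap : Equiv.Perm (Ch F) :=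
  have hwd : ∀ a b : GD, QuotientGroup.leftRel (bG F) a b →
      (QuotientGroup.mk (c * phi a) : Ch F) = QuotientGroup.mk (c * phi b) := fun a b hab => by
    rw [QuotientGroup.leftRel_apply] at hab
    rw [QuotientGroup.eq, show (c * phi a)⁻¹ * (c * phi b) = phi (a⁻¹ * b) by rw [map_mul, map_inv]; group]
    exact tri_map_bG hphi hab
  have h : ∀ z : Ch F, Quotient.lift _ hwd (Quotient.lift _ hwd (Quotient.lift _ hwd z)) = z := fun z => by
    induction z using QuotientGroup.induction_on with
    | _ g =>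
      show (QuotientGroup.mk (c * phi (c * phi (c * phi g))) : Ch F) = QuotientGroup.mk g
      rw [map_mul, map_mul, map_mul, (norm_mem hphi h3).2 g, QuotientGroup.eq,
        show (c * (phi c * (phi (phi c) * ((c * phi c * phi (phi c))⁻¹ * g * (c * phi c * phi (phi c))))))⁻¹ * g =
          (c * phi c * phi (phi c))⁻¹ by group]
      exact inv_mem (norm_mem hphi h3).1
  { toFun := Quotient.lift _ hwd
    invFun := fun z => Quotient.lift _ hwd (Quotient.lift _ hwd z)
    left_inv := h
    right_inv := h }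

theorem chMap_mk (g : GD) : chMap hphi h3 (QuotientGroup.mk g) = QuotientGroup.mk (c * phi g) := rfl

theorem chMap_three (z : Ch F) : chMap hphi h3 (chMap hphi h3 (chMap hphi h3 z)) = z :=
  (chMap hphi h3).apply_symm_apply z

theorem adj_chMap (p : ℕ) {i : ℕ} (hi : i < 4) (a b : Ch F) :
    adj F p (triN i) (chMap hphi h3 a) (chMap hphi h3 b) = adj F p i a b := by
  classical
  have hn : ∀ i < 4, triN i < 4 := hphi.nd_lt
  have step : ∀ i < 4, ∀ a b : Ch F, a.out⁻¹ * b.out ∈ pG F [i] →
      (chMap hphi h3 a).out⁻¹ * (chMap hphi h3 b).out ∈ pG F [triN i] := by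
    intro i hi a b h
    obtain ⟨x, hx, ex⟩ := out_mk (c * phi a.out)
    obtain ⟨y, hy, ey⟩ := out_mk (c * phi b.out)
    rw [show chMap hphi h3 a = QuotientGroup.mk (c * phi a.out) by
        rw [← chMap_mk hphi h3, QuotientGroup.out_eq' a],
      show chMap hphi h3 b = QuotientGroup.mk (c * phi b.out) by
        rw [← chMap_mk hphi h3, QuotientGroup.out_eq' b], ex, ey,
      show (c * phi a.out * x)⁻¹ * (c * phi b.out * y) = x⁻¹ * phi (a.out⁻¹ * b.out) * y by
        rw [map_mul, map_inv]; group]
    refine mul_mem (mul_mem (inv_mem (bG_le_pG _ hx)) (hphi.map_pG ?_ h)) (bG_le_pG _ hy)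
    have key : ∀ i : Fin 4, ∀ r < 24, pPar [(i : ℕ)] r = true → pPar [triN i] (triR r) = true := by decide +kernel
    exact key ⟨i, hi⟩
  have h3N : ∀ i : Fin 4, triN (triN (triN i)) = i := by decide +kernel
  simp only [adj, Matrix.of_apply]
  congr 1
  refine eq_iff_iff.2 ⟨fun h => ?_, step i hi a b⟩
  have := step _ (hn _ (hn i hi)) _ _ (step _ (hn i hi) _ _ h)
  rwa [chMap_three, chMap_three, h3N ⟨i, hi⟩] at this

theorem gal_chMap (p : ℕ) : ∀ w, IsWord chevD4 w → ∀ a b : Ch F,
    gal F p (w.map triN) (chMap hphi h3 a) (chMap hphi h3 b) = gal F p w a b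
  | [], _, a, b => by
    classical
    show (1 : Matrix (Ch F) (Ch F) (ZMod p)) _ _ = (1 : Matrix (Ch F) (Ch F) (ZMod p)) _ _
    simp [Matrix.one_apply]
  | i :: w, hw, a, b => by
    rw [List.map_cons, gal_cons, gal_cons, Matrix.mul_apply, Matrix.mul_apply, ← Equiv.sum_comp (chMap hphi h3)]
    exact Finset.sum_congr rfl fun u _ => by
      rw [gal_chMap p w hw.tail.2, adj_chMap hphi h3 p hw.tail.1]

/-- A chamber moved by a gallery of the Coxeter type. -/
theorem exists_cox_cell (p : ℕ) [Fact p.Prime] [CharP F p] :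
    ∃ g : GD, ∃ v, IsWord chevD4 v ∧ InCell (g⁻¹ * c * phi g) v ∧ fR cox v = true := by
  classical
  have hcox : IsWord chevD4 cox := isWord_of_all rfl
  have hW : IsWord chevD4 ((cox.map triN).map triN ++ cox.map triN ++ cox) := isWord_of_all rfl
  set e := chMap hphi h3 with he
  let J : Matrix (Ch F) (Ch F) (ZMod p) := fun _ _ => 1
  let M : Matrix (Ch F) (Ch F) (ZMod p) := fun y z => gal F p cox y (e z)
  have hWJ : gal F p ((cox.map triN).map triN ++ cox.map triN ++ cox) = J := funext fun y => funext fun z => by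
    obtain ⟨v, hv, h⟩ := exists_cell (y.out⁻¹ * z.out)
    obtain ⟨u, hu, huw, hs⟩ := exists_rep hv
    rw [gal_eq p _ hW v hv y z h, ← fR_congr _ hW hs, List.all_eq_true.1 cox_full u hu]
    rfl
  have hJg : ∀ w, IsWord chevD4 w → J * gal F p w = J := by
    intro w
    induction w with
    | nil => intro _; exact Matrix.mul_one J
    | cons i w ih =>
      intro hw
      rw [gal_cons, ← Matrix.mul_assoc, ih hw.tail.2]
      funext y z
      rw [Matrix.mul_apply, sum_adj p hw.tail.1 (fun u => J y u) z]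
      simp [J, card_cast p (F := F)]
  have hJM : J * M = J := funext fun y => funext fun z => by
    rw [Matrix.mul_apply, show ∑ u, J y u * M u z = (J * gal F p cox) y (e z) from (Matrix.mul_apply ..).symm,
      hJg cox hcox]
  have hMM : ∀ y z, (M * M) y z = gal F p (cox.map triN ++ cox) y (e (e z)) := fun y z => by
    rw [gal_append, Matrix.mul_apply, Matrix.mul_apply, ← Equiv.sum_comp e (fun u => gal F p cox y u * _)]
    exact Finset.sum_congr rfl fun u _ => by rw [gal_chMap hphi h3 p cox hcox]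
  have hM3 : M * M * M = J := funext fun y => funext fun z => by
    rw [← hWJ, List.append_assoc, gal_append, Matrix.mul_apply, Matrix.mul_apply,
      ← Equiv.sum_comp (e.trans e)
        (fun u => gal F p (cox.map triN ++ cox) y u * gal F p ((cox.map triN).map triN) u z)]
    refine Finset.sum_congr rfl fun u _ => ?_
    rw [hMM, Equiv.trans_apply]
    congr 1
    conv_rhs => rw [← chMap_three hphi h3 z, ← he]
    rw [gal_chMap hphi h3 p _ (isWord_map hphi.nd_lt hcox), gal_chMap hphi h3 p cox hcox]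
  have hcard : (Fintype.card (Ch F) : ZMod p) = 1 := by
    have h := hJg _ hW
    rw [hWJ] at h
    have := congrFun (congrFun h (QuotientGroup.mk (1 : GD))) (QuotientGroup.mk (1 : GD))
    rw [Matrix.mul_apply] at this
    simpa [J] using this
  have hJk : ∀ k, J * M ^ k = J := fun k => by
    induction k with
    | zero => rw [pow_zero, Matrix.mul_one]
    | succ k ih => rw [pow_succ, ← Matrix.mul_assoc, ih, hJM]
  have hp3 : 3 ≤ p * p := by have := (Fact.out : p.Prime).two_le; nlinarith
  have htr : (Matrix.trace M) ≠ 0 := fun h0 => by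
    have h1 := ZMod.trace_pow_card (M ^ p)
    rw [ZMod.trace_pow_card M, h0, ← pow_mul, ← Nat.sub_add_cancel hp3,
      add_comm, pow_add, show M ^ 3 = M * M * M by rw [pow_succ, pow_succ, pow_one], hM3, hJk,
      zero_pow (Fact.out : p.Prime).ne_zero, zero_pow (Fact.out : p.Prime).ne_zero] at h1
    simp only [Matrix.trace, Matrix.diag, J, Finset.sum_const, Finset.card_univ, nsmul_eq_mul, mul_one, hcard] at h1
    exact one_ne_zero h1
  obtain ⟨y, hy⟩ : ∃ y, M y y ≠ 0 := by
    by_contra hh
    push Not at hh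
    exact htr (Finset.sum_eq_zero fun y _ => hh y)
  obtain ⟨b, hb, eb⟩ := out_mk (c * phi y.out)
  obtain ⟨v, hv, hcell⟩ := exists_cell (y.out⁻¹ * c * phi y.out)
  refine ⟨y.out, v, hv, hcell, ?_⟩
  by_contra hf
  refine hy ?_
  show gal F p cox y (e y) = 0
  rw [gal_eq p cox hcox v hv y (e y) ?_, if_neg hf]
  rw [show e y = QuotientGroup.mk (c * phi y.out) by rw [he, ← chMap_mk hphi h3, QuotientGroup.out_eq' y], eb,
    show y.out⁻¹ * (c * phi y.out * b) = 1 * (y.out⁻¹ * c * phi y.out) * b by group]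
  exact inCell_mul (one_mem _) hb hcell

/-- The conjugates again have period three. -/
theorem period_conj (g : GD) : ∀ x : GD, (MulAut.conj (g⁻¹ * c * phi g) * phi) ((MulAut.conj (g⁻¹ * c * phi g) * phi)
    ((MulAut.conj (g⁻¹ * c * phi g) * phi) x)) = x := by
  have e : ∀ y, (MulAut.conj (g⁻¹ * c * phi g) * phi) y = g⁻¹ * (MulAut.conj c * phi) (g * y * g⁻¹) * g := fun y => by
    rw [MulAut.mul_apply, MulAut.conj_apply, MulAut.mul_apply, MulAut.conj_apply, map_mul, map_mul, map_inv]
    group
  intro x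
  have hg : ∀ z : GD, g * (g⁻¹ * z * g) * g⁻¹ = z := fun z => by group
  rw [e, e, e, hg, hg, h3]
  group

/-- A cell whose twisted cube is reduced does not occur. -/
theorem no_cell {v : List ℕ} (hv : IsWord chevD4 v)
    (hchk : (upOK v (v.map triN) && upOK (v ++ v.map triN) ((v.map triN).map triN) &&
      !fixAll (v ++ v.map triN ++ (v.map triN).map triN)) = true) (hc : InCell c v) : False := by
  simp only [Bool.and_eq_true, Bool.not_eq_true'] at hchk
  have hv1 := isWord_map hphi.nd_lt hv
  have hv2 := isWord_map hphi.nd_lt hv1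
  have h1 := tri_map_cell hphi hv hc
  have h := mul_inCell _ (hv.append hv1) hv2 hchk.1.2 (mul_inCell _ hv hv1 hchk.1.1 hc h1) (tri_map_cell hphi hv1 h1)
  have hf := (fixAll_iff ((hv.append hv1).append hv2)).2
    (samePerm_of_cells ((hv.append hv1).append hv2) isWord_nil h (inCell_nil.2 (norm_mem hphi h3).1))
  rw [hchk.2] at hf
  exact Bool.noConfusion hf

end Fixed

theorem cox_cells : (allD4.all fun u => !fR cox u || ([[], [1], [0], [2], [3], [1, 0], [1, 2], [1, 3], [0, 2], [0, 3],
    [2, 3], [1, 0, 2], [1, 0, 3], [1, 2, 3], [0, 2, 3], [1, 0, 2, 3]].any fun l =>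
      allBelow (fun k => Nat.beq (wperm tblD4 u (tblD4.simp' k)) (wperm tblD4 l (tblD4.simp' k))) 4)) = true := by
  decide +kernel

/-- An automorphism of period three moving the end nodes cyclically is conjugate to one coming from the parabolic
subgroup of the middle node. -/
theorem exists_conj_pG (p : ℕ) [Fact p.Prime] [CharP F p] {phi : MulAut GD} (hphi : IsMono phi triR triN) {c : GD}
    (h3 : ∀ g : GD, (MulAut.conj c * phi) ((MulAut.conj c * phi) ((MulAut.conj c * phi) g)) = g) :
    ∃ g : GD, g⁻¹ * c * phi g ∈ pG F [1] := by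
  obtain ⟨g, v, hv, hc, hf⟩ := exists_cox_cell hphi h3 p
  suffices key : ∀ {c : GD}, (∀ g : GD, (MulAut.conj c * phi) ((MulAut.conj c * phi) ((MulAut.conj c * phi) g)) = g) →
      ∀ w ∈ ([[], [1], [0], [2], [3], [1, 0], [1, 2], [1, 3], [0, 2], [0, 3],
        [2, 3], [1, 0, 2], [1, 0, 3], [1, 2, 3], [0, 2, 3], [1, 0, 2, 3]] : List (List ℕ)),
      InCell c w → ∃ g : GD, g⁻¹ * c * phi g ∈ pG F [1] by
    obtain ⟨u, hu, huw, hs⟩ := exists_rep hv
    have h := List.all_eq_true.1 cox_cells u hu
    rw [fR_congr cox (isWord_of_all rfl) hs, hf] at h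
    simp only [Bool.not_true, Bool.false_or, List.any_eq_true] at h
    obtain ⟨l, hl, hle⟩ := h
    simp only [allBelow_iff, Nat.beq_eq] at hle
    have hlw : IsWord chevD4 l := by
      have hall : ∀ l ∈ ([[], [1], [0], [2], [3], [1, 0], [1, 2], [1, 3], [0, 2], [0, 3],
        [2, 3], [1, 0, 2], [1, 0, 3], [1, 2, 3], [0, 2, 3], [1, 0, 2, 3]] : List (List ℕ)),
          (l.all fun i => Nat.blt i 4) = true := by decide
      exact isWord_of_all (hall l hl)
    obtain ⟨g', hg'⟩ := key (period_conj hphi h3 g) l hl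
      (inCell_congr hv hlw (hs.symm.trans (samePerm_of_simple CD KD huw hlw hle)) hc)
    exact ⟨g * g', by rw [map_mul]; simpa [mul_assoc] using hg'⟩
  intro c h3 w hw hc
  let Good : GD → Prop := fun c => ∃ g : GD, g⁻¹ * c * phi g ∈ pG F [1]
  let Per : GD → Prop := fun c =>
    ∀ g : GD, (MulAut.conj c * phi) ((MulAut.conj c * phi) ((MulAut.conj c * phi) g)) = g
  let Ok : List ℕ → Prop := fun v => ∀ c, Per c → InCell c v → Good c
  have hnil : Ok [] := fun c _ h => ⟨1, by simpa using bG_le_pG [1] (inCell_nil.1 h)⟩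
  have hmid : Ok [1] := fun c _ h => ⟨1, by
    obtain ⟨x, hx, y, hy, rfl⟩ := inCell_elim h
    rw [inv_one, map_one, one_mul, mul_one, wel_single]
    exact mul_mem (mul_mem (bG_le_pG _ hx) (wel_mem_pG (by omega) (List.mem_singleton_self 1))) (bG_le_pG _ hy)⟩
  have bad : ∀ v : List ℕ, ((v.all fun i => Nat.blt i 4) && (upOK v (v.map triN) &&
      upOK (v ++ v.map triN) ((v.map triN).map triN) &&
      !fixAll (v ++ v.map triN ++ (v.map triN).map triN))) = true → Ok v := fun v h c hp hc => by
    rw [Bool.and_eq_true] at h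
    exact (no_cell hphi hp (isWord_of_all h.1) h.2 hc).elim
  have eqv : ∀ v v' : List ℕ, ((v.all fun i => Nat.blt i 4) && ((v'.all fun i => Nat.blt i 4) &&
      allBelow (fun k => Nat.beq (wperm tblD4 v (tblD4.simp' k)) (wperm tblD4 v' (tblD4.simp' k))) 4)) = true →
      Ok v' → Ok v := fun v v' h h' c hp hc => by
    simp only [Bool.and_eq_true, allBelow_iff, Nat.beq_eq] at h
    exact h' c hp (inCell_congr (isWord_of_all h.1) (isWord_of_all h.2.1)
      (samePerm_of_simple CD KD (isWord_of_all h.1) (isWord_of_all h.2.1) h.2.2) hc)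
  -- moving the first letter to the other end
  have shift : ∀ a v, ((a :: v).all fun i => Nat.blt i 4) = true → Ok v → Ok (v ++ [triN a]) → Ok (a :: v) := by
    intro a v h h1 h2 c hp hc
    obtain ⟨ha, hv⟩ := (isWord_of_all h).tail
    obtain ⟨x, hx, y, hy, rfl⟩ := inCell_elim hc
    obtain ⟨t, ht, et⟩ := hphi.map_nuEl (i := a) ha
    have hcell : InCell (wel F v * (y * phi x * t)) v := by
      simpa using inCell_wel (one_mem (bG F))
        (mul_mem (mul_mem hy (tri_map_bG hphi hx)) (Subgroup.mem_sup_right ht)) v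
    have e : (x * nuEl F a)⁻¹ * (x * wel F (a :: v) * y) * phi (x * nuEl F a) =
        wel F v * (y * phi x * t) * nuEl F (triN a) := by
      rw [wel_cons, map_mul, et]; group
    have done : Good ((x * nuEl F a)⁻¹ * (x * wel F (a :: v) * y) * phi (x * nuEl F a)) := by
      rcases inCell_nu_right (hphi.nd_lt a ha) hv hcell with h' | h' <;> rw [← e] at h'
      · exact h1 _ (period_conj hphi hp _) h'
      · exact h2 _ (period_conj hphi hp _) h'
    obtain ⟨g', hg'⟩ := done
    exact ⟨x * nuEl F a * g', by simpa [mul_assoc] using hg'⟩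
  have sing : ∀ a, a = 0 ∨ a = 2 ∨ a = 3 → Ok [a] := by
    rintro a (rfl | rfl | rfl) <;> exact bad _ (by decide +kernel)
  have pair : ∀ a, a = 0 ∨ a = 2 ∨ a = 3 → Ok [a, triN a] := by
    rintro a (rfl | rfl | rfl) <;>
      exact shift _ _ (by decide +kernel) (sing _ (by decide)) (eqv _ [] (by decide +kernel) hnil)
  have tripMid : ∀ a, a = 0 ∨ a = 2 ∨ a = 3 → Ok [1, a, triN a] := fun a ha => by
    refine shift _ _ (by rcases ha with rfl | rfl | rfl <;> decide +kernel) (pair _ ha)
      (shift _ _ (by rcases ha with rfl | rfl | rfl <;> decide +kernel)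
        (bad _ (by rcases ha with rfl | rfl | rfl <;> decide +kernel))
        (eqv _ [1, triN a, 1] (by rcases ha with rfl | rfl | rfl <;> decide +kernel) ?_))
    exact shift _ _ (by rcases ha with rfl | rfl | rfl <;> decide +kernel)
      (bad _ (by rcases ha with rfl | rfl | rfl <;> decide +kernel))
      (eqv _ [triN a] (by rcases ha with rfl | rfl | rfl <;> decide +kernel)
        (sing _ (by rcases ha with rfl | rfl | rfl <;> decide)))
  suffices hOk : Ok w from hOk c h3 hc
  simp only [List.mem_cons, List.not_mem_nil, or_false] at hw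
  rcases hw with rfl | rfl | rfl | rfl | rfl | rfl | rfl | rfl | rfl | rfl | rfl | rfl | rfl | rfl | rfl | rfl
  · exact hnil
  · exact hmid
  · exact sing 0 (by simp)
  · exact sing 2 (by simp)
  · exact sing 3 (by simp)
  · exact bad _ (by decide +kernel)
  · exact bad _ (by decide +kernel)
  · exact bad _ (by decide +kernel)
  · exact pair 0 (by simp)
  · exact eqv _ [3, 0] (by decide +kernel) (pair 3 (by simp))
  · exact pair 2 (by simp)
  · exact tripMid 0 (by simp)
  · exact eqv _ [1, 3, 0] (by decide +kernel) (tripMid 3 (by simp))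
  · exact tripMid 2 (by simp)
  · exact shift _ _ (by decide +kernel) (pair 2 (by simp)) (eqv _ [3] (by decide +kernel) (sing 3 (by simp)))
  · exact bad _ (by decide +kernel)

end Cfsg.Lib.Linear.AutPO.Tri
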