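import Cfsg.Agent.Lib.Linear.AutPO.TriGallery

/-!
# Triality: fixed cosets of the parabolic subgroup

An automorphism of period three made of an element of the Levi subgroup and a rotation of the end nodes: a fixed
coset other than the parabolic subgroup yields an element of order dividing six whose square is not trivial, in any
subgroup holding the fixed points of both radicals.
-/

set_option autoImplicit false
set_option linter.unusedSectionVars false
set_option maxRecDepth 100000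
set_option maxHeartbeats 1600000
set_option quotPrecheck false

namespace Cfsg.Lib.Linear.AutPO.Tri

open Cfsg.Lie
open Cfsg.Lib.Chev hiding isFieldAut_iff

universe u

variable {F : Type u} [Field F] [Fintype F]

local notation "CD" => (fullCertD4.comm.cert)
local notation "KD" => fullCertD4
local notation "GL4" => GL chevD4.Idx F
local notation "GD" => ↥(chevD4.group F)
local notation "UR" => rsG F (pRad [1])
local notation "VR" => rsG F (pNeg [1])
local notation "PP" => pG F [1]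
local notation "LL" => lG F [1]

/-! ### Commuting root subgroups -/

/-- A checked pair of commuting roots. -/
noncomputable def commB (r s : ℕ) : Bool :=
  (!Nat.beq s r && !Nat.beq s (tblD4.neg r)) && (tTerms tblD4 r s).isEmpty

theorem commute_of_commB {r s : ℕ} (hr : r < 24) (hs : s < 24) (h : commB r s = true) (t u : F) :
    Commute (autEl CD r t) (autEl CD s u) := by
  simp only [commB, Bool.and_eq_true, List.isEmpty_iff, Bool.not_eq_true'] at h
  have e := comm_xg_prod CD (KD).comm (D := chevD4) hr hs (ne_of_beq_false h.1.1) (ne_of_beq_false h.1.2) t u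
  rw [h.2, List.map_nil, List.prod_nil, commutatorElement_eq_one_iff_commute, Commute.inv_left_iff,
    Commute.inv_right_iff] at e
  exact Subtype.ext e.symm.eq

/-! ### The opposition -/

/-- A longest word. -/
def wOpp : List ℕ := [0, 1, 2, 3, 0, 1, 2, 3, 0, 1, 2, 3]

theorem wOpp_word : IsWord chevD4 wOpp := isWord_of_all rfl

theorem wOpp_neg : (allBelow (fun r => Nat.beq (wperm tblD4 wOpp r) (tblD4.neg r) &&
    Nat.beq (wperm tblD4 wOpp.reverse r) (tblD4.neg r)) 24) = true := by decide +kernel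

theorem wperm_opp {r : ℕ} (hr : r < 24) :
    wperm tblD4 wOpp r = tblD4.neg r ∧ wperm tblD4 wOpp.reverse r = tblD4.neg r := by
  have := allBelow_iff.1 wOpp_neg r hr
  simpa only [Bool.and_eq_true, Nat.beq_eq] using this

theorem wel_congr {v v' : List ℕ} (hv : IsWord chevD4 v) (hv' : IsWord chevD4 v')
    (e : SamePerm chevD4 tblD4 v v') : ∃ t ∈ tG F, wel F v' = wel F v * t := by
  refine ⟨(wel F v)⁻¹ * wel F v', ?_, by group⟩
  show ((wel F v : GL4))⁻¹ * (wel F v' : GL4) ∈ chevD4.diagonalSubgroup F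
  rw [coe_wel, coe_wel]
  exact same_of_perm CD KD hv hv' fun k hk => e _ ((CD).spec.simp_lt k hk)

theorem tG_le_PP : tG F ≤ PP := fun _ ht => lG_le_pG _ (tG_le_lG _ ht)

theorem UR_le_PP : UR ≤ PP := fun _ hu => bG_le_pG _ (rad_le_bG _ hu)

/-- An element of the radical normalising the opposite radical is trivial. -/
theorem rad_eq_one_of_norm {u : GD} (hu : u ∈ UR) (h : ∀ v ∈ VR, u * v * u⁻¹ ∈ VR) : u = 1 := by
  set W := wel F wOpp
  have hUV : ∀ g ∈ UR, W⁻¹ * g * W ∈ VR := fun g hg => wel_inv_conj_rsG wOpp_word (fun r hr hp => by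
    rw [(wperm_opp hr).2]
    exact (show ∀ r < 24, pRad [1] r = true → pNeg [1] (tblD4.neg r) = true by decide +kernel) r hr hp) hg
  have hVU : ∀ g ∈ VR, W * g * W⁻¹ ∈ UR := fun g hg => wel_conj_rsG wOpp_word (fun r hr hp => by
    rw [(wperm_opp hr).1]
    exact (show ∀ r < 24, pNeg [1] r = true → pRad [1] (tblD4.neg r) = true by decide +kernel) r hr hp) hg
  have hU'V : ∀ g ∈ UR, W * g * W⁻¹ ∈ VR := fun g hg => wel_conj_rsG wOpp_word (fun r hr hp => by
    rw [(wperm_opp hr).1]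
    exact (show ∀ r < 24, pRad [1] r = true → pNeg [1] (tblD4.neg r) = true by decide +kernel) r hr hp) hg
  have hP : W * u * W⁻¹ ∈ PP := mem_pG_of_normalizes fun g hg => by
    have := hVU _ (h _ (hUV g hg))
    rwa [show W * (u * (W⁻¹ * g * W) * u⁻¹) * W⁻¹ = W * u * W⁻¹ * g * (W * u * W⁻¹)⁻¹ by group] at this
  have h1 := pG_inf_neg hP (hU'V u hu)
  rwa [mul_inv_eq_one, mul_eq_left] at h1

/-! ### The automorphisms -/

/-- Period three, an element of the Levi subgroup times a rotation of the end nodes. -/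
structure TriAut (x : MulAut GD) : Prop where
  ex : ∃ l ∈ lG F [1], ∃ phi : MulAut GD, IsMono phi triR triN ∧ x = MulAut.conj l * phi
  per : ∀ g, x (x (x g)) = g

theorem conj_twist (x : MulAut GD) (m c : GD) {phi : MulAut GD} (hx : x = MulAut.conj c * phi) :
    MulAut.conj m⁻¹ * x * MulAut.conj m = MulAut.conj (m⁻¹ * c * phi m) * phi := by
  refine MulEquiv.ext fun g => ?_
  rw [hx]
  simp only [MulAut.mul_apply, MulAut.conj_apply]
  simp only [map_mul, map_inv, inv_inv]
  group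

theorem conj_mul_apply (a : GD) (y : MulAut GD) (z : GD) : (MulAut.conj a * y) z = a * y z * a⁻¹ := rfl

theorem twist_untwist {x y : MulAut GD} {v : GD} (hx : x = MulAut.conj (v * (y v)⁻¹) * y) :
    MulAut.conj v⁻¹ * x * MulAut.conj v = y := by
  refine MulEquiv.ext fun z => ?_
  rw [hx]
  show v⁻¹ * (v * (y v)⁻¹ * y (v * z * v⁻¹) * (v * (y v)⁻¹)⁻¹) * v⁻¹⁻¹ = y z
  rw [map_mul, map_mul, map_inv]
  group

theorem conj_conj_aut (x : MulAut GD) (g v : GD) :
    MulAut.conj (g * v)⁻¹ * x * MulAut.conj (g * v) =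
      MulAut.conj v⁻¹ * (MulAut.conj g⁻¹ * x * MulAut.conj g) * MulAut.conj v := by
  simp only [mul_inv_rev, map_mul, mul_assoc]

theorem mem_single (r : ℕ) (hr : r < 24) (t : F) : autEl CD r t ∈ rsG F (fun s => Nat.beq s r) :=
  autEl_mem_rsG (p := fun s => Nat.beq s r) hr (Nat.beq_refl r) t

theorem beq_of_eq {a b : ℕ} (h : a = b) : Nat.beq a b = true := h ▸ Nat.beq_refl a

theorem per_conj {x : MulAut GD} (h : ∀ g, x (x (x g)) = g) (m : GD) (g : GD) :
    (MulAut.conj m⁻¹ * x * MulAut.conj m) ((MulAut.conj m⁻¹ * x * MulAut.conj m)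
      ((MulAut.conj m⁻¹ * x * MulAut.conj m) g)) = g := by
  have hm : ∀ z : GD, MulAut.conj m (MulAut.conj m⁻¹ z) = z := fun z => by
    simp only [MulAut.conj_apply, inv_inv]; group
  have hm' : ∀ z : GD, MulAut.conj m⁻¹ (MulAut.conj m z) = z := fun z => by
    simp only [MulAut.conj_apply, inv_inv]; group
  simp only [MulAut.mul_apply, hm, h, hm']

section Props

variable {x : MulAut ↥(chevD4.group F)} (hx : TriAut x)
include hx

theorem TriAut.map_rs {p q : ℕ → Bool} (h : ∀ r < 24, p r = true → q (triR r) = true)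
    (hn : ∀ l ∈ LL, ∀ g ∈ rsG F q, l * g * l⁻¹ ∈ rsG F q) {g : GD} (hg : g ∈ rsG F p) :
    x g ∈ rsG F q := by
  obtain ⟨l, hl, phi, hphi, rfl⟩ := hx.ex
  exact hn l hl _ (hphi.map_rsG h hg)

theorem TriAut.map_U {g : GD} (hg : g ∈ UR) : x g ∈ UR :=
  hx.map_rs (by decide +kernel) (fun _ hl _ hg => conj_mem_rad (lG_le_pG _ hl) hg) hg

theorem TriAut.map_P {g : GD} (hg : g ∈ PP) : x g ∈ PP := by
  obtain ⟨l, hl, phi, hphi, rfl⟩ := hx.ex
  exact mul_mem (mul_mem (lG_le_pG _ hl) (hphi.map_pG (by decide +kernel) hg)) (inv_mem (lG_le_pG _ hl))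

theorem TriAut.map_L {g : GD} (hg : g ∈ LL) : x g ∈ LL := by
  obtain ⟨l, hl, phi, hphi, rfl⟩ := hx.ex
  exact mul_mem (mul_mem hl (hphi.map_lG (by decide +kernel) hg)) (inv_mem hl)

theorem TriAut.conj {m : GD} (hm : m ∈ LL) : TriAut (MulAut.conj m⁻¹ * x * MulAut.conj m) := by
  obtain ⟨l, hl, phi, hphi, e⟩ := hx.ex
  exact ⟨⟨m⁻¹ * l * phi m, mul_mem (mul_mem (inv_mem hm) hl) (hphi.map_lG (by decide +kernel) hm), phi, hphi,
    conj_twist x m l e⟩, per_conj hx.per m⟩

theorem TriAut.opp : TriAut (MulAut.conj (wel F wOpp)⁻¹ * x * MulAut.conj (wel F wOpp)) := by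
  obtain ⟨l, hl, phi, hphi, e⟩ := hx.ex
  refine ⟨⟨(wel F wOpp)⁻¹ * l * phi (wel F wOpp), ?_, phi, hphi, conj_twist x _ l e⟩, per_conj hx.per _⟩
  obtain ⟨t, ht, et⟩ := hphi.map_wel wOpp_word
  obtain ⟨s, hs, es⟩ := wel_congr (F := F) wOpp_word (isWord_map hphi.nd_lt wOpp_word)
    (samePerm_of_simple CD KD wOpp_word (isWord_map hphi.nd_lt wOpp_word) (by decide +kernel))
  rw [et, es, show (wel F wOpp)⁻¹ * l * (t * (wel F wOpp * s)) =
    ((wel F wOpp)⁻¹ * (l * t) * wel F wOpp) * s by group]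
  refine mul_mem (wel_inv_conj_lG wOpp_word (J := [1]) (fun r hr hp => ?_) (mul_mem hl (tG_le_lG _ ht)))
    (tG_le_lG _ hs)
  rw [(wperm_opp hr).2]
  exact (show ∀ r < 24, pLev [1] r = true → pLev [1] (tblD4.neg r) = true by decide +kernel) r hr hp

end Props

theorem levi_norm_VR {l g : GD} (hl : l ∈ LL) (hg : g ∈ VR) : l * g * l⁻¹ ∈ VR := by
  set W := wel F wOpp
  have hl' : W * l * W⁻¹ ∈ LL := wel_conj_lG wOpp_word (fun r hr hp => by
    rw [(wperm_opp hr).1]
    exact (show ∀ r < 24, pLev [1] r = true → pLev [1] (tblD4.neg r) = true by decide +kernel) r hr hp) hl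
  have hg' : W * g * W⁻¹ ∈ UR := wel_conj_rsG wOpp_word (fun r hr hp => by
    rw [(wperm_opp hr).1]
    exact (show ∀ r < 24, pNeg [1] r = true → pRad [1] (tblD4.neg r) = true by decide +kernel) r hr hp) hg
  have h := wel_inv_conj_rsG (q := pNeg [1]) wOpp_word (fun r hr hp => by
    rw [(wperm_opp hr).2]
    exact (show ∀ r < 24, pRad [1] r = true → pNeg [1] (tblD4.neg r) = true by decide +kernel) r hr hp)
    (conj_mem_rad (lG_le_pG _ hl') hg')
  rwa [show W⁻¹ * (W * l * W⁻¹ * (W * g * W⁻¹) * (W * l * W⁻¹)⁻¹) * W = l * g * l⁻¹ by group] at h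

theorem not_three_dvd_rsG (p : ℕ) [Fact p.Prime] [CharP F p] (hp3 : p ≠ 3) {q : ℕ → Bool}
    (hq : ∀ r < 24, q r = true → isP r = true) : ¬ 3 ∣ Nat.card ↥(rsG F q) := by
  have hle : (rsG F q).map (chevD4.group F).subtype ≤ chevD4.posUnipotent F := by
    rw [rsG_coe, Subgroup.closure_le]
    rintro _ ⟨r, t, hr, hp, rfl⟩
    exact xg_mem_pos CD (D := chevD4) hr (Nat.le_of_ble_eq_true (hq r hr hp)) t
  intro h
  have h1 : Nat.card ↥(rsG F q) ∣ Nat.card F ^ (chevD4.nroots / 2) := by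
    rw [← card_pos CD KD, Nat.card_congr ((rsG F q).equivMapOfInjective _ (chevD4.group F).subtype_injective).toEquiv]
    exact Subgroup.card_dvd_of_le hle
  obtain ⟨f, hf, e⟩ := FiniteField.card F p
  rw [Nat.card_eq_fintype_card (α := F), e, ← pow_mul] at h1
  exact hp3 ((Nat.prime_dvd_prime_iff_eq Nat.prime_three Fact.out).1
    (Nat.prime_three.dvd_of_dvd_pow (h.trans h1))).symm

/-- An automorphism conjugate into the parabolic subgroup is conjugate to one of the Levi subgroup. -/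
theorem exists_triAut (p : ℕ) [Fact p.Prime] [CharP F p] (hp3 : p ≠ 3) {x phi : MulAut GD}
    (hphi : IsMono phi triR triN) {c : GD} (hx : x = MulAut.conj c * phi) (h3 : ∀ g, x (x (x g)) = g) :
    ∃ g : GD, TriAut (MulAut.conj g⁻¹ * x * MulAut.conj g) := by
  obtain ⟨g, hg⟩ := exists_conj_pG p hphi (c := c) (fun z => by rw [← hx]; exact h3 z)
  obtain ⟨u, hu, l, hl, e⟩ := exists_rad_mul_lev hg
  set x1 : MulAut GD := MulAut.conj g⁻¹ * x * MulAut.conj g with hx1
  set x0 : MulAut GD := MulAut.conj l * phi with hx0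
  have e1 : x1 = MulAut.conj u * x0 := by
    rw [hx1, conj_twist x g c hx, e, map_mul, mul_assoc]
  have h0U : ∀ v ∈ UR, x0 v ∈ UR := fun v hv => by
    show l * phi v * l⁻¹ ∈ UR
    exact conj_mem_rad (lG_le_pG _ hl) (hphi.map_rsG (by decide +kernel) hv)
  have h0V : ∀ v ∈ VR, x0 v ∈ VR := fun v hv => by
    show l * phi v * l⁻¹ ∈ VR
    exact levi_norm_VR hl (hphi.map_rsG (by decide +kernel) hv)
  set n := u * x0 u * x0 (x0 u) with hn
  have hN : ∀ z, x0 (x0 (x0 z)) = n⁻¹ * z * n := fun z => by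
    have h := per_conj h3 g z
    rw [← hx1, e1] at h
    simp only [conj_mul_apply u, map_mul, map_inv] at h
    conv_rhs => rw [← h]
    rw [hn]; group
  have hn1 : n = 1 := inv_eq_one.1 (rad_eq_one_of_norm (inv_mem (mul_mem (mul_mem hu (h0U u hu)) (h0U _ (h0U u hu))))
    fun v hv => by rw [inv_inv, ← hN]; exact h0V _ (h0V _ (h0V v hv)))
  have h03 : ∀ z, x0 (x0 (x0 z)) = z := fun z => by rw [hN, hn1, inv_one, one_mul, mul_one]
  obtain ⟨v, hv, ev⟩ := exists_twist_mem x0 UR h0U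
    (not_three_dvd_rsG p hp3 (fun r _ h => (Bool.and_eq_true _ _ ▸ h : _ ∧ _).1)) hu (fun z _ => h03 z) hn1
  refine ⟨g * v, ?_⟩
  have e2 : MulAut.conj (g * v)⁻¹ * x * MulAut.conj (g * v) = x0 := by
    rw [conj_conj_aut]
    exact twist_untwist (by rw [← hx1, e1, ev])
  rw [e2]
  exact ⟨⟨l, hl, phi, hphi, rfl⟩, h03⟩

/-! ### The double cosets -/

/-- Minimal on both sides. -/
noncomputable def minB (u : List ℕ) : Bool :=
  isP (wperm tblD4 u (tblD4.simp' 1)) && isP (wperm tblD4 u.reverse (tblD4.simp' 1))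

/-- The part of the radical moved to the opposite one. -/
noncomputable def pC (u : List ℕ) (r : ℕ) : Bool := isP r && !isP (wperm tblD4 u.reverse r)

/-- The part of the unipotent group kept. -/
noncomputable def pA (u : List ℕ) (r : ℕ) : Bool := isP r && isP (wperm tblD4 u.reverse r)

/-- The same action. -/
noncomputable def eqW (u v : List ℕ) : Bool :=
  allBelow (fun k => Nat.beq (wperm tblD4 u (tblD4.simp' k)) (wperm tblD4 v (tblD4.simp' k))) 4

/-- Normalising the Levi subgroup. -/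
noncomputable def bigK (u : List ℕ) : Bool :=
  allBelow (fun r => (pC u r == pRad [1] r) && (!pLev [1] r || pLev [1] (wperm tblD4 u r)) &&
    (!pLev [1] r || pLev [1] (wperm tblD4 u.reverse r))) 24

/-- Meeting the parabolic subgroup in a Borel subgroup of it. -/
noncomputable def midK (u : List ℕ) : Bool :=
  upOK [1] u && !eqW (1 :: u) u && !eqW (1 :: u) (u ++ [1])

/-- The general conditions. -/
noncomputable def baseK (u : List ℕ) : Bool :=
  allBelow (fun r => !pC u r || (pC u (triR r) && pRad [1] r && pNeg [1] (wperm tblD4 u.reverse r))) 24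

/-- The orbit of a root and of its negative. -/
def orb (β : ℕ) : List ℕ := [β, triR β, triR (triR β)]

/-- A root to build the element from. -/
noncomputable def rootK (u : List ℕ) (β : ℕ) : Bool :=
  ((orb β).all fun r => pRad [1] r && pRad [1] (wperm tblD4 u.reverse (tblD4.neg r))) &&
  Nat.beq (triR (triR (triR β))) β && Nat.beq (triR (tblD4.neg β)) (tblD4.neg (triR β)) &&
  Nat.beq (triR (tblD4.neg (triR β))) (tblD4.neg (triR (triR β))) &&
  ([β, tblD4.neg β].all fun r => [triR β, tblD4.neg (triR β), triR (triR β), tblD4.neg (triR (triR β))].all fun s =>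
    commB r s) &&
  ([triR β, tblD4.neg (triR β)].all fun r => [triR (triR β), tblD4.neg (triR (triR β))].all fun s => commB r s) &&
  (!bigK u || (orb β).all fun r => [tblD4.simp' 1, tblD4.neg (tblD4.simp' 1)].all fun s =>
    commB r s && commB (tblD4.neg r) s)

theorem cosets_D4 : (allD4.all fun u => !minB u || (minB (u.map triN) &&
    (!eqW u (u.map triN) || fixAll u || (baseK u && (bigK u || midK u) && anyBelow (rootK u) 24)))) = true := by
  decide +kernel

theorem rmin_of_minB {u : List ℕ} (h : minB u = true) :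
    RMin chevD4 tblD4 {k | k ∈ [1]} u ∧ RMin chevD4 tblD4 {k | k ∈ [1]} u.reverse := by
  simp only [minB, Bool.and_eq_true, isP, Nat.ble_eq] at h
  constructor <;> intro j hj _ <;> rw [List.mem_singleton.1 hj]
  exacts [h.1, h.2]

theorem pG_one_le (J : List ℕ) {g : GL4} (hg : g ∈ chevD4.parabolicSubgroup F {k | k ∈ J}) : g ∈ chevD4.group F := by
  rw [← normalizer_radical CD KD] at hg
  exact hg.2

theorem levi_conj_root {r : ℕ} (hr : r < 24)
    (h : ([tblD4.simp' 1, tblD4.neg (tblD4.simp' 1)].all fun s => commB r s) = true) {l : GD} (hl : l ∈ LL) :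
    ∀ g ∈ rsG F (fun s => Nat.beq s r), l * g * l⁻¹ ∈ rsG F (fun s => Nat.beq s r) := by
  have key : ∀ s < 24, pLev [1] s = true → s = tblD4.simp' 1 ∨ s = tblD4.neg (tblD4.simp' 1) := by decide +kernel
  have hS : rsG F (pLev [1]) ≤ Subgroup.centralizer (rsG F (fun s => Nat.beq s r) : Set GD) := by
    refine (Subgroup.closure_le _).2 ?_
    rintro _ ⟨s, t, hs, hp, rfl⟩
    refine Subgroup.mem_centralizer_iff.2 fun g hg => ?_
    induction hg using Subgroup.closure_induction with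
    | mem y hy =>
      obtain ⟨r', t', -, hr', rfl⟩ := hy
      rw [Nat.beq_eq] at hr'
      subst hr'
      refine (commute_of_commB hr hs ?_ t' t).eq
      simp only [List.all_cons, List.all_nil, Bool.and_true, Bool.and_eq_true] at h
      rcases key s hs hp with rfl | rfl
      exacts [h.1, h.2]
    | one => rw [one_mul, mul_one]
    | mul a b _ _ ha hb => rw [mul_assoc, hb, ← mul_assoc, ha, mul_assoc]
    | inv a _ ha => exact (Commute.inv_left (show Commute a _ from ha)).eq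
  let N : Subgroup GD := Subgroup.normalizer (rsG F (fun s => Nat.beq s r) : Set GD)
  have hN : LL ≤ N := by
    refine sup_le (fun t ht => ?_) fun z hz => ?_
    · refine Subgroup.mem_normalizer_iff.2 fun g => ⟨fun hg => conj_rsG ht hg, fun hg => ?_⟩
      have := conj_rsG (inv_mem ht) hg
      rwa [show t⁻¹ * (t * g * t⁻¹) * t⁻¹⁻¹ = g by group] at this
    · exact Subgroup.centralizer_le_normalizer _ (hS hz)
  exact fun g hg => (Subgroup.mem_normalizer_iff.1 (hN hl) g).1 hg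

theorem mem_rs_single {r : ℕ} {g : GD} (hg : g ∈ rsG F (fun s => Nat.beq s r)) : ∃ t, g = autEl CD r t := by
  induction hg using Subgroup.closure_induction with
  | mem y hy =>
    obtain ⟨r', t, -, hr', rfl⟩ := hy
    rw [Nat.beq_eq] at hr'
    exact ⟨t, by rw [hr']⟩
  | one => exact ⟨0, Subtype.ext (xg_zero CD r).symm⟩
  | mul a b _ _ ha hb =>
    obtain ⟨t, rfl⟩ := ha; obtain ⟨s, rfl⟩ := hb
    exact ⟨t + s, autEl_add CD r t s⟩
  | inv a _ ha => obtain ⟨t, rfl⟩ := ha; exact ⟨-t, Subtype.ext (xg_inv CD r t)⟩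

/-- The element of order dividing six. -/
theorem exists_six {x : MulAut GD} (hper : ∀ g, x (x (x g)) = g) {H : Subgroup GD} {u : List ℕ} {β : ℕ}
    (hβ : β < 24) (hK : rootK u β = true)
    (hmv : ∀ r ∈ [β, tblD4.neg β, triR β, tblD4.neg (triR β)], ∀ t, ∃ s, x (autEl CD r t) = autEl CD (triR r) s)
    (hpos : ∀ z : GD, x z = z → z ∈ rsG F (fun r => (orb β).elem r) → z ∈ H)
    (hneg : ∀ z : GD, x z = z → z ∈ rsG F (fun r => (orb β).elem (tblD4.neg r)) → z ∈ H) :
    ∃ z ∈ H, z ^ 6 = 1 ∧ z ^ 2 ≠ 1 := by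
  simp only [rootK, orb, List.all_cons, List.all_nil, Bool.and_true, Bool.and_eq_true, Nat.beq_eq] at hK
  have hn : tblD4.neg β < 24 := (CD).spec.neg_lt β hβ
  have h1 : triR β < 24 := mono_tri (F := F) |>.lt β hβ
  have hn1 : tblD4.neg (triR β) < 24 := (CD).spec.neg_lt _ h1
  have h2 : triR (triR β) < 24 := mono_tri (F := F) |>.lt _ h1
  have hn2 : tblD4.neg (triR (triR β)) < 24 := (CD).spec.neg_lt _ h2
  obtain ⟨⟨⟨⟨⟨⟨-, e3⟩, en⟩, en'⟩, hcA⟩, hcB⟩, -⟩ := hK
  set a := autEl CD β (1 : F) with ha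
  set b := autEl CD (tblD4.neg β) (-1 : F) with hb
  obtain ⟨s1, es1⟩ := hmv β (by simp) 1
  obtain ⟨s2, es2⟩ := hmv (triR β) (by simp) s1
  obtain ⟨t1, et1⟩ := hmv (tblD4.neg β) (by simp) (-1)
  obtain ⟨t2, et2⟩ := hmv (tblD4.neg (triR β)) (by simp) t1
  rw [en] at et1
  rw [en'] at et2
  rw [← ha] at es1
  rw [← hb] at et1
  have e2a : x (x a) = autEl CD (triR (triR β)) s2 := by rw [es1, es2]
  have e2b : x (x b) = autEl CD (tblD4.neg (triR (triR β))) t2 := by rw [et1, et2]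
  have hab1 : Commute a (x a) ∧ Commute a (x b) ∧ Commute b (x a) ∧ Commute b (x b) := by
    rw [es1, et1]
    exact ⟨commute_of_commB hβ h1 hcA.1.1 _ _, commute_of_commB hβ hn1 hcA.1.2.1 _ _,
      commute_of_commB hn h1 hcA.2.1 _ _, commute_of_commB hn hn1 hcA.2.2.1 _ _⟩
  have hab2 : Commute a (x (x a)) ∧ Commute a (x (x b)) ∧ Commute b (x (x a)) ∧ Commute b (x (x b)) := by
    rw [e2a, e2b]
    exact ⟨commute_of_commB hβ h2 hcA.1.2.2.1 _ _, commute_of_commB hβ hn2 hcA.1.2.2.2 _ _,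
      commute_of_commB hn h2 hcA.2.2.2.1 _ _, commute_of_commB hn hn2 hcA.2.2.2.2 _ _⟩
  have hab12 : Commute (x a) (x (x a)) ∧ Commute (x a) (x (x b)) ∧ Commute (x b) (x (x a)) ∧
      Commute (x b) (x (x b)) :=
    ⟨hab1.1.map x, hab1.2.1.map x, hab1.2.2.1.map x, hab1.2.2.2.map x⟩
  -- the products
  have hfix : ∀ w : GD, Commute w (x w) → Commute w (x (x w)) → x (w * x w * x (x w)) = w * x w * x (x w) := by
    intro w c1 c2
    rw [map_mul, map_mul, hper, mul_assoc w, ← (c1.mul_right c2).eq]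
  have hyp : a * x a * x (x a) ∈ H := by
    refine hpos _ (hfix a hab1.1 hab2.1) ?_
    rw [e2a, es1]
    refine mul_mem (mul_mem ?_ ?_) ?_ <;> apply autEl_mem_rsG <;> first | assumption | simp [orb]
  have hym : b * x b * x (x b) ∈ H := by
    refine hneg _ (hfix b hab1.2.2.2 hab2.2.2.2) ?_
    rw [e2b, et1]
    refine mul_mem (mul_mem ?_ ?_) ?_ <;> apply autEl_mem_rsG <;>
      first | assumption | simp [orb, (CD).spec.neg_neg (D := chevD4) _ hβ, (CD).spec.neg_neg (D := chevD4) _ h1,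
        (CD).spec.neg_neg (D := chevD4) _ h2]
  set A := a * b with hA
  have c1 : Commute A (x A) := by
    rw [hA, map_mul]
    exact (hab1.1.mul_right hab1.2.1).mul_left (hab1.2.2.1.mul_right hab1.2.2.2)
  have c2 : Commute A (x (x A)) := by
    rw [hA, map_mul, map_mul]
    exact (hab2.1.mul_right hab2.2.1).mul_left (hab2.2.2.1.mul_right hab2.2.2.2)
  have c3 : Commute (x A) (x (x A)) := c1.map x
  refine ⟨A * x A * x (x A), ?_, ?_, ?_⟩
  · have := mul_mem hyp hym
    rwa [show a * x a * x (x a) * (b * x b * x (x b)) = A * x A * x (x A) by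
      rw [hA, map_mul, map_mul]
      calc a * x a * x (x a) * (b * x b * x (x b)) = a * x a * (x (x a) * b) * (x b * x (x b)) := by group
        _ = a * (x a * b) * (x (x a) * x b) * x (x b) := by rw [← hab2.2.2.1.eq]; group
        _ = a * (b * x a) * (x b * x (x a)) * x (x b) := by rw [hab1.2.2.1.eq, hab12.2.2.1.eq]
        _ = _ := by group] at this
  · have hne : tblD4.neg β ≠ β := fun e => by have := (CD).neg_eq (D := chevD4) hβ; change tblD4.neg β = 24 - 1 - β at this; omega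
    have h6 : A ^ 6 = 1 := Subtype.ext (by
      rw [Subgroup.coe_pow, hA, ha, hb, Subgroup.coe_mul]
      exact (pair_gadget (F := F) CD (D := chevD4) hβ hne).1)
    rw [(c2.mul_left c3).mul_pow, c1.mul_pow, h6, ← map_pow, h6, map_one, ← map_pow, ← map_pow, h6, map_one, map_one,
      one_mul, one_mul]
  · intro h
    have hne : tblD4.neg β ≠ β := fun e => by have := (CD).neg_eq (D := chevD4) hβ; change tblD4.neg β = 24 - 1 - β at this; omega
    refine (pair_gadget (F := F) CD (D := chevD4) hβ hne).2 ?_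
    rw [(c2.mul_left c3).mul_pow, c1.mul_pow, mul_assoc, mul_eq_one_iff_eq_inv] at h
    have hc : Commute a (x A * x (x A)) := by
      rw [hA, map_mul, map_mul]
      exact (hab1.1.mul_right hab1.2.1).mul_right (hab2.1.mul_right hab2.2.1)
    have hA2 : Commute a (A ^ 2) := by
      rw [h, ← c3.mul_pow]
      exact (hc.pow_right 2).inv_right
    have := hA2.map (chevD4.group F).subtype
    rwa [map_pow, hA, ha, hb, map_mul] at this

/-- The fixed element of a fixed coset in normal form. -/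
theorem coset_core {x : MulAut GD} (hx : TriAut x) {u : List ℕ} (hu : IsWord chevD4 u) (hbase : baseK u = true)
    (hw : (wel F u)⁻¹ * x (wel F u) ∈ PP) (hC : ∀ c ∈ rsG F (pC u), x c ∈ rsG F (pC u))
    {g c : GD} (hc : c ∈ rsG F (pC u)) (hg : (c * wel F u)⁻¹ * g ∈ PP) (hgx : g⁻¹ * x g ∈ PP) : x c = c := by
  simp only [baseK, allBelow_iff, Bool.or_eq_true, Bool.and_eq_true, Bool.not_eq_true'] at hbase
  set v := wel F u
  set p := (c * v)⁻¹ * g
  have hg' : g = c * v * p := by simp only [p]; group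
  have h1 : (c * v)⁻¹ * x (c * v) ∈ PP := by
    have := mul_mem (mul_mem hg hgx) (inv_mem (hx.map_P hg))
    rwa [show p * (g⁻¹ * x g) * (x p)⁻¹ = (c * v)⁻¹ * x (c * v) by
      conv_lhs => rw [hg', map_mul (x) (c * v) p]
      group] at this
  have h2 : v⁻¹ * (c⁻¹ * x c) * v ∈ PP := by
    have := mul_mem h1 (inv_mem hw)
    rwa [map_mul, show (c * v)⁻¹ * (x c * x v) * (v⁻¹ * x v)⁻¹ = v⁻¹ * (c⁻¹ * x c) * v by group] at this
  have h3 : v⁻¹ * (c⁻¹ * x c) * v ∈ VR := wel_inv_conj_rsG hu (fun r hr hp =>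
    ((hbase r hr).resolve_left (by simp [hp])).2) (mul_mem (inv_mem hc) (hC c hc))
  have := pG_inf_neg h2 h3
  have e : c⁻¹ * x c = 1 := by
    rw [← mul_right_inj v⁻¹, ← mul_left_inj v, this]; group
  exact (inv_mul_eq_one.1 e).symm

theorem coset_done {x : MulAut GD} (hx : TriAut x) {H : Subgroup GD} {g c : GD} {u : List ℕ}
    (hu : IsWord chevD4 u) (hbase : baseK u = true) {β : ℕ} (hβ : β < 24) (hK : rootK u β = true)
    (hmv : ∀ r ∈ [β, tblD4.neg β, triR β, tblD4.neg (triR β)], ∀ t, ∃ s, x (autEl CD r t) = autEl CD (triR r) s)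
    (hw : (wel F u)⁻¹ * x (wel F u) ∈ PP) (hC : ∀ c ∈ rsG F (pC u), x c ∈ rsG F (pC u))
    (hc : c ∈ rsG F (pC u)) (hg : (c * wel F u)⁻¹ * g ∈ PP) (hgx : g⁻¹ * x g ∈ PP)
    (h1 : ∀ z ∈ UR, x z = z → z ∈ H) (h2 : ∀ z, g⁻¹ * z * g ∈ UR → x z = z → z ∈ H) :
    ∃ z ∈ H, z ^ 6 = 1 ∧ z ^ 2 ≠ 1 := by
  have hfix := coset_core hx hu hbase hw hC hc hg hgx
  simp only [baseK, allBelow_iff, Bool.or_eq_true, Bool.and_eq_true, Bool.not_eq_true'] at hbase
  have hcH : c ∈ H := h1 c (rsG_mono (fun r hr hp => ((hbase r hr).resolve_left (by simp [hp])).1.2) hc) hfix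
  have hK' := hK
  simp only [rootK, Bool.and_eq_true, List.all_eq_true, Bool.and_eq_true] at hK'
  obtain ⟨⟨⟨⟨⟨⟨hr, -⟩, -⟩, -⟩, -⟩, -⟩, -⟩ := hK'
  refine exists_six hx.per hβ hK hmv (fun z hz hm => h1 z (rsG_mono (fun r _ hp => ?_) hm) hz) fun z hz hm => ?_
  · exact (hr r (List.elem_iff.1 hp)).1
  · have hzU : (wel F u)⁻¹ * z * wel F u ∈ UR := wel_inv_conj_rsG hu (fun r hr' hp => by
      have := (hr _ (List.elem_iff.1 hp)).2
      rwa [(CD).spec.neg_neg (D := chevD4) r hr'] at this) hm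
    have hzc : c * z * c⁻¹ ∈ H := by
      refine h2 _ ?_ (by rw [map_mul, map_mul, map_inv, hfix, hz])
      have := conj_mem_rad (inv_mem hg) hzU
      rwa [show ((c * wel F u)⁻¹ * g)⁻¹ * ((wel F u)⁻¹ * z * wel F u) * (((c * wel F u)⁻¹ * g)⁻¹)⁻¹ =
        g⁻¹ * (c * z * c⁻¹) * g by group] at this
    have := mul_mem (mul_mem (inv_mem hcH) hzc) hcH
    rwa [show c⁻¹ * (c * z * c⁻¹) * c = z by group] at this

/-- Elements of the Borel subgroup in the Levi subgroup. -/
theorem bG_inf_LL {b : GD} (hb : b ∈ bG F) (hl : b ∈ LL) :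
    ∃ s, ∃ d ∈ tG F, b = autEl CD (tblD4.simp' 1) s * d := by
  obtain ⟨a, ha, d, hd, e⟩ := (mem_borel CD).1 (show (b : GL4) ∈ chevD4.borelSubgroup F from hb)
  obtain ⟨v, hv, s, ev⟩ := pos_decomp CD KD (D := chevD4) (i := 1) (by decide) ha
  let dd : GD := ⟨d, diag_le_group CD hd⟩
  have hvG : v ∈ chevD4.group F := pos_le_group CD (radical_le_pos CD _ hv)
  have hset : ({1} : Set ℕ) = {k | k ∈ [1]} := Set.ext fun k => by simp
  have h1 : (⟨v, hvG⟩ : GD) ∈ UR := mem_rad.2 (hset ▸ hv)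
  have e' : b = ⟨v, hvG⟩ * autEl CD (tblD4.simp' 1) s * dd := Subtype.ext (by rw [e, ev]; rfl)
  have hs : autEl CD (tblD4.simp' 1) s ∈ LL :=
    Subgroup.mem_sup_right (autEl_mem_rsG ((CD).spec.simp_lt 1 (by decide)) (by decide +kernel) s)
  have hd' : dd ∈ LL := tG_le_lG _ hd
  have hvL : (⟨v, hvG⟩ : GD) ∈ LL := by
    have := mul_mem (mul_mem hl (inv_mem hd')) (inv_mem hs)
    rwa [e', mul_inv_cancel_right, mul_inv_cancel_right] at this
  rw [rad_inf_lev h1 hvL, one_mul] at e'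
  exact ⟨s, dd, hd, e'⟩

/-- An element of the Borel subgroup split by a word. -/
theorem borel_split {u : List ℕ} (hu : IsWord chevD4 u) {b : GD} (hb : b ∈ bG F) :
    ∃ c ∈ rsG F (pC u), (wel F u)⁻¹ * (c⁻¹ * b) * wel F u ∈ bG F := by
  obtain ⟨a, ha, d, hd, e⟩ := (mem_borel CD).1 (show (b : GL4) ∈ chevD4.borelSubgroup F from hb)
  have ha' : a⁻¹ ∈ upper CD F (chevD4.nroots / 2) := by
    rw [← posUnipotent_eq CD]; exact inv_mem ha
  obtain ⟨a1, h1, c1, hc1, e1⟩ := upper_split CD KD u.reverse (chevD4.nroots - chevD4.nroots / 2)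
    (k := chevD4.nroots / 2) (by decide) (by decide) ha'
  have hsp : ∀ neg, signPart CD KD F u.reverse neg (chevD4.nroots / 2) ≤
      (rsG F (bif neg then pC u else pA u)).map (chevD4.group F).subtype := by
    intro neg
    rw [rsG_coe]
    refine Subgroup.closure_mono ?_
    rintro _ ⟨r, t, h12, hr, hsg, rfl⟩
    refine ⟨r, t, hr, ?_, rfl⟩
    have hP : isP r = true := by rw [isP, Nat.ble_eq]; change 24 / 2 ≤ r at h12; omega
    have hiff : isP (wperm tblD4 u.reverse r) = !neg := by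
      rw [← hsg, ← decide_not, Bool.eq_iff_iff, isP, Nat.ble_eq, decide_eq_true_eq, not_lt]
      exact Iff.rfl
    cases neg <;> simp_all [pA, pC]
  obtain ⟨a2, ha2, ea2⟩ := hsp false h1
  obtain ⟨c2, hc2, ec2⟩ := hsp true hc1
  let dd : GD := ⟨d, diag_le_group CD hd⟩
  refine ⟨c2⁻¹, inv_mem hc2, ?_⟩
  have e' : (c2⁻¹)⁻¹ * b = a2⁻¹ * dd := Subtype.ext (by
    rw [inv_inv, Subgroup.coe_mul, Subgroup.coe_mul, Subgroup.coe_inv, e]
    change (a2 : GL4) = a1 at ea2
    change (c2 : GL4) = c1 at ec2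
    rw [ea2, ec2, ← inv_inv a, e1]
    group
    rfl)
  rw [e', show (wel F u)⁻¹ * (a2⁻¹ * dd) * wel F u =
    ((wel F u)⁻¹ * a2 * wel F u)⁻¹ * ((wel F u)⁻¹ * dd * wel F u) by group]
  refine mul_mem (inv_mem ?_) (Subgroup.mem_sup_right (wel_conj_tG hu (show dd ∈ tG F from hd)).2)
  rw [← pG_nil, pG_eq]
  exact Subgroup.mem_sup_right (wel_inv_conj_rsG hu (fun r hr hp => by
    simp only [cond_false, pA, Bool.and_eq_true] at hp
    show pPar [] _ = true
    rw [pPar, hp.2]; rfl) ha2)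

/-- The parabolic subgroup meets its conjugate in the Borel subgroup only. -/
theorem mid_inter {u : List ℕ} (hu : IsWord chevD4 u) (hmin : minB u = true) (hK : midK u = true) {q : GD}
    (hq : q ∈ PP) (hq' : (wel F u)⁻¹ * q * wel F u ∈ PP) : q ∈ bG F := by
  simp only [midK, Bool.and_eq_true, Bool.not_eq_true'] at hK
  simp only [minB, Bool.and_eq_true] at hmin
  rcases pG_single_cells (i := 1) (by decide) hq with h | h
  · exact inCell_nil.1 h
  exfalso
  have h1w : IsWord chevD4 (1 :: u) := hu.cons (by decide)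
  have e1 := mul_inCell (F := F) u (isWord_single (by decide)) hu hK.1.1 h
    (inCell_wel (one_mem _) (one_mem _) u)
  rw [one_mul, mul_one] at e1
  have hne : ∀ v, eqW (1 :: u) v = false → IsWord chevD4 v → ¬ InCell (q * wel F u) v := fun v hv hvw hc => by
    have := samePerm_of_cells h1w hvw e1 hc
    rw [eqW, ← Bool.not_eq_true, allBelow_iff] at hv
    exact hv fun k hk => beq_of_eq (this _ ((CD).spec.simp_lt k hk))
  have e2 : q * wel F u = wel F u * ((wel F u)⁻¹ * q * wel F u) := by group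
  rcases pG_single_cells (i := 1) (by decide) hq' with h' | h'
  · refine hne u hK.1.2 hu ?_
    rw [e2]
    have := mul_inCell [] hu isWord_nil rfl (inCell_wel (one_mem (bG F)) (one_mem (bG F)) u) h'
    rwa [List.append_nil, one_mul, mul_one] at this
  · refine hne (u ++ [1]) hK.2 (hu.append (isWord_single (by decide))) ?_
    rw [e2]
    have := mul_inCell [1] hu (isWord_single (by decide)) (by simp [upOK, hmin.1])
      (inCell_wel (one_mem (bG F)) (one_mem (bG F)) u) h'
    rwa [one_mul, mul_one] at this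

theorem root_of_rs {x : MulAut GD} {r : ℕ} (hr : r < 24)
    (h : ∀ g ∈ rsG F (fun s => Nat.beq s r), x g ∈ rsG F (fun s => Nat.beq s (triR r))) (t : F) :
    ∃ s, x (autEl CD r t) = autEl CD (triR r) s :=
  mem_rs_single (h _ (mem_single r hr t))

/-- The translation normalised to the torus. -/
theorem torus_of_borel (p : ℕ) [Fact p.Prime] [CharP F p] (hp3 : p ≠ 3) {x phi : MulAut GD} (hx : TriAut x)
    (hphi : IsMono phi triR triN) {k : GD} (hk : k ∈ bG F) (hk' : k ∈ LL) (e : x = MulAut.conj k * phi) :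
    ∃ w ∈ bG F, w ∈ LL ∧ ∃ d ∈ tG F, MulAut.conj w⁻¹ * x * MulAut.conj w = MulAut.conj d * phi := by
  obtain ⟨s, d, hd, rfl⟩ := bG_inf_LL hk hk'
  set X := rsG F (fun r => Nat.beq r (tblD4.simp' 1)) with hX
  set x0 : MulAut GD := MulAut.conj d * phi with hx0
  have e1 : x = MulAut.conj (autEl CD (tblD4.simp' 1) s) * x0 := by rw [e, map_mul, mul_assoc]
  have hp1 : tblD4.simp' 1 < 24 := (CD).spec.simp_lt 1 (by decide)
  have hn1 : tblD4.neg (tblD4.simp' 1) < 24 := (CD).spec.neg_lt _ hp1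
  have hmX : ∀ g ∈ X, x0 g ∈ X := fun g hg => by
    show d * phi g * d⁻¹ ∈ X
    exact conj_rsG hd (hphi.map_rsG (by decide +kernel) hg)
  have hmY : ∀ g ∈ rsG F (fun r => Nat.beq r (tblD4.neg (tblD4.simp' 1))),
      x0 g ∈ rsG F (fun r => Nat.beq r (tblD4.neg (tblD4.simp' 1))) := fun g hg => by
    show d * phi g * d⁻¹ ∈ _
    exact conj_rsG hd (hphi.map_rsG (by decide +kernel) hg)
  set v := autEl CD (tblD4.simp' 1) s
  have hvX : v ∈ X := mem_single _ hp1 s
  set n := v * x0 v * x0 (x0 v) with hn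
  have hN : ∀ z, x0 (x0 (x0 z)) = n⁻¹ * z * n := fun z => by
    have h := hx.per z
    rw [e1] at h
    simp only [conj_mul_apply v, map_mul, map_inv] at h
    conv_rhs => rw [← h]
    rw [hn]; group
  have hn1' : n = 1 := by
    obtain ⟨c, hc⟩ := mem_rs_single (inv_mem (mul_mem (mul_mem hvX (hmX v hvX)) (hmX _ (hmX v hvX))))
    have hy := hmY _ (hmY _ (hmY _ (mem_single (F := F) _ hn1 1)))
    rw [hN] at hy
    obtain ⟨s', hs'⟩ := mem_rs_single hy
    rw [← inv_eq_one]
    rw [show n⁻¹ * autEl CD (tblD4.neg (tblD4.simp' 1)) (1 : F) * n =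
      n⁻¹ * autEl CD (tblD4.neg (tblD4.simp' 1)) (1 : F) * n⁻¹⁻¹ by rw [inv_inv], hc] at hs'
    have hc0 : c = 0 := eq_zero_of_conj_neg CD KD (D := chevD4) (i := 1) (by decide) one_ne_zero
      (congrArg Subtype.val hs')
    rw [hc, hc0]
    exact Subtype.ext (xg_zero CD _)
  obtain ⟨w, hw, ew⟩ := exists_twist_mem x0 X hmX
    (not_three_dvd_rsG p hp3 (fun r hr h => by rw [Nat.beq_eq] at h; subst h; decide +kernel)) hvX
    (fun z _ => by rw [hN, hn1', inv_one, one_mul, mul_one]) hn1'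
  obtain ⟨t, ht⟩ := mem_rs_single hw
  refine ⟨w, ht ▸ simp_mem_bG (by decide) t, ht ▸ Subgroup.mem_sup_right (autEl_mem_rsG hp1 (by decide +kernel) t),
    d, hd, ?_⟩
  rw [← hx0]
  exact twist_untwist (by rw [e1, ew])

/-- A fixed coset other than the parabolic subgroup gives an element of order dividing six. -/
theorem key_coset (p : ℕ) [Fact p.Prime] [CharP F p] (hp3 : p ≠ 3) {x : MulAut GD} (hx : TriAut x) {g : GD}
    (hg : g ∉ PP) (hgx : g⁻¹ * x g ∈ PP) {H : Subgroup GD} (h1 : ∀ z ∈ UR, x z = z → z ∈ H)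
    (h2 : ∀ z, g⁻¹ * z * g ∈ UR → x z = z → z ∈ H) : ∃ z ∈ H, z ^ 6 = 1 ∧ z ^ 2 ≠ 1 := by
  obtain ⟨l, hl, phi, hphi, ex⟩ := hx.ex
  -- the double coset
  obtain ⟨v0, hv0, hR, hL, a1, ha1, a2, ha2, eg⟩ := exists_min_word CD KD {k | k ∈ [1]} {k | k ∈ [1]} g.2
  obtain ⟨u, hu, huw, hs⟩ := exists_rep hv0
  obtain ⟨tt, htt, ett⟩ := wel_congr (F := F) huw hv0 hs
  let b1 : GD := ⟨a1, pG_one_le _ ha1⟩
  let b2 : GD := ⟨a2, pG_one_le _ ha2⟩
  have eg' : g = b1 * wel F u * (tt * b2) := by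
    rw [show b1 * wel F u * (tt * b2) = b1 * (wel F u * tt) * b2 by group, ← ett]
    exact Subtype.ext (by rw [eg, Subgroup.coe_mul, Subgroup.coe_mul, coe_wel])
  have hb1 : b1 ∈ PP := ha1
  have hb2 : tt * b2 ∈ PP := mul_mem (tG_le_PP htt) ha2
  have hmin : minB u = true := by
    simp only [minB, Bool.and_eq_true, isP, Nat.ble_eq]
    exact ⟨RMin.congr CD hR hs.symm 1 (List.mem_singleton_self 1) (by decide),
      RMin.congr CD hL (samePerm_reverse CD hv0 huw hs.symm) 1 (List.mem_singleton_self 1) (by decide)⟩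
  have hall := List.all_eq_true.1 cosets_D4 u hu
  rw [hmin] at hall
  simp only [Bool.not_true, Bool.false_or, Bool.and_eq_true, Bool.or_eq_true, Bool.not_eq_true'] at hall
  obtain ⟨hmin', hcase⟩ := hall
  have hγw : IsWord chevD4 (u.map triN) := isWord_map hphi.nd_lt huw
  obtain ⟨t, ht, et⟩ := hphi.map_wel huw
  set w := wel F u with hw
  -- the double coset is fixed
  have hfix : SamePerm chevD4 tblD4 u (u.map triN) := by
    obtain ⟨hR1, hL1⟩ := rmin_of_minB hmin
    obtain ⟨hR2, hL2⟩ := rmin_of_minB hmin'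
    have hxb : ∀ z ∈ PP, x z ∈ PP := fun z hz => hx.map_P hz
    have hP : (x b1 * (l * t))⁻¹ * b1 ∈ PP :=
      mul_mem (inv_mem (mul_mem (hxb _ hb1) (mul_mem (lG_le_pG _ hl) (tG_le_PP ht)))) hb1
    have hQ : tt * b2 * (g⁻¹ * x g) * (l⁻¹ * x (tt * b2))⁻¹ ∈ PP :=
      mul_mem (mul_mem hb2 hgx) (inv_mem (mul_mem (inv_mem (lG_le_pG _ hl)) (hxb _ hb2)))
    refine min_word_unique CD KD huw hγw hR1 hL1 hR2 hL2 hP hQ ?_
    rw [← coe_wel, ← coe_wel]
    suffices e2 : wel F (u.map triN) =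
        (x b1 * (l * t))⁻¹ * b1 * wel F u * (tt * b2 * (g⁻¹ * x g) * (l⁻¹ * x (tt * b2))⁻¹) from
      congrArg Subtype.val e2
    have e1 : x g = x b1 * (l * t) * wel F (u.map triN) * (l⁻¹ * x (tt * b2)) := by
      rw [eg', map_mul, map_mul, show x w = l * phi w * l⁻¹ by rw [ex]; rfl, et]
      group
    rw [e1, eg', hw]
    group
  have heq : eqW u (u.map triN) = true := by
    rw [eqW, allBelow_iff]
    exact fun k hk => beq_of_eq (hfix _ ((CD).spec.simp_lt k hk))
  rcases hcase with (hc | hc) | hc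
  · rw [heq] at hc; exact Bool.noConfusion hc
  · refine absurd ?_ hg
    rw [eg']
    exact mul_mem (mul_mem hb1 (bG_le_pG _ (inCell_nil.1
      (inCell_congr huw isWord_nil ((fixAll_iff huw).1 hc) (by simpa using inCell_wel (one_mem (bG F)) (one_mem _) u)))))
      hb2
  obtain ⟨⟨hbase, hkind⟩, hroot⟩ := hc
  obtain ⟨β, hβ, hK⟩ := exists_of_anyBelow hroot
  obtain ⟨s, hs', es⟩ := wel_congr (F := F) huw hγw hfix
  rw [es] at et
  obtain ⟨c0, hc0, m, hm, e0⟩ := exists_rad_mul_lev hb1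
  have hn : tblD4.neg β < 24 := (CD).spec.neg_lt β hβ
  have h1' : triR β < 24 := hphi.lt β hβ
  have hn1 : tblD4.neg (triR β) < 24 := (CD).spec.neg_lt _ h1'
  have hlt : ∀ r ∈ [β, tblD4.neg β, triR β, tblD4.neg (triR β)], r < 24 := by
    simp only [List.mem_cons, List.not_mem_nil, or_false]
    rintro r (rfl | rfl | rfl | rfl) <;> assumption
  rcases hkind with hbig | hmid
  · -- the double coset normalises the Levi subgroup
    have hb := hbig
    simp only [bigK, allBelow_iff, Bool.and_eq_true, beq_iff_eq, Bool.or_eq_true, Bool.not_eq_true'] at hb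
    have hnorm : ∀ z ∈ LL, w⁻¹ * z * w ∈ LL := fun z hz =>
      wel_inv_conj_lG huw (fun r hr hp => ((hb r hr).2).resolve_left (by simp [hp])) hz
    have hwx : w⁻¹ * x w ∈ PP := by
      rw [ex, MulAut.mul_apply, MulAut.conj_apply, et,
        show w⁻¹ * (l * (t * (w * s)) * l⁻¹) = w⁻¹ * (l * t) * w * s * l⁻¹ by group]
      exact mul_mem (mul_mem (lG_le_pG _ (hnorm _ (mul_mem hl (tG_le_lG _ ht)))) (tG_le_PP hs'))
        (inv_mem (lG_le_pG _ hl))
    have hC : ∀ c ∈ rsG F (pC u), x c ∈ rsG F (pC u) := fun c hc =>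
      rsG_mono (fun r hr hp => (hb r hr).1.1 ▸ hp)
        (hx.map_U (rsG_mono (fun r hr hp => ((hb r hr).1.1 ▸ hp : pRad [1] r = true)) hc))
    refine coset_done hx huw hbase hβ hK ?_ hwx hC (rsG_mono (fun r hr hp => (hb r hr).1.1 ▸ hp) hc0) ?_ hgx h1 h2
    · intro r hr
      refine root_of_rs (hlt r hr) fun z hz => hx.map_rs (fun q hq hp => ?_) (fun l' hl' => levi_conj_root
        (hphi.lt r (hlt r hr)) ?_ hl') hz
      · rw [Nat.beq_eq] at hp ⊢; rw [hp]
      · simp only [rootK, orb, hbig, Bool.not_true, Bool.false_or, List.all_cons, List.all_nil, Bool.and_true,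
          Bool.and_eq_true, Nat.beq_eq] at hK
        obtain ⟨⟨⟨⟨⟨⟨-, -⟩, en⟩, en'⟩, -⟩, -⟩, -, ⟨⟨c1, c1'⟩, c2, c2'⟩, ⟨d1, d1'⟩, d2, d2'⟩ := hK
        simp only [List.mem_cons, List.not_mem_nil, or_false] at hr
        rcases hr with rfl | rfl | rfl | rfl
        · simp [c1, c2]
        · rw [en]; simp [c1', c2']
        · simp [d1, d2]
        · rw [en']; simp [d1', d2']
    · have := mul_mem (lG_le_pG _ (hnorm m hm)) hb2
      rwa [eg', e0, show (c0 * w)⁻¹ * (c0 * m * w * (tt * b2)) = w⁻¹ * m * w * (tt * b2) by group]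
  · -- the automorphism fixes a Borel subgroup of the Levi subgroup
    have hxm : x m = l * phi m * l⁻¹ := by rw [ex]; rfl
    have hxw : x w = l * (t * (w * s)) * l⁻¹ := by rw [ex, MulAut.mul_apply, MulAut.conj_apply, et]
    set k := m⁻¹ * l * phi m with hk
    have hkL : k ∈ LL := mul_mem (mul_mem (inv_mem hm) hl) (hphi.map_lG (by decide +kernel) hm)
    have hu' : m⁻¹ * (c0⁻¹ * x c0) * m⁻¹⁻¹ ∈ UR :=
      conj_mem_rad (lG_le_pG _ (inv_mem hm)) (mul_mem (inv_mem hc0) (hx.map_U hc0))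
    rw [inv_inv] at hu'
    have hkB : k ∈ bG F := by
      have hq : m⁻¹ * (c0⁻¹ * x c0) * m * (k * t) ∈ PP :=
        mul_mem (UR_le_PP hu') (mul_mem (lG_le_pG _ hkL) (tG_le_PP ht))
      have hq' : w⁻¹ * (m⁻¹ * (c0⁻¹ * x c0) * m * (k * t)) * w ∈ PP := by
        have := mul_mem (mul_mem (mul_mem hb2 hgx) (inv_mem (hx.map_P hb2)))
          (mul_mem (lG_le_pG _ hl) (inv_mem (tG_le_PP hs')))
        have e2 : x g = x c0 * (l * phi m * t) * w * (s * l⁻¹) * x (tt * b2) := by
          rw [eg', map_mul, map_mul, e0, map_mul, hxm, hxw]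
          group
        rwa [e2, eg', e0, show tt * b2 * ((c0 * m * w * (tt * b2))⁻¹ * (x c0 * (l * phi m * t) * w * (s * l⁻¹) *
          x (tt * b2))) * (x (tt * b2))⁻¹ * (l * s⁻¹) = w⁻¹ * (m⁻¹ * (c0⁻¹ * x c0) * m * (k * t)) * w by
            rw [hk]; group] at this
      have h := mid_inter huw hmin hmid hq hq'
      have h' := mul_mem (mul_mem (inv_mem (rad_le_bG _ hu')) h)
        (inv_mem (Subgroup.mem_sup_right ht : t ∈ bG F))
      rwa [← mul_assoc, inv_mul_cancel, one_mul, mul_inv_cancel_right] at h'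
    obtain ⟨w1, hw1, hw1', d, hd, ed⟩ := torus_of_borel p hp3 (hx.conj hm) hphi hkB hkL (conj_twist x m l ex)
    set M := m * w1 with hM
    have hML : M ∈ LL := mul_mem hm hw1'
    set x2 : MulAut GD := MulAut.conj M⁻¹ * x * MulAut.conj M with hx2
    have ed2 : x2 = MulAut.conj d * phi := by
      rw [← ed, hx2, hM]
      simp only [map_mul, map_inv, mul_inv_rev, mul_assoc]
    have hx2' : TriAut x2 := hx.conj hML
    obtain ⟨c, hc, hca⟩ := borel_split huw (mul_mem (inv_mem hw1) (rad_le_bG [1]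
      (show m⁻¹ * c0 * m⁻¹⁻¹ ∈ UR from conj_mem_rad (lG_le_pG _ (inv_mem hm)) hc0)))
    have hwx : w⁻¹ * x2 w ∈ PP := by
      rw [ed2, MulAut.mul_apply, MulAut.conj_apply, et,
        show w⁻¹ * (d * (t * (w * s)) * d⁻¹) = w⁻¹ * (d * t) * w * s * d⁻¹ by group]
      exact mul_mem (mul_mem (tG_le_PP (wel_conj_tG huw (mul_mem hd ht)).2) (tG_le_PP hs'))
        (inv_mem (tG_le_PP hd))
    have hb := hbase
    simp only [baseK, allBelow_iff, Bool.or_eq_true, Bool.and_eq_true, Bool.not_eq_true'] at hb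
    have hC : ∀ c ∈ rsG F (pC u), x2 c ∈ rsG F (pC u) := fun c hc => by
      rw [ed2]
      exact conj_rsG hd (hphi.map_rsG (fun r hr hp => ((hb r hr).resolve_left (by simp [hp])).1.1) hc)
    have hxz : ∀ z, x2 z = z ↔ x (M * z * M⁻¹) = M * z * M⁻¹ := fun z => by
      rw [hx2]
      simp only [MulAut.mul_apply, MulAut.conj_apply, inv_inv]
      constructor
      · intro h
        conv_rhs => rw [← h]
        group
      · intro h; rw [h]; group
    obtain ⟨z, hz, hz6, hz2⟩ := coset_done (g := M⁻¹ * g) (c := c) (H := H.comap (MulAut.conj M).toMonoidHom)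
      hx2' huw hbase hβ hK (fun r hr => root_of_rs (hlt r hr) fun z hz => by
        rw [ed2]
        exact conj_rsG hd (hphi.map_rsG (fun q _ hp => by rw [Nat.beq_eq] at hp ⊢; rw [hp]) hz)) hwx hC hc
      (by
        have := mul_mem (bG_le_pG [1] hca) hb2
        rwa [eg', e0, hM, show (c * w)⁻¹ * ((m * w1)⁻¹ * (c0 * m * w * (tt * b2))) =
          w⁻¹ * (c⁻¹ * (w1⁻¹ * (m⁻¹ * c0 * m⁻¹⁻¹))) * w * (tt * b2) by group])
      (by
        rw [hx2, show (M⁻¹ * g)⁻¹ * (MulAut.conj M⁻¹ * x * MulAut.conj M) (M⁻¹ * g) =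
          g⁻¹ * x g * (x M)⁻¹ * M by
            simp only [MulAut.mul_apply, MulAut.conj_apply]
            simp only [map_mul, map_inv, inv_inv]
            group]
        exact mul_mem (mul_mem hgx (inv_mem (hx.map_P (lG_le_pG _ hML)))) (lG_le_pG _ hML))
      (fun z hz hf => h1 _ (conj_mem_rad (lG_le_pG _ hML) hz) ((hxz z).1 hf))
      (fun z hz hf => h2 _ (by
        rwa [show (M⁻¹ * g)⁻¹ * z * (M⁻¹ * g) = g⁻¹ * (M * z * M⁻¹) * g by group] at hz) ((hxz z).1 hf))
    exact ⟨M * z * M⁻¹, hz, by rw [conj_pow, hz6]; group, by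
      rw [conj_pow]; exact fun h => hz2 (by simpa [mul_inv_eq_one, mul_eq_left] using h)⟩

end Cfsg.Lib.Linear.AutPO.Tri
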